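import Mathlib
import Cfsg.Agent.H989.OutOrth.SymFour
import Cfsg.Prelude.Def_KGroupFacts
import Cfsg.Agent.H270.Crit.LTwo
import Cfsg.Agent.Lib.Zsigmondy
import Cfsg.Agent.H373.Recog
import Cfsg.Agent.H481.TBound
import Cfsg.Agent.H989.OutOrth.Forms
import Cfsg.Agent.H425.OF.Singer
import Cfsg.Agent.AutOrth.Final
import Cfsg.Agent.H989.OutOrth.Four
import Cfsg.Agent.H160.QEnum
import Cfsg.Agent.H160.QMain
import Cfsg.Agent.H899.O7.Spec
import Cfsg.Agent.H411.Six.UpSp6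
import Cfsg.Agent.AutOrth.Main
import Cfsg.Agent.LieClassical.OrthCenter
import Cfsg.Agent.H377.OddThree_m3
import Cfsg.Agent.H160.QFinal
import Cfsg.Agent.H160.QChar
import Cfsg.Agent.H671.KGV.Eig
import Cfsg.Agent.H150.Fpf
import Cfsg.Agent.H202.T.Low
import Cfsg.Agent.LieClassical.SympCenter
import Cfsg.Prelude.Def_Classical
import Cfsg.Agent.H382.Own5Lin
import Cfsg.Agent.H424.SpecL_mg
import Cfsg.Agent.S0270
import Cfsg.Agent.H163.PG.PslAut
import Cfsg.Agent.FastGrp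
import Cfsg.Agent.Prune
set_option linter.all false

section
prune_inst 0x7fb0a8f90bb81bdfdfff7e77f691cffc1a915fffa4dff94b7fe069ffab1f23020945238509e010fe0e96401410a87843f97eceffe26bd87ffffd1ff41ffbee0fe5f7b508519488240f340ff603f0778e7f3fffffffffffffffffffffffffffbeffbfffffffff

-- part: H376/Six/Arith
section
set_option linter.all false
open scoped Cfsg.Agent.FastGrp

-- part: H376/Six/Def
section
/-!
# Groups isospectral to `C₃(q)`, `B₃(q)`, `D₄(q)`, `q = 5 ^ m` or `q = 2 ^ m` (helper376)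

* `X5 q G`, `X2 q G` : facts about the element orders of `G` (they depend only on the set of element orders);
* `ap q = (q² + q + 1) / (3, q - 1)`, `am q = (q² - q + 1) / (3, q + 1)`.
-/

set_option autoImplicit false

namespace Cfsg.Agent.H376.Six

/-- facts about the element orders, `q = 5 ^ m` -/
structure X5 (q : ℕ) (G : Type*) [Group G] : Prop where
  pow : ∃ m, 1 ≤ m ∧ q = 5 ^ m
  ub : ∀ g : G, orderOf g ∣ (q ^ 3 - 1) / 2 ∨ orderOf g ∣ (q ^ 3 + 1) / 2 ∨ orderOf g ∣ (q ^ 4 - 1) / 4 ∨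
    orderOf g ∣ 5 * (q ^ 2 + 1) ∨ orderOf g ∣ 5 * (q ^ 2 - 1) ∨ orderOf g ∣ 25
  a : ∃ g : G, orderOf g = (q ^ 3 - 1) / 2
  b : ∃ g : G, orderOf g = (q ^ 3 + 1) / 2
  c : ∃ g : G, orderOf g = (q ^ 2 + 1) / 2
  d : ∃ g : G, orderOf g = 25

/-- facts about the element orders, `q = 2 ^ m`, `m ≥ 2` -/
structure X2 (q : ℕ) (G : Type*) [Group G] : Prop where
  pow : ∃ m, 2 ≤ m ∧ q = 2 ^ m
  ub : ∀ g : G, orderOf g ∣ q ^ 3 - 1 ∨ orderOf g ∣ q ^ 3 + 1 ∨ orderOf g ∣ q ^ 4 - 1 ∨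
    orderOf g ∣ 2 * (q ^ 2 + 1) ∨ orderOf g ∣ 2 * (q ^ 2 - 1) ∨ orderOf g ∣ 4 * (q + 1) ∨
    orderOf g ∣ 4 * (q - 1) ∨ orderOf g ∣ 8
  a : ∃ g : G, orderOf g = q ^ 3 - 1
  b : ∃ g : G, orderOf g = q ^ 3 + 1
  c : ∃ g : G, orderOf g = q ^ 2 + 1
  d : ∃ g : G, orderOf g = 8

/-- `(q² + q + 1) / (3, q - 1)` -/
def ap (q : ℕ) : ℕ := (q ^ 2 + q + 1) / Nat.gcd 3 (q - 1)

/-- `(q² - q + 1) / (3, q + 1)` -/
def am (q : ℕ) : ℕ := (q ^ 2 - q + 1) / Nat.gcd 3 (q + 1)

theorem exists_of_range {G L : Type*} [Group G] [Group L]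
    (h : Set.range (orderOf : G → ℕ) = Set.range (orderOf : L → ℕ)) {n : ℕ} (hn : ∃ g : L, orderOf g = n) :
    ∃ g : G, orderOf g = n := by
  have h1 : n ∈ Set.range (orderOf : L → ℕ) := hn
  rw [← h] at h1
  exact h1

/-- the facts depend only on the spectrum -/
theorem X5.of_range {q : ℕ} {G L : Type*} [Group G] [Group L] (hL : X5 q L)
    (h : Set.range (orderOf : G → ℕ) = Set.range (orderOf : L → ℕ)) : X5 q G := by
  refine ⟨hL.pow, fun g => ?_, exists_of_range h hL.a, exists_of_range h hL.b, exists_of_range h hL.c,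
    exists_of_range h hL.d⟩
  obtain ⟨y, hy⟩ := exists_of_range h.symm ⟨g, rfl⟩
  rw [← hy]
  exact hL.ub y

theorem X2.of_range {q : ℕ} {G L : Type*} [Group G] [Group L] (hL : X2 q L)
    (h : Set.range (orderOf : G → ℕ) = Set.range (orderOf : L → ℕ)) : X2 q G := by
  refine ⟨hL.pow, fun g => ?_, exists_of_range h hL.a, exists_of_range h hL.b, exists_of_range h hL.c,
    exists_of_range h hL.d⟩
  obtain ⟨y, hy⟩ := exists_of_range h.symm ⟨g, rfl⟩
  rw [← hy]
  exact hL.ub y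

end Cfsg.Agent.H376.Six
end

-- part: H376/Six/Arith
section
/-!
# Arithmetic of `ap q`, `am q` (helper376)
-/

set_option autoImplicit false

namespace Cfsg.Agent.H376.Six

variable {q : ℕ}

theorem ap_spec (hq : 2 ≤ q) : ap q * Nat.gcd 3 (q - 1) = q ^ 2 + q + 1 ∧ ¬ 3 ∣ ap q := by
  obtain ⟨k, hk⟩ : ∃ k, q = k + 1 := ⟨q - 1, by omega⟩
  unfold ap
  rw [hk, Nat.add_sub_cancel]
  by_cases h3 : 3 ∣ k
  · obtain ⟨j, rfl⟩ := h3
    rw [Nat.gcd_mul_right_right]
    have h1 : (3 * j + 1) ^ 2 + (3 * j + 1) + 1 = (3 * (j * j) + 3 * j + 1) * 3 := by ring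
    rw [h1, Nat.mul_div_cancel _ (by norm_num : 0 < 3)]
    exact ⟨rfl, by omega⟩
  · have hg : Nat.gcd 3 k = 1 := (Nat.Prime.coprime_iff_not_dvd Nat.prime_three).2 h3
    rw [hg, Nat.div_one, mul_one]
    refine ⟨rfl, fun h => ?_⟩
    have h4 : k % 3 = 1 ∨ k % 3 = 2 := by omega
    rw [Nat.dvd_iff_mod_eq_zero] at h
    rcases h4 with h4 | h4 <;>
      simp [Nat.pow_mod, Nat.add_mod, h4] at h

theorem am_spec (hq : 2 ≤ q) : am q * Nat.gcd 3 (q + 1) = q ^ 2 - q + 1 ∧ ¬ 3 ∣ am q := by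
  obtain ⟨k, hk⟩ : ∃ k, q = k + 2 := ⟨q - 2, by omega⟩
  unfold am
  have h0 : q ^ 2 - q + 1 = k * k + 3 * k + 3 := by
    rw [hk]
    have : (k + 2) ^ 2 = (k + 2) + (k * k + 3 * k + 2) := by ring
    rw [this, Nat.add_sub_cancel_left]
  rw [h0, hk]
  by_cases h3 : 3 ∣ k
  · obtain ⟨j, rfl⟩ := h3
    have hg : Nat.gcd 3 (3 * j + 2 + 1) = 3 := Nat.gcd_eq_left ⟨j + 1, by ring⟩
    have h1 : 3 * j * (3 * j) + 3 * (3 * j) + 3 = (3 * (j * j) + 3 * j + 1) * 3 := by ring
    rw [hg, h1, Nat.mul_div_cancel _ (by norm_num : 0 < 3)]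
    exact ⟨rfl, by omega⟩
  · have hg : Nat.gcd 3 (k + 2 + 1) = 1 := (Nat.Prime.coprime_iff_not_dvd Nat.prime_three).2 (by omega)
    rw [hg, Nat.div_one, mul_one]
    refine ⟨rfl, fun h => h3 ?_⟩
    have h4 : 3 ∣ k * k := by
      have : k * k + 3 * k + 3 = k * k + 3 * (k + 1) := by ring
      rw [this] at h
      exact (Nat.dvd_add_left (dvd_mul_right 3 _)).1 h
    rcases Nat.prime_three.dvd_mul.1 h4 with h5 | h5 <;> exact h5

theorem ap_dvd (hq : 2 ≤ q) : ap q ∣ q ^ 2 + q + 1 := ⟨_, (ap_spec hq).1.symm⟩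

theorem am_dvd (hq : 2 ≤ q) : am q ∣ q ^ 2 - q + 1 := ⟨_, (am_spec hq).1.symm⟩

/-- `3 · ap · am = q⁴ + q² + 1` -/
theorem ap_mul_am (hq : 2 ≤ q) (h3 : ¬ 3 ∣ q) : 3 * (ap q * am q) = q ^ 4 + q ^ 2 + 1 := by
  have h1 := (ap_spec hq).1
  have h2 := (am_spec hq).1
  have h4 : (q ^ 2 + q + 1) * (q ^ 2 - q + 1) = q ^ 4 + q ^ 2 + 1 := by
    have h5 : q ≤ q ^ 2 := by nlinarith
    zify [h5]
    ring
  rw [← h4, ← h1, ← h2]
  have h6 : Nat.gcd 3 (q - 1) * Nat.gcd 3 (q + 1) = 3 := by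
    have h7 : q % 3 = 1 ∨ q % 3 = 2 := by omega
    rcases h7 with h7 | h7
    · rw [Nat.gcd_eq_left (show 3 ∣ q - 1 by omega),
        (Nat.Prime.coprime_iff_not_dvd Nat.prime_three).2 (show ¬ 3 ∣ q + 1 by omega)]
    · rw [Nat.gcd_eq_left (show 3 ∣ q + 1 by omega),
        (Nat.Prime.coprime_iff_not_dvd Nat.prime_three).2 (show ¬ 3 ∣ q - 1 by omega)]
  calc 3 * (ap q * am q) = (Nat.gcd 3 (q - 1) * Nat.gcd 3 (q + 1)) * (ap q * am q) := by rw [h6]
    _ = ap q * Nat.gcd 3 (q - 1) * (am q * Nat.gcd 3 (q + 1)) := by ring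

theorem three_ap (hq : 2 ≤ q) : q ^ 2 + q + 1 ≤ 3 * ap q := by
  have h1 := (ap_spec hq).1
  have h2 : Nat.gcd 3 (q - 1) ≤ 3 := Nat.gcd_le_left _ (by norm_num)
  calc q ^ 2 + q + 1 = ap q * Nat.gcd 3 (q - 1) := h1.symm
    _ ≤ ap q * 3 := Nat.mul_le_mul_left _ h2
    _ = 3 * ap q := by ring

theorem three_am (hq : 2 ≤ q) : q ^ 2 - q + 1 ≤ 3 * am q := by
  have h1 := (am_spec hq).1
  have h2 : Nat.gcd 3 (q + 1) ≤ 3 := Nat.gcd_le_left _ (by norm_num)
  calc q ^ 2 - q + 1 = am q * Nat.gcd 3 (q + 1) := h1.symm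
    _ ≤ am q * 3 := Nat.mul_le_mul_left _ h2
    _ = 3 * am q := by ring

/-- `q² - q + 1` over the integers -/
theorem am_dvd_int (hq : 2 ≤ q) {r : ℕ} (h : r ∣ am q) : (r : ℤ) ∣ (q : ℤ) ^ 2 - q + 1 := by
  have h1 : r ∣ q ^ 2 - q + 1 := h.trans (am_dvd hq)
  have h5 : q ≤ q ^ 2 := by nlinarith
  have h2 : ((q ^ 2 - q + 1 : ℕ) : ℤ) = (q : ℤ) ^ 2 - q + 1 := by
    push_cast [Nat.cast_sub h5]
    ring
  rw [← h2]
  exact_mod_cast h1

theorem ap_dvd_int (hq : 2 ≤ q) {r : ℕ} (h : r ∣ ap q) : (r : ℤ) ∣ (q : ℤ) ^ 2 + q + 1 := by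
  have h1 : r ∣ q ^ 2 + q + 1 := h.trans (ap_dvd hq)
  exact_mod_cast h1

theorem prime_three_of {r : ℕ} (hr : r.Prime) (h : (r : ℤ) ∣ 3) : r = 3 := by
  have h1 : r ∣ 3 := by exact_mod_cast h
  exact (Nat.prime_dvd_prime_iff_eq hr Nat.prime_three).1 h1

/-- a prime divisor of `ap q` does not divide `q⁴ - 1` -/
theorem ap_prime (hq : 2 ≤ q) {r : ℕ} (hr : r.Prime) (h : r ∣ ap q) : ¬ r ∣ q ^ 4 - 1 := by
  intro h4
  have h1 := ap_dvd_int hq h
  have h5 : (r : ℤ) ∣ (q : ℤ) ^ 4 - 1 := by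
    have h6 : ((q ^ 4 - 1 : ℕ) : ℤ) = (q : ℤ) ^ 4 - 1 := by
      rw [Nat.cast_sub (Nat.one_le_pow _ _ (by omega))]; norm_num
    rw [← h6]
    exact_mod_cast h4
  have h6 : (r : ℤ) ∣ (q : ℤ) - 1 := by
    have : (q : ℤ) - 1 = ((q : ℤ) ^ 4 - 1) - ((q : ℤ) ^ 2 + q + 1) * ((q : ℤ) ^ 2 - q) := by ring
    rw [this]
    exact dvd_sub h5 (h1.mul_right _)
  have h7 : (r : ℤ) ∣ 3 := by
    have : (3 : ℤ) = ((q : ℤ) ^ 2 + q + 1) - ((q : ℤ) - 1) * ((q : ℤ) + 2) := by ring
    rw [this]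
    exact dvd_sub h1 (h6.mul_right _)
  have h8 := prime_three_of hr h7
  rw [h8] at h
  exact (ap_spec hq).2 h

/-- a prime divisor of `am q` does not divide `q⁴ - 1` -/
theorem am_prime (hq : 2 ≤ q) {r : ℕ} (hr : r.Prime) (h : r ∣ am q) : ¬ r ∣ q ^ 4 - 1 := by
  intro h4
  have h1 := am_dvd_int hq h
  have h5 : (r : ℤ) ∣ (q : ℤ) ^ 4 - 1 := by
    have h6 : ((q ^ 4 - 1 : ℕ) : ℤ) = (q : ℤ) ^ 4 - 1 := by
      rw [Nat.cast_sub (Nat.one_le_pow _ _ (by omega))]; norm_num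
    rw [← h6]
    exact_mod_cast h4
  have h6 : (r : ℤ) ∣ (q : ℤ) + 1 := by
    have : (q : ℤ) + 1 = ((q : ℤ) ^ 2 - q + 1) * ((q : ℤ) ^ 2 + q) - ((q : ℤ) ^ 4 - 1) := by ring
    rw [this]
    exact dvd_sub (h1.mul_right _) h5
  have h7 : (r : ℤ) ∣ 3 := by
    have : (3 : ℤ) = ((q : ℤ) ^ 2 - q + 1) - ((q : ℤ) + 1) * ((q : ℤ) - 2) := by ring
    rw [this]
    exact dvd_sub h1 (h6.mul_right _)
  have h8 := prime_three_of hr h7
  rw [h8] at h
  exact (am_spec hq).2 h

theorem sq_pm_dvd (q : ℕ) : q ^ 2 + 1 ∣ q ^ 4 - 1 ∧ q ^ 2 - 1 ∣ q ^ 4 - 1 := by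
  have h : q ^ 4 - 1 = (q ^ 2 + 1) * (q ^ 2 - 1) := by
    rw [show q ^ 4 = (q ^ 2) ^ 2 by ring, show ((q ^ 2) ^ 2 - 1) = (q ^ 2) ^ 2 - 1 ^ 2 by norm_num, Nat.sq_sub_sq]
  exact ⟨⟨q ^ 2 - 1, h⟩, ⟨q ^ 2 + 1, by rw [h]; ring⟩⟩

theorem one_dvd_pow (q : ℕ) : q - 1 ∣ q ^ 4 - 1 ∧ q - 1 ∣ q ^ 3 - 1 :=
  ⟨by simpa using Nat.sub_dvd_pow_sub_pow q 1 4, by simpa using Nat.sub_dvd_pow_sub_pow q 1 3⟩

theorem add_one_dvd (q : ℕ) : q + 1 ∣ q ^ 4 - 1 := by
  have h : q ^ 4 - 1 = (q ^ 2 + 1) * ((q + 1) * (q - 1)) := by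
    rw [show q ^ 4 = (q ^ 2) ^ 2 by ring, show ((q ^ 2) ^ 2 - 1) = (q ^ 2) ^ 2 - 1 ^ 2 by norm_num, Nat.sq_sub_sq]
    congr 1
    rw [show q ^ 2 - 1 = q ^ 2 - 1 ^ 2 by norm_num, Nat.sq_sub_sq]
  exact ⟨(q ^ 2 + 1) * (q - 1), by rw [h]; ring⟩

theorem ap_ne {r : ℕ} (hq : 2 ≤ q) (hr : r.Prime) (h : r ∣ ap q) : r ≠ 2 ∧ r ≠ 3 ∧ ¬ r ∣ q := by
  refine ⟨?_, ?_, fun hd => ?_⟩
  · rintro rfl
    have h1 : 2 ∣ q ^ 2 + q + 1 := h.trans (ap_dvd hq)
    have h2 : 2 ∣ q ^ 2 + q := by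
      rw [show q ^ 2 + q = q * (q + 1) by ring]
      exact (Nat.even_mul_succ_self q).two_dvd
    omega
  · rintro rfl
    exact (ap_spec hq).2 h
  · have h1 : r ∣ q ^ 2 + q + 1 := h.trans (ap_dvd hq)
    have h2 : r ∣ q ^ 2 + q := by
      rw [show q ^ 2 + q = q * (q + 1) by ring]
      exact hd.mul_right _
    exact hr.one_lt.ne' (Nat.dvd_one.1 ((Nat.dvd_add_right h2).1 h1))

theorem am_ne {r : ℕ} (hq : 2 ≤ q) (hr : r.Prime) (h : r ∣ am q) : r ≠ 2 ∧ r ≠ 3 ∧ ¬ r ∣ q := by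
  have h0 : q ^ 2 - q = q * (q - 1) := by
    rw [Nat.mul_sub, mul_one, pow_two]
  refine ⟨?_, ?_, fun hd => ?_⟩
  · rintro rfl
    have h1 : 2 ∣ q ^ 2 - q + 1 := h.trans (am_dvd hq)
    have h2 : 2 ∣ q ^ 2 - q := by
      rw [h0]
      exact (Nat.even_mul_pred_self q).two_dvd
    omega
  · rintro rfl
    exact (am_spec hq).2 h
  · have h1 : r ∣ q ^ 2 - q + 1 := h.trans (am_dvd hq)
    have h2 : r ∣ q ^ 2 - q := by
      rw [h0]
      exact hd.mul_right _
    exact hr.one_lt.ne' (Nat.dvd_one.1 ((Nat.dvd_add_right h2).1 h1))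

theorem cube_sub (q : ℕ) : q ^ 3 - 1 = (q ^ 2 + q + 1) * (q - 1) := by
  rcases Nat.eq_zero_or_pos q with rfl | h
  · rfl
  · have h1 : 1 ≤ q ^ 3 := Nat.one_le_pow _ _ h
    zify [h1, h]
    ring

theorem cube_add (hq : 2 ≤ q) : q ^ 3 + 1 = (q ^ 2 - q + 1) * (q + 1) := by
  have h5 : q ≤ q ^ 2 := by nlinarith
  zify [h5]
  ring

theorem two_dvd_sub (h : q % 2 = 1) : 2 ∣ q - 1 := by omega

theorem am_dvd_cube (hq : 2 ≤ q) : am q ∣ q ^ 3 + 1 := by
  rw [cube_add hq]
  exact (am_dvd hq).mul_right _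

theorem ap_dvd_cube (hq : 2 ≤ q) : ap q ∣ q ^ 3 - 1 := by
  rw [cube_sub]
  exact (ap_dvd hq).mul_right _

theorem ap_odd (hq : 2 ≤ q) : Nat.Coprime 2 (ap q) := by
  rw [Nat.Prime.coprime_iff_not_dvd Nat.prime_two]
  exact fun h => (ap_ne hq Nat.prime_two h).1 rfl

theorem am_odd (hq : 2 ≤ q) : Nat.Coprime 2 (am q) := by
  rw [Nat.Prime.coprime_iff_not_dvd Nat.prime_two]
  exact fun h => (am_ne hq Nat.prime_two h).1 rfl

theorem ap_dvd_half (hq : 2 ≤ q) (h : q % 2 = 1) : ap q ∣ (q ^ 3 - 1) / 2 := by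
  have h1 : 2 ∣ q ^ 3 - 1 := by
    rw [cube_sub]
    exact (two_dvd_sub h).mul_left _
  apply (ap_odd hq).symm.dvd_of_dvd_mul_left
  rw [Nat.mul_div_cancel' h1]
  exact ap_dvd_cube hq

theorem am_dvd_half (hq : 2 ≤ q) (h : q % 2 = 1) : am q ∣ (q ^ 3 + 1) / 2 := by
  have h1 : 2 ∣ q ^ 3 + 1 := by
    rw [cube_add hq]
    exact Dvd.dvd.mul_left (by omega) _
  apply (am_odd hq).symm.dvd_of_dvd_mul_left
  rw [Nat.mul_div_cancel' h1]
  exact am_dvd_cube hq

/-- `A`, `B` are coprime -/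
theorem coprime_half (h : q % 2 = 1) : Nat.Coprime ((q ^ 3 - 1) / 2) ((q ^ 3 + 1) / 2) := by
  have h0 : q ^ 3 % 2 = 1 := by rw [Nat.pow_mod, h]
  have h1 : (q ^ 3 + 1) / 2 = (q ^ 3 - 1) / 2 + 1 := by omega
  rw [h1]
  exact Nat.coprime_self_add_right.2 (Nat.coprime_one_right _) |>.symm.symm

end Cfsg.Agent.H376.Six
end
end

-- part: H376/Six/Cover
section
set_option linter.all false

/-!
# Covers (helper376)

* `UB5 q n`, `UB2 q n` : the possible element orders;
* `Cov t H V` : `V` is a noncentral normal elementary abelian `t`-subgroup of `H` (commutativity and exponent `t`).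
-/

set_option autoImplicit false

namespace Cfsg.Agent.H376.Six

universe u

/-- the possible element orders, `q = 5 ^ m` -/
def UB5 (q n : ℕ) : Prop :=
  n ∣ (q ^ 3 - 1) / 2 ∨ n ∣ (q ^ 3 + 1) / 2 ∨ n ∣ (q ^ 4 - 1) / 4 ∨ n ∣ 5 * (q ^ 2 + 1) ∨ n ∣ 5 * (q ^ 2 - 1) ∨ n ∣ 25

/-- the possible element orders, `q = 2 ^ m` -/
def UB2 (q n : ℕ) : Prop :=
  n ∣ q ^ 3 - 1 ∨ n ∣ q ^ 3 + 1 ∨ n ∣ q ^ 4 - 1 ∨ n ∣ 2 * (q ^ 2 + 1) ∨ n ∣ 2 * (q ^ 2 - 1) ∨ n ∣ 4 * (q + 1) ∨
    n ∣ 4 * (q - 1) ∨ n ∣ 8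

/-- `V` is commutative of prime exponent `t` and not central -/
structure Cov (t : ℕ) (H : Type u) [Group H] (V : Subgroup H) : Prop where
  prime : t.Prime
  comm : ∀ x ∈ V, ∀ y ∈ V, x * y = y * x
  pow : ∀ x ∈ V, x ^ t = 1
  nc : ∃ v ∈ V, ∃ g : H, g * v ≠ v * g

end Cfsg.Agent.H376.Six
end

-- part: H376/Six/Top
section
set_option linter.all false
open scoped Cfsg.Agent.FastGrp

/-!
# The top of the radical (helper376)

* `exists_top` : a solvable normal subgroup `K ≠ 1` of `G` has a quotient `K / K₁`, `K₁ ⊲ G`, abelian of prime exponent;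
* `exists_ext` : then the preimage `H` of `S ≤ G / K` in `G / K₁` has a normal abelian subgroup `V` of exponent `t` with
  `H / V ≃ S`, and the element orders of `H` divide element orders of `G`;
* `orderOf_mul_of_central` : `V` central: elements of order `t * r`;
* `noncentral_five`, `noncentral_two` : `V` is not central, by the prime graph;
* `exists_cov_five`, `exists_cov_two` : the extension on top of a nontrivial radical.
-/

set_option autoImplicit false

namespace Cfsg.Agent.H376.Six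

open Subgroup

universe u

/-- an abelian quotient of prime exponent on top of a solvable normal subgroup -/
theorem exists_top {G : Type u} [Group G] [Finite G] (K : Subgroup G) [K.Normal] (hK : Group.IsSolvable ↥K)
    (h1 : K ≠ ⊥) : ∃ (K₁ : Subgroup G) (_ : K₁.Normal) (t : ℕ), t.Prime ∧ K₁ < K ∧ (∀ x ∈ K, x ^ t ∈ K₁) ∧
      ∀ x ∈ K, ∀ y ∈ K, x * y * x⁻¹ * y⁻¹ ∈ K₁ := by
  -- a maximal `G`-normal subgroup properly contained in `K`
  have hfin : (Set.Finite {B : Subgroup G | B.Normal ∧ B < K}) := Set.toFinite _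
  obtain ⟨B, hB⟩ := hfin.exists_maximal ⟨⊥, (inferInstance : (⊥ : Subgroup G).Normal), bot_lt_iff_ne_bot.2 h1⟩
  obtain ⟨hBn, hBK⟩ := hB.prop
  have hmax : ∀ C : Subgroup G, C.Normal → B ≤ C → C < K → C = B := by
    intro C hC hBC hCK
    exact le_antisymm (hB.le_of_ge ⟨hC, hCK⟩ hBC) hBC
  -- the commutator
  have hcomm : ∀ x ∈ K, ∀ y ∈ K, x * y * x⁻¹ * y⁻¹ ∈ B := by
    let C : Subgroup G := B ⊔ ⁅K, K⁆
    have hCn : C.Normal := by
      have : (⁅K, K⁆ : Subgroup G).Normal := Subgroup.commutator_normal K K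
      infer_instance
    have hCK : C ≤ K := sup_le hBK.le (Subgroup.commutator_le_left K K)
    have hC : C ≠ K := by
      intro hC
      -- `K / B` would be perfect
      let f : G →* G ⧸ B := QuotientGroup.mk' B
      have h2 : (K.map f) = ⁅K.map f, K.map f⁆ := by
        rw [← Subgroup.map_commutator]
        conv_lhs => rw [← hC]
        rw [Subgroup.map_sup]
        have : B.map f = ⊥ := by
          rw [Subgroup.map_eq_bot_iff, QuotientGroup.ker_mk']
        rw [this, bot_sup_eq]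
      have hs : Group.IsSolvable ↥(K.map f) :=
        Group.isSolvable_of_surjective (f := f.subgroupMap K) (f.subgroupMap_surjective K)
      have h3 : K.map f = ⊥ := by
        by_contra hne
        have hnt : Nontrivial ↥(K.map f) := (Subgroup.nontrivial_iff_ne_bot _).2 hne
        have h4 := Group.IsSolvable.commutator_lt_top_of_nontrivial ↥(K.map f)
        have h5 : commutator ↥(K.map f) = ⊤ := by
          apply Subgroup.map_injective (K.map f).subtype_injective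
          rw [commutator_def, Subgroup.map_commutator, ← MonoidHom.range_eq_map, Subgroup.range_subtype]
          exact h2.symm
        rw [h5] at h4
        exact lt_irrefl _ h4
      rw [Subgroup.map_eq_bot_iff, QuotientGroup.ker_mk'] at h3
      exact absurd h3 (not_le_of_gt hBK)
    have h2 := hmax C hCn le_sup_left (lt_of_le_of_ne hCK hC)
    intro x hx y hy
    rw [← h2]
    exact (le_sup_right : (⁅K, K⁆ : Subgroup G) ≤ C) (Subgroup.commutator_mem_commutator hx hy)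
  -- a prime
  have hidx : B.relIndex K ≠ 1 := by
    intro h2
    exact absurd (Subgroup.relIndex_eq_one.1 h2) (not_le_of_gt hBK)
  obtain ⟨t, ht, htd⟩ := Nat.exists_prime_and_dvd hidx
  refine ⟨B, hBn, t, ht, hBK, ?_, hcomm⟩
  -- the set of `x ∈ K` with `x ^ t ∈ B` is a normal subgroup
  have hmul : ∀ x ∈ K, ∀ y ∈ K, ∀ n : ℕ, ((x * y : G) ^ n : G ⧸ B) = (x : G ⧸ B) ^ n * (y : G ⧸ B) ^ n := by
    intro x hx y hy n
    rw [← QuotientGroup.mk_pow, ← QuotientGroup.mk_pow]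
    have hc : Commute (x : G ⧸ B) (y : G ⧸ B) := by
      have h3 := hcomm x hx y hy
      rw [← QuotientGroup.eq_one_iff] at h3
      change (x : G ⧸ B) * y = y * x
      have h4 : (x : G ⧸ B) * y * (x : G ⧸ B)⁻¹ * (y : G ⧸ B)⁻¹ = 1 := by exact_mod_cast h3
      calc (x : G ⧸ B) * y = (x : G ⧸ B) * y * (x : G ⧸ B)⁻¹ * (y : G ⧸ B)⁻¹ * (y * x) := by group
        _ = y * x := by rw [h4, one_mul]
    have := hc.mul_pow n
    exact_mod_cast this
  let D : Subgroup G :=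
    { carrier := {x | x ∈ K ∧ x ^ t ∈ B}
      one_mem' := ⟨K.one_mem, by simp⟩
      mul_mem' := by
        rintro x y ⟨hx, hx'⟩ ⟨hy, hy'⟩
        refine ⟨K.mul_mem hx hy, ?_⟩
        rw [← QuotientGroup.eq_one_iff] at hx' hy' ⊢
        have := hmul x hx y hy t
        have e1 : (((x * y) ^ t : G) : G ⧸ B) = (x : G ⧸ B) ^ t * (y : G ⧸ B) ^ t := by exact_mod_cast this
        rw [e1]
        have e2 : (x : G ⧸ B) ^ t = 1 := by exact_mod_cast hx'
        have e3 : (y : G ⧸ B) ^ t = 1 := by exact_mod_cast hy'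
        rw [e2, e3, one_mul]
      inv_mem' := by
        rintro x ⟨hx, hx'⟩
        refine ⟨K.inv_mem hx, ?_⟩
        rw [inv_pow]
        exact B.inv_mem hx' }
  have hDn : D.Normal := ⟨by
    rintro x ⟨hx, hx'⟩ g
    refine ⟨(inferInstance : K.Normal).conj_mem x hx g, ?_⟩
    rw [conj_pow]
    exact hBn.conj_mem _ hx' g⟩
  have hBD : B ≤ D := fun x hx => ⟨hBK.le hx, B.pow_mem hx t⟩
  have hDK : D ≤ K := fun x hx => hx.1
  -- `D ≠ B` by Cauchy
  have hDB : D ≠ B := by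
    intro h2
    have hcard : Nat.card ↥(K.map (QuotientGroup.mk' B)) = B.relIndex K := by
      have h3 := Subgroup.relIndex_ker K (QuotientGroup.mk' B)
      rw [QuotientGroup.ker_mk'] at h3
      exact h3.symm
    have hf := Fact.mk ht
    obtain ⟨z, hz⟩ := exists_prime_orderOf_dvd_card' (G := ↥(K.map (QuotientGroup.mk' B))) t (by rw [hcard]; exact htd)
    obtain ⟨x, hx, hxz⟩ := z.2
    have h4 : orderOf (QuotientGroup.mk' B x) = t := by rw [hxz, Subgroup.orderOf_coe, hz]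
    have h5 : x ∈ D := by
      refine ⟨hx, ?_⟩
      rw [← QuotientGroup.eq_one_iff]
      have := pow_orderOf_eq_one (QuotientGroup.mk' B x)
      rw [h4] at this
      exact_mod_cast this
    rw [h2] at h5
    have h6 : QuotientGroup.mk' B x = 1 := (QuotientGroup.eq_one_iff x).2 h5
    rw [h6, orderOf_one] at h4
    exact ht.one_lt.ne h4
  have hDK' : D = K := by
    by_contra hne
    exact hDB (hmax D hDn hBD (lt_of_le_of_ne hDK hne))
  intro x hx
  rw [← hDK'] at hx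
  exact hx.2

/-- **The extension on top of the radical.** -/
theorem exists_ext {G : Type u} [Group G] [Finite G] (K : Subgroup G) [K.Normal] (S : Subgroup (G ⧸ K))
    (K₁ : Subgroup G) [K₁.Normal] (hlt : K₁ < K) {t : ℕ} (hpow : ∀ x ∈ K, x ^ t ∈ K₁)
    (hcomm : ∀ x ∈ K, ∀ y ∈ K, x * y * x⁻¹ * y⁻¹ ∈ K₁) :
    ∃ (H : Type u) (_ : Group H) (_ : Finite H) (V : Subgroup H) (_ : V.Normal), (∀ x ∈ V, ∀ y ∈ V, x * y = y * x) ∧
      (∀ x ∈ V, x ^ t = 1) ∧ V ≠ ⊥ ∧ Nonempty (H ⧸ V ≃* ↥S) ∧ ∀ x : H, ∃ g : G, orderOf x ∣ orderOf g := by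
  let P : Subgroup G := S.comap (QuotientGroup.mk' K)
  have hKP : K ≤ P := fun x hx => by
    change QuotientGroup.mk' K x ∈ S
    have : QuotientGroup.mk' K x = 1 := (QuotientGroup.eq_one_iff x).2 hx
    rw [this]
    exact S.one_mem
  let N : Subgroup ↥P := K₁.subgroupOf P
  let M : Subgroup ↥P := K.subgroupOf P
  have hNM : N ≤ M := fun x hx => hlt.le hx
  let V : Subgroup (↥P ⧸ N) := M.map (QuotientGroup.mk' N)
  have hVn : V.Normal := (inferInstance : M.Normal).map _ (QuotientGroup.mk'_surjective N)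
  refine ⟨↥P ⧸ N, inferInstance, inferInstance, V, hVn, ?_, ?_, ?_, ?_, ?_⟩
  · rintro _ ⟨x, hx, rfl⟩ _ ⟨y, hy, rfl⟩
    rw [← map_mul, ← map_mul]
    have h1 : x * y * x⁻¹ * y⁻¹ ∈ N := hcomm _ hx _ hy
    have h2 : QuotientGroup.mk' N (x * y * x⁻¹ * y⁻¹) = 1 := (QuotientGroup.eq_one_iff _).2 h1
    have h3 : x * y = x * y * x⁻¹ * y⁻¹ * (y * x) := by group
    rw [h3, map_mul, h2, one_mul]
  · rintro _ ⟨x, hx, rfl⟩
    rw [← map_pow]
    exact (QuotientGroup.eq_one_iff _).2 (hpow _ hx)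
  · intro hV
    obtain ⟨x, hxK, hx⟩ := SetLike.exists_of_lt hlt
    have h1 : QuotientGroup.mk' N ⟨x, hKP hxK⟩ ∈ V := ⟨⟨x, hKP hxK⟩, hxK, rfl⟩
    rw [hV, Subgroup.mem_bot] at h1
    exact hx ((QuotientGroup.eq_one_iff (⟨x, hKP hxK⟩ : ↥P)).1 h1)
  · let f : ↥P →* ↥S := ((QuotientGroup.mk' K).comp P.subtype).codRestrict S fun x => x.2
    have hf : Function.Surjective f := by
      rintro ⟨s, hs⟩
      obtain ⟨g, rfl⟩ := QuotientGroup.mk'_surjective K s
      exact ⟨⟨g, hs⟩, rfl⟩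
    have hker : f.ker = M := by
      ext x
      rw [MonoidHom.mem_ker, Subgroup.mem_subgroupOf]
      constructor
      · intro h
        exact (QuotientGroup.eq_one_iff _).1 (congrArg Subtype.val h)
      · intro h
        exact Subtype.ext ((QuotientGroup.eq_one_iff _).2 h)
    exact ⟨(QuotientGroup.quotientQuotientEquivQuotient N M hNM).trans
      ((QuotientGroup.quotientMulEquivOfEq hker.symm).trans (QuotientGroup.quotientKerEquivOfSurjective f hf))⟩
  · intro x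
    obtain ⟨p, rfl⟩ := QuotientGroup.mk'_surjective N x
    exact ⟨(p : G), by rw [Subgroup.orderOf_coe]; exact orderOf_map_dvd _ p⟩

/-- `V` central: elements of order `t * r`. -/
theorem orderOf_mul_of_central {H : Type u} [Group H] [Finite H] (V : Subgroup H) [V.Normal] {t r : ℕ} (ht : t.Prime)
    (hr : r.Prime) (htr : t ≠ r) (hpow : ∀ x ∈ V, x ^ t = 1) (hV : V ≠ ⊥) (hc : ∀ v ∈ V, ∀ g : H, g * v = v * g)
    (hx : ∃ x : H ⧸ V, r ∣ orderOf x) : ∃ x : H, t * r ∣ orderOf x := by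
  obtain ⟨v, hv, hv1⟩ := V.bot_or_exists_ne_one.resolve_left hV
  have := Fact.mk ht
  have hvt : orderOf v = t := orderOf_eq_prime (hpow v hv) hv1
  obtain ⟨x, hx⟩ := hx
  obtain ⟨g, rfl⟩ := QuotientGroup.mk'_surjective V x
  have h1 : r ∣ orderOf g := hx.trans (orderOf_map_dvd _ g)
  obtain ⟨k, hk⟩ := h1
  have hk0 : k ≠ 0 := by
    rintro rfl
    rw [mul_zero] at hk
    exact (orderOf_pos g).ne' hk
  have h2 : orderOf (g ^ k) = r := by
    rw [orderOf_pow_of_dvd hk0 ⟨r, by rw [hk, mul_comm]⟩, hk, Nat.mul_div_cancel _ (Nat.pos_of_ne_zero hk0)]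
  refine ⟨v * g ^ k, ?_⟩
  have h3 : Commute v (g ^ k) := (hc v hv (g ^ k)).symm
  rw [h3.orderOf_mul_eq_mul_orderOf_of_coprime (by rw [hvt, h2]; exact (Nat.coprime_primes ht hr).2 htr), hvt, h2]

/-! ### the prime graph -/

theorem odd_of_pow_five {q : ℕ} (hq : ∃ m, 1 ≤ m ∧ q = 5 ^ m) : 5 ≤ q ∧ q % 4 = 1 := by
  obtain ⟨m, hm, rfl⟩ := hq
  constructor
  · calc 5 = 5 ^ 1 := (pow_one 5).symm
      _ ≤ 5 ^ m := Nat.pow_le_pow_right (by norm_num) hm
  · rw [Nat.pow_mod]; simp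

theorem UB5.ap {q n r : ℕ} (hq : ∃ m, 1 ≤ m ∧ q = 5 ^ m) (h : UB5 q n) (hr : r.Prime) (ha : r ∣ ap q) (hn : r ∣ n) :
    n ∣ (q ^ 3 - 1) / 2 := by
  obtain ⟨h5, h4⟩ := odd_of_pow_five hq
  have h2 : 2 ≤ q := by omega
  have hp := ap_prime h2 hr ha
  obtain ⟨hr2, hr3, hrq⟩ := ap_ne h2 hr ha
  have hr5 : ¬ r ∣ 5 := by
    intro hd
    apply hrq
    obtain ⟨m, hm, rfl⟩ := hq
    exact hd.trans (dvd_pow_self 5 (by omega))
  have hB : ¬ r ∣ (q ^ 3 + 1) / 2 := by
    intro hd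
    have h6 := Nat.dvd_gcd (ha.trans (ap_dvd_half h2 (by omega))) hd
    rw [(coprime_half (show q % 2 = 1 by omega))] at h6
    exact hr.one_lt.ne' (Nat.dvd_one.1 h6)
  have hC : ¬ r ∣ (q ^ 4 - 1) / 4 := fun hd => hp (hd.trans (Nat.div_dvd_of_dvd (by
    have : q ^ 4 % 4 = 1 := by rw [Nat.pow_mod, h4]
    omega)))
  rcases h with h | h | h | h | h | h
  · exact h
  · exact absurd (hn.trans h) hB
  · exact absurd (hn.trans h) hC
  · rcases hr.dvd_mul.1 (hn.trans h) with h6 | h6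
    · exact absurd h6 hr5
    · exact absurd (h6.trans (sq_pm_dvd q).1) hp
  · rcases hr.dvd_mul.1 (hn.trans h) with h6 | h6
    · exact absurd h6 hr5
    · exact absurd (h6.trans (sq_pm_dvd q).2) hp
  · exact absurd (hr.dvd_of_dvd_pow (show r ∣ 5 ^ 2 from hn.trans h)) hr5

theorem UB5.am {q n r : ℕ} (hq : ∃ m, 1 ≤ m ∧ q = 5 ^ m) (h : UB5 q n) (hr : r.Prime) (ha : r ∣ am q) (hn : r ∣ n) :
    n ∣ (q ^ 3 + 1) / 2 := by
  obtain ⟨h5, h4⟩ := odd_of_pow_five hq
  have h2 : 2 ≤ q := by omega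
  have hp := am_prime h2 hr ha
  obtain ⟨hr2, hr3, hrq⟩ := am_ne h2 hr ha
  have hr5 : ¬ r ∣ 5 := by
    intro hd
    apply hrq
    obtain ⟨m, hm, rfl⟩ := hq
    exact hd.trans (dvd_pow_self 5 (by omega))
  have hB : ¬ r ∣ (q ^ 3 - 1) / 2 := by
    intro hd
    have h6 := Nat.dvd_gcd hd (ha.trans (am_dvd_half h2 (by omega)))
    rw [(coprime_half (show q % 2 = 1 by omega))] at h6
    exact hr.one_lt.ne' (Nat.dvd_one.1 h6)
  have hC : ¬ r ∣ (q ^ 4 - 1) / 4 := fun hd => hp (hd.trans (Nat.div_dvd_of_dvd (by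
    have : q ^ 4 % 4 = 1 := by rw [Nat.pow_mod, h4]
    omega)))
  rcases h with h | h | h | h | h | h
  · exact absurd (hn.trans h) hB
  · exact h
  · exact absurd (hn.trans h) hC
  · rcases hr.dvd_mul.1 (hn.trans h) with h6 | h6
    · exact absurd h6 hr5
    · exact absurd (h6.trans (sq_pm_dvd q).1) hp
  · rcases hr.dvd_mul.1 (hn.trans h) with h6 | h6
    · exact absurd h6 hr5
    · exact absurd (h6.trans (sq_pm_dvd q).2) hp
  · exact absurd (hr.dvd_of_dvd_pow (show r ∣ 5 ^ 2 from hn.trans h)) hr5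

theorem UB2.ap {q n r : ℕ} (hq : 2 ≤ q) (h : UB2 q n) (hr : r.Prime) (ha : r ∣ ap q) (hn : r ∣ n) : n ∣ q ^ 3 - 1 := by
  have hp := ap_prime hq hr ha
  obtain ⟨hr2, -, -⟩ := ap_ne hq hr ha
  have hr2' : ¬ r ∣ 2 := fun hd => hr2 ((Nat.prime_dvd_prime_iff_eq hr Nat.prime_two).1 hd)
  have hr4 : ¬ r ∣ 4 := fun hd => hr2' (hr.dvd_of_dvd_pow (show r ∣ 2 ^ 2 from hd))
  have hr8 : ¬ r ∣ 8 := fun hd => hr2' (hr.dvd_of_dvd_pow (show r ∣ 2 ^ 3 from hd))
  have hB : ¬ r ∣ q ^ 3 + 1 := by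
    intro hd
    have h6 : r ∣ (q ^ 3 + 1) - (q ^ 3 - 1) := Nat.dvd_sub hd (ha.trans (ap_dvd_cube hq))
    have : 1 ≤ q ^ 3 := Nat.one_le_pow _ _ (by omega)
    rw [show q ^ 3 + 1 - (q ^ 3 - 1) = 2 by omega] at h6
    exact hr2' h6
  rcases h with h | h | h | h | h | h | h | h
  · exact h
  · exact absurd (hn.trans h) hB
  · exact absurd (hn.trans h) hp
  · rcases hr.dvd_mul.1 (hn.trans h) with h6 | h6
    · exact absurd h6 hr2'
    · exact absurd (h6.trans (sq_pm_dvd q).1) hp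
  · rcases hr.dvd_mul.1 (hn.trans h) with h6 | h6
    · exact absurd h6 hr2'
    · exact absurd (h6.trans (sq_pm_dvd q).2) hp
  · rcases hr.dvd_mul.1 (hn.trans h) with h6 | h6
    · exact absurd h6 hr4
    · exact absurd (h6.trans (add_one_dvd q)) hp
  · rcases hr.dvd_mul.1 (hn.trans h) with h6 | h6
    · exact absurd h6 hr4
    · exact absurd (h6.trans (one_dvd_pow q).1) hp
  · exact absurd (hn.trans h) hr8

theorem UB2.am {q n r : ℕ} (hq : 2 ≤ q) (h : UB2 q n) (hr : r.Prime) (ha : r ∣ am q) (hn : r ∣ n) : n ∣ q ^ 3 + 1 := by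
  have hp := am_prime hq hr ha
  obtain ⟨hr2, -, -⟩ := am_ne hq hr ha
  have hr2' : ¬ r ∣ 2 := fun hd => hr2 ((Nat.prime_dvd_prime_iff_eq hr Nat.prime_two).1 hd)
  have hr4 : ¬ r ∣ 4 := fun hd => hr2' (hr.dvd_of_dvd_pow (show r ∣ 2 ^ 2 from hd))
  have hr8 : ¬ r ∣ 8 := fun hd => hr2' (hr.dvd_of_dvd_pow (show r ∣ 2 ^ 3 from hd))
  have hB : ¬ r ∣ q ^ 3 - 1 := by
    intro hd
    have h6 : r ∣ (q ^ 3 + 1) - (q ^ 3 - 1) := Nat.dvd_sub (ha.trans (am_dvd_cube hq)) hd
    have : 1 ≤ q ^ 3 := Nat.one_le_pow _ _ (by omega)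
    rw [show q ^ 3 + 1 - (q ^ 3 - 1) = 2 by omega] at h6
    exact hr2' h6
  rcases h with h | h | h | h | h | h | h | h
  · exact absurd (hn.trans h) hB
  · exact h
  · exact absurd (hn.trans h) hp
  · rcases hr.dvd_mul.1 (hn.trans h) with h6 | h6
    · exact absurd h6 hr2'
    · exact absurd (h6.trans (sq_pm_dvd q).1) hp
  · rcases hr.dvd_mul.1 (hn.trans h) with h6 | h6
    · exact absurd h6 hr2'
    · exact absurd (h6.trans (sq_pm_dvd q).2) hp
  · rcases hr.dvd_mul.1 (hn.trans h) with h6 | h6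
    · exact absurd h6 hr4
    · exact absurd (h6.trans (add_one_dvd q)) hp
  · rcases hr.dvd_mul.1 (hn.trans h) with h6 | h6
    · exact absurd h6 hr4
    · exact absurd (h6.trans (one_dvd_pow q).1) hp
  · exact absurd (hn.trans h) hr8

theorem exists_prime_ap {q : ℕ} (hq : 2 ≤ q) : ∃ r, r.Prime ∧ r ∣ ap q :=
  Nat.exists_prime_and_dvd (by
    have := three_ap hq
    have : 4 ≤ q ^ 2 := by nlinarith
    omega)

theorem exists_prime_am {q : ℕ} (hq : 3 ≤ q) : ∃ r, r.Prime ∧ r ∣ am q :=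
  Nat.exists_prime_and_dvd (by
    have := three_am (show 2 ≤ q by omega)
    have : 3 * q ≤ q ^ 2 := by nlinarith
    omega)

/-- a central subgroup is impossible -/
theorem noncentral_five {q : ℕ} (hq : ∃ m, 1 ≤ m ∧ q = 5 ^ m) {H : Type u} [Group H] [Finite H] (V : Subgroup H)
    [V.Normal] {t : ℕ} (ht : t.Prime) (hpow : ∀ x ∈ V, x ^ t = 1) (hV : V ≠ ⊥)
    (h3 : ∃ x : H ⧸ V, ∃ r, r.Prime ∧ r ∣ Six.ap q ∧ r ∣ orderOf x)
    (h6 : ∃ x : H ⧸ V, ∃ r, r.Prime ∧ r ∣ Six.am q ∧ r ∣ orderOf x) (hub : ∀ x : H, UB5 q (orderOf x)) :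
    ∃ v ∈ V, ∃ g : H, g * v ≠ v * g := by
  by_contra hc
  push_neg at hc
  obtain ⟨h5, h4⟩ := odd_of_pow_five hq
  obtain ⟨x, r, hr, hra, hrx⟩ := h3
  obtain ⟨y, s, hs, hsa, hsy⟩ := h6
  have hcop := coprime_half (show q % 2 = 1 by omega)
  have hA : t ≠ r → t ∣ (q ^ 3 - 1) / 2 := by
    intro htr
    obtain ⟨z, hz⟩ := orderOf_mul_of_central V ht hr htr hpow hV hc ⟨x, hrx⟩
    have := UB5.ap hq (hub z) hr hra ((Dvd.intro_left t rfl).trans hz)
    exact ((Dvd.intro r rfl).trans hz).trans this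
  have hB : t ≠ s → t ∣ (q ^ 3 + 1) / 2 := by
    intro hts
    obtain ⟨z, hz⟩ := orderOf_mul_of_central V ht hs hts hpow hV hc ⟨y, hsy⟩
    have := UB5.am hq (hub z) hs hsa ((Dvd.intro_left t rfl).trans hz)
    exact ((Dvd.intro s rfl).trans hz).trans this
  have hA' : t ∣ (q ^ 3 - 1) / 2 := by
    by_cases htr : t = r
    · rw [htr]; exact hra.trans (ap_dvd_half (by omega) (by omega))
    · exact hA htr
  have hB' : t ∣ (q ^ 3 + 1) / 2 := by
    by_cases hts : t = s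
    · rw [hts]; exact hsa.trans (am_dvd_half (by omega) (by omega))
    · exact hB hts
  have := Nat.dvd_gcd hA' hB'
  rw [hcop] at this
  exact ht.one_lt.ne' (Nat.dvd_one.1 this)

/-- a central subgroup is impossible -/
theorem noncentral_two {q : ℕ} (hq : ∃ m, 2 ≤ m ∧ q = 2 ^ m) {H : Type u} [Group H] [Finite H] (V : Subgroup H)
    [V.Normal] {t : ℕ} (ht : t.Prime) (hpow : ∀ x ∈ V, x ^ t = 1) (hV : V ≠ ⊥)
    (h3 : ∃ x : H ⧸ V, ∃ r, r.Prime ∧ r ∣ Six.ap q ∧ r ∣ orderOf x)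
    (h6 : ∃ x : H ⧸ V, ∃ r, r.Prime ∧ r ∣ Six.am q ∧ r ∣ orderOf x) (hub : ∀ x : H, UB2 q (orderOf x)) :
    ∃ v ∈ V, ∃ g : H, g * v ≠ v * g := by
  by_contra hc
  push_neg at hc
  have hq2 : 2 ≤ q ∧ q % 2 = 0 := by
    obtain ⟨m, hm, rfl⟩ := hq
    constructor
    · calc 2 = 2 ^ 1 := (pow_one 2).symm
        _ ≤ 2 ^ m := Nat.pow_le_pow_right (by norm_num) (by omega)
    · exact Nat.mod_eq_zero_of_dvd (dvd_pow_self 2 (by omega))
  obtain ⟨h2, he⟩ := hq2
  obtain ⟨x, r, hr, hra, hrx⟩ := h3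
  obtain ⟨y, s, hs, hsa, hsy⟩ := h6
  have hA : t ≠ r → t ∣ q ^ 3 - 1 := by
    intro htr
    obtain ⟨z, hz⟩ := orderOf_mul_of_central V ht hr htr hpow hV hc ⟨x, hrx⟩
    have := UB2.ap h2 (hub z) hr hra ((Dvd.intro_left t rfl).trans hz)
    exact ((Dvd.intro r rfl).trans hz).trans this
  have hB : t ≠ s → t ∣ q ^ 3 + 1 := by
    intro hts
    obtain ⟨z, hz⟩ := orderOf_mul_of_central V ht hs hts hpow hV hc ⟨y, hsy⟩
    have := UB2.am h2 (hub z) hs hsa ((Dvd.intro_left t rfl).trans hz)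
    exact ((Dvd.intro s rfl).trans hz).trans this
  have hA' : t ∣ q ^ 3 - 1 := by
    by_cases htr : t = r
    · rw [htr]; exact hra.trans (ap_dvd_cube h2)
    · exact hA htr
  have hB' : t ∣ q ^ 3 + 1 := by
    by_cases hts : t = s
    · rw [hts]; exact hsa.trans (am_dvd_cube h2)
    · exact hB hts
  have h7 : t ∣ (q ^ 3 + 1) - (q ^ 3 - 1) := Nat.dvd_sub hB' hA'
  have h8 : 1 ≤ q ^ 3 := Nat.one_le_pow _ _ (by omega)
  rw [show q ^ 3 + 1 - (q ^ 3 - 1) = 2 by omega] at h7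
  have ht2 : t = 2 := (Nat.prime_dvd_prime_iff_eq ht Nat.prime_two).1 h7
  have h9 : q ^ 3 % 2 = 0 := Nat.mod_eq_zero_of_dvd ((Nat.dvd_of_mod_eq_zero he).trans (dvd_pow_self q (by norm_num)))
  rw [ht2] at hB'
  omega

theorem UB5.mono {q n k : ℕ} (h : UB5 q n) (hk : k ∣ n) : UB5 q k := by
  rcases h with h | h | h | h | h | h
  · exact Or.inl (hk.trans h)
  · exact Or.inr (Or.inl (hk.trans h))
  · exact Or.inr (Or.inr (Or.inl (hk.trans h)))
  · exact Or.inr (Or.inr (Or.inr (Or.inl (hk.trans h))))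
  · exact Or.inr (Or.inr (Or.inr (Or.inr (Or.inl (hk.trans h)))))
  · exact Or.inr (Or.inr (Or.inr (Or.inr (Or.inr (hk.trans h)))))

theorem UB2.mono {q n k : ℕ} (h : UB2 q n) (hk : k ∣ n) : UB2 q k := by
  rcases h with h | h | h | h | h | h | h | h
  · exact Or.inl (hk.trans h)
  · exact Or.inr (Or.inl (hk.trans h))
  · exact Or.inr (Or.inr (Or.inl (hk.trans h)))
  · exact Or.inr (Or.inr (Or.inr (Or.inl (hk.trans h))))
  · exact Or.inr (Or.inr (Or.inr (Or.inr (Or.inl (hk.trans h)))))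
  · exact Or.inr (Or.inr (Or.inr (Or.inr (Or.inr (Or.inl (hk.trans h))))))
  · exact Or.inr (Or.inr (Or.inr (Or.inr (Or.inr (Or.inr (Or.inl (hk.trans h)))))))
  · exact Or.inr (Or.inr (Or.inr (Or.inr (Or.inr (Or.inr (Or.inr (hk.trans h)))))))

/-- **The extension on top of a nontrivial radical**, `q = 5 ^ m`. -/
theorem exists_cov_five {q : ℕ} (hq : ∃ m, 1 ≤ m ∧ q = 5 ^ m) {G : Type u} [Group G] [Finite G]
    (hub : ∀ g : G, UB5 q (orderOf g)) (K : Subgroup G) [K.Normal] (hK : Group.IsSolvable ↥K) (h1 : K ≠ ⊥)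
    (S : Subgroup (G ⧸ K)) (h3 : ∃ x : ↥S, ∃ r, r.Prime ∧ r ∣ Six.ap q ∧ r ∣ orderOf x)
    (h6 : ∃ x : ↥S, ∃ r, r.Prime ∧ r ∣ Six.am q ∧ r ∣ orderOf x) :
    ∃ (H : Type u) (_ : Group H) (_ : Finite H) (V : Subgroup H) (_ : V.Normal) (t : ℕ), Cov t H V ∧
      Nonempty (H ⧸ V ≃* ↥S) ∧ ∀ x : H, UB5 q (orderOf x) := by
  obtain ⟨K₁, hn, t, ht, hlt, hpow, hcomm⟩ := exists_top K hK h1
  obtain ⟨H, hg, hfin, V, hVn, hc, hp, hV, ⟨e⟩, ho⟩ := exists_ext K S K₁ hlt hpow hcomm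
  have hub' : ∀ x : H, UB5 q (orderOf x) := fun x => by
    obtain ⟨g, hgx⟩ := ho x
    exact (hub g).mono hgx
  obtain ⟨x, r, hr, hra, hrx⟩ := h3
  obtain ⟨y, s, hs, hsa, hsy⟩ := h6
  refine ⟨H, hg, hfin, V, hVn, t, ⟨ht, hc, hp, noncentral_five hq V ht hp hV ⟨e.symm x, r, hr, hra, ?_⟩
    ⟨e.symm y, s, hs, hsa, ?_⟩ hub'⟩, ⟨e⟩, hub'⟩
  · rwa [MulEquiv.orderOf_eq]
  · rwa [MulEquiv.orderOf_eq]

/-- **The extension on top of a nontrivial radical**, `q = 2 ^ m`. -/
theorem exists_cov_two {q : ℕ} (hq : ∃ m, 2 ≤ m ∧ q = 2 ^ m) {G : Type u} [Group G] [Finite G]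
    (hub : ∀ g : G, UB2 q (orderOf g)) (K : Subgroup G) [K.Normal] (hK : Group.IsSolvable ↥K) (h1 : K ≠ ⊥)
    (S : Subgroup (G ⧸ K)) (h3 : ∃ x : ↥S, ∃ r, r.Prime ∧ r ∣ Six.ap q ∧ r ∣ orderOf x)
    (h6 : ∃ x : ↥S, ∃ r, r.Prime ∧ r ∣ Six.am q ∧ r ∣ orderOf x) :
    ∃ (H : Type u) (_ : Group H) (_ : Finite H) (V : Subgroup H) (_ : V.Normal) (t : ℕ), Cov t H V ∧
      Nonempty (H ⧸ V ≃* ↥S) ∧ ∀ x : H, UB2 q (orderOf x) := by
  obtain ⟨K₁, hn, t, ht, hlt, hpow, hcomm⟩ := exists_top K hK h1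
  obtain ⟨H, hg, hfin, V, hVn, hc, hp, hV, ⟨e⟩, ho⟩ := exists_ext K S K₁ hlt hpow hcomm
  have hub' : ∀ x : H, UB2 q (orderOf x) := fun x => by
    obtain ⟨g, hgx⟩ := ho x
    exact (hub g).mono hgx
  obtain ⟨x, r, hr, hra, hrx⟩ := h3
  obtain ⟨y, s, hs, hsa, hsy⟩ := h6
  refine ⟨H, hg, hfin, V, hVn, t, ⟨ht, hc, hp, noncentral_two hq V ht hp hV ⟨e.symm x, r, hr, hra, ?_⟩
    ⟨e.symm y, s, hs, hsa, ?_⟩ hub'⟩, ⟨e⟩, hub'⟩
  · rwa [MulEquiv.orderOf_eq]
  · rwa [MulEquiv.orderOf_eq]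

end Cfsg.Agent.H376.Six
end

-- part: H425/OF/SFour
section
prune_inst 0x56028444a40020000188086e1001e56ca0005b0006b0800d940044c058e5f6a0d81af61c48019160a2aa24500310028121000d0004000000400040001190080808a5206b349a10ca6009f803082000000000000000000000000000000041004000000000
set_option linter.all false
open scoped Cfsg.Agent.FastGrp

/-!
# The elements of prime order of `S₄ × C_f` from triality relations (helper425)

`s4_struct` is a version of `Cfsg.Agent.H989.OutOrth.SymFour.s4_prod` (helper989) which keeps the homomorphism from the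
symmetric group; `four_class` : the classes of elements of prime order.
-/

set_option autoImplicit false

namespace Cfsg.Agent.H425.OF

open Cfsg.Agent.H989.OutOrth.Abstract Cfsg.Agent.Lib.DihedralRecog Cfsg.Agent.H989.OutOrth.SymFour

section

variable {H : Type*} [Group H]

/-- An extension of a group of order 4 by a faithful complement of order 6. -/
theorem s4_range [Finite H] {A T : Subgroup H} (hA : Nat.card A = 4)
    (hAc : ∀ a ∈ A, ∀ b ∈ A, a * b = b * a) (hT : Nat.card T = 6)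
    (hnorm : ∀ t ∈ T, ∀ a ∈ A, t * a * t⁻¹ ∈ A)
    (hfaith : ∀ t ∈ T, (∀ a ∈ A, t * a = a * t) → t = 1) :
    ∃ ι : Equiv.Perm (Fin 4) →* H, Function.Injective ι ∧ ι.range = A ⊔ T := by
  have hdisj : ∀ x ∈ A, x ∈ T → x = 1 := fun x hxA hxT => hfaith x hxT fun a ha => hAc x hxA a ha
  let K : Subgroup H :=
    { carrier := {x | ∃ a ∈ A, ∃ t ∈ T, x = a * t}
      mul_mem' := by
        rintro _ _ ⟨a, ha, t, ht, rfl⟩ ⟨b, hb, s, hs, rfl⟩
        refine ⟨a * (t * b * t⁻¹), A.mul_mem ha (hnorm t ht b hb), t * s, T.mul_mem ht hs, ?_⟩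
        group
      one_mem' := ⟨1, A.one_mem, 1, T.one_mem, by rw [one_mul]⟩
      inv_mem' := by
        rintro _ ⟨a, ha, t, ht, rfl⟩
        refine ⟨t⁻¹ * a⁻¹ * t⁻¹⁻¹, hnorm _ (T.inv_mem ht) _ (A.inv_mem ha), t⁻¹, T.inv_mem ht, ?_⟩
        group }
  have hAK : A ⊔ T ≤ K := by
    apply sup_le
    · intro a ha; exact ⟨a, ha, 1, T.one_mem, by rw [mul_one]⟩
    · intro t ht; exact ⟨1, A.one_mem, t, ht, by rw [one_mul]⟩
  have hcompl : Subgroup.IsComplement' (A.subgroupOf (A ⊔ T)) (T.subgroupOf (A ⊔ T)) := by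
    apply Subgroup.isComplement'_of_disjoint_and_mul_eq_univ
    · rw [disjoint_iff, eq_bot_iff]
      rintro ⟨x, hx⟩ ⟨h1, h2⟩
      rw [Subgroup.mem_bot]
      exact Subtype.ext (hdisj x (Subgroup.mem_subgroupOf.1 h1) (Subgroup.mem_subgroupOf.1 h2))
    · rw [Set.eq_univ_iff_forall]
      rintro ⟨x, hx⟩
      obtain ⟨a, ha, t, ht, rfl⟩ := hAK hx
      exact ⟨⟨a, Subgroup.mem_sup_left ha⟩, Subgroup.mem_subgroupOf.2 ha,
        ⟨t, Subgroup.mem_sup_right ht⟩, Subgroup.mem_subgroupOf.2 ht, rfl⟩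
  have hA' : Nat.card (A.subgroupOf (A ⊔ T)) = 4 := by
    rw [← hA]
    exact Nat.card_congr (Subgroup.subgroupOfEquivOfLe le_sup_left).toEquiv
  have hT' : Nat.card (T.subgroupOf (A ⊔ T)) = 6 := by
    rw [← hT]
    exact Nat.card_congr (Subgroup.subgroupOfEquivOfLe le_sup_right).toEquiv
  have hcard : Nat.card ↥(A ⊔ T) = 24 := by
    rw [← hcompl.card_mul_card, hA', hT']
  obtain ⟨e⟩ := perm_four hcard (T.subgroupOf (A ⊔ T)) hT' (by
    intro N hN hNT
    rw [eq_bot_iff]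
    rintro ⟨t, htS⟩ ht
    rw [Subgroup.mem_bot]
    apply Subtype.ext
    have htT : t ∈ T := Subgroup.mem_subgroupOf.1 (hNT ht)
    refine hfaith t htT fun a ha => ?_
    -- the commutator lies in `A` and in `N`
    have h1 : t * a * t⁻¹ * a⁻¹ ∈ A := A.mul_mem (hnorm t htT a ha) (A.inv_mem ha)
    have h2 : (⟨t, htS⟩ : ↥(A ⊔ T)) * (⟨a, Subgroup.mem_sup_left ha⟩ * ⟨t, htS⟩⁻¹ *
        ⟨a, Subgroup.mem_sup_left ha⟩⁻¹) ∈ N :=
      N.mul_mem ht (hN.conj_mem _ (N.inv_mem ht) _)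
    have h3 : t * (a * t⁻¹ * a⁻¹) ∈ T := Subgroup.mem_subgroupOf.1 (hNT h2)
    have h4 : t * (a * t⁻¹ * a⁻¹) = t * a * t⁻¹ * a⁻¹ := by group
    rw [h4] at h3
    have h5 := hdisj _ h1 h3
    calc t * a = t * a * t⁻¹ * a⁻¹ * (a * t) := by group
      _ = a * t := by rw [h5, one_mul])
  exact ⟨(A ⊔ T).subtype.comp e.symm.toMonoidHom,
    (A ⊔ T).subtype_injective.comp e.symm.injective, by
      rw [MonoidHom.range_comp, MonoidHom.range_eq_top.2 e.symm.surjective, ← MonoidHom.range_eq_map,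
        Subgroup.range_subtype]⟩

/-- `S₄ × C_f` from triality relations. -/
theorem s4_struct [Finite H] {f : ℕ} (hcard : Nat.card H = 24 * f) {ρ k z φ : H}
    (hρ3 : ρ ^ 3 = 1) (hk : k * k = 1) (hkρ : k * ρ * k⁻¹ = ρ⁻¹) (hz : z * z = 1) (hz1 : z ≠ 1)
    (hzk : k * z = z * k) (hkz : k * (ρ * z * ρ⁻¹) * k⁻¹ = z * (ρ * z * ρ⁻¹))
    (hφρ : φ * ρ = ρ * φ) (hφk : φ * k = k * φ) (hφz : φ * z = z * φ)
    (hint : ∀ j : ℕ, φ ^ j = 1 → f ∣ j) :
    ∃ θ : Equiv.Perm (Fin 4) →* H, Function.Injective θ ∧ (∀ d, θ d * φ = φ * θ d) ∧ (∀ h, ∃ (d : Equiv.Perm (Fin 4)) (j : ℕ),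
      h = θ d * φ ^ j) ∧ (∃ d, θ d = ρ) ∧ (∃ d, θ d = k) ∧ ∃ d, θ d = z := by
  obtain ⟨y, hy⟩ : ∃ y, y = ρ * z * ρ⁻¹ := ⟨_, rfl⟩
  rw [← hy] at hkz
  have hρρ : ρ⁻¹ = ρ * ρ := by
    rw [inv_eq_iff_mul_eq_one, ← mul_assoc, ← pow_two, ← pow_succ]; exact hρ3
  have hy2 : y * y = 1 := by
    have : y * y = ρ * (z * z) * ρ⁻¹ := by rw [hy]; group
    rw [this, hz]; group
  -- `ρ y ρ⁻¹ = z y`
  have hkk : k⁻¹ = k := inv_eq_of_mul_eq_one_left hk
  have hρy : ρ * y * ρ⁻¹ = z * y := by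
    have h1 : k * ρ = ρ⁻¹ * k := by rw [← hkρ]; group
    have h2 : ρ * y * ρ⁻¹ = ρ⁻¹ * z * ρ := by
      rw [hy]
      calc ρ * (ρ * z * ρ⁻¹) * ρ⁻¹ = (ρ * ρ) * z * (ρ * ρ)⁻¹ := by group
        _ = ρ⁻¹ * z * ρ := by rw [← hρρ, inv_inv]
    have h3 : k * y * k⁻¹ = ρ⁻¹ * z * ρ := by
      rw [hy]
      have h4 : ρ⁻¹ * k⁻¹ = k⁻¹ * ρ := by
        have : (k * ρ)⁻¹ = (ρ⁻¹ * k)⁻¹ := by rw [h1]
        rw [mul_inv_rev, mul_inv_rev, inv_inv] at this
        exact this
      calc k * (ρ * z * ρ⁻¹) * k⁻¹ = (k * ρ) * z * (ρ⁻¹ * k⁻¹) := by group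
        _ = (ρ⁻¹ * k) * z * (k⁻¹ * ρ) := by rw [h1, h4]
        _ = ρ⁻¹ * (k * z) * k⁻¹ * ρ := by group
        _ = ρ⁻¹ * z * ρ := by rw [hzk]; group
    rw [h2, ← h3, hkz]
  have hzy2 : (z * y) * (z * y) = 1 := by
    rw [← hρy]
    have : (ρ * y * ρ⁻¹) * (ρ * y * ρ⁻¹) = ρ * (y * y) * ρ⁻¹ := by group
    rw [this, hy2]; group
  have hyi : y⁻¹ = y := inv_eq_of_mul_eq_one_left hy2
  have hzi : z⁻¹ = z := inv_eq_of_mul_eq_one_left hz
  have hzy : z * y = y * z := by
    have h1 : (z * y)⁻¹ = z * y := inv_eq_of_mul_eq_one_left hzy2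
    rw [mul_inv_rev, hyi, hzi] at h1
    exact h1.symm
  have hy1 : y ≠ 1 := by
    rintro rfl
    apply hz1
    have h1 : z = ρ⁻¹ * (ρ * z * ρ⁻¹) * ρ := by group
    rw [h1, ← hy]; group
  have hne : z ≠ y := by
    intro h
    rw [← h, hz] at hρy
    apply hz1
    have h1 : z = ρ⁻¹ * (ρ * z * ρ⁻¹) * ρ := by group
    rw [h1, hρy]; group
  have hz2' : z ^ 2 = 1 := by rw [pow_two]; exact hz
  have hy2' : y ^ 2 = 1 := by rw [pow_two]; exact hy2
  obtain ⟨ι, hι, hιc⟩ := four_injective hz2' hy2' hzy hz1 hy1 hne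
  have hzr : z ∈ ι.range ∧ y ∈ ι.range := by
    -- both are in the range since the range has four elements
    have h1 : (ι.range : Set H) ⊆ {1, z, y, z * y} := by
      rintro _ ⟨x, rfl⟩
      rcases hιc x with h | h | h | h <;> rw [h] <;> simp only [_root_.Set.mem_insert_iff, _root_.Set.mem_singleton_iff, _root_.true_or, _root_.left_eq_mul, _root_.or_true, _root_.right_eq_mul, _root_.mul_eq_left, _root_.mul_eq_right]
    have h2 : Nat.card ι.range = 4 := by
      rw [← Nat.card_congr (MonoidHom.ofInjective hι).toEquiv, Nat.card_prod,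
        Nat.card_congr Multiplicative.toAdd, Nat.card_zmod]
    have h3 : ({1, z, y, z * y} : Set H).ncard ≤ (ι.range : Set H).ncard := by
      have h4 : (ι.range : Set H).ncard = 4 := by rw [← Nat.card_coe_set_eq]; exact h2
      rw [h4]
      refine (Set.ncard_insert_le _ _).trans ?_
      have h4 : ({z, y, z * y} : Set H).ncard ≤ 3 := by
        refine (Set.ncard_insert_le _ _).trans ?_
        have h5 : ({y, z * y} : Set H).ncard ≤ 2 := by
          refine (Set.ncard_insert_le _ _).trans ?_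
          rw [Set.ncard_singleton]
        omega
      omega
    have h4 := Set.eq_of_subset_of_ncard_le h1 h3
    constructor
    · show z ∈ (ι.range : Set H)
      rw [h4]; simp
    · show y ∈ (ι.range : Set H)
      rw [h4]; simp
  obtain ⟨hzA, hyA⟩ := hzr
  have hAcases : ∀ a ∈ ι.range, a = 1 ∨ a = z ∨ a = y ∨ a = z * y := by
    rintro _ ⟨x, rfl⟩
    exact hιc x
  have hAcard : Nat.card ι.range = 4 := by
    rw [← Nat.card_congr (MonoidHom.ofInjective hι).toEquiv, Nat.card_prod,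
      Nat.card_congr Multiplicative.toAdd, Nat.card_zmod]
  have hAcomm : ∀ a ∈ ι.range, ∀ b ∈ ι.range, a * b = b * a := by
    rintro _ ⟨x, rfl⟩ _ ⟨y, rfl⟩
    rw [← map_mul, ← map_mul, mul_comm]
  have hρ : ρ ≠ 1 := by
    rintro rfl
    apply hne
    rw [hy]; group
  obtain ⟨e, he, hr⟩ := dih3 hρ3 hk hkρ hρ
  have hTcard : Nat.card e.range = 6 := by
    rw [← Nat.card_congr (MonoidHom.ofInjective he).toEquiv, DihedralGroup.nat_card]
  -- conjugation by `ρ` and `k`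
  have hρA : ∀ a ∈ ι.range, ρ * a * ρ⁻¹ ∈ ι.range := by
    intro a ha
    rcases hAcases a ha with rfl | rfl | rfl | rfl
    · have : ρ * 1 * ρ⁻¹ = 1 := by group
      rw [this]; exact one_mem _
    · rw [← hy]; exact hyA
    · rw [hρy]; exact mul_mem hzA hyA
    · have : ρ * (z * y) * ρ⁻¹ = (ρ * z * ρ⁻¹) * (ρ * y * ρ⁻¹) := by group
      rw [this, ← hy, hρy]; exact mul_mem hyA (mul_mem hzA hyA)
  have hkA : ∀ a ∈ ι.range, k * a * k⁻¹ ∈ ι.range := by
    intro a ha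
    rcases hAcases a ha with rfl | rfl | rfl | rfl
    · have : k * 1 * k⁻¹ = 1 := by group
      rw [this]; exact one_mem _
    · rw [hzk, mul_inv_cancel_right]; exact hzA
    · rw [hkz]; exact mul_mem hzA hyA
    · have : k * (z * y) * k⁻¹ = (k * z * k⁻¹) * (k * y * k⁻¹) := by group
      rw [this, hkz, hzk, mul_inv_cancel_right]; exact mul_mem hzA (mul_mem hzA hyA)
  have hρiA : ∀ i : ℕ, ∀ a ∈ ι.range, ρ ^ i * a * (ρ ^ i)⁻¹ ∈ ι.range := by
    intro i
    induction i with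
    | zero => intro a ha; rw [pow_zero, inv_one, one_mul, mul_one]; exact ha
    | succ i ih =>
      intro a ha
      have : ρ ^ (i + 1) * a * (ρ ^ (i + 1))⁻¹ = ρ * (ρ ^ i * a * (ρ ^ i)⁻¹) * ρ⁻¹ := by
        rw [pow_succ' ρ i]; group
      rw [this]
      exact hρA _ (ih a ha)
  have hnorm : ∀ t ∈ e.range, ∀ a ∈ ι.range, t * a * t⁻¹ ∈ ι.range := by
    intro t ht a ha
    obtain ⟨i, -, rfl | rfl⟩ := hr t ht
    · exact hρiA i a ha
    · have : k * ρ ^ i * a * (k * ρ ^ i)⁻¹ = k * (ρ ^ i * a * (ρ ^ i)⁻¹) * k⁻¹ := by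
        rw [mul_inv_rev]; group
      rw [this]
      exact hkA _ (hρiA i a ha)
  have hρz : ρ * z = y * ρ := by rw [hy]; group
  have hρy' : ρ * y = z * y * ρ := by rw [← hρy]; group
  have hky : k * y = z * y * k := by rw [← hkz]; group
  have hzyz : z * (z * y) = y := by rw [← mul_assoc, hz, one_mul]
  have hfaith : ∀ t ∈ e.range, (∀ a ∈ ι.range, t * a = a * t) → t = 1 := by
    intro t ht hc
    have hcz := hc z hzA
    have hcy := hc y hyA
    obtain ⟨i, hi, rfl | rfl⟩ := hr t ht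
    · interval_cases i
      · rw [pow_zero]
      · exfalso
        rw [pow_one, hρz] at hcz
        exact hne (mul_right_cancel hcz).symm
      · exfalso
        -- `ρ² z = ρ y ρ = z y ρ²`
        have h1 : ρ ^ 2 * z = z * y * ρ ^ 2 := by
          rw [pow_two, mul_assoc, hρz, ← mul_assoc, hρy', mul_assoc]
        rw [h1] at hcz
        have h2 := mul_right_cancel hcz
        exact hy1 (mul_eq_left.1 h2)
    · exfalso
      interval_cases i
      · rw [pow_zero, mul_one, hky] at hcy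
        have h2 := mul_right_cancel hcy
        exact hz1 (mul_eq_right.1 h2)
      · have h1 : k * ρ ^ 1 * z = z * y * (k * ρ ^ 1) := by
          rw [pow_one, mul_assoc, hρz, ← mul_assoc, hky, mul_assoc]
        rw [h1] at hcz
        have h2 := mul_right_cancel hcz
        exact hy1 (mul_eq_left.1 h2)
      · have h1 : k * ρ ^ 2 * z = y * (k * ρ ^ 2) := by
          calc k * ρ ^ 2 * z = k * (ρ ^ 2 * z) := by group
            _ = k * (z * y * ρ ^ 2) := by
              rw [pow_two, mul_assoc, hρz, ← mul_assoc ρ, hρy']; group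
            _ = (k * z) * y * ρ ^ 2 := by group
            _ = z * (k * y) * ρ ^ 2 := by rw [hzk]; group
            _ = (z * (z * y)) * (k * ρ ^ 2) := by rw [hky]; group
            _ = y * (k * ρ ^ 2) := by rw [hzyz]
        rw [h1] at hcz
        exact hne (mul_right_cancel hcz).symm
  obtain ⟨θ, hθ, hθr'⟩ := s4_range hAcard hAcomm hTcard hnorm hfaith
  have hθr : ∀ x, θ x ∈ ι.range ⊔ e.range := fun x => by rw [← hθr']; exact ⟨x, rfl⟩
  have hle : ι.range ⊔ e.range ≤ Subgroup.centralizer {φ} := by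
    apply sup_le
    · intro a ha
      rw [Subgroup.mem_centralizer_singleton_iff]
      rcases hAcases a ha with rfl | rfl | rfl | rfl
      · rw [one_mul, mul_one]
      · exact hφz.symm
      · rw [hy]
        have h1 : Commute φ ρ := hφρ
        have h2 : Commute φ z := hφz
        exact ((h1.mul_right h2).mul_right h1.inv_right).symm
      · rw [hy]
        have h1 : Commute φ ρ := hφρ
        have h2 : Commute φ z := hφz
        exact (h2.mul_right ((h1.mul_right h2).mul_right h1.inv_right)).symm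
    · intro t ht
      rw [Subgroup.mem_centralizer_singleton_iff]
      have h1 : Commute φ ρ := hφρ
      have h2 : Commute φ k := hφk
      obtain ⟨i, -, rfl | rfl⟩ := hr t ht
      · exact (h1.pow_right i).symm
      · exact (h2.mul_right (h1.pow_right i)).symm
  have hcomm : ∀ d, θ d * φ = φ * θ d := fun d =>
    Subgroup.mem_centralizer_singleton_iff.1 (hle (hθr d))
  have hρT : ρ ∈ e.range := by
    by_contra hcon
    have h1 : (e.range : Set H) ⊆ ({1, ρ ^ 2, k, k * ρ, k * ρ ^ 2} : Set H) := by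
      intro x hx
      obtain ⟨i, hi, rfl | rfl⟩ := hr x hx
      · interval_cases i
        · simp only [_root_.pow_zero, _root_.Set.mem_insert_iff, _root_.Set.mem_singleton_iff, _root_.true_or]
        · exfalso
          rw [pow_one] at hx
          exact hcon hx
        · simp only [_root_.Set.mem_insert_iff, _root_.Set.mem_singleton_iff, _root_.right_eq_mul, _root_.true_or, _root_.or_true]
      · interval_cases i <;> simp only [_root_.pow_zero, _root_.mul_one, _root_.Set.mem_insert_iff, _root_.left_eq_mul, _root_.Set.mem_singleton_iff, _root_.true_or, _root_.or_true, _root_.pow_one, _root_.mul_eq_left, _root_.mul_right_inj, _root_.mul_eq_right]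
    have h2 := Set.ncard_le_ncard h1 (by simp only [_root_.Set.finite_insert, _root_.Set.finite_singleton])
    have h3 : (e.range : Set H).ncard = 6 := by rw [← Nat.card_coe_set_eq]; exact hTcard
    have h4 : ({1, ρ ^ 2, k, k * ρ, k * ρ ^ 2} : Set H).ncard ≤ 5 := by
      refine (Set.ncard_insert_le _ _).trans ?_
      have h5 := Set.ncard_insert_le (ρ ^ 2) ({k, k * ρ, k * ρ ^ 2} : Set H)
      have h6 := Set.ncard_insert_le k ({k * ρ, k * ρ ^ 2} : Set H)
      have h7 := Set.ncard_insert_le (k * ρ) ({k * ρ ^ 2} : Set H)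
      rw [Set.ncard_singleton] at h7
      omega
    omega
  have hkT : k ∈ e.range := by
    by_contra hcon
    have h1 : (e.range : Set H) ⊆ ({1, ρ, ρ ^ 2, k * ρ, k * ρ ^ 2} : Set H) := by
      intro x hx
      obtain ⟨i, hi, rfl | rfl⟩ := hr x hx
      · interval_cases i <;> simp only [_root_.pow_zero, _root_.Set.mem_insert_iff, _root_.Set.mem_singleton_iff, _root_.true_or, _root_.pow_one, _root_.right_eq_mul, _root_.or_true]
      · interval_cases i
        · exfalso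
          rw [pow_zero, mul_one] at hx
          exact hcon hx
        · simp only [_root_.pow_one, _root_.Set.mem_insert_iff, _root_.mul_eq_right, _root_.Set.mem_singleton_iff, _root_.mul_right_inj, _root_.true_or, _root_.or_true]
        · simp only [_root_.Set.mem_insert_iff, _root_.mul_eq_right, _root_.mul_right_inj, _root_.Set.mem_singleton_iff, _root_.or_true]
    have h2 := Set.ncard_le_ncard h1 (by simp only [_root_.Set.finite_insert, _root_.Set.finite_singleton])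
    have h3 : (e.range : Set H).ncard = 6 := by rw [← Nat.card_coe_set_eq]; exact hTcard
    have h4 : ({1, ρ, ρ ^ 2, k * ρ, k * ρ ^ 2} : Set H).ncard ≤ 5 := by
      refine (Set.ncard_insert_le _ _).trans ?_
      have h5 := Set.ncard_insert_le ρ ({ρ ^ 2, k * ρ, k * ρ ^ 2} : Set H)
      have h6 := Set.ncard_insert_le (ρ ^ 2) ({k * ρ, k * ρ ^ 2} : Set H)
      have h7 := Set.ncard_insert_le (k * ρ) ({k * ρ ^ 2} : Set H)
      rw [Set.ncard_singleton] at h7
      omega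
    omega
  have hmem : ∀ x ∈ ι.range ⊔ e.range, ∃ d, θ d = x := by
    intro x hx
    rw [← hθr'] at hx
    exact hx
  refine ⟨θ, hθ, hcomm, ?_, hmem _ (Subgroup.mem_sup_right hρT), hmem _ (Subgroup.mem_sup_right hkT),
    hmem _ (Subgroup.mem_sup_left hzA)⟩
  -- surjectivity from the orders
  have hcen : ∀ (j : ℕ) (d : Equiv.Perm (Fin 4)), φ ^ j = θ d → f ∣ j := by
    intro j d hj
    have hcen : ∀ x, d * x = x * d := by
      intro x
      apply hθ
      rw [map_mul, map_mul, ← hj]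
      exact ((show Commute (θ x) φ from hcomm x).pow_right j).symm
    have h1 : ∀ y : Equiv.Perm (Fin 4), (∀ x, y * x = x * y) → y = 1 := by decide +kernel
    apply hint
    rw [hj, h1 _ hcen, map_one]
  let Θ : Equiv.Perm (Fin 4) × Fin f → H := fun p => θ p.1 * φ ^ (p.2 : ℕ)
  have hΘ : Function.Injective Θ := by
    rintro ⟨d, i⟩ ⟨d', i'⟩ h
    have h' : θ d * φ ^ (i : ℕ) = θ d' * φ ^ (i' : ℕ) := h
    have key : ∀ (i i' : ℕ) (d d' : Equiv.Perm (Fin 4)), i ≤ i' → i' < f → θ d * φ ^ i = θ d' * φ ^ i' → i = i' := by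
      intro i i' d d' hi hi' h
      have h1 : φ ^ (i' - i) = θ (d'⁻¹ * d) := by
        have h2 : φ ^ i' = φ ^ (i' - i) * φ ^ i := by rw [← pow_add, Nat.sub_add_cancel hi]
        rw [h2, ← mul_assoc] at h
        have h3 := mul_right_cancel h
        rw [map_mul, map_inv, h3, inv_mul_cancel_left]
      have h4 := hcen _ _ h1
      rcases Nat.eq_zero_or_pos (i' - i) with h5 | h5
      · omega
      · have := Nat.le_of_dvd h5 h4
        omega
    have hii : i = i' := by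
      apply Fin.ext
      rcases le_total (i : ℕ) i' with h1 | h1
      · exact key _ _ d d' h1 i'.2 h'
      · exact (key _ _ d' d h1 i.2 h'.symm).symm
    subst hii
    have h1 := hθ (mul_right_cancel h')
    rw [h1]
  have hbij : Function.Bijective Θ := by
    refine hΘ.bijective_of_nat_card_le ?_
    rw [hcard, Nat.card_prod, Nat.card_eq_fintype_card, Fintype.card_perm, Fintype.card_fin, Nat.card_eq_fintype_card,
      Fintype.card_fin]
    exact le_of_eq rfl
  intro h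
  obtain ⟨⟨d, i⟩, hdi⟩ := hbij.2 h
  exact ⟨d, i, hdi.symm⟩

/-! ### `S₄` -/

theorem cycleType_three {a : Equiv.Perm (Fin 4)} (h : orderOf a = 3) : a.cycleType = {3} := by
  obtain ⟨n, hn⟩ := Equiv.Perm.cycleType_prime_order (σ := a) (by rw [h]; exact Nat.prime_three)
  have h1 := Equiv.Perm.sum_cycleType a
  have h2 := Finset.card_le_univ a.support
  rw [hn, Multiset.sum_replicate, h, smul_eq_mul] at h1
  rw [Fintype.card_fin] at h2
  have h3 : n = 0 := by omega
  rw [hn, h3, h, zero_add, Multiset.replicate_one]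

theorem conj_three {a b : Equiv.Perm (Fin 4)} (ha : orderOf a = 3) (hb : orderOf b = 3) : IsConj a b := by
  rw [Equiv.Perm.isConj_iff_cycleType_eq, cycleType_three ha, cycleType_three hb]

theorem cycleType_two {a : Equiv.Perm (Fin 4)} (h : orderOf a = 2) :
    (a.cycleType = {2} ∧ Equiv.Perm.sign a = -1) ∨ (a.cycleType = {2, 2} ∧ Equiv.Perm.sign a = 1) := by
  obtain ⟨n, hn⟩ := Equiv.Perm.cycleType_prime_order (σ := a) (by rw [h]; exact Nat.prime_two)
  have h1 := Equiv.Perm.sum_cycleType a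
  have h2 := Finset.card_le_univ a.support
  rw [hn, Multiset.sum_replicate, h, smul_eq_mul] at h1
  rw [Fintype.card_fin] at h2
  have h3 : n = 0 ∨ n = 1 := by omega
  rw [h] at hn
  rcases h3 with rfl | rfl
  · left
    refine ⟨hn, ?_⟩
    rw [Equiv.Perm.sign_of_cycleType, hn]
    decide
  · right
    refine ⟨hn, ?_⟩
    rw [Equiv.Perm.sign_of_cycleType, hn]
    decide

theorem conj_two {a b : Equiv.Perm (Fin 4)} (ha : orderOf a = 2) (hb : orderOf b = 2)
    (hs : Equiv.Perm.sign a = Equiv.Perm.sign b) : IsConj a b := by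
  rw [Equiv.Perm.isConj_iff_cycleType_eq]
  rcases cycleType_two ha with ⟨h1, h2⟩ | ⟨h1, h2⟩ <;> rcases cycleType_two hb with ⟨h3, h4⟩ | ⟨h3, h4⟩
  · rw [h1, h3]
  · rw [h2, h4] at hs; exact absurd hs (by decide)
  · rw [h2, h4] at hs; exact absurd hs (by decide)
  · rw [h1, h3]

set_option maxRecDepth 100000 in
theorem comm_even : ∀ a b : Equiv.Perm (Fin 4), a * a = 1 → b * b = 1 → Equiv.Perm.sign a = 1 → Equiv.Perm.sign b = 1 →
    a * b = b * a := by
  decide +kernel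

/-- the types of the three elements -/
theorem types {r κ ζ : Equiv.Perm (Fin 4)} (hr3 : r ^ 3 = 1) (hr : r ≠ 1) (hκ : κ * κ = 1) (hκ1 : κ ≠ 1)
    (hζ : ζ * ζ = 1) (hζ1 : ζ ≠ 1) (h1 : κ * (r * ζ * r⁻¹) * κ⁻¹ = ζ * (r * ζ * r⁻¹)) :
    orderOf r = 3 ∧ orderOf κ = 2 ∧ orderOf ζ = 2 ∧ Equiv.Perm.sign κ = -1 ∧ Equiv.Perm.sign ζ = 1 := by
  have hs : Equiv.Perm.sign ζ = 1 := by
    have h2 := congrArg Equiv.Perm.sign h1
    simp only [map_mul, map_inv] at h2
    have h3 : ∀ x y w : ℤˣ, x * (y * w * y⁻¹) * x⁻¹ = w * (y * w * y⁻¹) → w = 1 := by decide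
    exact h3 _ _ _ h2
  refine ⟨orderOf_eq_prime hr3 hr, orderOf_eq_prime (by rw [pow_two, hκ]) hκ1, orderOf_eq_prime (by rw [pow_two, hζ]) hζ1,
    ?_, hs⟩
  rcases Int.units_eq_one_or (Equiv.Perm.sign κ) with h | h
  · exfalso
    have h2 : (r * ζ * r⁻¹) * (r * ζ * r⁻¹) = 1 := by
      have : (r * ζ * r⁻¹) * (r * ζ * r⁻¹) = r * (ζ * ζ) * r⁻¹ := by group
      rw [this, hζ]; group
    have h3 : Equiv.Perm.sign (r * ζ * r⁻¹) = 1 := by
      rw [map_mul, map_mul, map_inv, hs, mul_one, mul_inv_cancel]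
    have h4 := comm_even κ (r * ζ * r⁻¹) hκ h2 h h3
    rw [h4, mul_inv_cancel_right] at h1
    exact hζ1 (mul_eq_right.1 h1.symm)
  · exact h

/-- **The classes of elements of prime order.** -/
theorem four_class [Finite H] {f : ℕ} (hcard : Nat.card H = 24 * f) {ρ k z φ : H}
    (hρ3 : ρ ^ 3 = 1) (hk : k * k = 1) (hkρ : k * ρ * k⁻¹ = ρ⁻¹) (hz : z * z = 1) (hz1 : z ≠ 1)
    (hzk : k * z = z * k) (hkz : k * (ρ * z * ρ⁻¹) * k⁻¹ = z * (ρ * z * ρ⁻¹))
    (hφρ : φ * ρ = ρ * φ) (hφk : φ * k = k * φ) (hφz : φ * z = z * φ)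
    (hint : ∀ j : ℕ, φ ^ j = 1 → f ∣ j) {h : H} {s : ℕ} (hs : s.Prime) (hh : orderOf h = s) :
    ∃ (g x : H) (j : ℕ), g * h * g⁻¹ = x * φ ^ j ∧ (φ ^ j) ^ s = 1 ∧
      (x = 1 ∨ (x = ρ ∧ s = 3) ∨ (x = k ∧ s = 2) ∨ (x = z ∧ s = 2)) := by
  obtain ⟨θ, hθ, hcomm, hall, ⟨r, hr⟩, ⟨κ, hκ⟩, ⟨ζ, hζ⟩⟩ := s4_struct hcard hρ3 hk hkρ hz hz1 hzk hkz hφρ hφk hφz hint
  have hcp : ∀ d (j : ℕ), Commute (θ d) (φ ^ j) := fun d j => (show Commute (θ d) φ from hcomm d).pow_right j
  obtain ⟨d, j, rfl⟩ := hall h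
  have hpow : θ (d ^ s) * (φ ^ j) ^ s = 1 := by
    have h1 : (θ d * φ ^ j) ^ s = 1 := by rw [← hh, pow_orderOf_eq_one]
    rwa [(hcp d j).mul_pow, ← map_pow] at h1
  have hds : d ^ s = 1 := by
    have hcen : ∀ x, d ^ s * x = x * d ^ s := by
      intro x
      apply hθ
      have h2 : θ (d ^ s) = ((φ ^ j) ^ s)⁻¹ := eq_inv_of_mul_eq_one_left hpow
      rw [map_mul, map_mul, h2]
      exact (((hcp x j).pow_right s).inv_right).symm.eq
    have h1 : ∀ y : Equiv.Perm (Fin 4), (∀ x, y * x = x * y) → y = 1 := by decide +kernel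
    exact h1 _ hcen
  have hφs : (φ ^ j) ^ s = 1 := by rwa [hds, map_one, one_mul] at hpow
  by_cases hd : d = 1
  · exact ⟨1, 1, j, by rw [hd, map_one]; group, hφs, Or.inl rfl⟩
  have hdo : orderOf d = s := orderOf_eq_prime (hp := ⟨hs⟩) hds hd
  have hsd : s ∣ 24 := by
    rw [← hdo]
    have h1 := orderOf_dvd_card (x := d)
    rwa [Fintype.card_perm, Fintype.card_fin] at h1
  have hr3 : r ^ 3 = 1 := hθ (by rw [map_pow, hr, hρ3, map_one])
  have hκ2 : κ * κ = 1 := hθ (by rw [map_mul, hκ, hk, map_one])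
  have hζ2 : ζ * ζ = 1 := hθ (by rw [map_mul, hζ, hz, map_one])
  have hζ1 : ζ ≠ 1 := by
    rintro rfl
    rw [map_one] at hζ
    exact hz1 hζ.symm
  have hrel : κ * (r * ζ * r⁻¹) * κ⁻¹ = ζ * (r * ζ * r⁻¹) := hθ (by
    simp only [map_mul, map_inv, hκ, hr, hζ]
    exact hkz)
  have hκ1 : κ ≠ 1 := by
    rintro rfl
    have h1 : r * ζ * r⁻¹ = ζ * (r * ζ * r⁻¹) := by
      have : (1 : Equiv.Perm (Fin 4)) * (r * ζ * r⁻¹) * 1⁻¹ = r * ζ * r⁻¹ := by group
      rw [this] at hrel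
      exact hrel
    exact hζ1 (mul_eq_right.1 h1.symm)
  have hr1 : r ≠ 1 := by
    rintro rfl
    have h1 : κ * ζ * κ⁻¹ = ζ * ζ := by
      have e1 : (1 : Equiv.Perm (Fin 4)) * ζ * 1⁻¹ = ζ := by group
      rwa [e1] at hrel
    rw [hζ2] at h1
    apply hζ1
    calc ζ = κ⁻¹ * (κ * ζ * κ⁻¹) * κ := by group
      _ = 1 := by rw [h1]; group
  obtain ⟨t1, t2, t3, t4, t5⟩ := types hr3 hr1 hκ2 hκ1 hζ2 hζ1 hrel
  have hconj : ∀ b, IsConj d b → ∃ g, g * (θ d * φ ^ j) * g⁻¹ = θ b * φ ^ j := by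
    intro b hb
    obtain ⟨c, hc⟩ := isConj_iff.1 hb
    refine ⟨θ c, ?_⟩
    calc θ c * (θ d * φ ^ j) * (θ c)⁻¹ = θ c * θ d * (φ ^ j * (θ c)⁻¹) := by group
      _ = θ c * θ d * ((θ c)⁻¹ * φ ^ j) := by rw [((hcp c j).inv_left).symm.eq]
      _ = θ (c * d * c⁻¹) * φ ^ j := by rw [map_mul, map_mul, map_inv]; group
      _ = θ b * φ ^ j := by rw [hc]
  have h23 : s = 2 ∨ s = 3 := by
    have h1 : s ∣ 2 ^ 3 * 3 := hsd
    rcases (Nat.Prime.dvd_mul hs).1 h1 with h | h
    · left; exact (Nat.prime_dvd_prime_iff_eq hs Nat.prime_two).1 (hs.dvd_of_dvd_pow h)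
    · right; exact (Nat.prime_dvd_prime_iff_eq hs Nat.prime_three).1 h
  rcases h23 with rfl | rfl
  · rcases cycleType_two hdo with ⟨-, h1⟩ | ⟨-, h1⟩
    · obtain ⟨g, hg⟩ := hconj κ (conj_two hdo t2 (by rw [h1, t4]))
      exact ⟨g, k, j, by rw [hg, hκ], hφs, Or.inr (Or.inr (Or.inl ⟨rfl, rfl⟩))⟩
    · obtain ⟨g, hg⟩ := hconj ζ (conj_two hdo t3 (by rw [h1, t5]))
      exact ⟨g, z, j, by rw [hg, hζ], hφs, Or.inr (Or.inr (Or.inr ⟨rfl, rfl⟩))⟩
  · obtain ⟨g, hg⟩ := hconj r (conj_three hdo t1)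
    exact ⟨g, ρ, j, by rw [hg, hr], hφs, Or.inr (Or.inl ⟨rfl, rfl⟩)⟩

end

end Cfsg.Agent.H425.OF
end

-- part: H382/Own5Abs
section
prune_inst 0x4f57067447e4202000000809663001c56ea0005b2004808009000044e0d8f5e2a0dc22860e6b019169aaa04850831006813100180424000000e000400011d01a0808850041301ad0cb6008f803887180c00000000000000000000000000041004000000000
set_option linter.all false
open scoped Cfsg.Agent.FastGrp

/-!
# Modules in characteristic 5 with an extraspecial block (helper382)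

* `block` : a ring identity: a group of order 5 acting fixed point freely on an elementary abelian group of order 16;
* `ten` : elements of order 10;
* `Cfg`, `own5` : a simple group with a configuration `Cfg` and without elements of order 50.
-/

set_option autoImplicit false

namespace Cfsg.Agent.H382.Own5

open Finset

/-- the elementary abelian group of order 16 -/
abbrev A : Type := Fin 4 → ℤˣ

/-- an automorphism of order 5 -/
def T (a : A) : A := ![a 3, a 0 * a 3, a 1 * a 3, a 2 * a 3]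

theorem card_A : Fintype.card A = 16 := by decide

theorem inj_aux : ∀ i : Fin 4, ∀ a b : A, a * (T^[i.1 + 1]) a⁻¹ = b * (T^[i.1 + 1]) b⁻¹ → a = b := by
  decide

theorem T_inj {i : ℕ} (h1 : 1 ≤ i) (h4 : i ≤ 4) : Function.Injective (fun a : A => a * (T^[i]) a⁻¹) := by
  intro a b h
  obtain ⟨j, rfl⟩ : ∃ j, i = j + 1 := ⟨i - 1, by omega⟩
  exact inj_aux ⟨j, by omega⟩ a b h

/-- **The block lemma.** -/
theorem block {R : Type*} [Ring R] (h5 : (5 : R) = 0) (e : A → R) (U P : R) (h1 : e 1 * P = P)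
    (hmul : ∀ a b, e a * e b * P = e (a * b) * P) (hU : ∀ a, U * e a * P = e (T a) * U * P)
    (hPe : ∀ a, P * e a = e a * P) (hPU : P * U = U * P) (hN : (∑ i ∈ range 5, U ^ i) * P = 0) (c : A) :
    e c * P = P := by
  have hPUi : ∀ i, P * U ^ i = U ^ i * P := fun i => (Commute.pow_right (show Commute P U from hPU) i).eq
  have hUi : ∀ i a, U ^ i * e a * P = e ((T^[i]) a) * U ^ i * P := by
    intro i
    induction i with
    | zero => intro a; simp
    | succ i ih =>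
      intro a
      calc U ^ (i + 1) * e a * P = U ^ i * (U * e a * P) := by rw [pow_succ]; noncomm_ring
        _ = U ^ i * e (T a) * P * U := by rw [hU, mul_assoc (e (T a)), ← hPU]; noncomm_ring
        _ = e ((T^[i]) (T a)) * U ^ i * (P * U) := by rw [ih]; noncomm_ring
        _ = e ((T^[i + 1]) a) * U ^ (i + 1) * P := by
          rw [hPU, Function.iterate_succ_apply, pow_succ]; noncomm_ring
  have hterm : ∀ i a, e a * U ^ i * e a⁻¹ * P = e (a * (T^[i]) a⁻¹) * P * U ^ i := by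
    intro i a
    calc e a * U ^ i * e a⁻¹ * P = e a * (U ^ i * e a⁻¹ * P) := by noncomm_ring
      _ = e a * e ((T^[i]) a⁻¹) * (U ^ i * P) := by rw [hUi]; noncomm_ring
      _ = (e a * e ((T^[i]) a⁻¹) * P) * U ^ i := by rw [← hPUi]; noncomm_ring
      _ = _ := by rw [hmul]
  set S : R := ∑ b : A, e b with hS
  have hsum : ∀ i, 1 ≤ i → i ≤ 4 → ∑ a : A, e (a * (T^[i]) a⁻¹) = S := by
    intro i hi hi'
    exact (Equiv.ofBijective _ ((Fintype.bijective_iff_injective_and_card _).2 ⟨T_inj hi hi', rfl⟩)).sum_comp e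
  have hz : ∀ a : A, e a * (∑ i ∈ range 5, U ^ i) * e a⁻¹ * P = 0 := by
    intro a
    calc e a * (∑ i ∈ range 5, U ^ i) * e a⁻¹ * P = e a * ((∑ i ∈ range 5, U ^ i) * P) * e a⁻¹ := by
          rw [mul_assoc _ (e a⁻¹) P, ← hPe]; noncomm_ring
      _ = 0 := by rw [hN]; simp
  have h2 : ∑ a : A, ∑ i ∈ range 5, e (a * (T^[i]) a⁻¹) * P * U ^ i = 0 := by
    rw [Finset.sum_eq_zero]
    intro a _
    rw [← hz a, Finset.mul_sum, Finset.sum_mul, Finset.sum_mul]
    exact Finset.sum_congr rfl fun i _ => (hterm i a).symm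
  rw [Finset.sum_comm] at h2
  have h3 : ∀ i, ∑ a : A, e (a * (T^[i]) a⁻¹) * P * U ^ i = (∑ a : A, e (a * (T^[i]) a⁻¹)) * P * U ^ i := by
    intro i
    rw [Finset.sum_mul, Finset.sum_mul]
  have h4 : (16 : R) * P + S * P * (U + U ^ 2 + U ^ 3 + U ^ 4) = 0 := by
    rw [← h2, Finset.sum_congr rfl fun i _ => h3 i]
    rw [Finset.sum_range_succ, Finset.sum_range_succ, Finset.sum_range_succ, Finset.sum_range_succ,
      Finset.sum_range_one, hsum 1 le_rfl (by norm_num), hsum 2 (by norm_num) (by norm_num),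
      hsum 3 (by norm_num) (by norm_num), hsum 4 (by norm_num) (by norm_num)]
    have h6 : (∑ a : A, e (a * (T^[0]) a⁻¹)) * P = 16 * P := by
      have h7 : ∀ a : A, e (a * (T^[0]) a⁻¹) = e 1 := fun a => by simp
      rw [Finset.sum_congr rfl fun a _ => h7 a, Finset.sum_const, Finset.card_univ, card_A, smul_mul_assoc, h1,
        nsmul_eq_mul]
      norm_num
    rw [h6]
    noncomm_ring
  have h5' : e c * (S * P) = S * P := by
    rw [hS, Finset.sum_mul, Finset.mul_sum]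
    rw [← Equiv.sum_comp (Equiv.mulLeft c) (fun b => e b * P)]
    refine Finset.sum_congr rfl fun b _ => ?_
    rw [← mul_assoc, hmul]
    rfl
  have h6 : (16 : R) * (e c * P) + S * P * (U + U ^ 2 + U ^ 3 + U ^ 4) = 0 := by
    have h7 : e c * ((16 : R) * P + S * P * (U + U ^ 2 + U ^ 3 + U ^ 4)) = 0 := by rw [h4, mul_zero]
    have h9 : e c * 16 = 16 * e c := by
      have := (Nat.cast_commute 16 (e c)).eq
      push_cast at this
      exact this.symm
    rw [mul_add, ← mul_assoc (e c) (S * P), h5', ← mul_assoc, h9] at h7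
    rw [← mul_assoc]
    exact h7
  have h7 : (16 : R) * (e c * P) = 16 * P := by
    have := h6.trans h4.symm
    exact add_right_cancel this
  have h8 : ∀ x : R, (16 : R) * x = x := by
    intro x
    have : (16 : R) = 1 + 3 * 5 := by norm_num
    rw [this, h5, mul_zero, add_zero, one_mul]
  rwa [h8, h8] at h7

/-- A configuration with an (extra)special group of order 16. -/
structure Cfg {G : Type*} [Group G] (z z' u s : G) (e : A → G) : Prop where
  z2 : z * z = 1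
  z1 : z ≠ 1
  zu : z * u = u * z
  u5 : u ^ 5 = 1
  ze : ∀ a, z * e a = e a * z
  one : e 1 = 1
  mul : ∀ a b, e a * e b = e (a * b) ∨ e a * e b = e (a * b) * z
  conj : ∀ a, u * e a = e (T a) * u ∨ u * e a = e (T a) * u * z
  mem : ∃ a, e a = z'
  s1 : s * z = z' * s
  s2 : s * z' = z * s
  ne : z * z' ≠ 1

end Cfsg.Agent.H382.Own5
end

-- part: H382/Own5Tab
section
set_option linter.all false
open scoped Cfsg.Agent.FastGrp

/-!
# An extraspecial block in `Sp₆(5)` (helper382)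
-/

set_option autoImplicit false

namespace Cfsg.Agent.H382.Own5

open Matrix

/-- the index of an element of `A` -/
def idx (a : A) : Fin 16 :=
  (if a 0 = 1 then 0 else 1) + (if a 1 = 1 then 0 else 2) + (if a 2 = 1 then 0 else 4) + (if a 3 = 1 then 0 else 8)

/-- matrices of degree 6 over `ZMod 5` -/
abbrev M6 := Matrix (Fin 3 ⊕ Fin 3) (Fin 3 ⊕ Fin 3) (ZMod 5)

/-- the 16 matrices -/
def tab : Fin 16 → M6 :=
  ![fromBlocks !![1, 0, 0; 0, 1, 0; 0, 0, 1] !![0, 0, 0; 0, 0, 0; 0, 0, 0] !![0, 0, 0; 0, 0, 0; 0, 0, 0] !![1, 0, 0; 0, 1, 0; 0, 0, 1],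
    fromBlocks !![1, 0, 0; 0, 4, 0; 0, 0, 1] !![0, 0, 0; 0, 0, 0; 0, 0, 0] !![0, 0, 0; 0, 0, 0; 0, 0, 0] !![1, 0, 0; 0, 4, 0; 0, 0, 1],
    fromBlocks !![1, 0, 0; 0, 0, 1; 0, 1, 0] !![0, 0, 0; 0, 0, 0; 0, 0, 0] !![0, 0, 0; 0, 0, 0; 0, 0, 0] !![1, 0, 0; 0, 0, 1; 0, 1, 0],
    fromBlocks !![1, 0, 0; 0, 0, 4; 0, 1, 0] !![0, 0, 0; 0, 0, 0; 0, 0, 0] !![0, 0, 0; 0, 0, 0; 0, 0, 0] !![1, 0, 0; 0, 0, 4; 0, 1, 0],
    fromBlocks !![1, 0, 0; 0, 0, 3; 0, 2, 0] !![0, 0, 0; 0, 0, 0; 0, 0, 0] !![0, 0, 0; 0, 0, 0; 0, 0, 0] !![1, 0, 0; 0, 0, 2; 0, 3, 0],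
    fromBlocks !![1, 0, 0; 0, 0, 2; 0, 2, 0] !![0, 0, 0; 0, 0, 0; 0, 0, 0] !![0, 0, 0; 0, 0, 0; 0, 0, 0] !![1, 0, 0; 0, 0, 3; 0, 3, 0],
    fromBlocks !![1, 0, 0; 0, 2, 0; 0, 0, 3] !![0, 0, 0; 0, 0, 0; 0, 0, 0] !![0, 0, 0; 0, 0, 0; 0, 0, 0] !![1, 0, 0; 0, 3, 0; 0, 0, 2],
    fromBlocks !![1, 0, 0; 0, 3, 0; 0, 0, 3] !![0, 0, 0; 0, 0, 0; 0, 0, 0] !![0, 0, 0; 0, 0, 0; 0, 0, 0] !![1, 0, 0; 0, 2, 0; 0, 0, 2],
    fromBlocks !![1, 0, 0; 0, 0, 0; 0, 0, 0] !![0, 0, 0; 0, 0, 4; 0, 1, 0] !![0, 0, 0; 0, 0, 1; 0, 4, 0] !![1, 0, 0; 0, 0, 0; 0, 0, 0],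
    fromBlocks !![1, 0, 0; 0, 0, 0; 0, 0, 0] !![0, 0, 0; 0, 0, 1; 0, 1, 0] !![0, 0, 0; 0, 0, 4; 0, 4, 0] !![1, 0, 0; 0, 0, 0; 0, 0, 0],
    fromBlocks !![1, 0, 0; 0, 0, 0; 0, 0, 0] !![0, 0, 0; 0, 1, 0; 0, 0, 4] !![0, 0, 0; 0, 4, 0; 0, 0, 1] !![1, 0, 0; 0, 0, 0; 0, 0, 0],
    fromBlocks !![1, 0, 0; 0, 0, 0; 0, 0, 0] !![0, 0, 0; 0, 4, 0; 0, 0, 4] !![0, 0, 0; 0, 1, 0; 0, 0, 1] !![1, 0, 0; 0, 0, 0; 0, 0, 0],
    fromBlocks !![1, 0, 0; 0, 0, 0; 0, 0, 0] !![0, 0, 0; 0, 3, 0; 0, 0, 3] !![0, 0, 0; 0, 3, 0; 0, 0, 3] !![1, 0, 0; 0, 0, 0; 0, 0, 0],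
    fromBlocks !![1, 0, 0; 0, 0, 0; 0, 0, 0] !![0, 0, 0; 0, 2, 0; 0, 0, 3] !![0, 0, 0; 0, 2, 0; 0, 0, 3] !![1, 0, 0; 0, 0, 0; 0, 0, 0],
    fromBlocks !![1, 0, 0; 0, 0, 0; 0, 0, 0] !![0, 0, 0; 0, 0, 3; 0, 3, 0] !![0, 0, 0; 0, 0, 3; 0, 3, 0] !![1, 0, 0; 0, 0, 0; 0, 0, 0],
    fromBlocks !![1, 0, 0; 0, 0, 0; 0, 0, 0] !![0, 0, 0; 0, 0, 2; 0, 3, 0] !![0, 0, 0; 0, 0, 2; 0, 3, 0] !![1, 0, 0; 0, 0, 0; 0, 0, 0]]

/-- the element of order 5 -/
def um : M6 := fromBlocks !![1, 0, 0; 0, 2, 4; 0, 3, 4] !![0, 0, 0; 0, 2, 4; 0, 3, 4] !![0, 0, 0; 0, 3, 4; 0, 2, 4] !![1, 0, 0; 0, 2, 1; 0, 3, 1]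

/-- the involution -/
def wm : M6 := fromBlocks !![1, 0, 0; 0, 4, 0; 0, 0, 4] !![0, 0, 0; 0, 0, 0; 0, 0, 0] !![0, 0, 0; 0, 0, 0; 0, 0, 0] !![1, 0, 0; 0, 4, 0; 0, 0, 4]

/-- the permutation of the planes -/
def sm : M6 := fromBlocks !![0, 1, 0; 1, 0, 0; 0, 0, 1] 0 0 !![0, 1, 0; 1, 0, 0; 0, 0, 1]

theorem tab_sp : ∀ i, tab i ∈ symplecticGroup (Fin 3) (ZMod 5) := by
  have h : ∀ i, tab i * J (Fin 3) (ZMod 5) * (tab i)ᵀ = J (Fin 3) (ZMod 5) := by decide +kernel
  exact fun i => SymplecticGroup.mem_iff.2 (h i)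

theorem um_sp : um ∈ symplecticGroup (Fin 3) (ZMod 5) := by
  have h : um * J (Fin 3) (ZMod 5) * umᵀ = J (Fin 3) (ZMod 5) := by decide +kernel
  exact SymplecticGroup.mem_iff.2 h

theorem wm_sp : wm ∈ symplecticGroup (Fin 3) (ZMod 5) := by
  have h : wm * J (Fin 3) (ZMod 5) * wmᵀ = J (Fin 3) (ZMod 5) := by decide +kernel
  exact SymplecticGroup.mem_iff.2 h

theorem sm_sp : sm ∈ symplecticGroup (Fin 3) (ZMod 5) := by
  have h : sm * J (Fin 3) (ZMod 5) * smᵀ = J (Fin 3) (ZMod 5) := by decide +kernel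
  exact SymplecticGroup.mem_iff.2 h

private def en (n r c : ℕ) : ℕ := Nat.land (Nat.shiftRight n (Nat.mul 3 (Nat.add (Nat.mul 6 r) c))) 7

private def ix : Fin 3 ⊕ Fin 3 → ℕ := Sum.elim (fun i => i.val) fun i => 3 + i.val

private def mat (n : ℕ) : M6 := Matrix.of fun r c => ((en n (ix r) (ix c) : ℕ) : ZMod 5)

private def ck (m n p : ℕ) : Bool := [0, 1, 2, 3, 4, 5].all fun r => [0, 1, 2, 3, 4, 5].all fun c =>
  Nat.beq (Nat.mod (Nat.add (Nat.add (Nat.add (Nat.mul (en m r 0) (en n 0 c)) (Nat.mul (en m r 1) (en n 1 c)))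
    (Nat.mul (en m r 2) (en n 2 c))) (Nat.add (Nat.add (Nat.mul (en m r 3) (en n 3 c)) (Nat.mul (en m r 4) (en n 4 c)))
    (Nat.mul (en m r 5) (en n 5 c)))) 5) (en p r c)

private theorem mat_mul {m n p : ℕ} (h : ck m n p = true) : mat m * mat n = mat p := by
  ext r c
  have hi : ∀ r, ix r ∈ [0, 1, 2, 3, 4, 5] := by decide
  have h1 := Nat.eq_of_beq_eq_true (List.all_eq_true.1 (List.all_eq_true.1 h _ (hi r)) _ (hi c))
  rw [Matrix.mul_apply, Fintype.sum_sum_type, Fin.sum_univ_three, Fin.sum_univ_three]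
  refine Eq.trans ?_ ((ZMod.natCast_mod _ 5).symm.trans (congrArg Nat.cast h1))
  simp only [Nat.add_eq, Nat.mul_eq, Nat.cast_add, Nat.cast_mul]
  rfl

private def cT (i : Fin 16) : ℕ := List.getD
  [0x200001000008000040000200001, 0x200004000008000040000800001, 0x40008000008000008001000001,
    0x40020000008000008004000001, 0xc0010000008000010003000001, 0xc0018000008000010002000001,
    0x4000030000080000c0000400001, 0x4000020000080000c0000600001, 0x800040008001000800000001,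
    0x800100008001000200000001, 0x1000020008020000040000001, 0x1000008008020000100000001,
    0x30000180080180000c0000001, 0x3000010008018000080000001, 0x6000c0008003000600000001,
    0x600080008003000400000001] i 0

private def cW (i : Fin 16) : ℕ := List.getD
  [0x800004000008000100000800001, 0x800001000008000100000200001, 0x100020000008000020004000001,
    0x100008000008000020001000001, 0x80018000008000018002000001, 0x80010000008000018003000001,
    0x600002000008000080000600001, 0x600003000008000080000400001, 0x200100008004000200000001,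
    0x200040008004000800000001, 0x4000008008008000100000001, 0x4000020008008000040000001,
    0x2000010008010000080000001, 0x20000180080100000c0000001, 0x400080008002000400000001,
    0x4000c0008002000600000001] i 0

private theorem tab_eq : ∀ i, tab i = mat (cT i) := by decide +kernel

private theorem tab_wm (i : Fin 16) : tab i * wm = mat (cW i) := by
  rw [tab_eq, show wm = mat 0x800004000008000100000800001 by decide +kernel]
  exact mat_mul ((by decide +kernel : ∀ i, ck (cT i) 0x800004000008000100000800001 (cW i) = true) i)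

theorem tab_mul : ∀ a b : A, tab (idx a) * tab (idx b) = tab (idx (a * b)) ∨
    tab (idx a) * tab (idx b) = tab (idx (a * b)) * wm := fun a b => by
  rw [tab_wm, tab_eq, tab_eq, tab_eq]
  exact ((by decide +kernel : ∀ a b : A, ck (cT (idx a)) (cT (idx b)) (cT (idx (a * b))) = true ∨
    ck (cT (idx a)) (cT (idx b)) (cW (idx (a * b))) = true) a b).imp mat_mul mat_mul

theorem um_tab : ∀ a : A, um * tab (idx a) = tab (idx (T a)) * um ∨
    um * tab (idx a) = tab (idx (T a)) * um * wm := by decide +kernel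

theorem wm_tab : ∀ a : A, wm * tab (idx a) = tab (idx a) * wm := by decide +kernel

theorem um_five : um ^ 5 = 1 := by decide +kernel

theorem wm_two : wm * wm = 1 := by decide +kernel

theorem wm_um : wm * um = um * wm := by decide +kernel

theorem tab_one : tab (idx 1) = 1 := by decide +kernel

theorem sm_wm : sm * wm = -(tab 1 * sm) := by decide +kernel

theorem sm_tab : sm * tab 1 = -(wm * sm) := by decide +kernel

end Cfsg.Agent.H382.Own5
end

-- part: H376/Six/Elim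
section
set_option linter.all false

/-!
# What is used of the simple section in the elimination (helper376)

`G` isospectral to `C₃(q)`, `B₃(q)`, `D₄(q)`, `K` the solvable radical, `S ≤ G / K ≤ Aut S`.

* `E5 q S` (`q = 5 ^ m`), `E2 q S` (`q = 2 ^ m`) : the facts about `S`; proved in `H376/Six/FromRed.lean`;
* `NoFrob c q S` : no element of prime order `r ∣ ap q * am q` normalises but does not centralise a `t`-subgroup of `S`,
  `t ≠ c, r`.
-/

set_option autoImplicit false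

namespace Cfsg.Agent.H376.Six

universe u v

/-- no element of prime order `r ∣ ap q * am q` acts nontrivially on a `t`-subgroup of `S`, `t ≠ c` -/
def NoFrob (c q : ℕ) (S : Type u) [Group S] : Prop :=
  ∀ r : ℕ, r.Prime → r ∣ ap q * am q → ∀ t : ℕ, t.Prime → t ≠ c → t ≠ r → ∀ U : Subgroup S, IsPGroup t U →
    ∀ y : S, orderOf y = r → (∀ u ∈ U, y * u * y⁻¹ ∈ U) → ∀ u ∈ U, y * u = u * y

/-- `S` is `A₇` or `PSL₂(u)`, `u` odd -/
def AL2 (S : Type u) [Group S] : Prop :=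
  Nonempty (S ≃* alternatingGroup (Fin 7)) ∨
    (∃ (F : Type) (_ : Field F) (_ : Fintype F), Odd (Fintype.card F) ∧
      Nonempty (S ≃* Matrix.ProjectiveSpecialLinearGroup (Fin 2) F))

/-- the facts about `S`, `q = 5 ^ m` -/
structure E5 (q : ℕ) (S : Type u) [Group S] : Prop where
  pow : ∃ m, 1 ≤ m ∧ q = 5 ^ m
  ub : ∀ x : S, orderOf x ∣ (q ^ 3 - 1) / 2 ∨ orderOf x ∣ (q ^ 3 + 1) / 2 ∨ orderOf x ∣ (q ^ 4 - 1) / 4 ∨
    orderOf x ∣ 5 * (q ^ 2 + 1) ∨ orderOf x ∣ 5 * (q ^ 2 - 1) ∨ orderOf x ∣ 25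
  minus : AL2 S ∨ ∃ x : S, orderOf x = am q
  five : ((∃ x : S, orderOf x = ap q) ∧ (∃ x : S, orderOf x = am q) ∧ (NoFrob 5 q S ∨ 5 ∣ Nat.card (Cfsg.Out S))) ∨
    (∃ x : S, orderOf x = 25)
  pm : ∀ r s : ℕ, r.Prime → s.Prime → r ∣ ap q → s ∣ am q → r ∣ Nat.card S ∨ s ∣ Nat.card S
  pf : ∀ r t : ℕ, r.Prime → t.Prime → r ∣ ap q → t ∣ (q ^ 2 + 1) / 2 → r ∣ Nat.card S ∨ t ∣ Nat.card S
  mf : ∀ s t : ℕ, s.Prime → t.Prime → s ∣ am q → t ∣ (q ^ 2 + 1) / 2 → s ∣ Nat.card S ∨ t ∣ Nat.card S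
  cov : ∀ t : ℕ, t.Prime → t ∣ (q ^ 2 + 1) / 2 → ¬ t ∣ Nat.card S → ¬ t ∣ Nat.card (Cfsg.Out S) →
    (∃ x : S, orderOf x = ap q) ∧ (∃ x : S, orderOf x = am q) ∧ NoFrob t q S

/-- the facts about `S`, `q = 2 ^ m` -/
structure E2 (q : ℕ) (S : Type u) [Group S] : Prop where
  pow : ∃ m, 2 ≤ m ∧ q = 2 ^ m
  ub : ∀ x : S, orderOf x ∣ q ^ 3 - 1 ∨ orderOf x ∣ q ^ 3 + 1 ∨ orderOf x ∣ q ^ 4 - 1 ∨
    orderOf x ∣ 2 * (q ^ 2 + 1) ∨ orderOf x ∣ 2 * (q ^ 2 - 1) ∨ orderOf x ∣ 4 * (q + 1) ∨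
    orderOf x ∣ 4 * (q - 1) ∨ orderOf x ∣ 8
  main : AL2 S ∨ ((∃ x : S, orderOf x = ap q) ∧ (∃ x : S, orderOf x = am q) ∧
    (NoFrob 2 q S ∨ 2 ∣ Nat.card (Cfsg.Out S) ∨ ∃ x : S, orderOf x = 8))
  eight : ((∃ x : S, orderOf x = ap q) ∧ (∃ x : S, orderOf x = am q)) ∨ (∃ x : S, orderOf x = 8)
  pm : ∀ r s : ℕ, r.Prime → s.Prime → r ∣ ap q → s ∣ am q → r ∣ Nat.card S ∨ s ∣ Nat.card S
  pf : ∀ r t : ℕ, r.Prime → t.Prime → r ∣ ap q → t ∣ q ^ 2 + 1 → r ∣ Nat.card S ∨ t ∣ Nat.card S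
  mf : ∀ s t : ℕ, s.Prime → t.Prime → s ∣ am q → t ∣ q ^ 2 + 1 → s ∣ Nat.card S ∨ t ∣ Nat.card S
  cov : ∀ t : ℕ, t.Prime → t ∣ q ^ 2 + 1 → ¬ t ∣ Nat.card S → ¬ t ∣ Nat.card (Cfsg.Out S) →
    (∃ x : S, orderOf x = ap q) ∧ (∃ x : S, orderOf x = am q) ∧ NoFrob t q S

end Cfsg.Agent.H376.Six
end

-- part: H772/Six/PslTwo
section
set_option linter.all false
open scoped Cfsg.Agent.FastGrp

/-!
# `PSL₂(q³)` is not the section of a group isospectral to `C₃(q)`, `B₃(q)`, `D₄(q)` (helper772)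

* `not_psl_five`, `not_psl_two` : `q = 5 ^ m`, `q = 2 ^ m`;
* `cov_psl_thirteen` : `PSL₂(13)`, characteristic `17`, `q = 4`.
-/

set_option autoImplicit false

namespace Cfsg.Agent.H772.Six

open Matrix Cfsg.Agent.H376.Six Cfsg.Agent.H270.Crit.LTwo

section psl
variable {F : Type*} [Field F]

theorem up_mul (b c : F) : up b * up c = up (b + c) := by
  obtain ⟨b1, b2, b3, b4⟩ := mul_entries (up b) (up c)
  rw [ext_iff', b1, b2, b3, b4]
  simp only [up00, up01, up10, up11]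
  refine ⟨?_, ?_, ?_, ?_⟩ <;> ring

theorem dg_up (a : Fˣ) (b : F) : dg a * up b = up ((a : F) ^ 2 * b) * dg a := by
  obtain ⟨b1, b2, b3, b4⟩ := mul_entries (dg a) (up b)
  obtain ⟨c1, c2, c3, c4⟩ := mul_entries (up ((a : F) ^ 2 * b)) (dg a)
  rw [ext_iff', b1, b2, b3, b4, c1, c2, c3, c4]
  simp only [up00, up01, up10, up11, dg00, dg01, dg10, dg11]
  refine ⟨?_, ?_, ?_, ?_⟩
  · ring
  · have h : (a : F) * ((a⁻¹ : Fˣ) : F) = 1 := a.mul_inv
    linear_combination (-(a : F) * b) * h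
  · ring
  · ring

/-- the unipotent subgroup, as a homomorphism -/
def upHom : Multiplicative F →* ProjectiveSpecialLinearGroup (Fin 2) F where
  toFun b := mk (up b.toAdd)
  map_one' := by
    have h : up (0 : F) = 1 := by
      rw [ext_iff']
      refine ⟨rfl, ?_, ?_, rfl⟩
      · rw [up01]; simp
      · rw [up10]; simp
    show mk (up (0 : F)) = 1
    rw [h]; rfl
  map_mul' b c := by
    show mk (up (b.toAdd + c.toAdd)) = mk (up b.toAdd) * mk (up c.toAdd)
    rw [← up_mul]; rfl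

/-- the diagonal torus, as a homomorphism -/
def tt : Fˣ →* ProjectiveSpecialLinearGroup (Fin 2) F where
  toFun a := mk (dg a)
  map_one' := by
    show mk (dgHom 1) = 1
    rw [map_one]; rfl
  map_mul' a b := by
    show mk (dg (a * b)) = mk (dg a) * mk (dg b)
    rw [dg_mul]; rfl

theorem tt_apply (a : Fˣ) : tt a = mk (dg a) := rfl

theorem upHom_apply (b : F) : upHom (Multiplicative.ofAdd b) = mk (up b) := rfl

theorem tt_up (a : Fˣ) (b : F) :
    tt a * upHom (Multiplicative.ofAdd b) * (tt a)⁻¹ = upHom (Multiplicative.ofAdd ((a : F) ^ 2 * b)) := by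
  rw [mul_inv_eq_iff_eq_mul, tt_apply, upHom_apply, upHom_apply]
  have h1 : mk (dg a) * mk (up b) = mk (dg a * up b) := rfl
  have h2 : mk (up ((a : F) ^ 2 * b)) * mk (dg a) = mk (up ((a : F) ^ 2 * b) * dg a) := rfl
  rw [h1, h2, dg_up]

theorem upHom_injective : Function.Injective (upHom (F := F)) := by
  rw [injective_iff_map_eq_one]
  intro b hb
  have h1 : mk (up b.toAdd) = mk 1 := hb
  have h2 := QuotientGroup.eq.1 h1
  have h3 : up b.toAdd = 1 ∨ up b.toAdd = -1 := by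
    rcases Cfsg.Agent.ClassicalGeometry.PSL2Basic.mem_center_SL2_iff.1 h2 with h | h
    · left
      rw [mul_one] at h
      exact inv_eq_one.1 h
    · right
      rw [mul_one] at h
      have h4 := congrArg Inv.inv h
      rw [inv_inv] at h4
      rw [h4]
      apply inv_eq_of_mul_eq_one_right
      rw [neg_mul_neg, mul_one]
  have h4 : b.toAdd = 0 := by
    rcases h3 with h | h
    · have := (ext_iff'.1 h).2.1
      rw [up01] at this
      rw [this]; simp
    · have := (ext_iff'.1 h).2.1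
      rw [up01, neg_entries] at this
      rw [this]; simp
  exact toAdd_eq_zero.1 h4

/-- `diag(a, a⁻¹)` commutes with a nontrivial unipotent element only if `a² = 1` -/
theorem sq_eq_one_of_comm {a : Fˣ} {b : F} (hb : b ≠ 0)
    (h : tt a * upHom (Multiplicative.ofAdd b) = upHom (Multiplicative.ofAdd b) * tt a) : a ^ 2 = 1 := by
  have h1 := tt_up a b
  rw [h, mul_inv_cancel_right] at h1
  have h2 : b = (a : F) ^ 2 * b := congrArg Multiplicative.toAdd (upHom_injective h1)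
  have h3 : (a : F) ^ 2 = 1 := by
    apply mul_right_cancel₀ hb
    rw [← h2, one_mul]
  apply Units.ext
  rw [Units.val_pow_eq_pow_val, h3, Units.val_one]

theorem sq_eq_one_of_tt {a : Fˣ} (h : tt a = 1) : a ^ 2 = 1 :=
  sq_eq_one_of_comm (b := 1) one_ne_zero (by rw [h, one_mul, mul_one])

theorem exists_orderOf_unit [Fintype F] {n : ℕ} (hn : n ∣ Fintype.card F - 1) : ∃ a : Fˣ, orderOf a = n := by
  classical
  obtain ⟨g, hg⟩ := IsCyclic.exists_ofOrder_eq_natCard (α := Fˣ)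
  rw [Nat.card_eq_fintype_card, Fintype.card_units] at hg
  obtain ⟨k, hk⟩ := hn
  have h0 : 0 < Fintype.card F - 1 := by
    have : 2 ≤ Fintype.card F := Fintype.one_lt_card
    omega
  have hk0 : 0 < k := Nat.pos_of_ne_zero (by rintro rfl; omega)
  have hn0 : 0 < n := Nat.pos_of_ne_zero (by rintro rfl; omega)
  refine ⟨g ^ k, ?_⟩
  rw [orderOf_pow, hg, hk, Nat.gcd_mul_left_left, Nat.mul_div_cancel _ hk0]

/-- `PSL₂(F)` contains a Frobenius group of order `|F| r` -/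
theorem noFrob_false [Fintype F] {t q p r : ℕ} (hp : p.Prime) [CharP F p] (htp : p ≠ t) (hr : r.Prime) (hr2 : r ≠ 2)
    (hrp : p ≠ r) (hrF : r ∣ Fintype.card F - 1) (hra : r ∣ ap q)
    (h : NoFrob t q (ProjectiveSpecialLinearGroup (Fin 2) F)) : False := by
  obtain ⟨a, ha⟩ := exists_orderOf_unit hrF
  have := Fact.mk hr
  have ha2 : a ^ 2 ≠ 1 := fun h2 => by
    have h3 := orderOf_dvd_of_pow_eq_one h2
    rw [ha] at h3
    exact hr2 ((Nat.prime_dvd_prime_iff_eq hr Nat.prime_two).1 h3)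
  have hy : orderOf (tt a) = r := by
    apply orderOf_eq_prime
    · rw [← map_pow, ← ha, pow_orderOf_eq_one, map_one]
    · exact fun h1 => ha2 (sq_eq_one_of_tt h1)
  have hU : IsPGroup p (upHom (F := F)).range := by
    rintro ⟨_, b, rfl⟩
    refine ⟨1, Subtype.ext ?_⟩
    show upHom b ^ p ^ 1 = 1
    rw [pow_one, ← map_pow]
    have : b ^ p = 1 := by
      apply Multiplicative.toAdd.injective
      rw [toAdd_pow, toAdd_one, nsmul_eq_mul, CharP.cast_eq_zero, zero_mul]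
    rw [this, map_one]
  have h1 := h r hr (hra.mul_right _) p hp htp hrp _ hU (tt a) hy (by
    rintro _ ⟨b, rfl⟩
    exact ⟨_, (tt_up a b.toAdd).symm⟩) (upHom (Multiplicative.ofAdd 1)) ⟨_, rfl⟩
  exact ha2 (sq_eq_one_of_comm one_ne_zero h1)

theorem prime_dvd_card [Fintype F] {t : ℕ} (ht : t.Prime)
    (h : t ∣ Nat.card (ProjectiveSpecialLinearGroup (Fin 2) F)) :
    t ∣ Fintype.card F ∨ t ∣ Fintype.card F - 1 ∨ t ∣ Fintype.card F ^ 2 - 1 := by
  classical
  have h1 : Nat.card (ProjectiveSpecialLinearGroup (Fin 2) F) ∣ Nat.card (SpecialLinearGroup (Fin 2) F) :=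
    Subgroup.card_quotient_dvd_card _
  have h2 : Nat.card (SpecialLinearGroup (Fin 2) F) ∣ Nat.card (GL (Fin 2) F) := by
    have := Subgroup.card_subgroup_dvd_card (SpecialLinearGroup.toGL (n := Fin 2) (R := F)).range
    rwa [← Nat.card_congr (MonoidHom.ofInjective (f := SpecialLinearGroup.toGL (n := Fin 2) (R := F))
      SpecialLinearGroup.toGL_injective).toEquiv] at this
  have h3 := (h.trans h1).trans h2
  rw [Matrix.card_GL_field, Fin.prod_univ_two] at h3
  simp only [Fin.val_zero, pow_zero, Fin.val_one, pow_one] at h3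
  rcases ht.dvd_mul.1 h3 with h4 | h4
  · exact Or.inr (Or.inr h4)
  · have h5 : Fintype.card F ^ 2 - Fintype.card F = Fintype.card F * (Fintype.card F - 1) := by
      rw [Nat.mul_sub, mul_one, sq]
    rw [h5] at h4
    rcases ht.dvd_mul.1 h4 with h6 | h6
    · exact Or.inl h6
    · exact Or.inr (Or.inl h6)

end psl

/-- the primitive prime divisor of `p ^ (4 m) - 1` -/
theorem exists_prime {p m : ℕ} (hp : p.Prime) (hm : 1 ≤ m) (h2 : p = 2 → 2 ≤ m) :
    ∃ t : ℕ, t.Prime ∧ t ≠ 2 ∧ ¬ t ∣ p ∧ t ∣ (p ^ m) ^ 2 + 1 ∧ 4 * m < t ∧ ¬ t ∣ p ^ (6 * m) - 1 ∧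
      ¬ t ∣ p ^ (3 * m) - 1 := by
  obtain ⟨t, ht, h, hd, hn⟩ := Lib.Zsigmondy.exists_primitive hp.two_le (n := 4 * m) (by omega)
    (fun h => by omega) (fun h => by have := h2 h.1; omega)
  have h0 : 4 * m < t := by
    have h1 := Nat.le_of_dvd (by have := ht.two_le; omega) hd
    have := ht.two_le
    omega
  refine ⟨t, ht, ?_, hn, ?_, h0, ?_, ?_⟩
  · omega
  · have h1 : t ∣ p ^ (4 * m) - 1 := (h _).2 dvd_rfl
    have h3 : p ^ (4 * m) - 1 = (p ^ (2 * m) + 1) * (p ^ (2 * m) - 1) := by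
      rw [show p ^ (4 * m) = (p ^ (2 * m)) ^ 2 by rw [← pow_mul]; congr 1; ring,
        show ((p ^ (2 * m)) ^ 2 - 1) = (p ^ (2 * m)) ^ 2 - 1 ^ 2 by norm_num, Nat.sq_sub_sq]
    rw [h3] at h1
    rw [← pow_mul, mul_comm m 2]
    refine (ht.dvd_mul.1 h1).resolve_right fun h4 => ?_
    have h5 := Nat.le_of_dvd (by omega) ((h _).1 h4)
    omega
  · intro h1
    obtain ⟨k, hk⟩ := (h _).1 h1
    have : m * (2 * k) = m * 3 := by linarith
    have := Nat.eq_of_mul_eq_mul_left (by omega : 0 < m) this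
    omega
  · intro h1
    have h5 := Nat.le_of_dvd (by omega) ((h _).1 h1)
    omega

theorem core {p m : ℕ} (hp : p.Prime) (hm : 1 ≤ m) (h2 : p = 2 → 2 ≤ m) {F : Type*} [Field F] [Fintype F]
    (hF : Fintype.card F = (p ^ m) ^ 3)
    (hcov : ∀ t : ℕ, t.Prime → t ≠ 2 → t ∣ (p ^ m) ^ 2 + 1 →
      ¬ t ∣ Nat.card (ProjectiveSpecialLinearGroup (Fin 2) F) →
      ¬ t ∣ Nat.card (Cfsg.Out (ProjectiveSpecialLinearGroup (Fin 2) F)) →
      NoFrob t (p ^ m) (ProjectiveSpecialLinearGroup (Fin 2) F)) : False := by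
  have hF' : Fintype.card F = p ^ (3 * m) := by rw [hF, ← pow_mul, mul_comm]
  have := Fact.mk hp
  have hc : CharP F p := charP_of_card_eq_prime_pow hF'
  obtain ⟨t, ht, ht2, htp, hd, hlt, h6, h3⟩ := exists_prime hp hm h2
  have hq : 2 ≤ p ^ m := hp.two_le.trans (Nat.le_self_pow (by omega) p)
  have hS : ¬ t ∣ Nat.card (ProjectiveSpecialLinearGroup (Fin 2) F) := by
    intro h
    rcases prime_dvd_card ht h with h1 | h1 | h1
    · rw [hF'] at h1
      exact htp (ht.dvd_of_dvd_pow h1)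
    · rw [hF'] at h1
      exact h3 h1
    · rw [hF', ← pow_mul, show 3 * m * 2 = 6 * m by ring] at h1
      exact h6 h1
  have hO : ¬ t ∣ Nat.card (Cfsg.Out (ProjectiveSpecialLinearGroup (Fin 2) F)) := by
    intro h
    have h4 : 4 ≤ p ^ (3 * m) := by
      calc 4 ≤ 2 ^ 3 := by norm_num
        _ ≤ p ^ 3 := Nat.pow_le_pow_left hp.two_le 3
        _ ≤ p ^ (3 * m) := Nat.pow_le_pow_right hp.pos (by omega)
    rw [card_out (p := p) (f := 3 * m) (by omega) hF' h4] at h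
    rcases ht.dvd_mul.1 h with h1 | h1
    · have := Nat.le_of_dvd (by omega) h1
      omega
    · have h5 := h1.trans (Nat.gcd_dvd_left _ _)
      have := Nat.le_of_dvd (by omega) h5
      have := ht.two_le
      omega
  have hN := hcov t ht ht2 hd hS hO
  have hap : ap (p ^ m) ≠ 1 := by
    intro h
    have h1 := three_ap hq
    rw [h] at h1
    nlinarith
  obtain ⟨r, hr, hra⟩ := Nat.exists_prime_and_dvd hap
  obtain ⟨r2, -, rq⟩ := ap_ne hq hr hra
  refine noFrob_false (F := F) hp (t := t) (q := p ^ m) (r := r) ?_ hr r2 ?_ ?_ hra hN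
  · rintro rfl; exact htp dvd_rfl
  · rintro rfl; exact rq (dvd_pow_self _ (by omega))
  · rw [hF]
    exact hra.trans (ap_dvd_cube hq)

theorem not_psl_five {q : ℕ} {F : Type*} [Field F] [Fintype F] (hF : Fintype.card F = q ^ 3)
    (h : E5 q (Matrix.ProjectiveSpecialLinearGroup (Fin 2) F)) : False := by
  obtain ⟨m, hm, rfl⟩ := h.pow
  refine core (by norm_num : Nat.Prime 5) hm (fun h => by omega) hF fun t ht ht2 hd hS hO => ?_
  refine (h.cov t ht ?_ hS hO).2.2
  have h1 : 2 ∣ (5 ^ m) ^ 2 + 1 := by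
    have : (5 ^ m) ^ 2 % 2 = 1 := by
      rw [← pow_mul, Nat.pow_mod]; norm_num
    omega
  rw [← Nat.mul_div_cancel' h1] at hd
  exact (ht.dvd_mul.1 hd).resolve_left fun h2 => ht2 ((Nat.prime_dvd_prime_iff_eq ht Nat.prime_two).1 h2)

theorem not_psl_two {q : ℕ} {F : Type*} [Field F] [Fintype F] (hF : Fintype.card F = q ^ 3)
    (h : E2 q (Matrix.ProjectiveSpecialLinearGroup (Fin 2) F)) : False := by
  obtain ⟨m, hm, rfl⟩ := h.pow
  exact core Nat.prime_two (by omega) (fun _ => hm) hF fun t ht ht2 hd hS hO => (h.cov t ht hd hS hO).2.2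

theorem cov_psl_thirteen {F : Type*} [Field F] [Fintype F] (hF : Fintype.card F = 13) {H : Type*} [Group H] [Finite H]
    (V : Subgroup H) [V.Normal] (hV : Cov 17 H V) (e : H ⧸ V ≃* Matrix.ProjectiveSpecialLinearGroup (Fin 2) F)
    (hub : ∀ x : H, UB2 4 (orderOf x)) : False := by
  classical
  obtain ⟨a, ha⟩ := exists_orderOf_unit (F := F) (n := 12) (by rw [hF])
  have hlow : ∀ i, 0 < i → i < 6 → (a ^ i) ^ 2 ≠ 1 := by
    intro i h0 h6 h
    rw [← pow_mul] at h
    have h1 := orderOf_dvd_of_pow_eq_one h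
    rw [ha] at h1
    have := Nat.le_of_dvd (by omega) h1
    omega
  have hneg : a ^ 6 = -1 := by
    have h1 : (a ^ 6) ^ 2 = 1 := by
      rw [← pow_mul, show 6 * 2 = orderOf a by rw [ha]]
      exact pow_orderOf_eq_one a
    have h2 : ((a ^ 6 : Fˣ) : F) ^ 2 = 1 := by
      have := congrArg Units.val h1
      rwa [Units.val_pow_eq_pow_val, Units.val_one] at this
    rw [sq] at h2
    rcases mul_self_eq_one_iff.1 h2 with h | h
    · exfalso
      have h3 : a ^ 6 = 1 := Units.ext h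
      have := orderOf_dvd_of_pow_eq_one h3
      rw [ha] at this
      omega
    · exact Units.ext h
  have htt : orderOf (tt a) = 6 := by
    rw [orderOf_eq_iff (by norm_num)]
    refine ⟨?_, fun i hi h0 h => ?_⟩
    · rw [← map_pow, hneg]
      exact congrArg Subtype.val (tor_neg_one a)
    · rw [← map_pow] at h
      exact hlow i h0 hi (sq_eq_one_of_tt h)
  -- the transported subgroup
  set U : Subgroup (H ⧸ V) := (upHom (F := F)).range.map e.symm.toMonoidHom with hU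
  have hmem : ∀ b : Multiplicative F, e.symm (upHom b) ∈ U := fun b => ⟨_, ⟨b, rfl⟩, rfl⟩
  have hc : orderOf (e.symm (tt a)) = 6 := by
    rw [← htt]
    exact orderOf_injective e.symm.toMonoidHom e.symm.injective _
  have hVc : IsMulCommutative V := ⟨⟨fun x y => Subtype.ext (hV.comm x x.2 y y.2)⟩⟩
  have h4 : 4 ≤ Fintype.card F := by rw [hF]; norm_num
  have hs : IsSimpleGroup (ProjectiveSpecialLinearGroup (Fin 2) F) :=
    H183.OutPSL.simple_psl le_rfl (fun _ => h4)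
  have hs' : IsSimpleGroup (H ⧸ V) := e.isSimpleGroup
  obtain ⟨y, hy⟩ := Cfsg.Agent.H371.Frob.exists_orderOf V hVc (e := 17) (by norm_num) hV.pow U
    (c := e.symm (tt a)) (by
      rintro _ ⟨_, ⟨b, rfl⟩, rfl⟩
      have h1 := congrArg e.symm (tt_up a b.toAdd)
      rw [map_mul, map_mul, map_inv] at h1
      change e.symm (tt a) * e.symm (upHom b) * (e.symm (tt a))⁻¹ ∈ U
      have h2 : upHom (Multiplicative.ofAdd b.toAdd) = upHom b := rfl
      rw [h2] at h1
      rw [h1]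
      exact hmem _) (by
      rintro i h0 h6 _ ⟨_, ⟨b, rfl⟩, rfl⟩ h
      rw [hc] at h6
      change e.symm (tt a) ^ i * e.symm (upHom b) = e.symm (upHom b) * e.symm (tt a) ^ i at h
      rw [← map_pow, ← map_mul, ← map_mul, ← map_pow] at h
      have h1 := e.symm.injective h
      change e.symm (upHom b) = 1
      by_cases hb : b.toAdd = 0
      · have : b = 1 := toAdd_eq_zero.1 hb
        rw [this, map_one, map_one]
      · exact absurd (sq_eq_one_of_comm hb h1) (hlow i h0 h6)) (by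
      have h1 : Nat.card U ∣ 13 := by
        have h2 : Nat.card U ∣ Nat.card (upHom (F := F)).range := Subgroup.card_map_dvd _ _
        have h3 : Nat.card (upHom (F := F)).range ∣ Nat.card (Multiplicative F) := Subgroup.card_range_dvd _
        have h4 : Nat.card (Multiplicative F) = 13 := by
          rw [Nat.card_congr Multiplicative.toAdd, Nat.card_eq_fintype_card, hF]
        rw [h4] at h3
        exact h2.trans h3
      exact Nat.Coprime.coprime_dvd_left h1 (by norm_num)) (by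
      by_contra hcon
      push Not at hcon
      obtain ⟨v, hv, g, hg⟩ := hV.nc
      have hN : (Subgroup.centralizer (V : Set H)).Normal := inferInstance
      have hN' : ((Subgroup.centralizer (V : Set H)).map (QuotientGroup.mk' V)).Normal :=
        hN.map _ (QuotientGroup.mk'_surjective V)
      have hle : V ≤ Subgroup.centralizer (V : Set H) := by
        intro x hx
        rw [Subgroup.mem_centralizer_iff]
        intro w hw
        exact hV.comm w hw x hx
      rcases hs'.eq_bot_or_eq_top_of_normal _ hN' with h | h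
      · have h1 : e.symm (upHom (Multiplicative.ofAdd 1)) = 1 := by
          obtain ⟨x, hx⟩ := QuotientGroup.mk_surjective (e.symm (upHom (Multiplicative.ofAdd (1 : F))))
          have h2 : (x : H ⧸ V) ∈ U := by rw [hx]; exact hmem _
          have h3 : (x : H ⧸ V) ∈ (Subgroup.centralizer (V : Set H)).map (QuotientGroup.mk' V) := by
            refine ⟨x, ?_, rfl⟩
            rw [SetLike.mem_coe, Subgroup.mem_centralizer_iff]
            intro w hw
            exact (hcon x h2 w hw).symm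
          rw [h, Subgroup.mem_bot] at h3
          rw [← hx, h3]
        have h2 : upHom (Multiplicative.ofAdd (1 : F)) = 1 := by
          apply e.symm.injective
          rw [h1, map_one]
        have h3 : Multiplicative.ofAdd (1 : F) = 1 := upHom_injective (by rw [h2, map_one])
        exact one_ne_zero (congrArg Multiplicative.toAdd h3)
      · have h1 : (g : H ⧸ V) ∈ (Subgroup.centralizer (V : Set H)).map (QuotientGroup.mk' V) := by
          rw [h]; trivial
        obtain ⟨x, hx, hxg⟩ := h1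
        have h2 : x⁻¹ * g ∈ V := QuotientGroup.eq.1 hxg
        have h3 : g ∈ Subgroup.centralizer (V : Set H) := by
          have := Subgroup.mul_mem _ hx (hle h2)
          rwa [mul_inv_cancel_left] at this
        exact hg (Subgroup.mem_centralizer_iff.1 h3 v hv).symm)
  have h1 := hub y
  rw [hy, hc] at h1
  unfold UB2 at h1
  norm_num at h1

end Cfsg.Agent.H772.Six
end

-- part: H390/B6/Congr
section
set_option linter.all false
open scoped Cfsg.Agent.FastGrp

/-!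
# `E5`, `E2` along isomorphisms (helper390, block 6)
-/

set_option autoImplicit false

namespace Cfsg.Agent.H376.Six

universe u v

section

variable {S : Type u} {T : Type v} [Group S] [Group T] (e : S ≃* T)

include e

theorem exists_order_congr {n : ℕ} (h : ∃ x : S, orderOf x = n) : ∃ x : T, orderOf x = n := by
  obtain ⟨x, hx⟩ := h
  exact ⟨e x, by rw [MulEquiv.orderOf_eq, hx]⟩

theorem NoFrob.congr {c q : ℕ} (h : NoFrob c q S) : NoFrob c q T := by
  intro r hr hra t ht htc htr U hU y hy hn u hu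
  have h1 : IsPGroup t (U.comap e.toMonoidHom) := by
    refine hU.comap_of_injective e.toMonoidHom e.injective
  have h2 := h r hr hra t ht htc htr (U.comap e.toMonoidHom) h1 (e.symm y) (by rw [MulEquiv.orderOf_eq, hy]) ?_
    (e.symm u) ?_
  · have h3 := congrArg e h2
    rw [map_mul, map_mul, e.apply_symm_apply, e.apply_symm_apply] at h3
    exact h3
  · intro w hw
    rw [Subgroup.mem_comap] at hw ⊢
    change e (e.symm y * w * (e.symm y)⁻¹) ∈ U
    rw [map_mul, map_mul, map_inv, e.apply_symm_apply]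
    exact hn _ hw
  · rw [Subgroup.mem_comap]
    change e (e.symm u) ∈ U
    rw [e.apply_symm_apply]
    exact hu

theorem AL2.congr (h : AL2 S) : AL2 T := by
  rcases h with ⟨⟨f⟩⟩ | ⟨F, i1, i2, h3, ⟨f⟩⟩
  · exact Or.inl ⟨e.symm.trans f⟩
  · exact Or.inr ⟨F, i1, i2, h3, ⟨e.symm.trans f⟩⟩

theorem E5.congr {q : ℕ} (h : E5 q S) : E5 q T := by
  have hc : Nat.card S = Nat.card T := Nat.card_congr e.toEquiv
  have ho : Nat.card (Cfsg.Out S) = Nat.card (Cfsg.Out T) := Cfsg.Agent.H934.OutB.card_out_congr e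
  refine ⟨h.pow, ?_, ?_, ?_, ?_, ?_, ?_, ?_⟩
  · intro x
    have := h.ub (e.symm x)
    rwa [MulEquiv.orderOf_eq] at this
  · rcases h.minus with h1 | h1
    · exact Or.inl (h1.congr e)
    · exact Or.inr (exists_order_congr e h1)
  · rcases h.five with ⟨h1, h2, h3⟩ | h1
    · refine Or.inl ⟨exists_order_congr e h1, exists_order_congr e h2, ?_⟩
      rcases h3 with h3 | h3
      · exact Or.inl (h3.congr e)
      · exact Or.inr (by rwa [← ho])
    · exact Or.inr (exists_order_congr e h1)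
  · intro r s; rw [← hc]; exact h.pm r s
  · intro r s; rw [← hc]; exact h.pf r s
  · intro r s; rw [← hc]; exact h.mf r s
  · intro t h1 h2
    rw [← hc, ← ho]
    intro h3 h4
    obtain ⟨h5, h6, h7⟩ := h.cov t h1 h2 h3 h4
    exact ⟨exists_order_congr e h5, exists_order_congr e h6, h7.congr e⟩

theorem E2.congr {q : ℕ} (h : E2 q S) : E2 q T := by
  have hc : Nat.card S = Nat.card T := Nat.card_congr e.toEquiv
  have ho : Nat.card (Cfsg.Out S) = Nat.card (Cfsg.Out T) := Cfsg.Agent.H934.OutB.card_out_congr e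
  refine ⟨h.pow, ?_, ?_, ?_, ?_, ?_, ?_, ?_⟩
  · intro x
    have := h.ub (e.symm x)
    rwa [MulEquiv.orderOf_eq] at this
  · rcases h.main with h1 | ⟨h1, h2, h3⟩
    · exact Or.inl (h1.congr e)
    · refine Or.inr ⟨exists_order_congr e h1, exists_order_congr e h2, ?_⟩
      rcases h3 with h3 | h3 | h3
      · exact Or.inl (h3.congr e)
      · exact Or.inr (Or.inl (by rwa [← ho]))
      · exact Or.inr (Or.inr (exists_order_congr e h3))
  · rcases h.eight with ⟨h1, h2⟩ | h1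
    · exact Or.inl ⟨exists_order_congr e h1, exists_order_congr e h2⟩
    · exact Or.inr (exists_order_congr e h1)
  · intro r s; rw [← hc]; exact h.pm r s
  · intro r s; rw [← hc]; exact h.pf r s
  · intro r s; rw [← hc]; exact h.mf r s
  · intro t h1 h2
    rw [← hc, ← ho]
    intro h3 h4
    obtain ⟨h5, h6, h7⟩ := h.cov t h1 h2 h3 h4
    exact ⟨exists_order_congr e h5, exists_order_congr e h6, h7.congr e⟩

end

end Cfsg.Agent.H376.Six
end

-- part: H60/SixBase
section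
set_option linter.all false
open scoped Cfsg.Agent.FastGrp

/-!
# Elimination for `C₃(q)`, `B₃(q)`, `D₄(q)`, `q = 5 ^ m`: common arithmetic (helper60, task of helper376)

* `Ub q N` : the restriction on an element order `N` (field `ub` of `E5`);
* `dvd_A`, `dvd_B`, `eq_25` : which alternative holds;
* `size_up`, `size_down` : the size lemma;
* `near` : two torus numbers at distance `≤ 2`;
* `no_small` : the primes dividing `|S|` are not all in `{2, 3, 5, 7}`.
-/

set_option autoImplicit false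

namespace Cfsg.Agent.H60.Six5

open Cfsg.Agent.H376.Six

universe u

variable {q : ℕ}

/-- the restriction on the element orders of `S` -/
def Ub (q N : ℕ) : Prop :=
  N ∣ (q ^ 3 - 1) / 2 ∨ N ∣ (q ^ 3 + 1) / 2 ∨ N ∣ (q ^ 4 - 1) / 4 ∨ N ∣ 5 * (q ^ 2 + 1) ∨ N ∣ 5 * (q ^ 2 - 1) ∨ N ∣ 25

theorem _root_.Cfsg.Agent.H376.Six.E5.ub' {S : Type u} [Group S] (h : E5 q S) {N : ℕ}
    (hN : ∃ x : S, orderOf x = N) : Ub q N := by
  obtain ⟨x, rfl⟩ := hN
  exact h.ub x

/-- `q = 5 ^ m`, `m ≥ 1` -/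
structure Pow5 (q : ℕ) : Prop where
  pow : ∃ m, 1 ≤ m ∧ q = 5 ^ m
  le : 5 ≤ q
  dvd : 5 ∣ q
  mod : q % 4 = 1
  three : ¬ 3 ∣ q
  two : q % 2 = 1
  cases : q = 5 ∨ 25 ≤ q
  /-- twice `A` -/
  A : 2 * ((q ^ 3 - 1) / 2) + 1 = q ^ 3
  /-- twice `B` -/
  B : (q ^ 3 + 1) / 2 = (q ^ 3 - 1) / 2 + 1

theorem pow5 (h : ∃ m, 1 ≤ m ∧ q = 5 ^ m) : Pow5 q := by
  obtain ⟨m, hm, rfl⟩ := h
  have h5 : 5 ^ m % 4 = 1 := by rw [Nat.pow_mod]; norm_num
  have h3 : (5 ^ m) ^ 3 % 2 = 1 := by rw [← pow_mul, Nat.pow_mod]; norm_num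
  have h6 : 1 ≤ (5 ^ m) ^ 3 := Nat.one_le_pow _ _ (by positivity)
  refine ⟨⟨m, hm, rfl⟩, ?_, dvd_pow_self 5 (by omega), h5, ?_, by omega, ?_, by omega, by omega⟩
  · calc 5 = 5 ^ 1 := by norm_num
      _ ≤ 5 ^ m := Nat.pow_le_pow_right (by norm_num) hm
  · intro h
    have := Nat.prime_three.dvd_of_dvd_pow h
    omega
  · rcases Nat.lt_or_ge m 2 with h | h
    · left
      rw [show m = 1 by omega, pow_one]
    · right
      calc 25 = 5 ^ 2 := by norm_num
        _ ≤ 5 ^ m := Nat.pow_le_pow_right (by norm_num) h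

theorem Pow5.not_dvd_sq_add (h : Pow5 q) : ¬ 5 ∣ q ^ 2 + 1 := fun h1 => by
  have h2 : 5 ∣ q ^ 2 := h.dvd.trans (dvd_pow_self q (by norm_num))
  have := (Nat.dvd_add_right h2).1 h1
  omega

theorem Pow5.not_dvd_pow_sub (h : Pow5 q) {k : ℕ} (hk : k ≠ 0) : ¬ 5 ∣ q ^ k - 1 := fun h1 => by
  have h2 : 5 ∣ q ^ k := h.dvd.trans (dvd_pow_self q hk)
  have h3 : 1 ≤ q ^ k := Nat.one_le_pow _ _ (by have := h.le; omega)
  omega

theorem Pow5.not_dvd_A (h : Pow5 q) : ¬ 5 ∣ (q ^ 3 - 1) / 2 := fun h1 => by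
  have h2 : 5 ∣ q ^ 3 := h.dvd.trans (dvd_pow_self q (by norm_num))
  have := h.A
  omega

theorem Pow5.not_dvd_B (h : Pow5 q) : ¬ 5 ∣ (q ^ 3 + 1) / 2 := fun h1 => by
  have h2 : 5 ∣ q ^ 3 := h.dvd.trans (dvd_pow_self q (by norm_num))
  have := h.A
  have := h.B
  omega

theorem Pow5.not_dvd_four (h : Pow5 q) : ¬ 5 ∣ (q ^ 4 - 1) / 4 := fun h1 => by
  refine h.not_dvd_pow_sub (k := 4) (by norm_num) ?_
  have h4 : 4 ∣ q ^ 4 - 1 := by
    have h5 : q ^ 4 % 4 = 1 := by rw [Nat.pow_mod, h.mod]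
    omega
  rw [← Nat.mul_div_cancel' h4]
  exact h1.mul_left 4

theorem Pow5.A_pos (h : Pow5 q) : 0 < (q ^ 3 - 1) / 2 := by
  have h1 := h.A
  have h2 : 5 ^ 3 ≤ q ^ 3 := Nat.pow_le_pow_left h.le 3
  omega

theorem Pow5.four (h : Pow5 q) : (q ^ 4 - 1) / 4 ∣ q ^ 4 - 1 := by
  have h4 : 4 ∣ q ^ 4 - 1 := by
    have h5 : q ^ 4 % 4 = 1 := by rw [Nat.pow_mod, h.mod]
    omega
  exact Nat.div_dvd_of_dvd h4

/-- a prime divisor of `ap q` does not divide `(q³ + 1) / 2` -/
theorem not_dvd_B_of {r : ℕ} (h : Pow5 q) (hr : r.Prime) (h1 : r ∣ ap q) : ¬ r ∣ (q ^ 3 + 1) / 2 := fun h2 => by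
  have h3 : r ∣ (q ^ 3 - 1) / 2 := h1.trans (ap_dvd_half (by have := h.le; omega) h.two)
  exact Nat.not_coprime_of_dvd_of_dvd hr.one_lt h3 h2 (coprime_half h.two)

/-- a prime divisor of `am q` does not divide `(q³ - 1) / 2` -/
theorem not_dvd_A_of {r : ℕ} (h : Pow5 q) (hr : r.Prime) (h1 : r ∣ am q) : ¬ r ∣ (q ^ 3 - 1) / 2 := fun h2 => by
  have h3 : r ∣ (q ^ 3 + 1) / 2 := h1.trans (am_dvd_half (by have := h.le; omega) h.two)
  exact Nat.not_coprime_of_dvd_of_dvd hr.one_lt h2 h3 (coprime_half h.two)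

theorem not_rest {r : ℕ} (h : Pow5 q) (hr : r.Prime) (h4 : ¬ r ∣ q ^ 4 - 1) (hq : ¬ r ∣ q) {N : ℕ} (hN : r ∣ N)
    (hu : N ∣ (q ^ 4 - 1) / 4 ∨ N ∣ 5 * (q ^ 2 + 1) ∨ N ∣ 5 * (q ^ 2 - 1) ∨ N ∣ 25) : False := by
  have h5 : ¬ r ∣ 5 := fun h6 => hq (h6.trans h.dvd)
  rcases hu with h1 | h1 | h1 | h1
  · exact h4 ((hN.trans h1).trans h.four)
  · rcases hr.dvd_mul.1 (hN.trans h1) with h6 | h6
    · exact h5 h6
    · exact h4 (h6.trans (sq_pm_dvd q).1)
  · rcases hr.dvd_mul.1 (hN.trans h1) with h6 | h6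
    · exact h5 h6
    · exact h4 (h6.trans (sq_pm_dvd q).2)
  · have h6 : r ∣ 5 ^ 2 := by norm_num; exact hN.trans h1
    exact h5 (hr.dvd_of_dvd_pow h6)

theorem dvd_A {r N : ℕ} (h : Pow5 q) (hr : r.Prime) (h1 : r ∣ ap q) (hN : r ∣ N) (hu : Ub q N) :
    N ∣ (q ^ 3 - 1) / 2 := by
  have h2 : 2 ≤ q := by have := h.le; omega
  rcases hu with h3 | h3 | h3
  · exact h3
  · exact absurd (hN.trans h3) (not_dvd_B_of h hr h1)
  · exact (not_rest h hr (ap_prime h2 hr h1) (ap_ne h2 hr h1).2.2 hN h3).elim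

theorem dvd_B {r N : ℕ} (h : Pow5 q) (hr : r.Prime) (h1 : r ∣ am q) (hN : r ∣ N) (hu : Ub q N) :
    N ∣ (q ^ 3 + 1) / 2 := by
  have h2 : 2 ≤ q := by have := h.le; omega
  rcases hu with h3 | h3 | h3
  · exact absurd (hN.trans h3) (not_dvd_A_of h hr h1)
  · exact h3
  · exact (not_rest h hr (am_prime h2 hr h1) (am_ne h2 hr h1).2.2 hN h3).elim

theorem eq_25 {N : ℕ} (h : Pow5 q) (hN : 25 ∣ N) (hu : Ub q N) : N = 25 := by
  have h5 : 5 ∣ N := (by norm_num : (5 : ℕ) ∣ 25).trans hN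
  rcases hu with h3 | h3 | h3 | h3 | h3 | h3
  · exact absurd (h5.trans h3) h.not_dvd_A
  · exact absurd (h5.trans h3) h.not_dvd_B
  · exact absurd (h5.trans h3) h.not_dvd_four
  · exfalso
    refine h.not_dvd_sq_add (Nat.dvd_of_mul_dvd_mul_left (by norm_num : 0 < 5) ?_)
    exact (by simpa using hN.trans h3 : 5 * 5 ∣ 5 * (q ^ 2 + 1))
  · exfalso
    refine h.not_dvd_pow_sub (k := 2) (by norm_num) (Nat.dvd_of_mul_dvd_mul_left (by norm_num : 0 < 5) ?_)
    exact (by simpa using hN.trans h3 : 5 * 5 ∣ 5 * (q ^ 2 - 1))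
  · exact Nat.dvd_antisymm h3 hN

theorem ap_ge (h : Pow5 q) : 31 ≤ ap q := by
  rcases h.cases with rfl | h1
  · decide
  · have h2 := three_ap (q := q) (by omega)
    nlinarith

theorem am_ge (h : Pow5 q) : 7 ≤ am q := by
  rcases h.cases with rfl | h1
  · decide
  · have h2 := three_am (q := q) (by omega)
    have h3 : 25 * q ≤ q ^ 2 := by nlinarith
    omega

theorem exists_ap (h : Pow5 q) : ∃ r, r.Prime ∧ r ∣ ap q :=
  Nat.exists_prime_and_dvd (by have := ap_ge h; omega)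

theorem exists_am (h : Pow5 q) : ∃ r, r.Prime ∧ r ∣ am q :=
  Nat.exists_prime_and_dvd (by have := am_ge h; omega)

theorem dvd_A' {N : ℕ} (h : Pow5 q) (hN : ap q ∣ N) (hu : Ub q N) : N ∣ (q ^ 3 - 1) / 2 := by
  obtain ⟨r, hr, h1⟩ := exists_ap h
  exact dvd_A h hr h1 (h1.trans hN) hu

theorem dvd_B' {N : ℕ} (h : Pow5 q) (hN : am q ∣ N) (hu : Ub q N) : N ∣ (q ^ 3 + 1) / 2 := by
  obtain ⟨r, hr, h1⟩ := exists_am h
  exact dvd_B h hr h1 (h1.trans hN) hu

theorem not_both {N : ℕ} (h : Pow5 q) (hN1 : ap q ∣ N) (hN2 : am q ∣ N) (hu : Ub q N) : False := by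
  obtain ⟨r, hr, h1⟩ := exists_ap h
  exact not_dvd_B_of h hr h1 ((h1.trans hN1).trans (dvd_B' h hN2 hu))

/-- the two cases of `ap`, `am` -/
theorem ap_am_cases (h : Pow5 q) : (ap q = q ^ 2 + q + 1 ∧ 3 * am q = q ^ 2 - q + 1) ∨
    (25 ≤ q ∧ 3 * ap q = q ^ 2 + q + 1 ∧ am q = q ^ 2 - q + 1) := by
  have h5 := h.le
  have h1 := (ap_spec (q := q) (by omega)).1
  have h2 := (am_spec (q := q) (by omega)).1
  have h3 := h.three
  have h4 : q % 3 = 1 ∨ q % 3 = 2 := by omega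
  rcases h4 with h4 | h4
  · right
    rw [Nat.gcd_eq_left (show 3 ∣ q - 1 by omega)] at h1
    rw [(Nat.Prime.coprime_iff_not_dvd Nat.prime_three).2 (show ¬ 3 ∣ q + 1 by omega)] at h2
    rcases h.cases with rfl | h6
    · norm_num at h4
    · exact ⟨h6, by omega, by omega⟩
  · left
    rw [Nat.gcd_eq_left (show 3 ∣ q + 1 by omega)] at h2
    rw [(Nat.Prime.coprime_iff_not_dvd Nat.prime_three).2 (show ¬ 3 ∣ q - 1 by omega)] at h1
    exact ⟨by omega, by omega⟩

/-- the size lemma, `T_B = T_A + D` -/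
theorem size_up {A B TA TB D : ℕ} (hB : B = A + 1) (hA : TA ∣ A) (hTA : 1 < TA) (hTB : TB ∣ B) (hD : TB = TA + D) :
    (D = 1 ∧ TA = A ∧ TB = B) ∨ TA * TB + TB ≤ D * B := by
  obtain ⟨i, hi⟩ := hA
  obtain ⟨j, hj⟩ := hTB
  have hj0 : 0 < j := Nat.pos_of_ne_zero (by rintro rfl; simp at hj; omega)
  have h1 : TA * j + D * j = TA * i + 1 := by
    rw [← hi, ← hB, hj, hD]; ring
  rcases Nat.lt_or_ge 1 (D * j) with h2 | h2
  · right
    have h3 : j < i := by
      by_contra hlt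
      have h4 : TA * i ≤ TA * j := Nat.mul_le_mul_left _ (by omega)
      omega
    obtain ⟨k, rfl⟩ := Nat.exists_eq_add_of_lt h3
    have h4 : TA + 1 ≤ D * j := by
      have h5 : TA * (j + k + 1) = TA * j + TA * k + TA := by ring
      have h6 : 0 ≤ TA * k := Nat.zero_le _
      omega
    calc TA * TB + TB = (TA + 1) * TB := by ring
      _ ≤ (D * j) * TB := Nat.mul_le_mul_right _ h4
      _ = D * B := by rw [hj]; ring
  · left
    have h3 : D * j ≠ 0 := by
      intro h4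
      rw [h4] at h1
      have h5 : TA * j = TA * i + 1 := by omega
      have h6 : TA ∣ 1 := by
        have h7 : TA ∣ TA * i + 1 := h5 ▸ Dvd.intro _ rfl
        exact (Nat.dvd_add_right (Dvd.intro _ rfl)).1 h7
      have h7 := Nat.dvd_one.1 h6
      omega
    have h4 : D * j = 1 := by omega
    have h5 := Nat.eq_one_of_mul_eq_one_right h4
    have h6 := Nat.eq_one_of_mul_eq_one_left h4
    have h7 : j = 1 := by first | exact h5 | exact h6
    have h8 : D = 1 := by first | exact h6 | exact h5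
    refine ⟨h8, ?_, ?_⟩
    · rw [h7, mul_one] at hj
      omega
    · rw [hj, h7, mul_one]

/-- the size lemma, `T_A = T_B + D` -/
theorem size_down {A B TA TB D : ℕ} (hB : B = A + 1) (hA : TA ∣ A) (hTB : TB ∣ B)
    (hD : TA = TB + D) : TA * TB ≤ TA + D * A := by
  obtain ⟨i, hi⟩ := hA
  obtain ⟨j, hj⟩ := hTB
  have h1 : TB * j = TB * i + D * i + 1 := by
    rw [← hj, hB, hi, hD]; ring
  have h3 : i < j := by
    by_contra hlt
    have h4 : TB * j ≤ TB * i := Nat.mul_le_mul_left _ (by omega)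
    omega
  obtain ⟨k, rfl⟩ := Nat.exists_eq_add_of_lt h3
  have h4 : TB ≤ D * i + 1 := by
    have h5 : TB * (i + k + 1) = TB * i + TB * k + TB := by ring
    have h6 : 0 ≤ TB * k := Nat.zero_le _
    omega
  calc TA * TB ≤ TA * (D * i + 1) := Nat.mul_le_mul_left _ h4
    _ = TA + D * (TA * i) := by ring
    _ = TA + D * A := by rw [← hi]

theorem ap_mul_am_le (h : Pow5 q) {TA TB : ℕ} (hTA : 0 < TA) (hTB : 0 < TB) (h1 : ap q ∣ TA) (h2 : am q ∣ TB) :
    q ^ 4 + q ^ 2 + 1 ≤ 3 * (TA * TB) := by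
  rw [← ap_mul_am (by have := h.le; omega) h.three]
  exact Nat.mul_le_mul_left _ (Nat.mul_le_mul (Nat.le_of_dvd hTA h1) (Nat.le_of_dvd hTB h2))

theorem big_of (h : Pow5 q) : 9 * (q ^ 3 + 1) < 2 * (q ^ 4 + q ^ 2 + 1) := by
  obtain ⟨k, rfl⟩ := Nat.exists_eq_add_of_le h.le
  ring_nf
  nlinarith [sq_nonneg k, pow_pos (show 0 < k + 1 by omega) 3]

/-- two torus numbers at distance at most two -/
theorem near (h : Pow5 q) {TA TB : ℕ} (hTA : TA ∣ (q ^ 3 - 1) / 2) (hTB : TB ∣ (q ^ 3 + 1) / 2) (h1 : ap q ∣ TA)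
    (h2 : am q ∣ TB) (h3 : TA ≤ TB + 2) (h4 : TB ≤ TA + 2) : TB = TA + 1 ∧ q ^ 3 = 2 * TA + 1 := by
  have hA := h.A
  have hB := h.B
  have hA0 := h.A_pos
  have hTA0 : 0 < TA := Nat.pos_of_dvd_of_pos hTA hA0
  have hTB0 : 0 < TB := Nat.pos_of_dvd_of_pos hTB (by omega)
  have h5 := ap_mul_am_le h hTA0 hTB0 h1 h2
  have h6 := big_of h
  have hTAle := Nat.le_of_dvd hA0 hTA
  rcases Nat.le_total TA TB with h7 | h7
  · obtain ⟨D, hD⟩ := Nat.exists_eq_add_of_le h7
    have h10 : 1 < TA := by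
      have := Nat.le_of_dvd hTA0 h1
      have := ap_ge h
      omega
    rcases size_up hB hTA h10 hTB hD with h8 | h8
    · exact ⟨by omega, by omega⟩
    · exfalso
      have h9 : D * ((q ^ 3 + 1) / 2) ≤ 2 * ((q ^ 3 + 1) / 2) := Nat.mul_le_mul_right _ (by omega)
      omega
  · obtain ⟨D, hD⟩ := Nat.exists_eq_add_of_le h7
    exfalso
    have h8 := size_down hB hTA hTB hD
    have h9 : D * ((q ^ 3 - 1) / 2) ≤ 2 * ((q ^ 3 - 1) / 2) := Nat.mul_le_mul_right _ (by omega)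
    omega

/-- the primes dividing `(q² + 1) / 2` -/
theorem exists_t (h : Pow5 q) : ∃ t, t.Prime ∧ t ∣ (q ^ 2 + 1) / 2 ∧ ¬ t ∣ 210 := by
  have h5 := h.le
  have hodd : q ^ 2 % 4 = 1 := by rw [Nat.pow_mod, h.mod]
  have hbig : 25 ≤ q ^ 2 := by nlinarith
  obtain ⟨t, ht, htd⟩ := Nat.exists_prime_and_dvd (n := (q ^ 2 + 1) / 2) (by omega)
  refine ⟨t, ht, htd, fun h2 => ?_⟩
  have h3 : t ∣ q ^ 2 + 1 := htd.trans (Nat.div_dvd_of_dvd (by omega))
  have h4 : t ∣ 2 * 3 * 5 * 7 := h2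
  have hc : t = 2 ∨ t = 3 ∨ t = 5 ∨ t = 7 := by
    rcases (Nat.Prime.dvd_mul ht).1 h4 with h6 | h6
    · rcases (Nat.Prime.dvd_mul ht).1 h6 with h7 | h7
      · rcases (Nat.Prime.dvd_mul ht).1 h7 with h8 | h8
        · exact Or.inl ((Nat.prime_dvd_prime_iff_eq ht Nat.prime_two).1 h8)
        · exact Or.inr (Or.inl ((Nat.prime_dvd_prime_iff_eq ht Nat.prime_three).1 h8))
      · exact Or.inr (Or.inr (Or.inl ((Nat.prime_dvd_prime_iff_eq ht (by norm_num)).1 h7)))
    · exact Or.inr (Or.inr (Or.inr ((Nat.prime_dvd_prime_iff_eq ht (by norm_num)).1 h6)))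
  rcases hc with rfl | rfl | rfl | rfl
  · -- `(q² + 1) / 2` is odd
    have h8 : q ^ 2 % 8 = 1 := by
      have : q % 8 = 1 ∨ q % 8 = 5 := by have := h.mod; omega
      rcases this with h9 | h9 <;> rw [Nat.pow_mod, h9]
    omega
  · have : q % 3 = 1 ∨ q % 3 = 2 := by have := h.three; omega
    rcases this with h9 | h9
    · have : q ^ 2 % 3 = 1 := by rw [Nat.pow_mod, h9]
      omega
    · have : q ^ 2 % 3 = 1 := by rw [Nat.pow_mod, h9]
      omega
  · exact h.not_dvd_sq_add h3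
  · have h9 : q ^ 2 % 7 = 0 ∨ q ^ 2 % 7 = 1 ∨ q ^ 2 % 7 = 2 ∨ q ^ 2 % 7 = 4 := by
      have : q % 7 = 0 ∨ q % 7 = 1 ∨ q % 7 = 2 ∨ q % 7 = 3 ∨ q % 7 = 4 ∨ q % 7 = 5 ∨ q % 7 = 6 := by omega
      rcases this with h9 | h9 | h9 | h9 | h9 | h9 | h9 <;> rw [Nat.pow_mod, h9] <;> norm_num
    omega

/-- not all the primes dividing `|S|` are in `{2, 3, 5, 7}` -/
theorem no_small {S : Type u} [Group S] (h : E5 q S) (h7 : ∀ r : ℕ, r.Prime → r ∣ Nat.card S → r ∣ 210) : False := by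
  have hP := pow5 h.pow
  have h2 : 2 ≤ q := by have := hP.le; omega
  obtain ⟨r, hr, hra⟩ := exists_ap hP
  obtain ⟨s, hs, hsa⟩ := exists_am hP
  obtain ⟨t, ht, htd, ht7⟩ := exists_t hP
  have h1 : ¬ t ∣ Nat.card S := fun h3 => ht7 (h7 t ht h3)
  have hr7 := h7 r hr ((h.pf r t hr ht hra htd).resolve_right h1)
  have hs7 := h7 s hs ((h.mf s t hs ht hsa htd).resolve_right h1)
  have key : ∀ w : ℕ, w.Prime → w ∣ 210 → w ≠ 2 → w ≠ 3 → ¬ w ∣ q → w = 7 := by
    intro w hw hw1 hw2 hw3 hw4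
    have h4 : w ∣ 2 * 3 * 5 * 7 := hw1
    rcases (Nat.Prime.dvd_mul hw).1 h4 with h6 | h6
    · rcases (Nat.Prime.dvd_mul hw).1 h6 with h8 | h8
      · rcases (Nat.Prime.dvd_mul hw).1 h8 with h9 | h9
        · exact absurd ((Nat.prime_dvd_prime_iff_eq hw Nat.prime_two).1 h9) hw2
        · exact absurd ((Nat.prime_dvd_prime_iff_eq hw Nat.prime_three).1 h9) hw3
      · exact absurd (h8.trans hP.dvd) hw4
    · exact (Nat.prime_dvd_prime_iff_eq hw (by norm_num)).1 h6
  have hr' := key r hr hr7 (ap_ne h2 hr hra).1 (ap_ne h2 hr hra).2.1 (ap_ne h2 hr hra).2.2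
  have hs' := key s hs hs7 (am_ne h2 hs hsa).1 (am_ne h2 hs hsa).2.1 (am_ne h2 hs hsa).2.2
  refine not_dvd_B_of hP hr hra ?_
  rw [hr', ← hs']
  exact hsa.trans (am_dvd_half h2 hP.two)

end Cfsg.Agent.H60.Six5

private theorem dce_ded50b416056 : _root_.True := by
  try have : _root_.True := by simp only [_root_.Cfsg.Agent.H60.Six5.eq_25]
  exact _root_.True.intro
end

-- part: H371/Six/Num
section
prune_inst 0x4f5706f447e4202000018809683002214680005b000200801f920054e090fd32a8dc2a1404e801d041a6eb28118010028131000d0424000000e0034000007012080a8520433750f0cae009f803087180c00000000000000000000000000041004000000000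
set_option linter.all false
open scoped Cfsg.Agent.FastGrp

/-!
# BLOCK 6, `q = 5 ^ m`: arithmetic for the exceptional groups of small rank (helper371, task 2624)

`A = (q³ - 1) / 2`, `B = (q³ + 1) / 2 = A + 1`.
-/

set_option autoImplicit false

namespace Cfsg.Agent.H371.Six

open Cfsg.Agent.H376.Six Cfsg.Agent.H60.Six5

variable {q : ℕ}

/-! ### divisors of `A` and `B` -/

theorem dvd_of_five {d N : ℕ} (h : Pow5 q) (h5 : ¬ 5 ∣ d) (hd : d ∣ N)
    (hu : N ∣ (q ^ 4 - 1) / 4 ∨ N ∣ 5 * (q ^ 2 + 1) ∨ N ∣ 5 * (q ^ 2 - 1) ∨ N ∣ 25) : d ∣ q ^ 4 - 1 := by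
  have hc : Nat.Coprime d 5 := ((Nat.Prime.coprime_iff_not_dvd Nat.prime_five).2 h5).symm
  rcases hu with h1 | h1 | h1 | h1
  · exact (hd.trans h1).trans h.four
  · exact (hc.dvd_of_dvd_mul_left (hd.trans h1)).trans (sq_pm_dvd q).1
  · exact (hc.dvd_of_dvd_mul_left (hd.trans h1)).trans (sq_pm_dvd q).2
  · have h2 : d = 1 := Nat.Coprime.eq_one_of_dvd (hc.pow_right 2) (by norm_num; exact hd.trans h1)
    rw [h2]
    exact one_dvd _

/-- an element order with a divisor of `A` -/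
theorem sub_or {d N : ℕ} (h : Pow5 q) (hA : d ∣ (q ^ 3 - 1) / 2) (hd : d ∣ N) (hu : Ub q N) :
    N ∣ (q ^ 3 - 1) / 2 ∨ d ∣ q - 1 := by
  have h5 : ¬ 5 ∣ d := fun h5 => h.not_dvd_A (h5.trans hA)
  have h1q : 1 ≤ q := by have := h.le; omega
  rcases hu with h1 | h1 | h1
  · exact Or.inl h1
  · right
    have h2 : d = 1 := Nat.eq_one_of_dvd_coprimes (coprime_half h.two) hA (hd.trans h1)
    rw [h2]
    exact one_dvd _
  · right
    have h2 := dvd_of_five h h5 hd h1
    have h3 : d ∣ q ^ 3 - 1 := by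
      have := h.A
      have h4 : q ^ 3 - 1 = (q ^ 3 - 1) / 2 * 2 := by omega
      rw [h4]
      exact hA.mul_right _
    have h4 : q ^ 4 - 1 = q * (q ^ 3 - 1) + (q - 1) := by
      have e1 : 1 ≤ q ^ 3 := Nat.one_le_pow _ _ h1q
      have e2 : 1 ≤ q ^ 4 := Nat.one_le_pow _ _ h1q
      zify [e1, e2, h1q]
      ring
    rw [h4] at h2
    exact (Nat.dvd_add_right (h3.mul_left q)).1 h2

theorem mod24 (h : Pow5 q) : q % 24 = 1 ∨ q % 24 = 5 := by
  obtain ⟨m, -, rfl⟩ := h.pow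
  clear h
  induction m with
  | zero => left; rfl
  | succ k ih =>
    rw [pow_succ]
    omega

/-- `v² - 1 ∣ A` forces `q ≡ 1` modulo 3 -/
theorem even_of {v : ℕ} (h : Pow5 q) (hv : v % 2 = 1 ∨ v % 3 ≠ 0) (hd : v ^ 2 - 1 ∣ (q ^ 3 - 1) / 2) :
    25 ≤ q ∧ 3 * ap q = q ^ 2 + q + 1 ∧ am q = q ^ 2 - q + 1 := by
  rcases ap_am_cases h with h1 | h1
  · exfalso
    have h3 : 3 ∣ q ^ 2 - q + 1 := ⟨am q, h1.2.symm⟩
    have h5 := h.le
    have hA := h.A
    have h24 : q % 24 = 5 := by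
      rcases mod24 h with h4 | h4
      · exfalso
        have h6 : q ^ 2 - q = q * (q - 1) := by rw [Nat.mul_sub, mul_one, pow_two]
        have h7 : 3 ∣ q * (q - 1) := Dvd.dvd.mul_left (by omega) _
        omega
      · exact h4
    have h6 : q ^ 3 % 24 = 5 := by rw [Nat.pow_mod, h24]
    have h7 : (q ^ 3 - 1) / 2 % 12 = 2 := by omega
    have h0 : v ^ 2 - 1 ≠ 0 := by
      intro h0
      rw [h0] at hd
      have := Nat.eq_zero_of_zero_dvd hd
      omega
    rcases hv with h8 | h8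
    · have h9 : 8 ∣ v ^ 2 - 1 := Nat.eight_dvd_sq_sub_one_of_odd (Nat.odd_iff.2 h8)
      have := h9.trans hd
      (clear * - h7 this; omega)
    · have h9 : v ^ 2 % 3 = 1 := by
        have : v % 3 = 1 ∨ v % 3 = 2 := by omega
        rcases this with h9 | h9 <;> rw [Nat.pow_mod, h9]
      have h10 : 3 ∣ v ^ 2 - 1 := by omega
      have := h10.trans hd
      omega
  · exact h1

theorem diff_ge (h : Pow5 q) {D : ℕ} (hD : ap q = am q + D ∨ am q = ap q + D) : 2 * (q - 1) ^ 2 ≤ 3 * D := by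
  obtain ⟨k, rfl⟩ : ∃ k, q = k + 5 := ⟨q - 5, by have := h.le; omega⟩
  have e1 : (k + 5) ^ 2 - (k + 5) = (k + 5) * (k + 4) := by
    have : (k + 5) ^ 2 = (k + 5) * (k + 4) + (k + 5) := by ring
    omega
  have e2 : k + 5 - 1 = k + 4 := by omega
  rcases ap_am_cases h with ⟨h1, h2⟩ | ⟨h0, h1, h2⟩ <;> rw [e1] at h2 <;> rw [e2] <;> rcases hD with hD | hD <;>
    linarith only [h1, h2, hD]

/-- the size lemma -/
theorem size (h : Pow5 q) {TA TB D : ℕ} (hTA : TA ∣ (q ^ 3 - 1) / 2) (hTB : TB ∣ (q ^ 3 + 1) / 2)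
    (hD : TB = TA + D ∨ TA = TB + D) (h1 : 1 < TA) (h2 : 2 ≤ D) : 2 * (TA * TB) ≤ 2 * TA + D * (q ^ 3 + 1) := by
  have hA := h.A
  have hB := h.B
  rcases hD with hD | hD
  · rcases size_up hB hTA h1 hTB hD with h3 | h3
    · omega
    · have : D * (q ^ 3 + 1) = 2 * (D * ((q ^ 3 + 1) / 2)) := by
        have : q ^ 3 + 1 = 2 * ((q ^ 3 + 1) / 2) := by omega
        rw [← mul_assoc, mul_comm 2 D, mul_assoc, ← this]
      omega
  · have h3 := size_down hB hTA hTB hD
    have h4 : D * (q ^ 3 + 1) = 2 * (D * ((q ^ 3 - 1) / 2)) + 2 * D := by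
      have : q ^ 3 + 1 = 2 * ((q ^ 3 - 1) / 2) + 2 := by omega
      rw [this]
      ring
    omega

theorem le_of_cube {v : ℕ} (h : v ^ 3 ≤ q ^ 3 + 2) (hq : 1 ≤ q) : v ≤ q := by
  by_contra hlt
  have h1 : (q + 1) ^ 3 ≤ v ^ 3 := Nat.pow_le_pow_left (by omega) 3
  have h2 : (q + 1) ^ 3 = q ^ 3 + 3 * q ^ 2 + 3 * q + 1 := by ring
  have h3 : 1 ≤ q ^ 2 := Nat.one_le_pow _ _ hq
  omega

theorem not_two_dvd_A_add {TA : ℕ} {x : ℕ} (hodd : TA % 2 = 1) (h : x ∣ TA) : x % 2 = 1 := by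
  obtain ⟨y, rfl⟩ := h
  by_contra h2
  have h3 : x % 2 = 0 := by omega
  rw [Nat.mul_mod, h3] at hodd
  simp at hodd

/-- two torus numbers whose product is small -/
theorem eq_of_small (h : Pow5 q) {TA TB c : ℕ} (hA : ap q ∣ TA) (hB : am q ∣ TB)
    (hlt : 3 * (TA * TB) < c * (q ^ 4 + q ^ 2 + 1)) (h0 : 0 < TA) (h0' : 0 < TB) :
    ∃ x y, TA = ap q * x ∧ TB = am q * y ∧ x * y < c ∧ 0 < x ∧ 0 < y := by
  obtain ⟨x, rfl⟩ := hA
  obtain ⟨y, rfl⟩ := hB
  refine ⟨x, y, rfl, rfl, ?_, Nat.pos_of_mul_pos_left h0, Nat.pos_of_mul_pos_left h0'⟩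
  have h1 := ap_mul_am (q := q) (by have := h.le; omega) h.three
  have h2 : 3 * (ap q * x * (am q * y)) = (q ^ 4 + q ^ 2 + 1) * (x * y) := by rw [← h1]; ring
  rw [h2, mul_comm c] at hlt
  exact lt_of_mul_lt_mul_left hlt (Nat.zero_le _)

/-! ### `G₂(v)`, `v = w + 1` -/

theorem g2_pair (h : Pow5 q) {w TA TB : ℕ} (hw : 2 ≤ w) (hvq : w + 1 ≠ q)
    (hT : (TA = w * w + 3 * w + 3 ∧ TB = w * w + w + 1) ∨ (TB = w * w + 3 * w + 3 ∧ TA = w * w + w + 1))
    (hA : TA ∣ (q ^ 3 - 1) / 2) (hB : TB ∣ (q ^ 3 + 1) / 2) (h1 : ap q ∣ TA) (h2 : am q ∣ TB) : False := by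
  have h5 := h.le
  have hD : TB = TA + (2 * w + 2) ∨ TA = TB + (2 * w + 2) := by
    rcases hT with ⟨rfl, rfl⟩ | ⟨rfl, rfl⟩
    · right; ring
    · left; ring
  have hprod : TA * TB = (w * w + 3 * w + 3) * (w * w + w + 1) := by
    rcases hT with ⟨rfl, rfl⟩ | ⟨rfl, rfl⟩ <;> ring
  have hTA1 : 1 < TA := by rcases hT with ⟨rfl, rfl⟩ | ⟨rfl, rfl⟩ <;> linarith only [hw, _root_.mul_self_nonneg (↑w : ℤ)]
  have hTB1 : 1 < TB := by rcases hT with ⟨rfl, rfl⟩ | ⟨rfl, rfl⟩ <;> linarith only [hw, _root_.mul_self_nonneg (↑w : ℤ)]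
  have hTAle : TA ≤ w * w + 3 * w + 3 := by rcases hT with ⟨rfl, rfl⟩ | ⟨rfl, rfl⟩ <;> omega
  have hs := size h hA hB hD hTA1 (by omega)
  rw [hprod] at hs
  have hvle : w + 1 ≤ q := by
    refine le_of_cube ?_ (by omega)
    have h6 : 2 * ((w * w + 3 * w + 3) * (w * w + w + 1)) =
        2 * (w + 1) * (w + 1) ^ 3 + 2 * (w * w + 2 * w + 2) := by ring
    have h7 : 2 * (w + 1) * (w + 1) ^ 3 ≤ 2 * (w + 1) * (q ^ 3 + 2) := by
      have h8 : 2 * (w + 1) * (q ^ 3 + 2) = (2 * w + 2) * (q ^ 3 + 1) + (2 * w + 2) := by ring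
      rw [h8]
      linarith only [hTAle, hs]
    exact Nat.le_of_mul_le_mul_left h7 (by omega)
  have hvle' : w + 2 ≤ q := by omega
  have hlt : 3 * (TA * TB) < 3 * (q ^ 4 + q ^ 2 + 1) := by
    rw [hprod]
    have h6 : (w * w + 3 * w + 3) * (w * w + w + 1) = (w + 1) ^ 4 + (w + 1) ^ 2 + 1 := by ring
    rw [h6]
    have h7 : (w + 1) ^ 4 < q ^ 4 := Nat.pow_lt_pow_left (by omega) (by norm_num)
    have h8 : (w + 1) ^ 2 < q ^ 2 := Nat.pow_lt_pow_left (by omega) (by norm_num)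
    omega
  obtain ⟨x, y, hx, hy, hxy, hx0, hy0⟩ := eq_of_small h h1 h2 hlt (by omega) (by omega)
  have hodd : (w * w + w) % 2 = 0 := by
    have : w * w + w = w * (w + 1) := by ring
    rw [this]
    exact Nat.even_iff.1 (Nat.even_mul_succ_self w)
  have oA : TA % 2 = 1 := by rcases hT with ⟨rfl, rfl⟩ | ⟨rfl, rfl⟩ <;> omega
  have oB : TB % 2 = 1 := by rcases hT with ⟨rfl, rfl⟩ | ⟨rfl, rfl⟩ <;> (clear * - hodd oA; omega)
  have ox := not_two_dvd_A_add oA (x := x) (hx ▸ Dvd.intro_left _ rfl)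
  have oy := not_two_dvd_A_add oB (x := y) (hy ▸ Dvd.intro_left _ rfl)
  have hx1 : x = 1 := by
    by_contra hne
    have h3 : 3 ≤ x := by omega
    nlinarith only [hxy, hy0, h3]
  have hy1 : y = 1 := by
    by_contra hne
    have h3 : 3 ≤ y := by omega
    nlinarith only [hxy, hx0, h3]
  rw [hx1, mul_one] at hx
  rw [hy1, mul_one] at hy
  have hd := diff_ge h (D := 2 * w + 2) (by rw [← hx, ← hy]; exact hD.symm)
  obtain ⟨k, rfl⟩ : ∃ k, q = k + 5 := ⟨q - 5, by omega⟩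
  have e2 : k + 5 - 1 = k + 4 := by omega
  rw [e2] at hd
  nlinarith only [hvle, hd]

theorem two_B (h : Pow5 q) (hm : am q = q ^ 2 - q + 1) : q ^ 3 + 1 = am q * (q + 1) := by
  rw [hm]
  exact cube_add (by have := h.le; omega)

set_option maxHeartbeats 1000000 in
theorem g2_sq (h : Pow5 q) {w TB : ℕ} (hw : 2 ≤ w) (hpar : (w + 1) % 2 = 1 ∨ (w + 1) % 3 ≠ 0) (hvq : w + 1 ≠ q)
    (hT : TB = w * w + 3 * w + 3 ∨ TB = w * w + w + 1)
    (hA : (w + 1) ^ 2 - 1 ∣ (q ^ 3 - 1) / 2) (hB : TB ∣ (q ^ 3 + 1) / 2) (h2 : am q ∣ TB) : False := by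
  obtain ⟨h25, h3, h4⟩ := even_of h hpar hA
  have hAA := h.A
  have hBB := h.B
  have e0 : (w + 1) ^ 2 - 1 = w * w + 2 * w := by
    have : (w + 1) ^ 2 = w * w + 2 * w + 1 := by ring
    omega
  rw [e0] at hA
  have e1 : am q = q * (q - 1) + 1 := by
    rw [h4, Nat.mul_sub, mul_one, pow_two]
  obtain ⟨p, hp⟩ : ∃ p, q = p + 1 := ⟨q - 1, by omega⟩
  have e2 : am q = p * p + p + 1 := by
    rw [e1, hp, Nat.add_sub_cancel]; ring
  have hTB1 : 0 < TB := by rcases hT with rfl | rfl <;> omega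
  have hle := Nat.le_of_dvd hTB1 h2
  -- `q < v`
  have hv : q + 1 ≤ w + 1 := by
    by_contra hlt
    have h5 : w + 1 ≤ p := by (clear * - hvq h25 hp hlt; omega)
    have h6 : TB ≤ w * w + 3 * w + 3 := by rcases hT with rfl | rfl <;> omega
    have h7 : w = p - 1 := by
      by_contra hne
      have h8 : w + 2 ≤ p := by omega
      have h9 := Nat.mul_le_mul h8 h8
      have h10 : (w + 2) * (w + 2) = w * w + 4 * w + 4 := by ring
      omega
    -- `v = q - 1`: `v² - 1 = q (q - 2)`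
    apply h.not_dvd_A
    refine dvd_trans ?_ hA
    have h8 : w * w + 2 * w = q * w := by
      have : q = w + 2 := by omega
      rw [this]; ring
    rw [h8]
    exact h.dvd.mul_right _
  obtain ⟨y, hy⟩ := h2
  have hy0 : y ≠ 0 := by
    rintro rfl
    omega
  have hodd : (w * w + w) % 2 = 0 := by
    have : w * w + w = w * (w + 1) := by ring
    rw [this]
    exact Nat.even_iff.1 (Nat.even_mul_succ_self w)
  have oB : TB % 2 = 1 := by rcases hT with rfl | rfl <;> omega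
  have oy := not_two_dvd_A_add oB (x := y) (hy ▸ Dvd.intro_left _ rfl)
  have hTBge : w * w + w + 1 ≤ TB := by rcases hT with rfl | rfl <;> (clear * -; omega)
  have hy3 : 3 ≤ y := by
    have : y ≠ 1 := by
      rintro rfl
      rw [mul_one, e2] at hy
      have h9 := Nat.mul_le_mul (show p + 1 ≤ w by (clear * - hp hv; omega)) (show p + 1 ≤ w by omega)
      have h10 : (p + 1) * (p + 1) = p * p + 2 * p + 1 := by ring
      (clear * - hTBge hy h9 h10; omega)
    omega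
  obtain ⟨j, hj⟩ := hB
  have h2B := two_B h h4
  have hj2 : 2 * (y * j) = q + 1 := by
    have h6 : am q * (2 * (y * j)) = am q * (q + 1) := by
      rw [← h2B]
      have h7 : q ^ 3 + 1 = 2 * ((q ^ 3 + 1) / 2) := by omega
      rw [h7, hj, hy]
      ring
    exact Nat.eq_of_mul_eq_mul_left (by rw [e2]; omega) h6
  have hj6 : 6 * j ≤ q + 1 := by
    have := Nat.mul_le_mul_right j hy3
    (clear * - hj2 this; omega)
  have hB' : TB ∣ (q ^ 3 + 1) / 2 := ⟨j, hj⟩
  have hs : 2 * ((w * w + 2 * w) * TB) ≤ 2 * (w * w + 2 * w) + (w + 3) * (q ^ 3 + 1) := by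
    rcases hT with hT | hT
    · exact size h hA hB' (D := w + 3) (Or.inl (by rw [hT]; ring)) (by linarith only [h25, hv, _root_.mul_self_nonneg (↑w : ℤ)]) (by (clear * -; omega))
    · rcases Nat.lt_or_ge w 3 with h6 | h6
      · (clear * - h25 hv h6; omega)
      · obtain ⟨z, rfl⟩ : ∃ z, w = z + 1 := ⟨w - 1, by (clear * - hy hodd oB hT h6; omega)⟩
        have h7 := size h hA hB' (D := z) (Or.inr (by rw [hT]; ring)) (by linarith only [_root_.mul_self_nonneg (↑z + 1 : ℤ)]) (by omega)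
        refine h7.trans (Nat.add_le_add_left (Nat.mul_le_mul_right _ (by omega)) _)
  have h7 : q ^ 3 + 1 = 2 * (TB * j) := by rw [← hj]; omega
  rw [h7] at hs
  -- `(w² + 2 w) TB ≤ w² + 2 w + (w + 3) TB j`
  have h8 : 6 * ((w * w + 2 * w) * TB) ≤ 6 * (w * w + 2 * w) + (w + 3) * TB * (6 * j) := by
    have h8 : (w + 3) * TB * (6 * j) = 3 * ((w + 3) * (2 * (TB * j))) := by ring
    rw [h8]
    (clear * - hs; omega)
  have h9 : (w + 3) * TB * (6 * j) ≤ (w + 3) * TB * (w + 1) := Nat.mul_le_mul_left _ (by (clear * - hv hj6; omega))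
  have h10 : 6 * ((w * w + 2 * w) * TB) ≤ 6 * (w * w + 2 * w) + (w + 3) * TB * (w + 1) := h8.trans (by omega)
  have h11 : (w + 3) * TB * (w + 1) = (w * w + 4 * w + 3) * TB := by ring
  rw [h11] at h10
  have h12 : 6 * (w * w + 2 * w) ≤ 12 * TB := by (clear * - hTBge; omega)
  have h13 : 6 * ((w * w + 2 * w) * TB) ≤ (w * w + 4 * w + 15) * TB := by
    have h13 : (w * w + 4 * w + 15) * TB = (w * w + 4 * w + 3) * TB + 12 * TB := by ring
    rw [h13]
    (clear * - h10 h12; omega)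
  have h14 : 6 * (w * w + 2 * w) ≤ w * w + 4 * w + 15 := by
    refine Nat.le_of_mul_le_mul_right ?_ hTB1
    calc 6 * (w * w + 2 * w) * TB = 6 * ((w * w + 2 * w) * TB) := by ring
      _ ≤ _ := h13
  have := Nat.mul_le_mul hw hw
  (clear * - h14 this; omega)

/-- `v ≥ ap` is too big -/
theorem big_v (h : Pow5 q) {v N : ℕ} (hv : ap q ≤ v) (hN : v * v + 1 ≤ N + v) (hB : N ∣ (q ^ 3 + 1) / 2) : False := by
  have h5 := h.le
  have hA := h.A
  have hBB := h.B
  have h3 := three_ap (q := q) (by omega)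
  have h1 : N ≤ (q ^ 3 + 1) / 2 := Nat.le_of_dvd (by omega) hB
  have h2 : 2 * (v * v + 1) ≤ q ^ 3 + 1 + 2 * v := by omega
  have h4 : q * q + q + 1 ≤ 3 * v := by linarith only [hv, h3]
  have h6 : 11 ≤ v := by nlinarith only [hv, h5, h3]
  have h7 : (q * q + q + 1) * (q * q + q + 1) ≤ 9 * (v * v) := by nlinarith only [hv, h3]
  have h8 : q ^ 3 = q * q * q := by ring
  rw [h8] at h2
  linarith only [hN, hA, hBB, h1, h7, Nat.mul_le_mul h5 (Nat.le_refl (q * q * q)), Nat.mul_le_mul h6 (Nat.le_refl v), _root_.mul_self_nonneg (↑q : ℤ)]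

end Cfsg.Agent.H371.Six
end

-- part: H425/OF/Common
section
prune_inst 0x4f5700f402a42020000008086c1002214480005b000200801c920014c0001c30a0d8281400e8010040002a2010000002813000010424000000e00040000050120808052043041010c860099000004000000000000000000000000000000000004000000000
set_option linter.all false
open scoped Cfsg.Agent.FastGrp

-- part: H425/OF/Base
section
/-!
# Groups of automorphisms with the element orders of `B₃(q)`, `D₄(q)`, `q = 5 ^ m` (helper425)

* `Ok q Y` : `Y` is a group of automorphisms of `P` containing the inner ones, whose element orders satisfy `UB5 q`;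
* `top_of_ok` : the statement about `S ⊲ X` follows from `Ok q Y → Y ≤ Inn P`;
* `ub_mul` : an element of `Y` with class of prime order `s` fixing an element of order prime to `s`.
-/

set_option autoImplicit false

namespace Cfsg.Agent.H425.OF

open Cfsg.Agent.H376.Six

universe u v

/-- `Y` contains `Inn P` and its element orders satisfy `UB5` -/
structure Ok (q : ℕ) {P : Type u} [Group P] (Y : Subgroup (MulAut P)) : Prop where
  inn : Cfsg.Inn P ≤ Y
  ub : ∀ α ∈ Y, UB5 q (orderOf α)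

theorem top_of_ok {q : ℕ} {X : Type v} [Group X] [Finite X] (S : Subgroup X) [S.Normal]
    (hc : Subgroup.centralizer (S : Set X) = ⊥) {P : Type u} [Group P] (e : S ≃* P)
    (hub : ∀ x : X, UB5 q (orderOf x)) (h : ∀ Y : Subgroup (MulAut P), Ok q Y → Y ≤ Cfsg.Inn P) : S = ⊤ := by
  let f : X →* MulAut P := (MulAut.congr e).toMonoidHom.comp (MulAut.conjNormal : X →* MulAut S)
  have hf : ∀ (x : X) (p : P), f x p = e (MulAut.conjNormal x (e.symm p)) := fun x p => rfl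
  have hker : ∀ x : X, f x = 1 → x = 1 := by
    intro x hx
    have h1 : x ∈ Subgroup.centralizer (S : Set X) := by
      rw [Subgroup.mem_centralizer_iff]
      intro s hs
      have h2 := DFunLike.congr_fun hx (e ⟨s, hs⟩)
      rw [hf, MulEquiv.symm_apply_apply, MulAut.one_apply] at h2
      have h3 := congrArg Subtype.val (e.injective h2)
      rw [MulAut.conjNormal_apply] at h3
      have h4 : x * s * x⁻¹ = s := h3
      exact (mul_inv_eq_iff_eq_mul.1 h4).symm
    rw [hc] at h1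
    exact Subgroup.mem_bot.1 h1
  have hinj : Function.Injective f := (injective_iff_map_eq_one f).2 hker
  have hconj : ∀ s : S, f s = MulAut.conj (e s) := by
    intro s
    ext p
    rw [hf, MulAut.conj_apply]
    have h1 : (MulAut.conjNormal (s : X) : MulAut S) (e.symm p) = s * e.symm p * s⁻¹ := by
      apply Subtype.ext
      rw [MulAut.conjNormal_apply]
      rfl
    rw [h1, map_mul, map_mul, map_inv, MulEquiv.apply_symm_apply]
  have hY : Ok q f.range := by
    refine ⟨?_, ?_⟩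
    · rintro _ ⟨p, rfl⟩
      obtain ⟨s, rfl⟩ := e.surjective p
      exact ⟨s, hconj s⟩
    · rintro _ ⟨x, rfl⟩
      rw [orderOf_injective f hinj]
      exact hub x
  rw [Subgroup.eq_top_iff']
  intro x
  obtain ⟨p, hp⟩ := h _ hY ⟨x, rfl⟩
  obtain ⟨s, rfl⟩ := e.surjective p
  have h1 : f (s : X) = f x := (hconj s).trans hp
  rw [← hinj h1]
  exact s.2

section

variable {P : Type u} [Group P]

/-- The class of an automorphism. -/
def kl (P : Type u) [Group P] : MulAut P →* Cfsg.Out P := QuotientGroup.mk' (Cfsg.Inn P)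

theorem kl_eq_one {α : MulAut P} : kl P α = 1 ↔ α ∈ Cfsg.Inn P := QuotientGroup.eq_one_iff α

theorem kl_surjective : Function.Surjective (kl P) := QuotientGroup.mk'_surjective _

theorem Ok.mem {q : ℕ} {Y : Subgroup (MulAut P)} (hY : Ok q Y) {α β : MulAut P} (hα : α ∈ Y)
    (h : kl P β = kl P α) : β ∈ Y := by
  have h1 : α⁻¹ * β ∈ Cfsg.Inn P := by
    rw [← kl_eq_one, map_mul, map_inv, h, inv_mul_cancel]
  have h2 := Y.mul_mem hα (hY.inn h1)
  rwa [mul_inv_cancel_left] at h2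

theorem Ok.conj {q : ℕ} {Y : Subgroup (MulAut P)} (hY : Ok q Y) (γ : MulAut P) :
    Ok q (Y.map (MulAut.conj γ).toMonoidHom) := by
  refine ⟨?_, ?_⟩
  · intro β hβ
    have h1 : γ⁻¹ * β * γ ∈ Cfsg.Inn P := by
      have hn : (Cfsg.Inn P).Normal := inferInstance
      have := hn.conj_mem β hβ γ⁻¹
      rwa [inv_inv] at this
    refine ⟨_, hY.inn h1, ?_⟩
    change MulAut.conj γ (γ⁻¹ * β * γ) = β
    rw [MulAut.conj_apply]
    group
  · rintro _ ⟨α, hα, rfl⟩
    have h1 : orderOf ((MulAut.conj γ).toMonoidHom α) = orderOf α := MulEquiv.orderOf_eq (MulAut.conj γ) α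
    rw [h1]
    exact hY.ub α hα

theorem exists_prime [Finite P] {Y : Subgroup (MulAut P)} (h : ¬ Y ≤ Cfsg.Inn P) :
    ∃ α ∈ Y, (orderOf (kl P α)).Prime := by
  obtain ⟨β, hβ, hβ'⟩ := SetLike.not_le_iff_exists.1 h
  have h1 : orderOf (kl P β) ≠ 1 := by
    rw [Ne, orderOf_eq_one_iff, kl_eq_one]
    exact hβ'
  obtain ⟨s, hs, k, hk⟩ := Nat.exists_prime_and_dvd h1
  have hk0 : k ≠ 0 := by
    rintro rfl
    rw [mul_zero] at hk
    exact (orderOf_pos (kl P β)).ne' hk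
  refine ⟨β ^ k, Y.pow_mem hβ k, ?_⟩
  rw [map_pow, orderOf_pow_of_dvd hk0 ⟨s, by rw [hk, mul_comm]⟩, hk,
    Nat.mul_div_cancel _ (Nat.pos_of_ne_zero hk0)]
  exact hs

/-- An element of `Y` with class of prime order `s` fixing an element of order prime to `s`. -/
theorem ub_mul [Finite P] (hci : Function.Injective (MulAut.conj : P →* MulAut P)) {q : ℕ}
    {Y : Subgroup (MulAut P)} (hY : Ok q Y) {α : MulAut P}
    (hα : α ∈ Y) {s : ℕ} (hcl : orderOf (kl P α) = s) {u : P} (hu : α u = u)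
    (hco : s.Coprime (orderOf u)) : UB5 q (s * orderOf u) := by
  obtain ⟨k, hk⟩ : s ∣ orderOf α := hcl ▸ orderOf_map_dvd (kl P) α
  have hk0 : k ≠ 0 := by
    rintro rfl
    rw [mul_zero] at hk
    exact (orderOf_pos α).ne' hk
  have h1 : orderOf (α ^ k) = s := by
    rw [orderOf_pow_of_dvd hk0 ⟨s, by rw [hk, mul_comm]⟩, hk, Nat.mul_div_cancel _ (Nat.pos_of_ne_zero hk0)]
  have hc : Commute α (MulAut.conj u) := by
    change α * MulAut.conj u = MulAut.conj u * α
    ext p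
    rw [MulAut.mul_apply, MulAut.mul_apply, MulAut.conj_apply, MulAut.conj_apply, map_mul, map_mul, map_inv, hu]
  have h2 : orderOf (MulAut.conj u) = orderOf u := orderOf_injective _ hci u
  have h3 := (hc.pow_left k).orderOf_mul_eq_mul_orderOf_of_coprime (by rw [h1, h2]; exact hco)
  rw [h1, h2] at h3
  rw [← h3]
  exact hY.ub _ (Y.mul_mem (Y.pow_mem hα k) (hY.inn ⟨u, rfl⟩))

end

/-! ### Arithmetic -/

section Arith

variable {q : ℕ}

/-- `5 ^ m - 1` and so on are prime to `5` -/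
theorem not_five_dvd {m k c d : ℕ} (hm : 1 ≤ m) (hk : 1 ≤ k) (hd : d ∣ (5 ^ m) ^ k - c) (hc : c = 1) :
    ¬ 5 ∣ d := by
  subst hc
  intro h5
  have h1 : 5 ∣ (5 ^ m) ^ k := dvd_pow (dvd_pow_self 5 (by omega)) (by omega)
  have h2 : 1 ≤ (5 ^ m) ^ k := Nat.one_le_pow _ _ (by positivity)
  have h3 : 5 ∣ (5 ^ m) ^ k - ((5 ^ m) ^ k - 1) := Nat.dvd_sub h1 (h5.trans hd)
  rw [Nat.sub_sub_self h2] at h3
  omega

theorem not_five_dvd' {m k d : ℕ} (hm : 1 ≤ m) (hk : 1 ≤ k) (hd : d ∣ (5 ^ m) ^ k + 1) :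
    ¬ 5 ∣ d := by
  intro h5
  have h1 : 5 ∣ (5 ^ m) ^ k := dvd_pow (dvd_pow_self 5 (by omega)) (by omega)
  have h3 := (Nat.dvd_add_right h1).1 (h5.trans hd)
  omega

/-- `5 ∣ n` -/
theorem ub_five {m n : ℕ} (hm : 1 ≤ m) (hn : 5 ∣ n) (h : UB5 (5 ^ m) n) :
    n ∣ 5 * ((5 ^ m) ^ 2 + 1) ∨ n ∣ 5 * ((5 ^ m) ^ 2 - 1) ∨ n ∣ 25 := by
  rcases h with h | h | h | h | h | h
  · exact absurd hn (not_five_dvd hm (by norm_num) (h.trans (Nat.div_dvd_of_dvd (by
      have h1 : (5 ^ m) ^ 3 % 2 = 1 := by rw [← pow_mul, Nat.pow_mod]; simp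
      omega))) rfl)
  · exact absurd hn (not_five_dvd' hm (by norm_num) (h.trans (Nat.div_dvd_of_dvd (by
      have h1 : (5 ^ m) ^ 3 % 2 = 1 := by rw [← pow_mul, Nat.pow_mod]; simp
      omega))))
  · exact absurd hn (not_five_dvd hm (by norm_num) (h.trans (Nat.div_dvd_of_dvd (by
      have h1 : (5 ^ m) ^ 4 % 4 = 1 := by rw [← pow_mul, Nat.pow_mod]; simp
      omega))) rfl)
  · exact Or.inl h
  · exact Or.inr (Or.inl h)
  · exact Or.inr (Or.inr h)

theorem not_ub_25 {m s : ℕ} (hm : 1 ≤ m) (hs : 2 ≤ s) : ¬ UB5 (5 ^ m) (s * 25) := by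
  intro h
  rcases ub_five hm (Dvd.intro_left (s * 5) (by ring)) h with h | h | h
  · have h1 : 5 * (s * 5) ∣ 5 * ((5 ^ m) ^ 2 + 1) := by
      have e : 5 * (s * 5) = s * 25 := by ring
      rw [e]; exact h
    have h2 := Nat.dvd_of_mul_dvd_mul_left (by norm_num) h1
    exact not_five_dvd' hm (by norm_num) h2 (Dvd.intro_left s rfl)
  · have h1 : 5 * (s * 5) ∣ 5 * ((5 ^ m) ^ 2 - 1) := by
      have e : 5 * (s * 5) = s * 25 := by ring
      rw [e]; exact h
    have h2 := Nat.dvd_of_mul_dvd_mul_left (by norm_num) h1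
    exact not_five_dvd hm (by norm_num) h2 rfl (Dvd.intro_left s rfl)
  · have h1 := Nat.le_of_dvd (by norm_num) h
    omega

theorem dvd_sub_one_of {a r i j : ℕ} (hi : r ∣ a ^ i - 1) (hj : r ∣ a ^ j - 1) (hij : Nat.gcd i j = 1) :
    r ∣ a - 1 := by
  have h := Nat.dvd_gcd hi hj
  rwa [Nat.pow_sub_one_gcd_pow_sub_one, hij, pow_one] at h

theorem not_ub_five_mul {j r : ℕ} (hj : 1 ≤ j) (hr : r.Prime) (hr3 : r ≠ 3)
    (hd : r ∣ (5 ^ j) ^ 2 + 5 ^ j + 1) : ¬ UB5 (5 ^ (j * 5)) (5 * r) := by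
  intro h
  obtain ⟨a, ha⟩ : ∃ a : ℕ, a = 5 ^ j := ⟨_, rfl⟩
  rw [← ha] at hd
  have ha1 : 1 < a := by rw [ha]; exact Nat.one_lt_pow (by omega) (by norm_num)
  have hq : (5 ^ (j * 5) : ℕ) = a ^ 5 := by rw [ha, pow_mul]
  have hr3' : r ∣ a ^ 3 - 1 := by
    refine hd.trans ⟨a - 1, ?_⟩
    obtain ⟨b, hb⟩ : ∃ b, a = b + 1 := ⟨a - 1, by omega⟩
    rw [hb, Nat.add_sub_cancel, Nat.sub_eq_iff_eq_add (Nat.one_le_pow _ _ (by omega))]
    ring
  have hno : ¬ r ∣ a - 1 := by
    intro h1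
    have h2 : r ∣ a ^ 2 + a + 1 - (a - 1) * (a + 2) := Nat.dvd_sub hd (Dvd.dvd.mul_right h1 _)
    have h3 : a ^ 2 + a + 1 - (a - 1) * (a + 2) = 3 := by
      obtain ⟨b, hb⟩ : ∃ b, a = b + 1 := ⟨a - 1, by omega⟩
      rw [hb, Nat.add_sub_cancel, Nat.sub_eq_iff_eq_add (by linarith only [])]
      ring
    rw [h3] at h2
    exact hr3 ((Nat.prime_dvd_prime_iff_eq hr Nat.prime_three).1 h2)
  have hr5 : r ≠ 5 := by
    rintro rfl
    have h0 : 5 ∣ a := by rw [ha]; exact dvd_pow_self 5 (by omega)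
    have h1 : (5 : ℕ) ∣ a ^ 2 + a := Dvd.dvd.add (dvd_pow h0 (by norm_num)) h0
    have h2 := (Nat.dvd_add_right h1).1 hd
    omega
  have h20 : ∀ n, r ∣ (a ^ 5) ^ n - 1 → n ∣ 4 → False := by
    intro n hn hn4
    have h1 : r ∣ a ^ 20 - 1 := by
      obtain ⟨c, hc⟩ := hn4
      have : a ^ 20 = ((a ^ 5) ^ n) ^ c := by
        rw [← pow_mul, ← hc, ← pow_mul]
      rw [this]
      exact hn.trans (Nat.sub_one_dvd_pow_sub_one _ _)
    exact hno (dvd_sub_one_of h1 hr3' (by norm_num))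
  rcases ub_five (by omega) (Dvd.intro r rfl) h with h | h | h
  · have h2 := Nat.dvd_of_mul_dvd_mul_left (by norm_num) h
    rw [hq] at h2
    refine h20 4 (h2.trans ⟨(a ^ 5) ^ 2 - 1, ?_⟩) dvd_rfl
    have h3 : 1 ≤ (a ^ 5) ^ 2 := Nat.one_le_pow _ _ (by positivity)
    obtain ⟨b, hb⟩ : ∃ b, (a ^ 5) ^ 2 = b + 1 := ⟨(a ^ 5) ^ 2 - 1, by omega⟩
    have h4 : (a ^ 5) ^ 4 = (b + 1) ^ 2 := by rw [← hb]; ring
    rw [h4, hb, Nat.add_sub_cancel, Nat.sub_eq_iff_eq_add (Nat.one_le_pow _ _ (by omega))]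
    ring
  · have h2 := Nat.dvd_of_mul_dvd_mul_left (by norm_num) h
    rw [hq] at h2
    exact h20 2 h2 (by norm_num)
  · have h2 : r ∣ 5 := by
      have h3 : 5 * r ∣ 5 * 5 := h
      exact Nat.dvd_of_mul_dvd_mul_left (by norm_num) h3
    exact hr5 ((Nat.prime_dvd_prime_iff_eq hr Nat.prime_five).1 h2)

/-- `d ∣ q ^ 3 - 1` prime to ... -/
theorem coprime_five {j : ℕ} (hj : 1 ≤ j) (k : ℕ) (hk : 1 ≤ k) : Nat.Coprime ((5 ^ j) ^ k - 1) 5 := by
  rw [Nat.coprime_comm, Nat.Prime.coprime_iff_not_dvd Nat.prime_five]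
  exact not_five_dvd hj hk dvd_rfl rfl

theorem not_ub_singer {m : ℕ} (hm : 1 ≤ m) : ¬ UB5 (5 ^ m) ((5 ^ m) ^ 3 - 1) := by
  have hco := coprime_five hm 3 (by norm_num)
  obtain ⟨q, hq⟩ : ∃ q : ℕ, q = 5 ^ m := ⟨_, rfl⟩
  rw [← hq] at hco ⊢
  have hq5 : 5 ≤ q := by
    calc 5 = 5 ^ 1 := rfl
      _ ≤ q := by rw [hq]; exact Nat.pow_le_pow_right (by norm_num) hm
  have h125 : 5 * 5 * 5 ≤ q ^ 3 := by
    have e : q ^ 3 = q * q * q := by ring
    rw [e]
    exact Nat.mul_le_mul (Nat.mul_le_mul hq5 hq5) hq5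
  have hlt : q - 1 < q ^ 3 - 1 := by
    have : q < q ^ 3 := lt_self_pow₀ (by omega) (by norm_num)
    omega
  have hgcd : ∀ n, q ^ 3 - 1 ∣ q ^ n - 1 → Nat.gcd 3 n = 1 → False := by
    intro n hn hg
    have h1 := dvd_sub_one_of (dvd_refl (q ^ 3 - 1)) hn hg
    have h2 := Nat.le_of_dvd (by omega) h1
    omega
  intro h
  rcases h with h | h | h | h | h | h
  · have h1 := Nat.le_of_dvd (by omega) h
    omega
  · have h1 := Nat.le_of_dvd (by omega) h
    omega
  · refine hgcd 4 (h.trans (Nat.div_dvd_of_dvd ?_)) (by norm_num)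
    have h1 : q ^ 4 % 4 = 1 := by rw [hq, ← pow_mul, Nat.pow_mod]; simp
    omega
  · have h1 := hco.dvd_of_dvd_mul_left h
    refine hgcd 4 (h1.trans ⟨q ^ 2 - 1, ?_⟩) (by norm_num)
    obtain ⟨b, hb⟩ : ∃ b, q ^ 2 = b + 1 := ⟨q ^ 2 - 1, by have : 1 ≤ q ^ 2 := Nat.one_le_pow _ _ (by omega); omega⟩
    have h4 : q ^ 4 = (b + 1) ^ 2 := by rw [← hb]; ring
    rw [h4, hb, Nat.add_sub_cancel, Nat.sub_eq_iff_eq_add (Nat.one_le_pow _ _ (by omega))]
    ring
  · exact hgcd 2 (hco.dvd_of_dvd_mul_left h) (by norm_num)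
  · have h0 : q ^ 3 - 1 ∣ 5 * 5 := h
    have h1 := hco.dvd_of_dvd_mul_left h0
    have h2 := Nat.le_of_dvd (by norm_num) h1
    omega

theorem not_ub_singer_two {j : ℕ} (hj : 1 ≤ j) : ¬ UB5 (5 ^ (j * 2)) (2 * ((5 ^ j) ^ 3 - 1)) := by
  have hco := coprime_five hj 3 (by norm_num)
  obtain ⟨a, ha⟩ : ∃ a : ℕ, a = 5 ^ j := ⟨_, rfl⟩
  have hq : (5 ^ (j * 2) : ℕ) = a ^ 2 := by rw [ha, pow_mul]
  rw [← ha] at hco ⊢
  rw [hq]
  have ha5 : 5 ≤ a := by
    calc 5 = 5 ^ 1 := rfl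
      _ ≤ a := by rw [ha]; exact Nat.pow_le_pow_right (by norm_num) hj
  have h125 : 5 * 5 * 5 ≤ a ^ 3 := by
    have e : a ^ 3 = a * a * a := by ring
    rw [e]
    exact Nat.mul_le_mul (Nat.mul_le_mul ha5 ha5) ha5
  have ha4 : a ^ 3 % 4 = 1 := by rw [ha, ← pow_mul, Nat.pow_mod]; simp
  have hlt : a - 1 < a ^ 3 - 1 := by
    have : a < a ^ 3 := lt_self_pow₀ (by omega) (by norm_num)
    omega
  have hgcd : ∀ n, a ^ 3 - 1 ∣ a ^ n - 1 → Nat.gcd 3 n = 1 → False := by
    intro n hn hg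
    have h1 := dvd_sub_one_of (dvd_refl (a ^ 3 - 1)) hn hg
    have h2 := Nat.le_of_dvd (by omega) h1
    omega
  have hd2 : a ^ 3 - 1 ∣ 2 * (a ^ 3 - 1) := Dvd.intro_left 2 rfl
  intro h
  rcases h with h | h | h | h | h | h
  · -- `2 (a ^ 3 - 1) ∣ (a ^ 6 - 1) / 2`
    obtain ⟨b, hb⟩ : ∃ b, a ^ 3 = 4 * b + 1 := ⟨a ^ 3 / 4, by omega⟩
    have h6 : (a ^ 2) ^ 3 = (4 * b + 1) ^ 2 := by rw [← hb]; ring
    have h7 : ((a ^ 2) ^ 3 - 1) / 2 = (4 * b) * (2 * b + 1) := by
      rw [h6]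
      have : (4 * b + 1) ^ 2 - 1 = 2 * ((4 * b) * (2 * b + 1)) := by
        rw [Nat.sub_eq_iff_eq_add (Nat.one_le_pow _ _ (by omega))]; ring
      rw [this, Nat.mul_div_cancel_left _ (by norm_num)]
    rw [h7, hb, Nat.add_sub_cancel, mul_comm 2 (4 * b)] at h
    have h8 := Nat.dvd_of_mul_dvd_mul_left (by omega) h
    omega
  · have h1 : a ^ 3 - 1 ∣ (a ^ 2) ^ 3 + 1 := by
      refine (hd2.trans h).trans (Nat.div_dvd_of_dvd ?_)
      have : (a ^ 2) ^ 3 % 2 = 1 := by rw [ha, ← pow_mul, ← pow_mul, Nat.pow_mod]; simp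
      omega
    have h2 : a ^ 3 - 1 ∣ (a ^ 2) ^ 3 - 1 := by
      have e : (a ^ 2) ^ 3 = (a ^ 3) ^ 2 := by ring
      rw [e]
      exact Nat.sub_one_dvd_pow_sub_one _ _
    have h3 := Nat.dvd_sub h1 h2
    have h4 : (a ^ 2) ^ 3 + 1 - ((a ^ 2) ^ 3 - 1) = 2 := by
      have : 1 ≤ (a ^ 2) ^ 3 := Nat.one_le_pow _ _ (by positivity)
      omega
    rw [h4] at h3
    have := Nat.le_of_dvd (by norm_num) h3
    omega
  · refine hgcd 8 ?_ (by norm_num)
    have h1 := (hd2.trans h).trans (Nat.div_dvd_of_dvd (n := 4) ?_)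
    · have e : (a ^ 2) ^ 4 = a ^ 8 := by ring
      rwa [e] at h1
    · have h1 : (a ^ 2) ^ 4 % 4 = 1 := by rw [ha, ← pow_mul, ← pow_mul, Nat.pow_mod]; simp
      omega
  · have h1 := hco.dvd_of_dvd_mul_left (hd2.trans h)
    refine hgcd 8 (h1.trans ⟨(a ^ 2) ^ 2 - 1, ?_⟩) (by norm_num)
    obtain ⟨b, hb⟩ : ∃ b, (a ^ 2) ^ 2 = b + 1 := ⟨(a ^ 2) ^ 2 - 1, by
      have : 1 ≤ (a ^ 2) ^ 2 := Nat.one_le_pow _ _ (by positivity)
      omega⟩
    have h4 : a ^ 8 = (b + 1) ^ 2 := by rw [← hb]; ring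
    rw [h4, hb, Nat.add_sub_cancel, Nat.sub_eq_iff_eq_add (Nat.one_le_pow _ _ (by omega))]
    ring
  · refine hgcd 4 ?_ (by norm_num)
    have h1 := hco.dvd_of_dvd_mul_left (hd2.trans h)
    have e : (a ^ 2) ^ 2 = a ^ 4 := by ring
    rwa [e] at h1
  · have h0 : a ^ 3 - 1 ∣ 5 * 5 := hd2.trans h
    have h1 := hco.dvd_of_dvd_mul_left h0
    have h2 := Nat.le_of_dvd (by norm_num) h1
    omega

/-- a prime divisor of `a ^ 2 + a + 1` other than `3` -/
theorem exists_r {a : ℕ} (ha : 2 ≤ a) : ∃ r, r.Prime ∧ r ≠ 3 ∧ r ∣ a ^ 2 + a + 1 := by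
  by_contra hcon
  push Not at hcon
  have h9 : ¬ 9 ∣ a ^ 2 + a + 1 := by
    intro h
    have h1 : (a ^ 2 + a + 1) % 9 = 0 := Nat.mod_eq_zero_of_dvd h
    have h2 : a % 9 < 9 := Nat.mod_lt _ (by norm_num)
    have h3 : (a ^ 2 + a + 1) % 9 = ((a % 9) ^ 2 + a % 9 + 1) % 9 :=
      (((Nat.mod_modEq a 9).symm.pow 2).add (Nat.mod_modEq a 9).symm).add_right 1
    rw [h3] at h1
    generalize a % 9 = b at *
    interval_cases b <;> omega
  have h3 : ∀ r, r.Prime → r ∣ a ^ 2 + a + 1 → r = 3 := by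
    intro r hr hd
    by_contra hne
    exact hcon r hr hne hd
  have hpow : a ^ 2 + a + 1 ∣ 3 := by
    have h4 : a ^ 2 + a + 1 = 3 ^ (a ^ 2 + a + 1).primeFactorsList.length :=
      Nat.eq_prime_pow_of_unique_prime_dvd (by positivity) (fun {d} hd hd' => h3 d hd hd')
    rw [h4]
    have h5 : (a ^ 2 + a + 1).primeFactorsList.length < 2 := by
      by_contra h6
      push Not at h6
      apply h9
      rw [h4]
      exact pow_dvd_pow 3 h6
    have h6 := pow_dvd_pow 3 (by omega : (a ^ 2 + a + 1).primeFactorsList.length ≤ 1)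
    rwa [pow_one] at h6
  have h5 := Nat.le_of_dvd (by norm_num) hpow
  nlinarith

end Arith

end Cfsg.Agent.H425.OF
end

-- part: H425/OF/Common
section
/-!
# Common part of the outer steps for `B₃(5 ^ m)` and `D₄(5 ^ m)` (helper425)

* `sq_mem_E` : squares of isometries lie in `E Q`; `mem_E_of_odd`;
* `exists_fixed` : an element of `GL(3, 5 ^ (5 j))` of prime order `r ∣ q₀² + q₀ + 1`, `q₀ = 5 ^ j`, fixed by the field
  automorphisms of order `5`;
* `sigma_two` : the field automorphism of order `2`.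
-/

set_option autoImplicit false

namespace Cfsg.Agent.H425.OF

open QuadraticMap Cfsg.Agent.LieClassical.OrthCore Cfsg.Agent.LieClassical.OrthTrans
  Cfsg.Agent.LieClassical.OrthSimple Cfsg.Agent.ClassicalGeometry.OrthSemi
  Cfsg.Agent.ClassicalGeometry.OrthSemiCount Cfsg.Agent.ClassicalGeometry.OrthAut1
  Cfsg.Agent.H989.OutOrth.Basic Cfsg.Agent.H989.OutOrth.Forms

section orth

variable {F V : Type*} [Field F] [AddCommGroup V] [Module F V] {Q : QuadraticForm F V}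

open scoped commutatorElement in
/-- Squares of isometries lie in `E Q`. -/
theorem sq_mem_E [FiniteDimensional F V] (hG : Good Q) {g : V ≃ₗ[F] V} (hg : g ∈ O Q) : g * g ∈ E Q := by
  have hg' := hg
  rw [O_eq_closure hG.nondeg] at hg'
  have key : ∀ x ∈ Subgroup.closure (reflSet Q ∪ siegelSet Q), x * x ∈ E Q ∧ x ∈ O Q := by
    intro x hx
    induction hx using Subgroup.closure_induction with
    | mem x hx =>
      rcases hx with ⟨v, hv, rfl⟩ | ⟨u, w, hu, hw, rfl⟩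
      · rw [refl_mul_self]
        exact ⟨(E Q).one_mem, refl_mem_O hv⟩
      · exact ⟨(E Q).mul_mem (siegel_mem_E hu hw) (siegel_mem_E hu hw), siegel_mem_O hu hw⟩
    | one =>
      rw [one_mul]
      exact ⟨(E Q).one_mem, (O Q).one_mem⟩
    | mul x y _ _ hx hy =>
      refine ⟨?_, (O Q).mul_mem hx.2 hy.2⟩
      have h1 : x * y * (x * y) = x * x * ⁅x⁻¹, y⁆ * (y * y) := by
        rw [commutatorElement_def]; group
      rw [h1]
      refine (E Q).mul_mem ((E Q).mul_mem hx.1 ?_) hy.1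
      exact hG.commutator_le_E (Subgroup.commutator_mem_commutator ((O Q).inv_mem hx.2) hy.2)
    | inv x _ hx =>
      refine ⟨?_, (O Q).inv_mem hx.2⟩
      rw [← mul_inv_rev]
      exact (E Q).inv_mem hx.1
  exact (key g hg').1

theorem mem_E_of_odd [FiniteDimensional F V] (hG : Good Q) {g : V ≃ₗ[F] V} (hg : g ∈ O Q) {n : ℕ}
    (hn : g ^ (2 * n + 1) = 1) : g ∈ E Q := by
  have h1 : g = (g ^ (n + 1)) * (g ^ (n + 1)) := by
    rw [← pow_add]
    have : n + 1 + (n + 1) = (2 * n + 1) + 1 := by ring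
    rw [this, pow_succ, hn, one_mul]
  rw [h1]
  exact sq_mem_E hG ((O Q).pow_mem hg _)

end orth

section field

variable {F : Type*} [Field F] [Fintype F] {p : ℕ} [Fact p.Prime]

theorem sigma_pow {f : ℕ} (hf : 1 ≤ f) (hF : Fintype.card F = p ^ f) (σ : RingAut F) :
    ∃ i : ℕ, (∀ x, σ x = x ^ p ^ i) ∧ ∀ s : ℕ, σ ^ s = 1 → f ∣ i * s := by
  obtain ⟨φ, h1, h2, h3⟩ := exists_frob hf hF
  have hpow : ∀ (k : ℕ) (x : F), (φ ^ k) x = x ^ p ^ k := by
    intro k
    induction k with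
    | zero => intro x; rw [pow_zero, pow_zero, pow_one]; rfl
    | succ k ih =>
      intro x
      rw [pow_succ]
      change (φ ^ k) (φ x) = _
      rw [ih, h1, ← pow_mul, pow_succ, mul_comm]
  have hord : orderOf φ = f := Nat.dvd_antisymm (orderOf_dvd_of_pow_eq_one h2) (h3 _ (pow_orderOf_eq_one φ))
  have hcard : Nat.card (RingAut F) = f := Cfsg.Agent.Lib.FieldAutCard.card_ringAut hf hF
  have hfin : Finite (RingAut F) := Nat.finite_of_card_ne_zero (by omega)
  have hall : σ ∈ Subgroup.zpowers φ := by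
    have : Subgroup.zpowers φ = ⊤ := by
      apply Subgroup.eq_top_of_card_eq
      rw [Nat.card_zpowers, hord, hcard]
    rw [this]; exact Subgroup.mem_top _
  obtain ⟨i, hi⟩ := (mem_powers_iff_mem_zpowers.2 hall)
  have hi' : φ ^ i = σ := hi
  refine ⟨i, fun x => by rw [← hi', hpow], fun s hs => h3 _ ?_⟩
  rw [pow_mul, hi', hs]

theorem sigma_two {f : ℕ} (hf : 1 ≤ f) (hF : Fintype.card F = p ^ f) {σ : RingAut F} (h1 : σ ≠ 1)
    (h2 : σ ^ 2 = 1) : ∃ j : ℕ, 1 ≤ j ∧ f = j * 2 ∧ ∀ x, σ x = x ^ p ^ j := by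
  have hcard : Nat.card (RingAut F) = f := Cfsg.Agent.Lib.FieldAutCard.card_ringAut hf hF
  have hfin : Finite (RingAut F) := Nat.finite_of_card_ne_zero (by omega)
  have ho : orderOf σ = 2 := orderOf_eq_prime h2 h1
  have hd : 2 ∣ f := by
    rw [← hcard, ← ho]; exact orderOf_dvd_natCard σ
  obtain ⟨j, rfl⟩ : ∃ j, f = j * 2 := ⟨f / 2, by omega⟩
  obtain ⟨i, hi, his⟩ := sigma_pow hf hF σ
  have h3 := Nat.dvd_of_mul_dvd_mul_right (by norm_num) (his 2 h2)
  obtain ⟨c, rfl⟩ := h3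
  have hit : ∀ (n : ℕ) (x : F), x ^ p ^ (j * 2 * n) = x := by
    intro n x
    rw [pow_mul, ← hF]
    exact FiniteField.pow_card_pow n x
  refine ⟨j, by omega, rfl, fun x => ?_⟩
  rw [hi]
  rcases Nat.even_or_odd' c with ⟨d, rfl | rfl⟩
  · exfalso
    apply h1
    ext x
    rw [hi]
    have : j * (2 * d) = j * 2 * d := by ring
    rw [this, hit]
    rfl
  · have : j * (2 * d + 1) = j * 2 * d + j := by ring
    rw [this, pow_add, pow_mul, hit]

/-- an element of prime order of `GL(3, q₀)` -/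
theorem exists_fixed {j s : ℕ} (hj : 1 ≤ j) (hs : 1 ≤ s) (hF : Fintype.card F = p ^ (j * s)) {r : ℕ} (hr : r.Prime)
    (hd : r ∣ (p ^ j) ^ 3 - 1) : ∃ A : GL (Fin 3) F, orderOf A = r ∧ ∀ σ : RingAut F, σ ^ s = 1 →
      Matrix.GeneralLinearGroup.map (σ : F →+* F) A = A := by
  have hchar : CharP F p := charP_of_card hF
  let L := GaloisField p j
  have hcL : Nat.card L = p ^ j := GaloisField.card p j (by omega)
  let _ : Algebra (ZMod p) F := ZMod.algebra F p
  have := Fact.mk hr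
  have := Fintype.ofFinite L
  have hf1 : Module.finrank (ZMod p) L = j := GaloisField.finrank p (by omega)
  have hf2 : Module.finrank (ZMod p) F = j * s := by
    have h1 := Module.card_eq_pow_finrank (K := ZMod p) (V := F)
    rw [hF, ZMod.card] at h1
    exact (Nat.pow_right_injective (Fact.out : p.Prime).two_le h1).symm
  obtain ⟨ι⟩ := FiniteField.nonempty_algHom_of_finrank_dvd (F := ZMod p) (K := L) (L := F)
    (by rw [hf1, hf2]; exact Dvd.intro _ rfl)
  obtain ⟨A, hA⟩ : ∃ A : GL (Fin 3) L, orderOf A = r := by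
    refine exists_prime_orderOf_dvd_card' r ?_
    rw [Matrix.card_GL_field]
    refine dvd_trans ?_ (Finset.dvd_prod_of_mem _ (Finset.mem_univ (0 : Fin 3)))
    rw [← Nat.card_eq_fintype_card, hcL]
    simpa only [_root_.Fin.isValue, _root_.Fin.coe_ofNat_eq_mod, _root_.Nat.zero_mod, _root_.pow_zero] using hd
  have hinj : Function.Injective (Matrix.GeneralLinearGroup.map (n := Fin 3) (ι : L →+* F)) := by
    intro B C h
    apply Units.ext
    ext a b
    have h1 := congrArg (fun M : GL (Fin 3) F => (M : Matrix (Fin 3) (Fin 3) F) a b) h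
    exact (ι : L →+* F).injective h1
  refine ⟨Matrix.GeneralLinearGroup.map (ι : L →+* F) A, ?_, fun σ hσ => ?_⟩
  · rw [orderOf_injective _ hinj, hA]
  · obtain ⟨i, hi, his⟩ := sigma_pow (by nlinarith only [hj, hs]) hF σ
    obtain ⟨c, rfl⟩ := Nat.dvd_of_mul_dvd_mul_right (by omega) (his s hσ)
    apply Units.ext
    ext a b
    change σ (ι ((A : Matrix (Fin 3) (Fin 3) L) a b)) = ι ((A : Matrix (Fin 3) (Fin 3) L) a b)
    rw [hi, ← map_pow]
    congr 1
    rw [pow_mul, ← hcL, Nat.card_eq_fintype_card]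
    exact FiniteField.pow_card_pow c _

end field

end Cfsg.Agent.H425.OF
end
end

-- part: H425/OF/B3
section
prune_inst 0x4f5506f045e42020000008086c1001e52aa0004b0000808008800004c0c88cc2a0882a860b030110612a080854039006813000000424000000e000400011d01a080824200a349010ca6009f800080000000000000000000000000000000000000000000000
set_option linter.all false
open scoped Cfsg.Agent.FastGrp

-- part: H425/OF/ElB3
section
/-!
# Elements of the orthogonal group of `x² + ∑ aᵢ bᵢ` in dimension `7` (helper425)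

* `u7` : an isometry with coordinates in the prime field, of order `25` in characteristic `5`, also modulo scalars;
* `DG` : `GL(3, q)` acting on `⟨a⟩ ⊕ ⟨b⟩`, as semisimilitudes; the field automorphisms `Fi7`.
-/

set_option autoImplicit false

namespace Cfsg.Agent.H425.OF

open QuadraticMap Matrix Cfsg.Agent.LieClassical.OrthCore Cfsg.Agent.LieClassical.OrthTrans
  Cfsg.Agent.LieClassical.OrthSimple Cfsg.Agent.ClassicalGeometry.OrthSemi
  Cfsg.Agent.ClassicalGeometry.OrthSemiCount Cfsg.Agent.ClassicalGeometry.OrthAut1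
  Cfsg.Agent.ClassicalGeometry.OrthSemiForms Cfsg.Agent.LieClassical.OrthForms
  Cfsg.Agent.H989.OutOrth.Basic Cfsg.Agent.H989.OutOrth.Forms

variable {F : Type*} [Field F]

/-- the space -/
abbrev V7 (F : Type*) : Type _ := Unit ⊕ (Fin 3 ⊕ Fin 3) → F

omit [Field F] in
theorem ext7 {x y : V7 F} (h : x (.inl ()) = y (.inl ())) (h0 : x (.inr (.inl 0)) = y (.inr (.inl 0)))
    (h1 : x (.inr (.inl 1)) = y (.inr (.inl 1))) (h2 : x (.inr (.inl 2)) = y (.inr (.inl 2)))
    (k0 : x (.inr (.inr 0)) = y (.inr (.inr 0))) (k1 : x (.inr (.inr 1)) = y (.inr (.inr 1)))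
    (k2 : x (.inr (.inr 2)) = y (.inr (.inr 2))) : x = y := by
  funext i
  rcases i with i | i | i
  · exact h
  · fin_cases i <;> assumption
  · fin_cases i <;> assumption

/-- a vector from its coordinates -/
def mk7 (t a0 a1 a2 b0 b1 b2 : F) : V7 F := Sum.elim (fun _ => t) (Sum.elim ![a0, a1, a2] ![b0, b1, b2])

section mk
variable (t a0 a1 a2 b0 b1 b2 : F)
omit [Field F] in
theorem mk7_t : mk7 t a0 a1 a2 b0 b1 b2 (.inl ()) = t := rfl
omit [Field F] in
theorem mk7_a0 : mk7 t a0 a1 a2 b0 b1 b2 (.inr (.inl 0)) = a0 := rfl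
omit [Field F] in
theorem mk7_a1 : mk7 t a0 a1 a2 b0 b1 b2 (.inr (.inl 1)) = a1 := rfl
omit [Field F] in
theorem mk7_a2 : mk7 t a0 a1 a2 b0 b1 b2 (.inr (.inl 2)) = a2 := rfl
omit [Field F] in
theorem mk7_b0 : mk7 t a0 a1 a2 b0 b1 b2 (.inr (.inr 0)) = b0 := rfl
omit [Field F] in
theorem mk7_b1 : mk7 t a0 a1 a2 b0 b1 b2 (.inr (.inr 1)) = b1 := rfl
omit [Field F] in
theorem mk7_b2 : mk7 t a0 a1 a2 b0 b1 b2 (.inr (.inr 2)) = b2 := rfl
end mk

theorem norm7 (v : V7 F) : oddForm 3 F v = v (.inl ()) ^ 2 + (v (.inr (.inl 0)) * v (.inr (.inr 0)) +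
    v (.inr (.inl 1)) * v (.inr (.inr 1)) + v (.inr (.inl 2)) * v (.inr (.inr 2))) := by
  rw [coe_oddForm, quadFormOdd_apply, Fin.sum_univ_three]

/-- the function of `u7` -/
def u7f (v : V7 F) : V7 F :=
  mk7 (v (.inl ()) + v (.inr (.inr 2)))
    (-2 * v (.inl ()) + v (.inr (.inl 0)) + v (.inr (.inl 1)) + v (.inr (.inl 2)) - v (.inr (.inr 2)))
    (-2 * v (.inl ()) + v (.inr (.inl 1)) + v (.inr (.inl 2)) - v (.inr (.inr 2)))
    (-2 * v (.inl ()) + v (.inr (.inl 2)) - v (.inr (.inr 2)))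
    (v (.inr (.inr 0)))
    (-v (.inr (.inr 0)) + v (.inr (.inr 1)))
    (-v (.inr (.inr 1)) + v (.inr (.inr 2)))

/-- the function of `u7⁻¹` -/
def u7i (v : V7 F) : V7 F :=
  mk7 (v (.inl ()) - v (.inr (.inr 0)) - v (.inr (.inr 1)) - v (.inr (.inr 2)))
    (v (.inr (.inl 0)) - v (.inr (.inl 1)))
    (v (.inr (.inl 1)) - v (.inr (.inl 2)))
    (2 * v (.inl ()) + v (.inr (.inl 2)) - v (.inr (.inr 0)) - v (.inr (.inr 1)) - v (.inr (.inr 2)))
    (v (.inr (.inr 0)))
    (v (.inr (.inr 0)) + v (.inr (.inr 1)))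
    (v (.inr (.inr 0)) + v (.inr (.inr 1)) + v (.inr (.inr 2)))

macro "coord7" : tactic => `(tactic| (apply ext7 <;>
  simp only [u7f, u7i, mk7_t, mk7_a0, mk7_a1, mk7_a2, mk7_b0, mk7_b1, mk7_b2, Pi.add_apply, Pi.smul_apply,
    smul_eq_mul] <;> ring))

/-- a regular unipotent isometry -/
def u7 (F : Type*) [Field F] : V7 F ≃ₗ[F] V7 F where
  toFun := u7f
  invFun := u7i
  map_add' a b := by coord7
  map_smul' c a := by
    rw [RingHom.id_apply]
    coord7
  left_inv v := by coord7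
  right_inv v := by coord7

theorem u7_apply (v : V7 F) : u7 F v = u7f v := rfl

theorem u7_mem : u7 F ∈ O (oddForm 3 F) := by
  intro v
  rw [u7_apply, norm7, norm7]
  simp only [u7f, mk7_t, mk7_a0, mk7_a1, mk7_a2, mk7_b0, mk7_b1, mk7_b2]
  ring

/-- the square -/
theorem u7_two (v : V7 F) : u7f (u7f v) =
  mk7 (v (.inl ()) - v (.inr (.inr 1)) + 2 * v (.inr (.inr 2)))
    (-8 * v (.inl ()) + v (.inr (.inl 0)) + 2 * v (.inr (.inl 1)) + 3 * v (.inr (.inl 2)) + v (.inr (.inr 1)) -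
      6 * v (.inr (.inr 2)))
    (-6 * v (.inl ()) + v (.inr (.inl 1)) + 2 * v (.inr (.inl 2)) + v (.inr (.inr 1)) - 5 * v (.inr (.inr 2)))
    (-4 * v (.inl ()) + v (.inr (.inl 2)) + v (.inr (.inr 1)) - 4 * v (.inr (.inr 2)))
    (v (.inr (.inr 0)))
    (-2 * v (.inr (.inr 0)) + v (.inr (.inr 1)))
    (v (.inr (.inr 0)) - 2 * v (.inr (.inr 1)) + v (.inr (.inr 2))) := by coord7

/-- the fifth power in characteristic `5` -/
def w7f (c : F) (v : V7 F) : V7 F :=
  mk7 (v (.inl ())) (v (.inr (.inl 0)) + c * v (.inr (.inr 1))) (v (.inr (.inl 1)) - c * v (.inr (.inr 0)))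
    (v (.inr (.inl 2))) (v (.inr (.inr 0))) (v (.inr (.inr 1))) (v (.inr (.inr 2)))

theorem u7_five (h5 : (5 : F) = 0) (v : V7 F) : (u7 F ^ 5) v = w7f 2 v := by
  have h1 : (u7 F ^ 5) v = u7f (u7f (u7f (u7f (u7f v)))) := by
    have e : ∀ w, (u7 F) w = u7f w := fun _ => rfl
    simp only [pow_succ, pow_zero, one_mul, LinearEquiv.mul_apply, e]
  rw [h1, u7_two, u7_two]
  apply ext7 <;> simp only [u7f, w7f, mk7_t, mk7_a0, mk7_a1, mk7_a2, mk7_b0, mk7_b1, mk7_b2]
  · linear_combination (2 * v (.inr (.inr 0)) - 2 * v (.inr (.inr 1)) + v (.inr (.inr 2))) * h5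
  · linear_combination (-14 * v (.inl ()) + v (.inr (.inl 1)) + 3 * v (.inr (.inl 2)) - 7 * v (.inr (.inr 0)) +
      15 * v (.inr (.inr 1)) - 21 * v (.inr (.inr 2))) * h5
  · linear_combination (-6 * v (.inl ()) + v (.inr (.inl 2)) - 5 * v (.inr (.inr 0)) + 10 * v (.inr (.inr 1)) -
      11 * v (.inr (.inr 2))) * h5
  · linear_combination (-2 * v (.inl ()) - 4 * v (.inr (.inr 0)) + 6 * v (.inr (.inr 1)) - 5 * v (.inr (.inr 2))) * h5
  · linear_combination (-v (.inr (.inr 0))) * h5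
  · linear_combination (2 * v (.inr (.inr 0)) - v (.inr (.inr 1))) * h5

theorem w7_w7 (c d : F) (v : V7 F) : w7f c (w7f d v) = w7f (c + d) v := by
  apply ext7 <;> simp only [w7f, mk7_t, mk7_a0, mk7_a1, mk7_a2, mk7_b0, mk7_b1, mk7_b2] <;> ring

theorem w7_zero (v : V7 F) : w7f 0 v = v := by
  apply ext7 <;> simp only [w7f, mk7_t, mk7_a0, mk7_a1, mk7_a2, mk7_b0, mk7_b1, mk7_b2] <;> ring

theorem u7_pow (h5 : (5 : F) = 0) : u7 F ^ 25 = 1 := by
  have h1 : ∀ v, ((u7 F ^ 5) ^ 5) v = v := by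
    intro v
    have h2 : ((u7 F ^ 5) ^ 5) v = w7f 2 (w7f 2 (w7f 2 (w7f 2 (w7f 2 v)))) := by
      simp only [← u7_five h5]
      generalize u7 F ^ 5 = x
      simp only [pow_succ, pow_zero, one_mul]
      rfl
    rw [h2, w7_w7, w7_w7, w7_w7, w7_w7]
    have h3 : (2 : F) + 2 + 2 + 2 + 2 = 0 := by linear_combination 2 * h5
    rw [h3, w7_zero]
  have h2 : u7 F ^ 25 = (u7 F ^ 5) ^ 5 := by rw [← pow_mul]
  rw [h2]
  exact LinearEquiv.ext h1

theorem u7_ns (h5 : (5 : F) = 0) (h2 : (2 : F) ≠ 0) : ¬ ∃ c : F, ∀ v, (u7 F ^ 5) v = c • v := by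
  rintro ⟨c, hc⟩
  have h1 := hc (mk7 0 0 0 0 0 1 0)
  rw [u7_five h5] at h1
  have h3 := congrFun h1 (.inr (.inl 0))
  have h4 : w7f 2 (mk7 0 0 0 0 0 1 0 : V7 F) (.inr (.inl 0)) = 0 + 2 * 1 := rfl
  have h5 : (c • (mk7 0 0 0 0 0 1 0 : V7 F)) (.inr (.inl 0)) = c * 0 := rfl
  rw [h4, h5] at h3
  apply h2
  linear_combination h3

/-- the field automorphisms -/
def Fi7 (σ : RingAut F) : Gam (oddForm 3 F) := ⟨cw _ F σ, _, _, isSS_cw_odd 3 σ⟩

theorem Fi7_apply (σ : RingAut F) (v : V7 F) (i : Unit ⊕ (Fin 3 ⊕ Fin 3)) : (Fi7 σ).1 v i = σ (v i) := rfl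

theorem Fi7_pow (σ : RingAut F) (k : ℕ) : Fi7 σ ^ k = Fi7 (σ ^ k) := by
  apply Subtype.ext
  change (cw _ F σ) ^ k = cw _ F (σ ^ k)
  rw [map_pow]

theorem Fi7_one : Fi7 (1 : RingAut F) = 1 := rfl

theorem Fi7_u7 (σ : RingAut F) (v : V7 F) : (Fi7 σ).1 (u7 F v) = u7 F ((Fi7 σ).1 v) := by
  have h2 : σ 2 = 2 := map_ofNat σ 2
  apply ext7 <;> simp only [Fi7_apply, u7_apply, u7f, mk7_t, mk7_a0, mk7_a1, mk7_a2, mk7_b0, mk7_b1, mk7_b2,
    map_add, map_sub, map_mul, map_neg, h2]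

/-! ### `GL(3, q)` -/

/-- the action of `GL(3, q)` -/
def DL : GL (Fin 3) F →* (V7 F ≃ₗ[F] V7 F) where
  toFun A :=
    { toFun := fun v => Sum.elim (fun _ => v (.inl ())) (Sum.elim ((A : Matrix (Fin 3) (Fin 3) F) *ᵥ fun i => v (.inr (.inl i)))
        (((A⁻¹ : GL (Fin 3) F) : Matrix (Fin 3) (Fin 3) F)ᵀ *ᵥ fun i => v (.inr (.inr i))))
      invFun := fun v => Sum.elim (fun _ => v (.inl ())) (Sum.elim (((A⁻¹ : GL (Fin 3) F) : Matrix (Fin 3) (Fin 3) F) *ᵥ
        fun i => v (.inr (.inl i))) ((A : Matrix (Fin 3) (Fin 3) F)ᵀ *ᵥ fun i => v (.inr (.inr i))))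
      map_add' := fun a b => by
        funext i
        rcases i with i | i | i
        · rfl
        · exact congrFun (mulVec_add _ (fun i => a (.inr (.inl i))) (fun i => b (.inr (.inl i)))) i
        · exact congrFun (mulVec_add _ (fun i => a (.inr (.inr i))) (fun i => b (.inr (.inr i)))) i
      map_smul' := fun c a => by
        funext i
        rcases i with i | i | i
        · rfl
        · exact congrFun (mulVec_smul _ c (fun i => a (.inr (.inl i)))) i
        · exact congrFun (mulVec_smul _ c (fun i => a (.inr (.inr i)))) i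
      left_inv := fun v => by
        funext i
        rcases i with i | i | i
        · rfl
        · change (((A⁻¹ : GL (Fin 3) F) : Matrix (Fin 3) (Fin 3) F) *ᵥ
            ((A : Matrix (Fin 3) (Fin 3) F) *ᵥ fun i => v (.inr (.inl i)))) i = _
          rw [mulVec_mulVec, ← Units.val_mul, inv_mul_cancel, Units.val_one, one_mulVec]
        · change (((A : Matrix (Fin 3) (Fin 3) F))ᵀ *ᵥ
            (((A⁻¹ : GL (Fin 3) F) : Matrix (Fin 3) (Fin 3) F)ᵀ *ᵥ fun i => v (.inr (.inr i)))) i = _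
          rw [mulVec_mulVec, ← transpose_mul, ← Units.val_mul, inv_mul_cancel, Units.val_one, transpose_one, one_mulVec]
      right_inv := fun v => by
        funext i
        rcases i with i | i | i
        · rfl
        · change ((A : Matrix (Fin 3) (Fin 3) F) *ᵥ (((A⁻¹ : GL (Fin 3) F) : Matrix (Fin 3) (Fin 3) F) *ᵥ
            fun i => v (.inr (.inl i)))) i = _
          rw [mulVec_mulVec, ← Units.val_mul, mul_inv_cancel, Units.val_one, one_mulVec]
        · change ((((A⁻¹ : GL (Fin 3) F) : Matrix (Fin 3) (Fin 3) F))ᵀ *ᵥ ((A : Matrix (Fin 3) (Fin 3) F)ᵀ *ᵥ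
            fun i => v (.inr (.inr i)))) i = _
          rw [mulVec_mulVec, ← transpose_mul, ← Units.val_mul, mul_inv_cancel, Units.val_one, transpose_one, one_mulVec] }
  map_one' := by
    ext v i
    rcases i with i | i | i
    · rfl
    · change ((1 : Matrix (Fin 3) (Fin 3) F) *ᵥ fun i => v (.inr (.inl i))) i = _
      rw [one_mulVec]; rfl
    · change (((1⁻¹ : GL (Fin 3) F) : Matrix (Fin 3) (Fin 3) F)ᵀ *ᵥ fun i => v (.inr (.inr i))) i = _
      rw [inv_one, Units.val_one, transpose_one, one_mulVec]; rfl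
  map_mul' A B := by
    ext v i
    rcases i with i | i | i
    · rfl
    · change (((A * B : GL (Fin 3) F) : Matrix (Fin 3) (Fin 3) F) *ᵥ fun i => v (.inr (.inl i))) i =
        ((A : Matrix (Fin 3) (Fin 3) F) *ᵥ ((B : Matrix (Fin 3) (Fin 3) F) *ᵥ fun i => v (.inr (.inl i)))) i
      rw [mulVec_mulVec, Units.val_mul]
    · change ((((A * B)⁻¹ : GL (Fin 3) F) : Matrix (Fin 3) (Fin 3) F)ᵀ *ᵥ fun i => v (.inr (.inr i))) i =
        (((A⁻¹ : GL (Fin 3) F) : Matrix (Fin 3) (Fin 3) F)ᵀ *ᵥ (((B⁻¹ : GL (Fin 3) F) : Matrix (Fin 3) (Fin 3) F)ᵀ *ᵥ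
          fun i => v (.inr (.inr i)))) i
      rw [mulVec_mulVec, ← transpose_mul, _root_.mul_inv_rev, Units.val_mul]

theorem DL_apply (A : GL (Fin 3) F) (v : V7 F) : DL A v = Sum.elim (fun _ => v (.inl ()))
    (Sum.elim ((A : Matrix (Fin 3) (Fin 3) F) *ᵥ fun i => v (.inr (.inl i)))
        (((A⁻¹ : GL (Fin 3) F) : Matrix (Fin 3) (Fin 3) F)ᵀ *ᵥ fun i => v (.inr (.inr i)))) := rfl

theorem DL_mem (A : GL (Fin 3) F) : DL A ∈ O (oddForm 3 F) := by
  intro v
  have hd : ∀ w : V7 F, oddForm 3 F w = w (.inl ()) ^ 2 +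
      (fun i => w (.inr (.inl i))) ⬝ᵥ (fun i => w (.inr (.inr i))) := fun w => by
    rw [coe_oddForm, quadFormOdd_apply]; rfl
  rw [hd, hd, DL_apply]
  congr 1
  change ((A : Matrix (Fin 3) (Fin 3) F) *ᵥ fun i => v (.inr (.inl i))) ⬝ᵥ
    (((A⁻¹ : GL (Fin 3) F) : Matrix (Fin 3) (Fin 3) F)ᵀ *ᵥ fun i => v (.inr (.inr i))) = _
  rw [dotProduct_mulVec, vecMul_transpose, mulVec_mulVec, ← Units.val_mul, inv_mul_cancel, Units.val_one, one_mulVec]

theorem DL_scalar {A : GL (Fin 3) F} {c : F} (h : ∀ v, DL A v = c • v) : A = 1 := by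
  have hc : c = 1 := by
    have h1 := congrFun (h (mk7 1 0 0 0 0 0 0)) (.inl ())
    have h2 : DL A (mk7 1 0 0 0 0 0 0) (.inl ()) = 1 := rfl
    have h3 : (c • (mk7 1 0 0 0 0 0 0 : V7 F)) (.inl ()) = c * 1 := rfl
    rw [h2, h3, mul_one] at h1
    exact h1.symm
  subst hc
  apply Units.ext
  rw [Units.val_one]
  apply Matrix.ext_of_mulVec_single
  intro j
  rw [one_mulVec]
  funext i
  have h1 := congrFun (h (Sum.elim (fun _ => 0) (Sum.elim (Pi.single j 1) 0))) (.inr (.inl i))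
  rw [one_smul] at h1
  exact h1

/-- `GL(3, q)` as similitudes -/
def DG : GL (Fin 3) F →* Gam (oddForm 3 F) := (ofO _).comp (DL.codRestrict (O (oddForm 3 F)) DL_mem)

theorem DG_apply (A : GL (Fin 3) F) (v : V7 F) : (DG A).1 v = DL A v := rfl

theorem sg_DG (hG : Good (oddForm 3 F)) (A : GL (Fin 3) F) : sg hG (DG A) = 1 := sg_ofO hG _

theorem Psi_DG_injective (hG : Good (oddForm 3 F)) :
    Function.Injective ((Psi (oddForm 3 F)).comp (DG (F := F))) := by
  rw [injective_iff_map_eq_one]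
  intro A hA
  have h1 : DG A ∈ (Psi (oddForm 3 F)).ker := MonoidHom.mem_ker.2 hA
  rw [ker_Psi hG] at h1
  obtain ⟨a, ha⟩ := h1
  refine DL_scalar (c := a) fun v => ?_
  rw [← DG_apply, ← ha, scal_apply]

theorem Fi7_DG (σ : RingAut F) (A : GL (Fin 3) F) :
    Fi7 σ * DG A = DG (Matrix.GeneralLinearGroup.map (σ : F →+* F) A) * Fi7 σ := by
  apply Subtype.ext
  ext v i
  change σ (DL A v i) = DL (Matrix.GeneralLinearGroup.map (σ : F →+* F) A) ((Fi7 σ).1 v) i
  rcases i with i | i | i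
  · rfl
  · change (σ : F →+* F) (((A : Matrix (Fin 3) (Fin 3) F) *ᵥ fun i => v (.inr (.inl i))) i) = _
    rw [RingHom.map_mulVec]
    rfl
  · change (σ : F →+* F) ((((A⁻¹ : GL (Fin 3) F) : Matrix (Fin 3) (Fin 3) F)ᵀ *ᵥ fun i => v (.inr (.inr i))) i) = _
    rw [RingHom.map_mulVec]
    change _ = ((((Matrix.GeneralLinearGroup.map (σ : F →+* F) A)⁻¹ : GL (Fin 3) F) : Matrix (Fin 3) (Fin 3) F)ᵀ *ᵥ
      fun i => σ (v (.inr (.inr i)))) i
    rw [← map_inv]
    rfl

end Cfsg.Agent.H425.OF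
end

-- part: H425/OF/B3
section
/-!
# No outer automorphisms for `Ω₇(q)`, `q = 5 ^ m` (helper425)

`out_b3` : `S ⊲ X` with trivial centralizer, `S ≅ Ω₇(q)`, the element orders of `X` satisfy `UB5 q`: `S = ⊤`.
-/

set_option autoImplicit false

namespace Cfsg.Agent.H425.OF

open QuadraticMap Matrix Cfsg.Agent.LieClassical.OrthCore Cfsg.Agent.LieClassical.OrthTrans
  Cfsg.Agent.LieClassical.OrthSimple Cfsg.Agent.ClassicalGeometry.OrthSemi
  Cfsg.Agent.ClassicalGeometry.OrthSemiCount Cfsg.Agent.ClassicalGeometry.OrthAut1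
  Cfsg.Agent.ClassicalGeometry.OrthSemiForms Cfsg.Agent.LieClassical.OrthForms
  Cfsg.Agent.H989.OutOrth.Basic Cfsg.Agent.H989.OutOrth.Forms Cfsg.Agent.H376.Six

section general

variable {F V : Type*} [Field F] [AddCommGroup V] [Module F V] {Q : QuadraticForm F V}

/-- the order of the class of an isometry which is not scalar -/
theorem orderOf_mk (hG : Good Q) {g : ↥(E Q)} {r k : ℕ} (hr : r.Prime) (h1 : g ^ r ^ (k + 1) = 1)
    (h2 : ¬ ∃ c : F, ∀ v, ((g : V ≃ₗ[F] V) ^ r ^ k) v = c • v) : orderOf (g : P Q) = r ^ (k + 1) := by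
  have := Fact.mk hr
  refine orderOf_eq_prime_pow (fun h => h2 ?_) ?_
  · have h3 : (g ^ r ^ k) ∈ Subgroup.center ↥(E Q) := by
      rw [← QuotientGroup.eq_one_iff, QuotientGroup.mk_pow]
      exact h
    obtain ⟨c, hc⟩ := center_scalar hG h3
    refine ⟨c, fun v => ?_⟩
    rw [← hc v, SubmonoidClass.coe_pow]
  · rw [← QuotientGroup.mk_pow, h1]
    rfl

theorem order_two_mul {G : Type*} [Group G] [Finite G] {x : G} (h : 2 ∣ orderOf x) :
    orderOf x = 2 * orderOf (x ^ 2) := by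
  rw [orderOf_pow_of_dvd (by norm_num) h]
  omega

end general

variable {F : Type*} [Field F] [Fintype F]

theorem finite_P7 : Finite (P (oddForm 3 F)) := by
  have hfinE : Finite (V7 F ≃ₗ[F] V7 F) := Finite.of_injective (fun g => g.toEquiv)
    fun g h e => LinearEquiv.toEquiv_injective e
  infer_instance

omit [Fintype F] in
theorem orderOf_Psi_DG (hG : Good (oddForm 3 F)) (A : GL (Fin 3) F) : orderOf (Psi (oddForm 3 F) (DG A)) = orderOf A :=
  orderOf_injective _ ((Psi_DG_injective hG :)) A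

set_option maxHeartbeats 1000000 in
theorem b3_core {m : ℕ} (hm : 1 ≤ m) (hF : Fintype.card F = 5 ^ m) (Y : Subgroup (MulAut (P (oddForm 3 F))))
    (hY : Ok (Fintype.card F) Y) : Y ≤ Cfsg.Inn (P (oddForm 3 F)) := by
  have := Fact.mk Nat.prime_five
  have hchar : CharP F 5 := charP_of_card hF
  have h5 : (5 : F) = 0 := by
    have := CharP.cast_eq_zero F 5
    exact_mod_cast this
  have h2 : (2 : F) ≠ 0 := by
    intro h
    have h1 : (1 : F) = 0 := by linear_combination h5 - 2 * h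
    exact one_ne_zero h1
  have hG : Good (oddForm 3 F) := good_odd (by norm_num) h2
  have hfin := finite_P7 (F := F)
  have hfin2 : Finite (MulAut (P (oddForm 3 F))) := inferInstance
  have hci := _root_.Cfsg.Agent.H989.OutOrth.Basic.conj_injective hG
  have hsurj := Cfsg.Agent.AutOrth.Final.surjective_odd (F := F) (m := 3) (by norm_num) h2
  have hsg : Function.Surjective (sg hG) := fun σ => ⟨Fi7 σ, sg_eq hG (isSS_cw_odd 3 σ)⟩
  have hcard := card_range_odd (F := F) hm hF (by decide) (m := 3) (by norm_num)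
  ((conv at hcard => enter [@3, @6, @1, @6]; rw [← coe_oddForm]))
  have hD := card_D_eq hm hF hG hsg hcard
  have hn := D_normal hG hsurj
  -- the nontrivial element of `D`
  have huniq : ∀ x ∈ D hG, ∀ y ∈ D hG, x ≠ 1 → y ≠ 1 → x = y := by
    obtain ⟨y0, -, hu⟩ := (Nat.card_eq_two_iff' (1 : D hG)).1 hD
    intro x hx y hy hx1 hy1
    have e1 : (⟨x, hx⟩ : D hG) = y0 := hu _ fun h => hx1 (congrArg Subtype.val h)
    have e2 : (⟨y, hy⟩ : D hG) = y0 := hu _ fun h => hy1 (congrArg Subtype.val h)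
    exact congrArg Subtype.val (e1.trans e2.symm)
  have hsing : ∀ A : GL (Fin 3) F, orderOf A = Fintype.card F ^ 3 - 1 → Psi _ (DG A) ∉ Y := by
    intro A hA h
    have h1 := hY.ub _ h
    rw [orderOf_Psi_DG hG, hA, hF] at h1
    exact not_ub_singer hm h1
  have hDG : ∀ A : GL (Fin 3) F, out _ (DG A) ∈ D hG := fun A => out_mem_D.2 (sg_DG hG A)
  have hDG1 : ∀ A : GL (Fin 3) F, orderOf A = Fintype.card F ^ 3 - 1 → out _ (DG A) ≠ 1 := by
    intro A hA h
    exact hsing A hA (hY.inn (kl_eq_one.1 h))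
  by_contra hcon
  obtain ⟨α, hα, hs⟩ := exists_prime hcon
  obtain ⟨M, rfl⟩ := hsurj α
  obtain ⟨σ, hσ⟩ : ∃ σ, σ = sg hG M := ⟨_, rfl⟩
  have hkl : ∀ N : Gam (oddForm 3 F), kl _ (Psi _ N) = out _ N := fun N => rfl
  rw [hkl] at hs
  obtain ⟨s, hs'⟩ : ∃ s, s = orderOf (out (oddForm 3 F) M) := ⟨_, rfl⟩
  rw [← hs'] at hs
  have hd : out _ M * (out _ (Fi7 σ))⁻¹ ∈ D hG := by
    ((conv => enter [@5, @6]; rw [← map_inv]); (conv => enter [@5]; rw [← map_mul]); rewrite [out_mem_D, map_mul, map_inv, hσ])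
    have : sg hG (Fi7 (sg hG M)) = sg hG M := sg_eq hG (isSS_cw_odd 3 _)
    rw [this, mul_inv_cancel]
  have hsgF : ∀ τ : RingAut F, sg hG (Fi7 τ) = τ := fun τ => sg_eq hG (isSS_cw_odd 3 τ)
  have hcomm : ∀ x ∈ D hG, ∀ y, x * y = y * x := fun x hx y => comm_of_card_two hn hD hx y
  by_cases hd1 : out _ M * (out _ (Fi7 σ))⁻¹ = 1
  · -- the class of a field automorphism
    have h1 : out _ (Fi7 σ) = out _ M := (mul_inv_eq_one.1 hd1).symm
    have h3 : Psi _ (Fi7 σ) ∈ Y := hY.mem hα h1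
    have h4 : orderOf (kl _ (Psi _ (Fi7 σ))) = s := by simp only [hkl, h1, hs']
    have hσs : σ ^ s = 1 := by
      have h6 : out _ (Fi7 σ ^ s) = 1 := by simp only [map_pow, h1, hs', pow_orderOf_eq_one]
      have h7 := sg_eq_one_of_out hG h6
      rwa [map_pow, hsgF] at h7
    by_cases h5s : s = 5
    · subst h5s
      have hσ1 : σ ≠ 1 := by
        rintro rfl
        simp only [Fi7_one, map_one] at h1
        rw [← h1, orderOf_one] at hs'
        norm_num at hs'
      have h6 : 5 ∣ m := by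
        have h7 : orderOf σ = 5 := orderOf_eq_prime hσs hσ1
        have h8 : Nat.card (RingAut F) = m := Cfsg.Agent.Lib.FieldAutCard.card_ringAut hm hF
        have : Finite (RingAut F) := Nat.finite_of_card_ne_zero (by omega)
        rw [← h7, ← h8]
        exact orderOf_dvd_natCard σ
      obtain ⟨j, rfl⟩ : ∃ j, m = j * 5 := ⟨m / 5, by omega⟩
      obtain ⟨r, hr, hr3, hrd⟩ := exists_r (a := 5 ^ j) (by
        have : (1 : ℕ) < 5 ^ j := Nat.one_lt_pow (by omega) (by norm_num)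
        omega)
      have hr3' : r ∣ (5 ^ j) ^ 3 - 1 := by
        refine hrd.trans ⟨5 ^ j - 1, ?_⟩
        obtain ⟨b, hb⟩ : ∃ b, 5 ^ j = b + 1 := ⟨5 ^ j - 1, by have : 1 ≤ 5 ^ j := Nat.one_le_pow _ _ (by norm_num); omega⟩
        rw [hb, Nat.add_sub_cancel, Nat.sub_eq_iff_eq_add (Nat.one_le_pow _ _ (by omega))]
        ring
      obtain ⟨A, hA, hAσ⟩ := exists_fixed (F := F) (j := j) (s := 5) (by omega) (by norm_num) hF hr hr3'
      have hr2 : r ≠ 2 := by
        rintro rfl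
        have h9 : (5 ^ j) % 2 = 1 := by rw [Nat.pow_mod]; simp
        have h10 : ((5 ^ j) ^ 2) % 2 = 1 := by rw [Nat.pow_mod, h9]
        omega
      obtain ⟨c, hc⟩ := hr.odd_of_ne_two hr2
      have hrE : DL A ∈ E (oddForm 3 F) := mem_E_of_odd hG (DL_mem A) (n := c) (by
        rw [← map_pow, ← hc, ← hA, pow_orderOf_eq_one, map_one])
      have ho : orderOf ((⟨DL A, hrE⟩ : ↥(E (oddForm 3 F))) : P (oddForm 3 F)) = r := by
        have h7 := orderOf_mk hG (g := ⟨DL A, hrE⟩) (r := r) (k := 0) hr (by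
          apply Subtype.ext
          rw [SubmonoidClass.coe_pow]
          change DL A ^ r ^ (0 + 1) = 1
          rw [zero_add, pow_one, ← map_pow, ← hA, pow_orderOf_eq_one, map_one]) (by
          rintro ⟨d, hd⟩
          rw [pow_zero, pow_one] at hd
          have h8 := DL_scalar hd
          rw [h8, orderOf_one] at hA
          exact hr.one_lt.ne hA)
        rwa [zero_add, pow_one] at h7
      have hfix : Psi _ (Fi7 σ) ((⟨DL A, hrE⟩ : ↥(E (oddForm 3 F))) : P (oddForm 3 F)) =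
          ((⟨DL A, hrE⟩ : ↥(E (oddForm 3 F))) : P (oddForm 3 F)) := by
        rw [Psi_mk]
        congr 1
        apply Subtype.ext
        rw [coe_conjE]
        ext1 v
        obtain ⟨v, rfl⟩ := (Fi7 σ).1.surjective v
        rw [conjLin_apply']
        have h9 := Fi7_DG σ A
        rw [hAσ σ hσs] at h9
        have h10 := congrArg (fun N : Gam (oddForm 3 F) => N.1 v) h9
        exact h10
      have h11 := ub_mul hci hY h3 h4 hfix (by
        rw [ho]
        refine (Nat.coprime_primes Nat.prime_five hr).2 ?_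
        rintro rfl
        exact not_five_dvd (m := j) (k := 3) (by omega) (by norm_num) hr3' rfl dvd_rfl)
      rw [ho, hF] at h11
      exact not_ub_five_mul (by omega) hr hr3 hrd h11
    · have huE : u7 F ∈ E (oddForm 3 F) := mem_E_of_odd hG u7_mem (n := 12) (u7_pow h5)
      have ho : orderOf ((⟨u7 F, huE⟩ : ↥(E (oddForm 3 F))) : P (oddForm 3 F)) = 25 := by
        have h7 := orderOf_mk hG (g := ⟨u7 F, huE⟩) (r := 5) (k := 1) Nat.prime_five (by
          apply Subtype.ext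
          rw [SubmonoidClass.coe_pow]
          exact u7_pow h5) (by
          have := u7_ns (F := F) h5 h2
          rwa [pow_one])
        exact h7
      have hfix : Psi _ (Fi7 σ) ((⟨u7 F, huE⟩ : ↥(E (oddForm 3 F))) : P (oddForm 3 F)) =
          ((⟨u7 F, huE⟩ : ↥(E (oddForm 3 F))) : P (oddForm 3 F)) := by
        rw [Psi_mk]
        congr 1
        apply Subtype.ext
        rw [coe_conjE]
        ext1 v
        obtain ⟨v, rfl⟩ := (Fi7 σ).1.surjective v
        rw [conjLin_apply']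
        exact Fi7_u7 σ v
      have h11 := ub_mul hci hY h3 h4 hfix (by
        rw [ho]
        exact Nat.Coprime.pow_right 2 ((Nat.coprime_primes hs Nat.prime_five).2 h5s))
      rw [ho, hF] at h11
      exact not_ub_25 hm hs.two_le h11
  · -- the other coset
    obtain ⟨A0, hA0⟩ := exists_singer_one (F := F) hF
    have hz : out _ M * (out _ (Fi7 σ))⁻¹ = out _ (DG A0) := huniq _ hd _ (hDG A0) hd1 (hDG1 A0 hA0)
    have hM : out _ M = out _ (DG A0) * out _ (Fi7 σ) := by simp only [← hz, inv_mul_cancel_right]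
    have hz2 : out _ (DG A0) ^ 2 = 1 := by
      have h6 : Nat.card (D hG) = 2 := hD
      have h7 : (⟨_, hDG A0⟩ : D hG) ^ Nat.card (D hG) = 1 := pow_card_eq_one'
      ((conv at h7 => enter [@2, @6]; rw [h6]))
      exact congrArg Subtype.val h7
    have hc : Commute (out _ (DG A0)) (out _ (Fi7 σ)) := hcomm _ (hDG A0) _
    have h3 : out _ M ^ s = 1 := by rw [hs', pow_orderOf_eq_one]
    have hσs : σ ^ s = 1 := by
      have h7 : out _ (M ^ s) = 1 := by rw [map_pow, h3]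
      have h8 := sg_eq_one_of_out hG h7
      rwa [map_pow, ← hσ] at h8
    have hs2 : s = 2 := by
      by_contra hne
      obtain ⟨c, hc'⟩ := hs.odd_of_ne_two hne
      simp_rw [hM, hc.mul_pow, ← map_pow (out _) (Fi7 σ), Fi7_pow, hσs, Fi7_one, map_one, mul_one, hc', pow_succ, pow_mul, hz2,
        one_pow, one_mul] at h3
      exact hDG1 A0 hA0 h3
    subst hs2
    by_cases hσ1 : σ = 1
    · have h4 : out _ M = out _ (DG A0) := by simp only [hM, hσ1, Fi7_one, map_one, mul_one]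
      exact hsing A0 hA0 (hY.mem hα h4.symm)
    · obtain ⟨j, hj, rfl, hσj⟩ := sigma_two hm hF hσ1 hσs
      obtain ⟨A, hA, hA2⟩ := exists_singer hj hF (σ := σ) hσj
      have h4 : out _ (DG A) = out _ (DG A0) := huniq _ (hDG A) _ (hDG A0) (hDG1 A hA) (hDG1 A0 hA0)
      have h6 : Psi _ (DG A * Fi7 σ) ∈ Y := hY.mem hα (by
        change out _ (DG A * Fi7 σ) = out _ M
        simp only [map_mul, h4, hM])
      have h7 : (DG A * Fi7 σ) ^ 2 = DG (A * Matrix.GeneralLinearGroup.map (σ : F →+* F) A) := by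
        rw [pow_two, map_mul]
        calc DG A * Fi7 σ * (DG A * Fi7 σ) = DG A * (Fi7 σ * DG A) * Fi7 σ := by group
          _ = DG A * DG (Matrix.GeneralLinearGroup.map (σ : F →+* F) A) * (Fi7 σ * Fi7 σ) := by
            rw [Fi7_DG]; group
          _ = _ := by
            rw [← pow_two, Fi7_pow, hσs, Fi7_one, mul_one]
      have h8 : orderOf (Psi (oddForm 3 F) (DG A * Fi7 σ)) = 2 * ((5 ^ j) ^ 3 - 1) := by
        (rewrite [order_two_mul]; simp only [← map_pow]; simp only [h7]; rewrite [orderOf_Psi_DG hG, hA2]; with_reducible rfl)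
        have h9 : orderOf (kl _ (Psi _ (DG A * Fi7 σ))) ∣ orderOf (Psi (oddForm 3 F) (DG A * Fi7 σ)) :=
          orderOf_map_dvd _ _
        have h10 : kl _ (Psi _ (DG A * Fi7 σ)) = out _ M := by
          change out _ (DG A * Fi7 σ) = out _ M
          simp only [map_mul, h4, hM]
        (simp only [h10, ← hs'] at h9; assumption)
      have h9 := hY.ub _ h6
      rw [h8, hF] at h9
      exact not_ub_singer_two hj h9

theorem out_b3 {F : Type*} [Field F] [Fintype F] {m : ℕ} (hm : 1 ≤ m) (hF : Fintype.card F = 5 ^ m) {X : Type*}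
    [Group X] [Finite X] (S : Subgroup X) [S.Normal] (hc : Subgroup.centralizer (S : Set X) = ⊥)
    (e : ↥S ≃* Cfsg.POmega F (Cfsg.quadFormOdd 3 F)) (hub : ∀ x : X, UB5 (Fintype.card F) (orderOf x)) : S = ⊤ := by
  have := Fact.mk Nat.prime_five
  have hchar : CharP F 5 := charP_of_card hF
  have h5 : (5 : F) = 0 := by
    have := CharP.cast_eq_zero F 5
    exact_mod_cast this
  have h2 : (2 : F) ≠ 0 := by
    intro h
    have h1 : (1 : F) = 0 := by linear_combination h5 - 2 * h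
    exact one_ne_zero h1
  have hG : Good (oddForm 3 F) := good_odd (by norm_num) h2
  have e1 : Cfsg.POmega F (Cfsg.quadFormOdd 3 F) ≃* P (oddForm 3 F) := by
    rw [← coe_oddForm]
    exact pomegaEquiv hG
  exact top_of_ok S hc (e.trans e1) hub fun Y hY => b3_core hm hF Y hY

end Cfsg.Agent.H425.OF
end

private theorem dce_108ef7fdf9ba : _root_.True := by
  try have : _root_.True := by simp only [_root_.Cfsg.Agent.H425.OF.w7f.eq_1]
  try have : _root_.True := by simp only [_root_.Cfsg.Agent.H425.OF.u7f.eq_1]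
  try have : _root_.True := by simp only [_root_.Cfsg.Agent.H425.OF.u7i.eq_1]
  exact _root_.True.intro
end

-- part: H425/OF/D4
section
prune_inst 0x4f5506f044e42000000008086c1001e528a0004b0000808008800004c0c88cc2a0d82a860b030110612a000854039006813000000424000000e000400011d018000800000a1490108820096800080000000000000000000000000000000000000000000000
set_option linter.all false
open scoped Cfsg.Agent.FastGrp

-- part: H425/OF/ElD4
section
/-!
# Elements of the orthogonal group of the octonions (helper425)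

* `u8` : an automorphism of the octonions with coordinates in the prime field, of order `25` in characteristic `5`, also
  modulo scalars; it is fixed by triality, conjugation and the field automorphisms;
* `DG8` : `GL(3, q)` acting on `⟨e₁, e₂, e₃⟩ ⊕ ⟨f₁, f₂, f₃⟩`, as semisimilitudes.
-/

set_option autoImplicit false

namespace Cfsg.Agent.H425.OF

open QuadraticMap Matrix Cfsg.Agent.LieClassical.QuadForms Cfsg.Agent.LieClassical.OrthCore
  Cfsg.Agent.LieClassical.OrthTrans Cfsg.Agent.LieClassical.OrthSimple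
  Cfsg.Agent.ClassicalGeometry.TrialityOct Cfsg.Agent.ClassicalGeometry.OrthAut1
  Cfsg.Agent.ClassicalGeometry.Triality Cfsg.Agent.ClassicalGeometry.OrthSemi
  Cfsg.Agent.ClassicalGeometry.OrthSemiCount
  Cfsg.Agent.H989.OutOrth.Basic Cfsg.Agent.H989.OutOrth.Forms Cfsg.Agent.H989.OutOrth.Tri
  Cfsg.Agent.H989.OutOrth.Four

variable {F : Type*} [Field F]

/-- a vector from its coordinates -/
def mk8 (a0 a1 a2 a3 b0 b1 b2 b3 : F) : V8 F := Sum.elim ![a0, a1, a2, a3] ![b0, b1, b2, b3]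

section mk
variable (a0 a1 a2 a3 b0 b1 b2 b3 : F)
omit [Field F] in
theorem mk8_a0 : mk8 a0 a1 a2 a3 b0 b1 b2 b3 (.inl 0) = a0 := rfl
omit [Field F] in
theorem mk8_a1 : mk8 a0 a1 a2 a3 b0 b1 b2 b3 (.inl 1) = a1 := rfl
omit [Field F] in
theorem mk8_a2 : mk8 a0 a1 a2 a3 b0 b1 b2 b3 (.inl 2) = a2 := rfl
omit [Field F] in
theorem mk8_a3 : mk8 a0 a1 a2 a3 b0 b1 b2 b3 (.inl 3) = a3 := rfl
omit [Field F] in
theorem mk8_b0 : mk8 a0 a1 a2 a3 b0 b1 b2 b3 (.inr 0) = b0 := rfl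
omit [Field F] in
theorem mk8_b1 : mk8 a0 a1 a2 a3 b0 b1 b2 b3 (.inr 1) = b1 := rfl
omit [Field F] in
theorem mk8_b2 : mk8 a0 a1 a2 a3 b0 b1 b2 b3 (.inr 2) = b2 := rfl
omit [Field F] in
theorem mk8_b3 : mk8 a0 a1 a2 a3 b0 b1 b2 b3 (.inr 3) = b3 := rfl
end mk

/-- the function of `u8` -/
def u8f (v : V8 F) : V8 F :=
  mk8 (v (.inl 0) - v (.inl 1) + v (.inl 2))
    (v (.inl 1) - v (.inl 2))
    (v (.inl 2) + v (.inr 3))
    (v (.inl 3) - v (.inr 1) - v (.inr 2))
    (v (.inl 1) - v (.inl 2) + v (.inr 0))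
    (-v (.inl 0) + v (.inl 1) - v (.inl 2) + v (.inr 0) + v (.inr 1))
    (v (.inr 1) + v (.inr 2))
    (v (.inr 3))

/-- the function of `u8⁻¹` -/
def u8i (v : V8 F) : V8 F :=
  mk8 (v (.inl 0) + v (.inl 1))
    (v (.inl 1) + v (.inl 2) - v (.inr 3))
    (v (.inl 2) - v (.inr 3))
    (v (.inl 3) + v (.inr 2))
    (-v (.inl 1) + v (.inr 0))
    (v (.inl 0) + v (.inl 1) - v (.inr 0) + v (.inr 1))
    (-v (.inl 0) - v (.inl 1) + v (.inr 0) - v (.inr 1) + v (.inr 2))
    (v (.inr 3))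

macro "mkc8" : tactic => `(tactic| (apply ext8 <;>
  simp only [u8f, u8i, mk8_a0, mk8_a1, mk8_a2, mk8_a3, mk8_b0, mk8_b1, mk8_b2, mk8_b3, Pi.add_apply, Pi.smul_apply,
    smul_eq_mul] <;> ring))

/-- a regular unipotent automorphism of the octonions -/
def u8 (F : Type*) [Field F] : V8 F ≃ₗ[F] V8 F where
  toFun := u8f
  invFun := u8i
  map_add' a b := by mkc8
  map_smul' c a := by
    rw [RingHom.id_apply]
    mkc8
  left_inv v := by mkc8
  right_inv v := by mkc8

theorem u8_apply (v : V8 F) : u8 F v = u8f v := rfl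

theorem u8_mem : u8 F ∈ O (plusForm 4 F) := by
  intro v
  rw [u8_apply, norm8, norm8]
  simp only [u8f, mk8_a0, mk8_a1, mk8_a2, mk8_a3, mk8_b0, mk8_b1, mk8_b2, mk8_b3]
  ring

theorem u8_tri : Tri (u8 F) (u8 F) (u8 F) := by
  intro x y
  rw [u8_apply, u8_apply, u8_apply]
  apply ext8 <;> simp only [u8f, mk8_a0, mk8_a1, mk8_a2, mk8_a3, mk8_b0, mk8_b1, mk8_b2, mk8_b3,
    omul_l0, omul_l1, omul_l2, omul_l3, omul_r0, omul_r1, omul_r2, omul_r3] <;> ring

theorem u8_oconj (x : V8 F) : oconj (u8 F x) = u8 F (oconj x) := by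
  rw [u8_apply, u8_apply]
  apply ext8 <;> simp only [u8f, mk8_a0, mk8_a1, mk8_a2, mk8_a3, mk8_b0, mk8_b1, mk8_b2, mk8_b3,
    oconj_l0, oconj_l1, oconj_l2, oconj_l3, oconj_r0, oconj_r1, oconj_r2, oconj_r3] <;> ring

theorem kap_u8 : kap F * u8 F * kap F = u8 F := by
  ext1 x
  change oconj (u8 F (oconj x)) = u8 F x
  rw [u8_oconj, oconj_oconj]

/-- the square -/
theorem u8_two (v : V8 F) : u8f (u8f v) =
  mk8 (v (.inl 0) - 2 * v (.inl 1) + 3 * v (.inl 2) + v (.inr 3))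
    (v (.inl 1) - 2 * v (.inl 2) - v (.inr 3))
    (v (.inl 2) + 2 * v (.inr 3))
    (v (.inl 0) - v (.inl 1) + v (.inl 2) + v (.inl 3) - v (.inr 0) - 3 * v (.inr 1) - 2 * v (.inr 2))
    (2 * v (.inl 1) - 3 * v (.inl 2) + v (.inr 0) - v (.inr 3))
    (-2 * v (.inl 0) + 4 * v (.inl 1) - 5 * v (.inl 2) + 2 * v (.inr 0) + v (.inr 1) - v (.inr 3))
    (-v (.inl 0) + v (.inl 1) - v (.inl 2) + v (.inr 0) + 2 * v (.inr 1) + v (.inr 2))
    (v (.inr 3)) := by mkc8

/-- the fifth power in characteristic `5` -/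
def w8f (c : F) (v : V8 F) : V8 F :=
  mk8 (v (.inl 0)) (v (.inl 1)) (v (.inl 2)) (v (.inl 3) + c * v (.inl 2)) (v (.inr 0)) (v (.inr 1))
    (v (.inr 2) - c * v (.inr 3)) (v (.inr 3))

theorem u8_five (h5 : (5 : F) = 0) (v : V8 F) : (u8 F ^ 5) v = w8f 2 v := by
  have h1 : (u8 F ^ 5) v = u8f (u8f (u8f (u8f (u8f v)))) := by
    simp only [pow_succ, pow_zero, one_mul, LinearEquiv.mul_apply, u8_apply]
  rw [h1, u8_two, u8_two]
  apply ext8 <;> simp only [u8f, w8f, mk8_a0, mk8_a1, mk8_a2, mk8_a3, mk8_b0, mk8_b1, mk8_b2, mk8_b3]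
  · linear_combination (-v (.inl 1) + 3 * v (.inl 2) + 4 * v (.inr 3)) * h5
  · linear_combination (-v (.inl 2) - 2 * v (.inr 3)) * h5
  · linear_combination (v (.inr 3)) * h5
  · linear_combination (4 * v (.inl 0) - 10 * v (.inl 1) + 15 * v (.inl 2) - 4 * v (.inr 0) - 3 * v (.inr 1) -
      v (.inr 2) + 7 * v (.inr 3)) * h5
  · linear_combination (v (.inl 1) - 3 * v (.inl 2) - 4 * v (.inr 3)) * h5
  · linear_combination (-v (.inl 0) + 5 * v (.inl 1) - 11 * v (.inl 2) + v (.inr 0) - 10 * v (.inr 3)) * h5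
  · linear_combination (-2 * v (.inl 0) + 6 * v (.inl 1) - 10 * v (.inl 2) + 2 * v (.inr 0) + v (.inr 1) -
      5 * v (.inr 3)) * h5

theorem w8_w8 (c d : F) (v : V8 F) : w8f c (w8f d v) = w8f (c + d) v := by
  apply ext8 <;> simp only [w8f, mk8_a0, mk8_a1, mk8_a2, mk8_a3, mk8_b0, mk8_b1, mk8_b2, mk8_b3] <;> ring

theorem w8_zero (v : V8 F) : w8f 0 v = v := by
  apply ext8 <;> simp only [w8f, mk8_a0, mk8_a1, mk8_a2, mk8_a3, mk8_b0, mk8_b1, mk8_b2, mk8_b3] <;> ring

theorem u8_pow (h5 : (5 : F) = 0) : u8 F ^ 25 = 1 := by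
  have h1 : ∀ v, ((u8 F ^ 5) ^ 5) v = v := by
    intro v
    have h2 : ((u8 F ^ 5) ^ 5) v = w8f 2 (w8f 2 (w8f 2 (w8f 2 (w8f 2 v)))) := by
      simp only [← u8_five h5]
      generalize u8 F ^ 5 = x
      simp only [pow_succ, pow_zero, one_mul]
      rfl
    rw [h2, w8_w8, w8_w8, w8_w8, w8_w8]
    have h3 : (2 : F) + 2 + 2 + 2 + 2 = 0 := by linear_combination 2 * h5
    rw [h3, w8_zero]
  have h2 : u8 F ^ 25 = (u8 F ^ 5) ^ 5 := by rw [← pow_mul]
  rw [h2]
  exact LinearEquiv.ext h1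

theorem u8_ns (h5 : (5 : F) = 0) (h2 : (2 : F) ≠ 0) : ¬ ∃ c : F, ∀ v, (u8 F ^ 5) v = c • v := by
  rintro ⟨c, hc⟩
  have h1 := hc (mk8 0 0 1 0 0 0 0 0)
  rw [u8_five h5] at h1
  have h3 := congrFun h1 (.inl 3)
  have h4 : w8f 2 (mk8 0 0 1 0 0 0 0 0 : V8 F) (.inl 3) = 0 + 2 * 1 := rfl
  have h5 : (c • (mk8 0 0 1 0 0 0 0 0 : V8 F)) (.inl 3) = c * 0 := rfl
  rw [h4, h5] at h3
  apply h2
  linear_combination h3

theorem Fi_u8 (σ : RingAut F) (v : V8 F) : (Fi σ).1 (u8 F v) = u8 F ((Fi σ).1 v) := by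
  apply ext8 <;> simp only [Fi_apply, u8_apply, u8f, mk8_a0, mk8_a1, mk8_a2, mk8_a3, mk8_b0, mk8_b1, mk8_b2, mk8_b3,
    map_add, map_sub, map_neg]

/-! ### `GL(3, q)` -/

/-- the function of `DL8 A` -/
def d8 (A B : Matrix (Fin 3) (Fin 3) F) (v : V8 F) : V8 F :=
  Sum.elim (Fin.cons (v (.inl 0)) (A *ᵥ fun i => v (.inl i.succ)))
    (Fin.cons (v (.inr 0)) (Bᵀ *ᵥ fun i => v (.inr i.succ)))

omit [Field F] in
theorem ext_succ {v w : V8 F} (h0 : v (.inl 0) = w (.inl 0)) (h1 : ∀ i : Fin 3, v (.inl i.succ) = w (.inl i.succ))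
    (k0 : v (.inr 0) = w (.inr 0)) (k1 : ∀ i : Fin 3, v (.inr i.succ) = w (.inr i.succ)) : v = w := by
  funext i
  rcases i with i | i
  · exact Fin.cases h0 h1 i
  · exact Fin.cases k0 k1 i

section d8
variable (A B : Matrix (Fin 3) (Fin 3) F) (v : V8 F)
theorem d8_l (i : Fin 3) : d8 A B v (.inl i.succ) = (A *ᵥ fun i => v (.inl i.succ)) i := rfl
theorem d8_r (i : Fin 3) : d8 A B v (.inr i.succ) = (Bᵀ *ᵥ fun i => v (.inr i.succ)) i := rfl
end d8

seal Matrix.mulVec in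
theorem d8_mul (A B A' B' : Matrix (Fin 3) (Fin 3) F) (v : V8 F) : d8 A B (d8 A' B' v) = d8 (A * A') (B' * B) v := by
  refine ext_succ rfl (fun i => ?_) rfl fun i => ?_
  · rw [d8_l, d8_l]
    simp only [d8_l]
    rw [mulVec_mulVec]
  · rw [d8_r, d8_r]
    simp only [d8_r]
    rw [mulVec_mulVec, transpose_mul]

theorem d8_one (v : V8 F) : d8 1 1 v = v := by
  refine ext_succ rfl (fun i => ?_) rfl fun i => ?_
  · rw [d8_l, one_mulVec]
  · rw [d8_r, transpose_one, one_mulVec]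

/-- the action of `GL(3, q)` -/
def DL8 : GL (Fin 3) F →* (V8 F ≃ₗ[F] V8 F) where
  toFun A :=
    { toFun := d8 (A : Matrix (Fin 3) (Fin 3) F) ((A⁻¹ : GL (Fin 3) F) : Matrix (Fin 3) (Fin 3) F)
      invFun := d8 ((A⁻¹ : GL (Fin 3) F) : Matrix (Fin 3) (Fin 3) F) (A : Matrix (Fin 3) (Fin 3) F)
      map_add' := fun a b => by
        refine ext_succ rfl (fun i => ?_) rfl fun i => ?_
        · exact congrFun (mulVec_add _ (fun i : Fin 3 => a (.inl i.succ)) (fun i : Fin 3 => b (.inl i.succ))) i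
        · exact congrFun (mulVec_add _ (fun i : Fin 3 => a (.inr i.succ)) (fun i : Fin 3 => b (.inr i.succ))) i
      map_smul' := fun c a => by
        refine ext_succ rfl (fun i => ?_) rfl fun i => ?_
        · exact congrFun (mulVec_smul _ c (fun i : Fin 3 => a (.inl i.succ))) i
        · exact congrFun (mulVec_smul _ c (fun i : Fin 3 => a (.inr i.succ))) i
      left_inv := fun v => by
        rw [d8_mul, ← Units.val_mul, inv_mul_cancel, Units.val_one, d8_one]
      right_inv := fun v => by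
        rw [d8_mul, ← Units.val_mul, mul_inv_cancel, Units.val_one, d8_one] }
  map_one' := by
    ext1 v
    change d8 ((1 : GL (Fin 3) F) : Matrix (Fin 3) (Fin 3) F) ((1⁻¹ : GL (Fin 3) F) : Matrix (Fin 3) (Fin 3) F) v = v
    rw [inv_one, Units.val_one, d8_one]
  map_mul' A B := by
    ext1 v
    change d8 ((A * B : GL (Fin 3) F) : Matrix (Fin 3) (Fin 3) F) (((A * B)⁻¹ : GL (Fin 3) F) : Matrix (Fin 3) (Fin 3) F) v =
      d8 (A : Matrix (Fin 3) (Fin 3) F) ((A⁻¹ : GL (Fin 3) F) : Matrix (Fin 3) (Fin 3) F)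
        (d8 (B : Matrix (Fin 3) (Fin 3) F) ((B⁻¹ : GL (Fin 3) F) : Matrix (Fin 3) (Fin 3) F) v)
    rw [d8_mul, _root_.mul_inv_rev, Units.val_mul, Units.val_mul]

theorem DL8_apply (A : GL (Fin 3) F) (v : V8 F) : DL8 A v =
    d8 (A : Matrix (Fin 3) (Fin 3) F) ((A⁻¹ : GL (Fin 3) F) : Matrix (Fin 3) (Fin 3) F) v := rfl

theorem DL8_mem (A : GL (Fin 3) F) : DL8 A ∈ O (plusForm 4 F) := by
  intro v
  have hd : ∀ w : V8 F, plusForm 4 F w = w (.inl 0) * w (.inr 0) +
      (fun i : Fin 3 => w (.inl i.succ)) ⬝ᵥ (fun i : Fin 3 => w (.inr i.succ)) := fun w => by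
    rw [plusForm_apply, Fin.sum_univ_succ]; rfl
  rw [hd, hd, DL8_apply]
  congr 1
  change ((A : Matrix (Fin 3) (Fin 3) F) *ᵥ fun i => v (.inl i.succ)) ⬝ᵥ
    (((A⁻¹ : GL (Fin 3) F) : Matrix (Fin 3) (Fin 3) F)ᵀ *ᵥ fun i => v (.inr i.succ)) = _
  rw [dotProduct_mulVec, vecMul_transpose, mulVec_mulVec, ← Units.val_mul, inv_mul_cancel, Units.val_one, one_mulVec]

theorem DL8_scalar {A : GL (Fin 3) F} {c : F} (h : ∀ v, DL8 A v = c • v) : A = 1 := by
  have hc : c = 1 := by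
    have h1 := congrFun (h (mk8 1 0 0 0 0 0 0 0)) (.inl 0)
    have h2 : DL8 A (mk8 1 0 0 0 0 0 0 0) (.inl 0) = 1 := rfl
    have h3 : (c • (mk8 1 0 0 0 0 0 0 0 : V8 F)) (.inl 0) = c * 1 := rfl
    rw [h2, h3, mul_one] at h1
    exact h1.symm
  subst hc
  apply Units.ext
  rw [Units.val_one]
  apply Matrix.ext_of_mulVec_single
  intro j
  rw [one_mulVec]
  funext i
  have h1 := congrFun (h (Sum.elim (Fin.cons 0 (Pi.single j 1)) 0)) (.inl i.succ)
  rw [one_smul] at h1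
  exact h1

/-- `GL(3, q)` as similitudes -/
def DG8 : GL (Fin 3) F →* Gam (plusForm 4 F) := (ofO _).comp (DL8.codRestrict (O (plusForm 4 F)) DL8_mem)

theorem DG8_apply (A : GL (Fin 3) F) (v : V8 F) : (DG8 A).1 v = DL8 A v := rfl

theorem Psi_DG8_injective (hG : Good (plusForm 4 F)) :
    Function.Injective ((Psi (plusForm 4 F)).comp (DG8 (F := F))) := by
  rw [injective_iff_map_eq_one]
  intro A hA
  have h1 : DG8 A ∈ (Psi (plusForm 4 F)).ker := MonoidHom.mem_ker.2 hA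
  rw [ker_Psi hG] at h1
  obtain ⟨a, ha⟩ := h1
  refine DL8_scalar (c := a) fun v => ?_
  rw [← DG8_apply, ← ha, scal_apply]

theorem orderOf_Psi_DG8 (hG : Good (plusForm 4 F)) (A : GL (Fin 3) F) :
    orderOf (Psi (plusForm 4 F) (DG8 A)) = orderOf A :=
  orderOf_injective _ (Psi_DG8_injective hG) A

theorem Fi_DG8 (σ : RingAut F) (A : GL (Fin 3) F) :
    Fi σ * DG8 A = DG8 (Matrix.GeneralLinearGroup.map (σ : F →+* F) A) * Fi σ := by
  apply Subtype.ext
  ext1 v
  refine ext_succ rfl (fun i => ?_) rfl fun i => ?_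
  · change (σ : F →+* F) (((A : Matrix (Fin 3) (Fin 3) F) *ᵥ fun i => v (.inl i.succ)) i) = _
    rw [RingHom.map_mulVec]
    rfl
  · change (σ : F →+* F) ((((A⁻¹ : GL (Fin 3) F) : Matrix (Fin 3) (Fin 3) F)ᵀ *ᵥ fun i => v (.inr i.succ)) i) = _
    rw [RingHom.map_mulVec]
    change _ = ((((Matrix.GeneralLinearGroup.map (σ : F →+* F) A)⁻¹ : GL (Fin 3) F) : Matrix (Fin 3) (Fin 3) F)ᵀ *ᵥ
      fun i => σ (v (.inr i.succ))) i
    rw [← map_inv]
    rfl

/-! ### The dilations -/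

/-- `(x, y) ↦ (c x, y)`. -/
def dil8P (c : Fˣ) : Equiv.Perm (V8 F) where
  toFun v := Sum.elim (fun i => (c : F) * v (.inl i)) (fun i => v (.inr i))
  invFun v := Sum.elim (fun i => ((c⁻¹ : Fˣ) : F) * v (.inl i)) (fun i => v (.inr i))
  left_inv v := by
    funext i
    rcases i with i | i
    · change ((c⁻¹ : Fˣ) : F) * ((c : F) * v (.inl i)) = v (.inl i)
      rw [← mul_assoc, Units.inv_mul, one_mul]
    · rfl
  right_inv v := by
    funext i
    rcases i with i | i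
    · change (c : F) * (((c⁻¹ : Fˣ) : F) * v (.inl i)) = v (.inl i)
      rw [← mul_assoc, Units.mul_inv, one_mul]
    · rfl

theorem isSS_dil8P (c : Fˣ) : IsSS (plusForm 4 F) (RingEquiv.refl F) c (dil8P c) := by
  refine ⟨c.ne_zero, ?_, ?_, ?_⟩
  · intro u v
    funext i
    rcases i with i | i
    · exact mul_add _ _ _
    · rfl
  · intro a v
    funext i
    rcases i with i | i
    · exact mul_left_comm _ _ _
    · rfl
  · intro v
    rw [plusForm_apply, plusForm_apply]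
    change _ = (c : F) * ∑ i : Fin 4, v (.inl i) * v (.inr i)
    rw [Finset.mul_sum]
    refine Finset.sum_congr rfl fun i _ => ?_
    change (c : F) * v (.inl i) * v (.inr i) = _
    ring

/-- The similitude `(x, y) ↦ (c x, y)`. -/
def dil8 (c : Fˣ) : Gam (plusForm 4 F) := ⟨dil8P c, _, _, isSS_dil8P c⟩

theorem dil8_DG8 (c : Fˣ) (A : GL (Fin 3) F) : dil8 c * DG8 A = DG8 A * dil8 c := by
  apply Subtype.ext
  ext1 v
  refine ext_succ rfl (fun i => ?_) rfl fun i => rfl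
  change (c : F) * ((A : Matrix (Fin 3) (Fin 3) F) *ᵥ fun i => v (.inl i.succ)) i =
    ((A : Matrix (Fin 3) (Fin 3) F) *ᵥ fun i => (c : F) * v (.inl i.succ)) i
  have h1 : (fun i : Fin 3 => (c : F) * v (.inl i.succ)) = (c : F) • fun i : Fin 3 => v (.inl i.succ) := rfl
  rw [h1, mulVec_smul]
  rfl

end Cfsg.Agent.H425.OF
end

-- part: H425/OF/D4
section
/-!
# No outer automorphisms for `PΩ₈⁺(q)`, `q = 5 ^ m` (helper425)

`out_d4` : `S ⊲ X` with trivial centralizer, `S ≅ PΩ₈⁺(q)`, the element orders of `X` satisfy `UB5 q`: `S = ⊤`.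
-/

set_option autoImplicit false

namespace Cfsg.Agent.H425.OF

open QuadraticMap Matrix Cfsg.Agent.LieClassical.QuadForms Cfsg.Agent.LieClassical.OrthCore
  Cfsg.Agent.LieClassical.OrthTrans Cfsg.Agent.LieClassical.OrthSimple
  Cfsg.Agent.ClassicalGeometry.TrialityOct Cfsg.Agent.ClassicalGeometry.OrthAut1
  Cfsg.Agent.ClassicalGeometry.Triality Cfsg.Agent.ClassicalGeometry.OrthSemi
  Cfsg.Agent.ClassicalGeometry.OrthSemiCount Cfsg.Agent.H376.Six
  Cfsg.Agent.H989.OutOrth.Basic Cfsg.Agent.H989.OutOrth.Forms Cfsg.Agent.H989.OutOrth.Tri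
  Cfsg.Agent.H989.OutOrth.Four Cfsg.Agent.H989.OutOrth.Small

variable {F : Type*} [Field F]

section fixed

variable {σ : RingAut F} {ρ : MulAut (P (plusForm 4 F))}

theorem Psi_fix {M : Gam (plusForm 4 F)} {g : ↥(E (plusForm 4 F))} (h : ∀ v, M.1 ((g : V8 F ≃ₗ[F] V8 F) v) =
    (g : V8 F ≃ₗ[F] V8 F) (M.1 v)) : Psi _ M (g : P (plusForm 4 F)) = (g : P (plusForm 4 F)) := by
  rw [Psi_mk]
  congr 1
  apply Subtype.ext
  rw [coe_conjE]
  ext1 v
  obtain ⟨v, rfl⟩ := M.1.surjective v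
  rw [conjLin_apply']
  exact h v

theorem rho_fix (hρ : IsRho ρ) (hE : u8 F ∈ E (plusForm 4 F)) :
    ρ ((⟨u8 F, hE⟩ : ↥(E (plusForm 4 F))) : P (plusForm 4 F)) =
      ((⟨u8 F, hE⟩ : ↥(E (plusForm 4 F))) : P (plusForm 4 F)) :=
  hρ ⟨u8 F, hE⟩ ⟨u8 F, hE⟩ (u8 F) (u8 F) ⟨⟨hE, hE, hE⟩, u8_tri⟩ kap_u8.symm

end fixed

theorem hom_conj_swap {A B : Type*} [Group A] [Group B] (f : A →* B) {g x y : A} {r s : B}
    (h5 : g * x * g⁻¹ = y) (h6 : f y = s) (hr : r = f x) : f g * r = s * f g := by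
  rw [← h6, ← h5, map_mul, map_mul, map_inv, inv_mul_cancel_right, hr]

/-- The classes of the isometries. -/
theorem iso_class (hG : Good (plusForm 4 F)) [Finite F] {a : V8 F} (ha : plusForm 4 F a ≠ 0)
    (hca : ¬ IsSquare (plusForm 4 F a)) (g : O (plusForm 4 F)) :
    out _ (ofO _ g) = 1 ∨ out _ (ofO _ g) = out _ (rf (one8 F) one_ne) ∨ out _ (ofO _ g) = out _ (rf a ha) ∨
      out _ (ofO _ g) = out _ (rf a ha) * out _ (rf (one8 F) one_ne) := by
  set! r1 := out (plusForm 4 F) (rf (one8 F) one_ne) with hr1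
  set! ra := out (plusForm 4 F) (rf a ha) with hra
  have hcomm : ra * r1 = r1 * ra := out_comm hG _ _
  have hr1s : r1 * r1 = 1 := by (rewrite [hr1]; (conv => enter [@2]; rw [← map_mul]); (conv => enter [@2, @6]; rw [rf_mul_self]); simp only [map_one])
  have hras : ra * ra = 1 := by (rewrite [hra]; (conv => enter [@2]; rw [← map_mul]); (conv => enter [@2, @6]; rw [rf_mul_self]); simp only [map_one])
  have e1 : r1 * ra = ra * r1 := hcomm.symm
  have e2 : r1 * (ra * r1) = ra := by simp_rw [← mul_assoc, e1, mul_assoc, hr1s, mul_one]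
  have e3 : ra * (ra * r1) = r1 := by simp only [← mul_assoc, hras, one_mul]
  have e4 : ra * r1 * r1 = ra := by simp only [mul_assoc, hr1s, mul_one]
  have e5 : ra * r1 * ra = r1 := by simp only [mul_assoc, e1, e3]
  have e6 : ra * r1 * (ra * r1) = 1 := by simp only [mul_assoc, e2, hras]
  let R : Subgroup (Cfsg.Out (P (plusForm 4 F))) :=
    { carrier := {x | x = 1 ∨ x = r1 ∨ x = ra ∨ x = ra * r1}
      one_mem' := Or.inl rfl
      mul_mem' := by
        rintro x y (rfl | rfl | rfl | rfl) (rfl | rfl | rfl | rfl) <;>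
          simp only [Set.mem_ofPred_eq, one_mul, mul_one, hr1s, hras, e1, e2, e3, e4, e5, e6, true_or, or_true]
      inv_mem' := by
        have i1 : r1⁻¹ = r1 := inv_eq_of_mul_eq_one_left hr1s
        have i2 : ra⁻¹ = ra := inv_eq_of_mul_eq_one_left hras
        have i3 : (ra * r1)⁻¹ = ra * r1 := inv_eq_of_mul_eq_one_left e6
        rintro x (rfl | rfl | rfl | rfl)
        · left; exact inv_one
        · right; left; exact i1
        · right; right; left; exact i2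
        · right; right; right; exact i3 }
  refine out_ofO_mem hG (R := R) (fun w hw => ?_) g
  rcases sq_cases hca (plusForm 4 F w) with h | h
  · right; left
    obtain ⟨s, hs⟩ := h
    exact (out_rf_of_square hG one_ne hw (s := s) (by rw [norm_one8, mul_one, hs])).symm
  · right; right; left
    obtain ⟨s, hs⟩ := h
    refine (out_rf_of_square hG ha hw (s := s) ?_).symm
    rw [← hs]
    field_simp

variable [Fintype F]

theorem finite_P8 : Finite (P (plusForm 4 F)) := by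
  have hfinE : Finite (V8 F ≃ₗ[F] V8 F) := Finite.of_injective (fun g => g.toEquiv)
    fun g h e => LinearEquiv.toEquiv_injective e
  infer_instance

set_option maxHeartbeats 2000000 in
theorem d4_core {m : ℕ} (hm : 1 ≤ m) (hF : Fintype.card F = 5 ^ m) (Y0 : Subgroup (MulAut (P (plusForm 4 F))))
    (hY0 : Ok (Fintype.card F) Y0) : Y0 ≤ Cfsg.Inn (P (plusForm 4 F)) := by
  have := Fact.mk Nat.prime_five
  have hchar : CharP F 5 := charP_of_card hF
  have h5 : (5 : F) = 0 := by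
    have := CharP.cast_eq_zero F 5
    exact_mod_cast this
  have h2 : (2 : F) ≠ 0 := by
    intro h
    have h1 : (1 : F) = 0 := by linear_combination h5 - 2 * h
    exact one_ne_zero h1
  have hG : Good (plusForm 4 F) := good4
  have hfin := finite_P8 (F := F)
  have hfin2 : Finite (MulAut (P (plusForm 4 F))) := inferInstance
  have hci := conj_injective hG
  have hkl : ∀ N : Gam (plusForm 4 F), kl _ (Psi _ N) = out _ N := fun N => rfl
  -- the structure of `Out`
  obtain ⟨φ, hφ1, hφ2, hφ3⟩ := exists_frob (F := F) hm hF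
  obtain ⟨ρ, hρ⟩ := exists_rho hG
  obtain ⟨c, hc⟩ := Cfsg.Agent.H989.OutOrth.Plus.exists_nonsquare h2
  have hcard := card_Psi (F := F) hm hF
  ((conv at hcard => enter [@3, @5, @5]; rw [if_neg (by norm_num)]))
  have hD := card_D_eq hm hF hG (sg_surj4 hG) hcard
  obtain ⟨a, ha'⟩ : ∃ a : V8 F, a = vc (c : F) := ⟨_, rfl⟩
  have hac : plusForm 4 F a = c := by rw [ha', norm_vc]
  have ha : plusForm 4 F a ≠ 0 := by rw [hac]; exact c.ne_zero
  have hca : ¬ IsSquare (plusForm 4 F a) := by rw [hac]; exact hc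
  have hnc := not_comm_of_eight hG hD (one_ne (F := F)) (δ0 := LG ha) (isSS_LP ha)
    (fun x _ => sq_cases hca x)
  have hiso := iso_class hG ha hca
  obtain ⟨r1, hr1⟩ : ∃ r1, r1 = out (plusForm 4 F) (rf (one8 F) one_ne) := ⟨_, rfl⟩
  obtain ⟨ra, hra⟩ : ∃ ra, ra = out (plusForm 4 F) (rf a ha) := ⟨_, rfl⟩
  ((conv at hnc => enter [@2, @6]; rw [← hr1]); (conv at hnc => enter [@3, @5]; rw [← hr1]))
  rw [← hr1, ← hra] at hiso
  have hk : out _ (kapG F) = r1 := by rw [hr1]; exact out_kapG hG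
  have hcomm : ra * r1 = r1 * ra := by rw [hr1, hra]; exact out_comm hG _ _
  have hr1s : r1 * r1 = 1 := by (rewrite [hr1]; (conv => enter [@2]; rw [← map_mul]); (conv => enter [@2, @6]; rw [rf_mul_self]); simp only [map_one])
  have hras : ra * ra = 1 := by (rewrite [hra]; (conv => enter [@2]; rw [← map_mul]); (conv => enter [@2, @6]; rw [rf_mul_self]); simp only [map_one])
  have hL : out _ (LG ha) * r1 = ra * out _ (LG ha) := by
    have h3 : (LG ha).1 (one8 F) = a := omul_one a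
    have h4 : plusForm 4 F ((LG ha).1 (one8 F)) ≠ 0 := by rw [h3]; exact ha
    have h5 := conj_rf (LG ha) (one_ne (F := F)) h4
    have h6 : out _ (rf ((LG ha).1 (one8 F)) h4) = ra := by
      rw [hra]; exact out_rf_of_eq hG h4 ha (by rw [h3])
    exact hom_conj_swap (out (plusForm 4 F)) h5 h6 hr1
  have hne : ra ≠ r1 := by
    intro h
    apply hnc
    ((conv => enter [@2]; rw [hL]); rewrite [h]; with_reducible rfl)
  have hz1 : ra * r1 ≠ 1 := by
    intro h
    exact hne (mul_right_cancel (h.trans hr1s.symm))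
  obtain ⟨X, hX⟩ : ∃ X, X = kapG F * LG ha * kapG F := ⟨_, rfl⟩
  have hδ : cl ρ * (ra * r1) * (cl ρ)⁻¹ = out _ X := by rw [hX, hr1, hra]; exact rho_B hG hρ ha
  have hδr : out _ X * r1 = ra * out _ X := by
    have h3 : X.1 (one8 F) = oconj a := by
      rw [hX]
      change oconj (omul a (oconj (one8 F))) = oconj a
      have h4 : oconj (one8 F) = one8 F := by apply ext8 <;> simp [oconj, one8]
      rw [h4, omul_one]
    have h4 : plusForm 4 F (X.1 (one8 F)) ≠ 0 := by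
      rw [h3, norm_oconj]; exact ha
    have h5 := conj_rf X (one_ne (F := F)) h4
    have h6 : out _ (rf (X.1 (one8 F)) h4) = ra := by
      rw [hra]; exact out_rf_of_eq hG h4 ha (by rw [h3, norm_oconj])
    exact hom_conj_swap (out (plusForm 4 F)) h5 h6 hr1
  have hFi1 : ∀ σ : RingAut F, out _ (Fi σ) * r1 = r1 * out _ (Fi σ) := fun σ => by rw [← hk]; exact Fi_kap σ
  have hclass := fun {h : Cfsg.Out (P (plusForm 4 F))} {s : ℕ} (hs : s.Prime) (hh : orderOf h = s) =>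
    four_class (H := Cfsg.Out (P (plusForm 4 F))) (f := m) (ρ := cl ρ) (k := out _ (kapG F)) (φ := out _ (Fi φ))
      (z := ra * r1) (by rw [card_Out4 hm hF, if_neg (by norm_num)]; ring) (rho_cube hG hρ) kap_sq (kap_rho hG hρ)
      (by
        calc ra * r1 * (ra * r1) = ra * (r1 * ra) * r1 := by group
          _ = (ra * ra) * (r1 * r1) := by simp only [← hcomm]; group
          _ = 1 := by simp only [hras, hr1s, one_mul]) hz1
      (by simp_rw [hk, mul_assoc, hr1s, mul_one, hcomm, ← mul_assoc, hr1s, one_mul])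
      (by simp_rw [hδ, kap_inv_eq, hk, mul_assoc, hδr, ← mul_assoc, ← hcomm]) (Fi_rho hG hρ φ) (Fi_kap φ)
      (by
        have hFa : out _ (Fi φ) * ra = ra * out _ (Fi φ) := by
          have h4 : plusForm 4 F ((Fi φ).1 a) ≠ 0 := Q_ne (Fi φ) ha
          have h5 : out _ (Fi φ) * ra * (out _ (Fi φ))⁻¹ = out _ (rf ((Fi φ).1 a) h4) := by
            (rewrite [hra]; (conv => enter [@3, @6]; rw [← conj_rf (Fi φ) ha h4]); (conv => enter [@3]; rw [map_mul]); (conv => enter [@3, @5]; rw [map_mul]); (conv => enter [@3, @6]; rw [map_inv]))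
          have h6 : plusForm 4 F ((Fi φ).1 a) = 1 * φ (plusForm 4 F a) := (isSS_Fi φ).form a
          have h7 : ra = out _ (rf ((Fi φ).1 a) h4) := by
            rw [hra]
            refine out_rf_of_square hG ha h4 (s := (plusForm 4 F a) ^ 2) ?_
            rw [h6, one_mul, hφ1]
            ring
          ((conv at h5 => enter [@3]; rw [← h7]); rewrite [mul_inv_eq_iff_eq_mul] at h5)
          exact h5
        exact mul_comm_of hFa (hFi1 φ)) (dvd_of_out_pow hG hφ3) hs hh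
  -- `DG8 A` has class `ra * r1`
  have hDG : ∀ A : GL (Fin 3) F, out _ (DG8 A) = 1 ∨ out _ (DG8 A) = ra * r1 := by
    intro A
    have h1 := hiso (DL8.codRestrict (O (plusForm 4 F)) DL8_mem A)
    have h3 : ofO _ (DL8.codRestrict (O (plusForm 4 F)) DL8_mem A) = DG8 A := rfl
    simp only [h3] at h1
    have h4 : out _ (dil8 c) * out _ (DG8 A) = out _ (DG8 A) * out _ (dil8 c) := by
      simp only [← map_mul, ← map_mul, dil8_DG8]
    have h6 : out _ (dil8 c) * r1 = ra * out _ (dil8 c) := by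
      have h7 : plusForm 4 F ((dil8 c).1 (one8 F)) ≠ 0 := Q_ne _ one_ne
      have h8 := conj_rf (dil8 c) (one_ne (F := F)) h7
      have h9 : out _ (rf ((dil8 c).1 (one8 F)) h7) = ra := by
        rw [hra]
        refine out_rf_of_eq hG h7 ha ?_
        have := (isSS_dil8P c).form (one8 F)
        rw [hac]
        refine this.trans ?_
        rw [norm_one8, RingEquiv.refl_apply, mul_one]
      exact hom_conj_swap (out (plusForm 4 F)) h8 h9 hr1
    have h7 : out _ (dil8 c) * ra = r1 * out _ (dil8 c) := by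
      have h7 : plusForm 4 F ((dil8 c).1 a) ≠ 0 := Q_ne _ ha
      have h8 := conj_rf (dil8 c) ha h7
      have h9 : out _ (rf ((dil8 c).1 a) h7) = r1 := by
        rw [hr1]
        refine (out_rf_of_square hG one_ne h7 (s := (c : F)) ?_).symm
        have := (isSS_dil8P c).form a
        refine this.trans ?_
        rw [norm_one8, RingEquiv.refl_apply, hac, mul_one]
      exact hom_conj_swap (out (plusForm 4 F)) h8 h9 hra
    rcases h1 with h1 | h1 | h1 | h1
    · exact Or.inl h1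
    · exfalso
      simp only [h1, h6] at h4
      exact hne (mul_right_cancel h4)
    · exfalso
      simp only [h1, h7] at h4
      exact hne (mul_right_cancel h4).symm
    · exact Or.inr h1
  by_contra hcon
  obtain ⟨α0, hα0, hs⟩ := exists_prime hcon
  obtain ⟨s, hs'⟩ : ∃ s, s = orderOf (kl _ α0) := ⟨_, rfl⟩
  rw [← hs'] at hs
  obtain ⟨g, x, j, hg, hjs, hx⟩ := hclass hs hs'.symm
  -- a conjugate of `Y0`
  obtain ⟨γ, rfl⟩ := kl_surjective g
  obtain ⟨Y, hYdef⟩ : ∃ Y, Y = Y0.map (MulAut.conj γ).toMonoidHom := ⟨_, rfl⟩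
  have hY : Ok (Fintype.card F) Y := by rw [hYdef]; exact hY0.conj γ
  obtain ⟨α, hα⟩ : ∃ α, α = γ * α0 * γ⁻¹ := ⟨_, rfl⟩
  have hαY : α ∈ Y := by
    rw [hYdef, hα]
    exact ⟨α0, hα0, rfl⟩
  have hklα : kl _ α = x * out _ (Fi φ) ^ j := by
    simp only [hα, map_mul, map_mul, map_inv]
    exact hg
  have hαs : orderOf (kl _ α) = s := by
    have h1 : kl _ α = MulAut.conj (kl _ γ) (kl _ α0) := by simp only [hα, map_mul, map_mul, map_inv, MulAut.conj_apply]
    rw [h1, hs']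
    exact MulEquiv.orderOf_eq _ _
  clear hg hYdef hα hs'
  obtain ⟨σ, hσ⟩ : ∃ σ, σ = φ ^ j := ⟨_, rfl⟩
  simp only [← map_pow (out (plusForm 4 F)) (Fi φ) j, Fi_pow φ j, ← hσ] at hklα hjs
  have hσs : σ ^ s = 1 := by
    simp only [← map_pow] at hjs
    have h7 := sg_eq_one_of_out hG hjs
    rwa [map_pow, sg_Fi] at h7
  have hsing : ∀ A : GL (Fin 3) F, orderOf A = Fintype.card F ^ 3 - 1 → Psi _ (DG8 A) ∉ Y := by
    intro A hA h
    have h1 := hY.ub _ h
    rw [orderOf_Psi_DG8 hG, hA, hF] at h1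
    exact not_ub_singer hm h1
  have hDG1 : ∀ A : GL (Fin 3) F, orderOf A = Fintype.card F ^ 3 - 1 → out _ (DG8 A) = ra * r1 := by
    intro A hA
    rcases hDG A with h | h
    · exact absurd (hY.inn (kl_eq_one.1 h)) (hsing A hA)
    · exact h
  -- the regular unipotent element
  have huE : u8 F ∈ E (plusForm 4 F) := mem_E_of_odd hG u8_mem (n := 12) (u8_pow h5)
  have ho : orderOf ((⟨u8 F, huE⟩ : ↥(E (plusForm 4 F))) : P (plusForm 4 F)) = 25 := by
    have h7 := orderOf_mk hG (g := ⟨u8 F, huE⟩) (r := 5) (k := 1) Nat.prime_five (by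
      apply Subtype.ext
      rw [SubmonoidClass.coe_pow]
      exact u8_pow h5) (by
      have := u8_ns (F := F) h5 h2
      rwa [pow_one])
    exact h7
  have hfixF : Psi _ (Fi σ) ((⟨u8 F, huE⟩ : ↥(E (plusForm 4 F))) : P (plusForm 4 F)) =
      ((⟨u8 F, huE⟩ : ↥(E (plusForm 4 F))) : P (plusForm 4 F)) := Psi_fix fun v => Fi_u8 σ v
  have hfixk : Psi _ (kapG F) ((⟨u8 F, huE⟩ : ↥(E (plusForm 4 F))) : P (plusForm 4 F)) =
      ((⟨u8 F, huE⟩ : ↥(E (plusForm 4 F))) : P (plusForm 4 F)) := Psi_fix fun v => u8_oconj v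
  have hfixr := rho_fix hρ huE
  have hunip : ∀ β : MulAut (P (plusForm 4 F)), kl _ β = kl _ α → s ≠ 5 →
      β ((⟨u8 F, huE⟩ : ↥(E (plusForm 4 F))) : P (plusForm 4 F)) =
        ((⟨u8 F, huE⟩ : ↥(E (plusForm 4 F))) : P (plusForm 4 F)) → False := by
    intro β hβ h5s hfix
    have h11 := ub_mul (s := s) hci hY (hY.mem hαY hβ) (by rw [hβ]; exact hαs) hfix (by
      rw [ho]
      exact Nat.Coprime.pow_right 2 ((Nat.coprime_primes hs Nat.prime_five).2 h5s))
    rw [ho, hF] at h11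
    exact not_ub_25 hm hs.two_le h11
  rcases hx with rfl | ⟨rfl, rfl⟩ | ⟨rfl, rfl⟩ | ⟨rfl, rfl⟩
  · simp only [one_mul] at hklα
    by_cases h5s : s = 5
    · subst h5s
      have hσ1 : σ ≠ 1 := by
        rintro rfl
        simp only [hklα, Fi_one, map_one, orderOf_one] at hαs
        norm_num at hαs
      have h6 : 5 ∣ m := by
        have h7 : orderOf σ = 5 := orderOf_eq_prime hσs hσ1
        have h8 : Nat.card (RingAut F) = m := Cfsg.Agent.Lib.FieldAutCard.card_ringAut hm hF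
        have : Finite (RingAut F) := Nat.finite_of_card_ne_zero (by omega)
        rw [← h7, ← h8]
        exact orderOf_dvd_natCard σ
      obtain ⟨j', rfl⟩ : ∃ j, m = j * 5 := ⟨m / 5, by omega⟩
      obtain ⟨r, hr, hr3, hrd⟩ := exists_r (a := 5 ^ j') (by
        have : (1 : ℕ) < 5 ^ j' := Nat.one_lt_pow (by omega) (by norm_num)
        omega)
      have hr3' : r ∣ (5 ^ j') ^ 3 - 1 := by
        refine hrd.trans ⟨5 ^ j' - 1, ?_⟩
        obtain ⟨b, hb⟩ : ∃ b, 5 ^ j' = b + 1 := ⟨5 ^ j' - 1, by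
          have : 1 ≤ 5 ^ j' := Nat.one_le_pow _ _ (by norm_num)
          omega⟩
        rw [hb, Nat.add_sub_cancel, Nat.sub_eq_iff_eq_add (Nat.one_le_pow _ _ (by omega))]
        ring
      obtain ⟨A, hA, hAσ⟩ := exists_fixed (F := F) (j := j') (s := 5) (by omega) (by norm_num) hF hr hr3'
      have hr2 : r ≠ 2 := by
        rintro rfl
        have h9 : (5 ^ j') % 2 = 1 := by rw [Nat.pow_mod]; simp
        have h10 : ((5 ^ j') ^ 2) % 2 = 1 := by rw [Nat.pow_mod, h9]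
        omega
      obtain ⟨d, hd⟩ := hr.odd_of_ne_two hr2
      have hrE : DL8 A ∈ E (plusForm 4 F) := mem_E_of_odd hG (DL8_mem A) (n := d) (by
        rw [← map_pow, ← hd, ← hA, pow_orderOf_eq_one, map_one])
      have hoA : orderOf ((⟨DL8 A, hrE⟩ : ↥(E (plusForm 4 F))) : P (plusForm 4 F)) = r := by
        have h7 := orderOf_mk hG (g := ⟨DL8 A, hrE⟩) (r := r) (k := 0) hr (by
          apply Subtype.ext
          rw [SubmonoidClass.coe_pow]
          change DL8 A ^ r ^ (0 + 1) = 1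
          rw [zero_add, pow_one, ← map_pow, ← hA, pow_orderOf_eq_one, map_one]) (by
          rintro ⟨d, hd⟩
          rw [pow_zero, pow_one] at hd
          have h8 := DL8_scalar hd
          rw [h8, orderOf_one] at hA
          exact hr.one_lt.ne hA)
        (simp only [zero_add, pow_one] at h7; assumption)
      have hfix : Psi _ (Fi σ) ((⟨DL8 A, hrE⟩ : ↥(E (plusForm 4 F))) : P (plusForm 4 F)) =
          ((⟨DL8 A, hrE⟩ : ↥(E (plusForm 4 F))) : P (plusForm 4 F)) := Psi_fix fun v => by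
        have h9 := Fi_DG8 σ A
        rw [hAσ σ hσs] at h9
        exact congrArg (fun N : Gam (plusForm 4 F) => N.1 v) h9
      have h11 := ub_mul (s := 5) hci hY (hY.mem hαY (hklα.symm : kl _ (Psi _ (Fi σ)) = kl _ α)) (by
        simp only [hkl, ← hklα]; exact hαs) hfix (by
        rw [hoA]
        refine (Nat.coprime_primes Nat.prime_five hr).2 ?_
        rintro rfl
        exact not_five_dvd (m := j') (k := 3) (by omega) (by norm_num) hr3' rfl dvd_rfl)
      rw [hoA, hF] at h11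
      exact not_ub_five_mul (by omega) hr hr3 hrd h11
    · exact hunip (Psi _ (Fi σ)) hklα.symm h5s hfixF
  · refine hunip (ρ * Psi _ (Fi σ)) ?_ (by norm_num) ?_
    · simp only [hklα, map_mul]; rfl
    · simp only [MulAut.mul_apply, hfixF, hfixr]
  · refine hunip (Psi _ (kapG F) * Psi _ (Fi σ)) ?_ (by norm_num) ?_
    · simp only [hklα, map_mul]; rfl
    · simp only [MulAut.mul_apply, hfixF, hfixk]
  · by_cases hσ1 : σ = 1
    · obtain ⟨A0, hA0⟩ := exists_singer_one (F := F) hF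
      refine hsing A0 hA0 (hY.mem hαY ?_)
      simp only [hkl, hDG1 A0 hA0, hklα, hσ1, Fi_one, map_one, mul_one]
    · obtain ⟨j', hj, rfl, hσj⟩ := sigma_two hm hF hσ1 hσs
      obtain ⟨A, hA, hA2⟩ := exists_singer hj hF (σ := σ) hσj
      have h4 : kl _ (Psi _ (DG8 A * Fi σ)) = kl _ α := by
        simp only [hkl, map_mul, hDG1 A hA, hklα]
      have h6 : Psi _ (DG8 A * Fi σ) ∈ Y := hY.mem hαY h4
      have h7 : (DG8 A * Fi σ) ^ 2 = DG8 (A * Matrix.GeneralLinearGroup.map (σ : F →+* F) A) := by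
        rw [pow_two, map_mul]
        calc DG8 A * Fi σ * (DG8 A * Fi σ) = DG8 A * (Fi σ * DG8 A) * Fi σ := by group
          _ = DG8 A * DG8 (Matrix.GeneralLinearGroup.map (σ : F →+* F) A) * (Fi σ * Fi σ) := by
            rw [Fi_DG8]; group
          _ = _ := by
            simp only [← pow_two, Fi_pow, hσs, Fi_one, mul_one]
      have h8 : orderOf (Psi (plusForm 4 F) (DG8 A * Fi σ)) = 2 * ((5 ^ j') ^ 3 - 1) := by
        (rewrite [order_two_mul]; simp only [← map_pow]; simp only [h7]; rewrite [orderOf_Psi_DG8 hG, hA2]; with_reducible rfl)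
        have h9 : orderOf (kl _ (Psi _ (DG8 A * Fi σ))) ∣ orderOf (Psi (plusForm 4 F) (DG8 A * Fi σ)) :=
          orderOf_map_dvd _ _
        (simp only [h4, hαs] at h9; assumption)
      have h9 := hY.ub _ h6
      rw [h8, hF] at h9
      exact not_ub_singer_two hj h9

theorem out_d4 {F : Type*} [Field F] [Fintype F] {m : ℕ} (hm : 1 ≤ m) (hF : Fintype.card F = 5 ^ m) {X : Type*}
    [Group X] [Finite X] (S : Subgroup X) [S.Normal] (hc : Subgroup.centralizer (S : Set X) = ⊥)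
    (e : ↥S ≃* Cfsg.POmega F (Cfsg.quadFormPlus 4 F)) (hub : ∀ x : X, UB5 (Fintype.card F) (orderOf x)) : S = ⊤ := by
  have hG : Good (plusForm 4 F) := good4
  have e1 : Cfsg.POmega F (Cfsg.quadFormPlus 4 F) ≃* P (plusForm 4 F) := by
    rw [← coe_plusForm]
    exact Cfsg.Agent.ClassicalGeometry.OrthSemiForms.pomegaEquiv hG
  exact top_of_ok S hc (e.trans e1) hub fun Y hY => d4_core hm hF Y hY

end Cfsg.Agent.H425.OF
end

private theorem dce_69ebbfca9dbf : _root_.True := by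
  try have : _root_.True := by simp only [_root_.Cfsg.Agent.H425.OF.u8i.eq_1]
  try have : _root_.True := by simp only [_root_.Cfsg.Agent.H425.OF.w8f.eq_1]
  try have : _root_.True := by simp only [_root_.Cfsg.Agent.H425.OF.u8f.eq_1]
  exact _root_.True.intro
end

-- part: H951/B6/Up8
section
prune_inst 0x4f4302f047e02000000008010c20002146800002000600000a0200444010901008dc28140060005061a2220010001002813100010420000000a000000000401000000100400010000000010000000000000000000000000000000000000000000000000000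
set_option linter.all false
open scoped Cfsg.Agent.FastGrp

-- part: H951/B6/Psi
section
/-!
# Root multisets of isometries of trivial spinor sign, `q = 1 mod 4` (block 6)

* `psi R = ∏ (1 + x)` and its value on an orbit (`psi_orb`);
* `six`, `eight` : multisets with 6 and 8 elements with `psi R ^ ((q - 1) / 2) = 1`.
-/

set_option autoImplicit false

namespace Cfsg.Agent.H951.B6

open Cfsg.Agent.H160.QRoots

variable {K : Type*} [Field K] [DecidableEq K] {q : ℕ}

/-- the product of `1 + x` -/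
def psi (R : Multiset K) : K := (R.map (fun x => 1 + x)).prod

omit [DecidableEq K] in
theorem psi_add (R S : Multiset K) : psi (R + S) = psi R * psi S := by
  simp only [psi, Multiset.map_add, Multiset.prod_add]

omit [DecidableEq K] in
theorem hadd_of (hq0 : 0 < q) (hsub : ∀ x y : K, (x - y) ^ q = x ^ q - y ^ q) (x y : K) :
    (x + y) ^ q = x ^ q + y ^ q := by
  have h1 : (-y) ^ q = -(y ^ q) := by
    have := hsub 0 y
    rwa [zero_sub, zero_pow hq0.ne', zero_sub] at this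
  have h2 := hsub x (-y)
  rwa [sub_neg_eq_add, h1, sub_neg_eq_add] at h2

omit [DecidableEq K] in
theorem prod_pow_half {e : ℕ} (he : q = 2 * e + 1) (μ : K) (n : ℕ) :
    ∏ i ∈ Finset.range n, (μ ^ (q ^ i)) ^ e = μ ^ ((q ^ n - 1) / 2) := by
  induction n with
  | zero => simp
  | succ n ih =>
    rw [Finset.prod_range_succ, ih, ← pow_mul, ← pow_add]
    congr 1
    have hq0 : 0 < q := by omega
    have h1 : 1 ≤ q ^ n := Nat.one_le_pow _ _ hq0
    have h2 : q ^ (n + 1) = 2 * (q ^ n * e) + q ^ n := by rw [pow_succ]; nth_rw 2 [he]; ring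
    rw [h2]
    (clear * - h1; omega)

/-- the value on an orbit, `2 * e + 1 = q` -/
theorem psi_orb (hq : Function.Injective (fun x : K => x ^ q)) (hsub : ∀ x y : K, (x - y) ^ q = x ^ q - y ^ q)
    {e : ℕ} (he : q = 2 * e + 1) {μ : K} {d : ℕ} (hd : IsMin q μ d) :
    (μ ^ (q ^ d) = μ → psi (orb q μ d).val ^ e = (μ ^ ((q ^ d - 1) / 2))⁻¹) ∧
      (μ ^ (q ^ d) = μ⁻¹ → psi (orb q μ d).val ^ e = (μ ^ ((q ^ d + 1) / 2))⁻¹) := by
  have hq0 : 0 < q := by omega
  have hne : ∀ i : ℕ, μ ^ (q ^ i) ≠ 0 := fun i => pow_ne_zero _ hd.ne0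
  have hκ : ∀ i : ℕ, 1 + μ ^ (q ^ i) ≠ 0 := by
    intro i h
    apply ne_inv hq hd i
    have h1 : μ ^ (q ^ i) = -1 := by linear_combination h
    rw [h1]
    norm_num
  have h1 : psi (orb q μ d).val = ∏ i ∈ Finset.range d, ((1 + μ ^ (q ^ i)) ^ 2 * (μ ^ (q ^ i))⁻¹) := by
    show ∏ x ∈ orb q μ d, (1 + x) = _
    rw [prod_orb hq _ hd]
    refine Finset.prod_congr rfl fun i _ => ?_
    have := hne i
    generalize μ ^ (q ^ i) = y at this
    field_simp
    ring
  have h2 : ∀ i : ℕ, (1 + μ ^ (q ^ i)) ^ q = 1 + μ ^ (q ^ (i + 1)) := by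
    intro i
    rw [hadd_of hq0 hsub, one_pow, ← pow_mul, ← pow_succ]
  have h3 : psi (orb q μ d).val ^ e =
      (∏ i ∈ Finset.range d, ((1 + μ ^ (q ^ (i + 1))) / (1 + μ ^ (q ^ i)))) * (μ ^ ((q ^ d - 1) / 2))⁻¹ := by
    rw [h1, ← prod_pow_half he, ← Finset.prod_pow, ← Finset.prod_inv_distrib, ← Finset.prod_mul_distrib]
    refine Finset.prod_congr rfl fun i _ => ?_
    have h5 : ∀ y : K, y ≠ 0 → y ^ (2 * e) = y ^ q / y := by
      intro y hy
      rw [he, pow_succ, mul_div_assoc, div_self hy, mul_one]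
    rw [← h2 i, mul_pow, ← pow_mul, h5 _ (hκ i), inv_pow]
  have h6 : ∀ n : ℕ, ∏ i ∈ Finset.range n, ((1 + μ ^ (q ^ (i + 1))) / (1 + μ ^ (q ^ i))) =
      (1 + μ ^ (q ^ n)) / (1 + μ ^ (q ^ 0)) := by
    intro n
    induction n with
    | zero => rw [Finset.prod_range_zero, div_self (hκ 0)]
    | succ n ih =>
      rw [Finset.prod_range_succ, ih, div_mul_div_comm, mul_comm (1 + μ ^ (q ^ n)), mul_div_mul_right _ _ (hκ n)]
  rw [h6] at h3
  have h0 : 1 + μ ≠ 0 := by simpa using hκ 0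
  constructor
  · intro h
    rw [h3, h]
    simp only [pow_zero, pow_one]
    rw [div_self h0, one_mul]
  · intro h
    rw [h3, h]
    simp only [pow_zero, pow_one]
    have h7 : (1 + μ⁻¹) / (1 + μ) = μ⁻¹ := by
      have := hd.ne0
      field_simp
      ring
    have h8 : (q ^ d + 1) / 2 = (q ^ d - 1) / 2 + 1 := by
      have : 1 ≤ q ^ d := Nat.one_le_pow _ _ hq0
      omega
    rw [h7, h8, pow_succ, mul_inv_rev]

/-! ### Arithmetic -/

theorem quarter {e : ℕ} (he : q = 2 * e + 1) (hev : Even e) :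
    (q ^ 4 - 1) / 4 * 2 = (q ^ 4 - 1) / 2 ∧ q ^ 2 + 1 ∣ (q ^ 4 - 1) / 4 ∧ q - 1 ∣ (q ^ 4 - 1) / 4 ∧
      q + 1 ∣ (q ^ 4 - 1) / 4 := by
  obtain ⟨f, rfl⟩ := hev
  have h1 : q ^ 4 - 1 = 4 * ((8 * f ^ 2 + 4 * f + 1) * (4 * f * (2 * f + 1))) := by
    have : q ^ 4 = 4 * ((8 * f ^ 2 + 4 * f + 1) * (4 * f * (2 * f + 1))) + 1 := by rw [he]; ring
    omega
  have h2 : (q ^ 4 - 1) / 4 = (8 * f ^ 2 + 4 * f + 1) * (4 * f * (2 * f + 1)) := by
    rw [h1, Nat.mul_div_cancel_left _ (by norm_num)]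
  refine ⟨?_, ?_, ?_, ?_⟩
  · rw [h2, h1]
    omega
  · rw [h2]
    refine ⟨2 * f * (2 * f + 1), ?_⟩
    rw [he]
    ring
  · rw [h2]
    refine ⟨(8 * f ^ 2 + 4 * f + 1) * (2 * f + 1), ?_⟩
    have : q - 1 = 4 * f := by omega
    rw [this]
    ring
  · rw [h2]
    refine ⟨(8 * f ^ 2 + 4 * f + 1) * (2 * f), ?_⟩
    rw [he]
    ring

omit [DecidableEq K] in
theorem sq_eq_pm {x : K} {N : ℕ} (h : x ^ (N * 2) = 1) : x ^ N = 1 ∨ x ^ N = -1 := by
  rw [pow_mul, pow_two] at h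
  exact mul_self_eq_one_iff.1 h

/-- powers on orbits -/
theorem orb_pow (hodd : Odd q) {μ x δ : K} {d N : ℕ} (hx : x ∈ orb q μ d) (hδ : δ = 1 ∨ δ = -1) (h : μ ^ N = δ) :
    x ^ N = δ := by
  have h1 : ∀ i : ℕ, δ ^ (q ^ i) = δ := by
    intro i
    rcases hδ with rfl | rfl
    · rw [one_pow]
    · exact (hodd.pow).neg_one_pow
  have h2 : δ⁻¹ = δ := by
    rcases hδ with rfl | rfl
    · exact inv_one
    · norm_num
  obtain ⟨i, _, rfl | rfl⟩ := mem_orb.1 hx
  · rw [← pow_mul, mul_comm, pow_mul, h, h1]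
  · rw [inv_pow, ← pow_mul, mul_comm, pow_mul, h, h1, h2]

theorem cube_half {e : ℕ} (he : q = 2 * e + 1) :
    (q ^ 3 - 1) / 2 = e * (q ^ 2 + q + 1) ∧ Odd (q ^ 2 + q + 1) ∧
      (q ^ 3 + 1) / 2 = (e + 1) * (q * (q - 1) + 1) ∧ Odd (q * (q - 1) + 1) := by
  have h1 : q ^ 3 - 1 = 2 * (e * (q ^ 2 + q + 1)) := by
    have : q ^ 3 = 2 * (e * (q ^ 2 + q + 1)) + 1 := by rw [he]; ring
    omega
  have h2 : q - 1 = 2 * e := by omega
  have h3 : q ^ 3 + 1 = 2 * ((e + 1) * (q * (q - 1) + 1)) := by rw [h2, he]; ring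
  refine ⟨by rw [h1, Nat.mul_div_cancel_left _ (by norm_num)], ?_, by
    rw [h3, Nat.mul_div_cancel_left _ (by norm_num)], ?_⟩
  · refine ⟨2 * e ^ 2 + 3 * e + 1, ?_⟩
    rw [he]; ring
  · refine ⟨e * (2 * e + 1), ?_⟩
    rw [h2, he]; ring

section

variable {R : Multiset K} (hq : Function.Injective (fun x : K => x ^ q)) (hq0 : 0 < q)
include hq hq0

/-- six elements -/
theorem six {e : ℕ} (he : q = 2 * e + 1) (hev : Even e) (hsub : ∀ x y : K, (x - y) ^ q = x ^ q - y ^ q)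
    (h : _root_.Cfsg.Agent.H160.QRoots.Inv q R) (hc : R.card = 6) (hpsi : psi R ^ e = 1) :
    Bd R 1 ((q ^ 3 - 1) / 2) ∨ Bd R 1 ((q ^ 3 + 1) / 2) ∨ Bd R 1 ((q ^ 4 - 1) / 4) ∨ Bd R 3 (q ^ 2 - 1) := by
  have hodd : Odd q := ⟨e, he⟩
  obtain ⟨-, q1, q2, q3⟩ := quarter he hev
  by_cases hbig : ∃ μ ∈ R, ∃ d, IsMin q μ d ∧ 3 ≤ d
  · obtain ⟨μ, hμ, d, hd, h3d⟩ := hbig
    have h1 := d_le hq h hd hμ
    obtain rfl : d = 3 := by omega
    obtain ⟨R', h3, h4, h5, h6, h7⟩ := peel hq h hd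
    have h8 : 1 ≤ R.count μ := Multiset.one_le_count_iff_mem.2 hμ
    have h9 : R.count μ = 1 := by omega
    have hR' : R'.card = 0 := by omega
    rw [Multiset.card_eq_zero] at hR'
    rw [h9, one_nsmul, hR', add_zero] at h3
    have hcnt : ∀ x, R.count x ≤ 1 := by
      intro x
      rw [h3]
      exact Multiset.nodup_iff_count_le_one.1 (orb q μ 3).nodup x
    have hps := psi_orb hq hsub he hd
    rw [← h3, hpsi] at hps
    have hall : ∀ N, μ ^ N = 1 → Bd R 1 N := fun N hN => ⟨hcnt, fun x hx => by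
      rw [h3] at hx
      exact ex_orb hx hN⟩
    rcases hd.eq with h10 | h10
    · exact Or.inl (hall _ (inv_eq_one.1 (hps.1 h10).symm))
    · exact Or.inr (Or.inl (hall _ (inv_eq_one.1 (hps.2 h10).symm)))
  · push Not at hbig
    have hd2 : ∀ x ∈ R, ∀ d, IsMin q x d → d ≤ 2 := fun x hx d hd => by
      have := hbig x hx d hd; omega
    right; right
    rcases small_cases hq hq0 h hd2 with ⟨μ, hμ, hd, h1⟩ | h1
    · left
      obtain ⟨R', h3, h4, h5, h6, h7⟩ := peel hq h hd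
      have h8 : 1 ≤ R.count μ := Multiset.one_le_count_iff_mem.2 hμ
      have h9 : R.count μ = 1 := by omega
      have hR' : R'.card = 2 := by omega
      refine ⟨fun x => ?_, ?_⟩
      · by_cases hx : x ∈ R
        · by_cases hxo : x ∈ orb q μ 2
          · rw [count_orb h hxo, h9]
          · rw [← h6 x ((h5 x).2 ⟨hx, hxo⟩)]
            have := cnt_le hq h4 x
            omega
        · rw [Multiset.count_eq_zero_of_notMem hx]; omega
      · intro x hx
        by_cases hxo : x ∈ orb q μ 2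
        · exact pow_dvd (ex_orb hxo h1) q1
        · have hx' := (h5 x).2 ⟨hx, hxo⟩
          rcases one hq hq0 h4 hR' with h10 | h10
          · exact pow_dvd (h10.ex x hx') q2
          · exact pow_dvd (h10.ex x hx') q3
    · right
      exact ⟨fun x => by have := cnt_le hq h x; omega, h1⟩

/-- eight elements -/
theorem eight {e : ℕ} (he : q = 2 * e + 1) (hev : Even e) (hsub : ∀ x y : K, (x - y) ^ q = x ^ q - y ^ q)
    (h2K : (2 : K) ≠ 0) (h : _root_.Cfsg.Agent.H160.QRoots.Inv q R) (hc : R.card = 8) (hphi : phi R ^ e = 1) (hpsi : psi R ^ e = 1) :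
    (∃ (N : ℕ) (δ : K), (N = (q ^ 3 - 1) / 2 ∨ N = (q ^ 3 + 1) / 2 ∨ N = (q ^ 4 - 1) / 4) ∧ (δ = 1 ∨ δ = -1) ∧
      (∀ x, R.count x ≤ 1) ∧ ∀ x ∈ R, x ^ N = δ) ∨ Bd R 2 (q ^ 2 + 1) ∨ Bd R 4 (q ^ 2 - 1) := by
  have hodd : Odd q := ⟨e, he⟩
  obtain ⟨q0, q1, q2, q3⟩ := quarter he hev
  have hm1 : (-1 : K) ≠ 1 := by
    intro h1
    apply h2K
    have : (2 : K) = 1 - (-1) := by norm_num
    rw [this, h1, sub_self]
  have hme : (-1 : K) ^ e = 1 := hev.neg_one_pow
  by_cases hbig : ∃ μ ∈ R, ∃ d, IsMin q μ d ∧ 4 ≤ d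
  · left
    obtain ⟨μ, hμ, d, hd, h3d⟩ := hbig
    have h1 := d_le hq h hd hμ
    obtain rfl : d = 4 := by omega
    obtain ⟨R', h3, h4, h5, h6, h7⟩ := peel hq h hd
    have h8 : 1 ≤ R.count μ := Multiset.one_le_count_iff_mem.2 hμ
    have h9 : R.count μ = 1 := by omega
    have hR' : R'.card = 0 := by omega
    rw [Multiset.card_eq_zero] at hR'
    rw [h9, one_nsmul, hR', add_zero] at h3
    have hcnt : ∀ x, R.count x ≤ 1 := by
      intro x
      rw [h3]
      exact Multiset.nodup_iff_count_le_one.1 (orb q μ 4).nodup x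
    have hps := psi_orb hq hsub he hd
    rw [← h3, hpsi] at hps
    rcases hd.eq with h10 | h10
    · have h11 := inv_eq_one.1 (hps.1 h10).symm
      rw [← q0] at h11
      refine ⟨(q ^ 4 - 1) / 4, μ ^ ((q ^ 4 - 1) / 4), Or.inr (Or.inr rfl), sq_eq_pm h11, hcnt, fun x hx => ?_⟩
      rw [h3] at hx
      exact orb_pow hodd hx (sq_eq_pm h11) rfl
    · exfalso
      have h11 := (phi_orb hq hsub he hd).2 h10
      rw [← h3, hphi] at h11
      apply hm1
      have h12 : (-1 : K) ^ (4 * e) = 1 := by rw [pow_mul]; norm_num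
      rw [h12, one_mul] at h11
      exact h11.symm
  · push Not at hbig
    by_cases hbig3 : ∃ μ ∈ R, ∃ d, IsMin q μ d ∧ 3 ≤ d
    · left
      obtain ⟨μ, hμ, d, hd, h3d⟩ := hbig3
      have h1 := hbig μ hμ d hd
      obtain rfl : d = 3 := by omega
      obtain ⟨R', h3, h4, h5, h6, h7⟩ := peel hq h hd
      have h8 : 1 ≤ R.count μ := Multiset.one_le_count_iff_mem.2 hμ
      have h9 : R.count μ = 1 := by omega
      have hR' : R'.card = 2 := by omega
      obtain ⟨ν, hν⟩ := Multiset.card_pos_iff_exists_mem.1 (by omega : 0 < R'.card)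
      obtain ⟨d', hd'⟩ := exists_isMin hq h4 hν
      have h10 := d_le hq h4 hd' hν
      have h11 := hd'.pos
      obtain rfl : d' = 1 := by omega
      obtain ⟨R'', k3, k4, k5, k6, k7⟩ := peel hq h4 hd'
      have k8 : 1 ≤ R'.count ν := Multiset.one_le_count_iff_mem.2 hν
      have k9 : R'.count ν = 1 := by omega
      have hR'' : R''.card = 0 := by omega
      rw [Multiset.card_eq_zero] at hR''
      rw [k9, one_nsmul, hR'', add_zero] at k3
      rw [h9, one_nsmul] at h3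
      have hphi2 : phi (orb q μ 3).val ^ e * phi (orb q ν 1).val ^ e = 1 := by
        rw [← mul_pow, ← phi_add, ← k3, ← h3, hphi]
      have hpsi2 : psi (orb q μ 3).val ^ e * psi (orb q ν 1).val ^ e = 1 := by
        rw [← mul_pow, ← psi_add, ← k3, ← h3, hpsi]
      have hcnt : ∀ x, R.count x ≤ 1 := by
        intro x
        by_cases hx : x ∈ R
        · by_cases hxo : x ∈ orb q μ 3
          · rw [count_orb h hxo, h9]
          · rw [← h6 x ((h5 x).2 ⟨hx, hxo⟩)]
            have := cnt_le hq h4 x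
            omega
        · rw [Multiset.count_eq_zero_of_notMem hx]; omega
      have hsplit : ∀ x ∈ R, x ∈ orb q μ 3 ∨ x ∈ orb q ν 1 := by
        intro x hx
        rw [h3, Multiset.mem_add] at hx
        rcases hx with hx | hx
        · exact Or.inl hx
        · rw [k3] at hx
          exact Or.inr hx
      have e1 := phi_orb hq hsub he hd
      have e2 := phi_orb hq hsub he hd'
      have p1 := psi_orb hq hsub he hd
      have p2 := psi_orb hq hsub he hd'
      have hs : (-1 : K) ^ (3 * e) * (-1) ^ (1 * e) = 1 := by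
        rw [← pow_add, ← add_mul, pow_mul]; norm_num
      obtain ⟨c3, o3, c4, o4⟩ := cube_half he
      have key : ∀ N M s : ℕ, N = M * s → Odd s → ν ^ (M * 2) = 1 → (μ ^ N)⁻¹ * (ν ^ M)⁻¹ = 1 →
          ∃ δ : K, (δ = 1 ∨ δ = -1) ∧ (∀ x, R.count x ≤ 1) ∧ ∀ x ∈ R, x ^ N = δ := by
        intro N M s hN hs' hν2 hprod
        have hpm := sq_eq_pm hν2
        have hinv : (ν ^ M)⁻¹ = ν ^ M := by
          rcases hpm with h | h <;> rw [h] <;> norm_num
        have hνN : ν ^ N = ν ^ M := by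
          rw [hN, pow_mul]
          rcases hpm with h | h
          · rw [h, one_pow]
          · rw [h, hs'.neg_one_pow]
        have hμN : μ ^ N = ν ^ M := by
          have h12 : ν ^ M * ν ^ M = 1 := by
            rcases hpm with h | h <;> rw [h] <;> norm_num
          rw [hinv] at hprod
          have h13 : μ ^ N ≠ 0 := pow_ne_zero _ hd.ne0
          have h14 : (μ ^ N)⁻¹ = ν ^ M := by
            calc (μ ^ N)⁻¹ = (μ ^ N)⁻¹ * (ν ^ M * ν ^ M) := by rw [h12, mul_one]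
              _ = ((μ ^ N)⁻¹ * ν ^ M) * ν ^ M := by rw [mul_assoc]
              _ = ν ^ M := by rw [hprod, one_mul]
          rw [← inv_inv (μ ^ N), h14, hinv]
        refine ⟨ν ^ M, hpm, hcnt, fun x hx => ?_⟩
        rcases hsplit x hx with hx' | hx'
        · exact orb_pow hodd hx' hpm hμN
        · exact orb_pow hodd hx' hpm hνN
      rcases hd.eq with c1 | c1
      · rcases hd'.eq with c2 | c2
        · rw [p1.1 c1, p2.1 c2] at hpsi2
          have h12 : (q ^ 1 - 1) / 2 = e := by rw [pow_one]; omega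
          rw [h12] at hpsi2
          obtain ⟨δ, h13, h14, h15⟩ := key _ e _ c3 o3 (by
            have h16 := pow_sub_of_eq hd'.ne0 (pow_pos hq0 1) c2
            rwa [show q ^ 1 - 1 = e * 2 by rw [pow_one]; omega] at h16) hpsi2
          exact ⟨_, δ, Or.inl rfl, h13, h14, h15⟩
        · exfalso
          rw [e1.1 c1, e2.2 c2, ← mul_assoc, hs, one_mul] at hphi2
          exact hm1 hphi2
      · rcases hd'.eq with c2 | c2
        · exfalso
          rw [e1.2 c1, e2.1 c2, mul_assoc, mul_comm (-1 : K), ← mul_assoc, hs, one_mul] at hphi2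
          exact hm1 hphi2
        · rw [p1.2 c1, p2.2 c2] at hpsi2
          have h12 : (q ^ 1 + 1) / 2 = e + 1 := by rw [pow_one]; omega
          rw [h12] at hpsi2
          obtain ⟨δ, h13, h14, h15⟩ := key _ (e + 1) _ c4 o4 (by
            have h16 := pow_add_of_eq hd'.ne0 c2
            rwa [show q ^ 1 + 1 = (e + 1) * 2 by rw [pow_one]; omega] at h16) hpsi2
          exact ⟨_, δ, Or.inr (Or.inl rfl), h13, h14, h15⟩
    · push Not at hbig3
      have hd2 : ∀ x ∈ R, ∀ d, IsMin q x d → d ≤ 2 := fun x hx d hd => by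
        have := hbig3 x hx d hd; omega
      rcases small_cases hq hq0 h hd2 with ⟨μ, hμ, hd, h1⟩ | h1
      · have hμi : μ ^ (q ^ 2) = μ⁻¹ := by
          rw [← mul_left_inj' hd.ne0, inv_mul_cancel₀ hd.ne0, ← pow_succ, h1]
        have e1 := (phi_orb hq hsub he hd).2 hμi
        obtain ⟨R', h3, h4, h5, h6, h7⟩ := peel hq h hd
        have h8 : 1 ≤ R.count μ := Multiset.one_le_count_iff_mem.2 hμ
        by_cases h9 : R.count μ = 1
        · have h12 : R'.card = 4 := by omega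
          rw [h9, one_nsmul] at h3
          obtain ⟨ν, hν⟩ := Multiset.card_pos_iff_exists_mem.1 (by omega : 0 < R'.card)
          obtain ⟨d', hd'⟩ := exists_isMin hq h4 hν
          have h10 := dm_le hq h4 hd'
          have k8 : 1 ≤ R'.count ν := Multiset.one_le_count_iff_mem.2 hν
          have h11 := hd'.pos
          have e3 := phi_orb hq hsub he hd'
          obtain ⟨R'', k3, k4, k5, k6, k7⟩ := peel hq h4 hd'
          have hd'2 : d' = 1 ∨ d' = 2 := by
            have : d' ≤ 2 := by nlinarith only [hc, h7, h8, h10, k8]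
            omega
          have hphiR : phi (orb q μ 2).val ^ e * phi R' ^ e = 1 := by
            rw [← mul_pow, ← phi_add, ← h3, hphi]
          rw [e1, show (-1 : K) ^ (2 * e) = 1 by rw [pow_mul]; norm_num, one_mul] at hphiR
          rcases hd'2 with rfl | rfl
          · -- `ν ^ q = ν ^ ±1`
            have k9 : R'.count ν = 1 ∨ R'.count ν = 2 := by omega
            rcases k9 with k9 | k9
            · -- simple
              left
              have hR'' : R''.card = 2 := by omega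
              refine ⟨(q ^ 4 - 1) / 4, 1, Or.inr (Or.inr rfl), Or.inl rfl, ?_, ?_⟩
              · intro x
                by_cases hx : x ∈ R
                · by_cases hxo : x ∈ orb q μ 2
                  · rw [count_orb h hxo, h9]
                  · have hx' := (h5 x).2 ⟨hx, hxo⟩
                    rw [← h6 x hx']
                    by_cases hxo' : x ∈ orb q ν 1
                    · rw [count_orb h4 hxo', k9]
                    · rw [← k6 x ((k5 x).2 ⟨hx', hxo'⟩)]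
                      have := cnt_le hq k4 x
                      omega
                · rw [Multiset.count_eq_zero_of_notMem hx]; omega
              · intro x hx
                by_cases hxo : x ∈ orb q μ 2
                · exact pow_dvd (ex_orb hxo h1) q1
                · have hx' := (h5 x).2 ⟨hx, hxo⟩
                  by_cases hxo' : x ∈ orb q ν 1
                  · rcases hd'.pow hq0 with h13 | h13
                    · rw [_root_.pow_one] at h13
                      exact pow_dvd (ex_orb hxo' h13) q2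
                    · rw [_root_.pow_one] at h13
                      exact pow_dvd (ex_orb hxo' h13) q3
                  · have hx'' := (k5 x).2 ⟨hx', hxo'⟩
                    rcases one hq hq0 k4 hR'' with h13 | h13
                    · exact pow_dvd (h13.ex x hx'') q2
                    · exact pow_dvd (h13.ex x hx'') q3
            · -- a double pair
              exfalso
              have hR'' : R''.card = 0 := by omega
              rw [Multiset.card_eq_zero] at hR''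
              rw [hR'', add_zero, k9] at k3
              have e4 : phi R' ^ e = 1 := by
                rw [k3, phi_nsmul, ← pow_mul, mul_comm 2 e, pow_mul]
                rcases hd'.eq with c2 | c2
                · rw [e3.1 c2, one_mul, hme, one_pow]
                · rw [e3.2 c2, one_mul, hme, one_mul]
                  norm_num
              rw [e4, mul_one] at hphiR
              exact hm1 hphiR
          · -- orbit of length four
            have k9 : R'.count ν = 1 := by omega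
            have hR'' : R''.card = 0 := by omega
            rw [Multiset.card_eq_zero] at hR''
            rw [hR'', add_zero, k9, one_nsmul] at k3
            rcases hd'.eq with c2 | c2
            · exfalso
              rw [k3, e3.1 c2, show (-1 : K) ^ (2 * e) = 1 by rw [pow_mul]; norm_num, mul_one] at hphiR
              exact hm1 hphiR
            · right; left
              refine ⟨fun x => ?_, fun x hx => ?_⟩
              · by_cases hx : x ∈ R
                · by_cases hxo : x ∈ orb q μ 2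
                  · rw [count_orb h hxo, h9]; omega
                  · have hx' := (h5 x).2 ⟨hx, hxo⟩
                    rw [← h6 x hx']
                    have := cnt_le hq h4 x
                    omega
                · rw [Multiset.count_eq_zero_of_notMem hx]; omega
              · by_cases hxo : x ∈ orb q μ 2
                · exact ex_orb hxo h1
                · have hx' := (h5 x).2 ⟨hx, hxo⟩
                  rw [k3] at hx'
                  exact ex_orb hx' (pow_add_of_eq hd'.ne0 c2)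
        · right; left
          have h10 : R.count μ = 2 := by omega
          rw [h10] at h7
          have hR' : R'.card = 0 := by omega
          rw [Multiset.card_eq_zero] at hR'
          have hmem : ∀ x ∈ R, x ∈ orb q μ 2 := by
            intro x hx
            by_contra hno
            have := (h5 x).2 ⟨hx, hno⟩
            rw [hR'] at this
            exact Multiset.notMem_zero x this
          refine ⟨fun x => ?_, fun x hx => ex_orb (hmem x hx) h1⟩
          by_cases hx : x ∈ R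
          · rw [count_orb h (hmem x hx), h10]
          · rw [Multiset.count_eq_zero_of_notMem hx]; omega
      · right; right
        exact ⟨fun x => by have := cnt_le hq h x; omega, h1⟩

end

end Cfsg.Agent.H951.B6
end

-- part: H951/B6/Split
section
/-!
# Splitting isometries into a part without eigenvalues `±1` and unipotent parts (block 6)
-/

set_option autoImplicit false
set_option linter.unusedSectionVars false

namespace Cfsg.Agent.H951.B6

open QuadraticMap Module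
open Cfsg.Agent.LieClassical.OrthCore Cfsg.Agent.H160.QSpin Cfsg.Agent.H160.QDisc Cfsg.Agent.H160.QSplit
  Cfsg.Agent.H160.QMain Cfsg.Agent.H160.QUpper Cfsg.Agent.H160.QRoots Cfsg.Agent.H160.QChar

variable {F : Type*} [Field F] [Fintype F] [DecidableEq F] {p : ℕ} [hp : Fact p.Prime] [CharP F p]

include hp in
/-- splitting off the unipotent part -/
theorem split_one (h2 : (2 : F) ≠ 0) {V : Type*} [AddCommGroup V] [Module F V] [FiniteDimensional F V] [Finite V]
    {Q : QuadraticForm F V} (hQ : Nondeg Q) {s : ℤˣ} {g : V ≃ₗ[F] V} (hg : El Q s g) :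
    ∃ (n₁ n₂ : ℕ) (Q₁ : QuadraticForm F (Fin n₁ → F)) (Q₂ : QuadraticForm F (Fin n₂ → F))
      (g₁ : (Fin n₁ → F) ≃ₗ[F] (Fin n₁ → F)) (g₂ : (Fin n₂ → F) ≃ₗ[F] (Fin n₂ → F))
      (e : ((Fin n₁ → F) × (Fin n₂ → F)) ≃ₗ[F] V), IsIso (Q₁.prod Q₂) Q e ∧ g = cj e (pr g₁ g₂) ∧
      n₁ + n₂ = finrank F V ∧ Nondeg Q₁ ∧ Nondeg Q₂ ∧ dc Q = dc Q₁ * dc Q₂ ∧ El Q₁ s g₁ ∧ g₂ ∈ O Q₂ ∧
      (∀ x, g₁ x = x → x = 0) ∧ (en g₂ - 1) ^ n₂ = 0 ∧ Even n₁ := by
  obtain ⟨hgO, hdet, hsp⟩ := hg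
  obtain ⟨n₁, n₂, Q₁, Q₂, g₁, g₂, e, he, hge, hno, hnil⟩ := split hgO
  obtain ⟨hQ₁, hQ₂⟩ := nondeg_of_prod (he.symm.nondeg hQ)
  have hprO : pr g₁ g₂ ∈ O (Q₁.prod Q₂) := by
    have := cj_mem_O he.symm hgO
    rwa [hge, cj_symm_cj] at this
  obtain ⟨hg₁, hg₂⟩ := pr_mem_O_iff.1 hprO
  have hdim : n₁ + n₂ = finrank F V := by
    have := e.finrank_eq
    rw [← this]
    simp only [_root_.Module.finrank_prod, _root_.Module.finrank_fintype_fun_eq_card, _root_.Fintype.card_fin, _root_.Nat.add_left_cancel_iff]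
  obtain ⟨a, ha⟩ : ∃ a, n₂ ≤ p ^ a := ⟨n₂, (Nat.lt_pow_self hp.out.one_lt).le⟩
  obtain ⟨b, _, hb⟩ := (Nat.dvd_prime_pow hp.out).1 (orderOf_dvd_of_pow_eq_one (unip_pow (p := p) hnil ha))
  have hg₂el : El Q₂ 1 g₂ := El.of_odd hQ₂ hg₂ (by rw [hb]; exact (Cfsg.Agent.H160.QModel.odd_p (F := F) h2).pow)
  have hdet₁ : LinearEquiv.det g₁ = 1 := by
    have h3 : LinearEquiv.det g = LinearEquiv.det g₁ * LinearEquiv.det g₂ := by
      rw [hge, det_cj, det_pr]
    rw [hdet, hg₂el.2.1, mul_one] at h3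
    exact h3.symm
  have hsp₁ : spin Q₁ ⟨g₁, hg₁⟩ = s := by
    have h3 := spin_cj he hprO
    have h4 : (⟨cj e (pr g₁ g₂), cj_mem_O he hprO⟩ : O Q) = ⟨g, hgO⟩ := Subtype.ext hge.symm
    rw [h4, hsp, spin_pr h2 hQ₁ hQ₂ hg₁ hg₂, hg₂el.2.2, mul_one] at h3
    exact h3.symm
  have hpar : Even n₁ := by
    by_contra hodd
    rw [Nat.not_even_iff_odd] at hodd
    have h3 := det_of_no_one hQ₁ hg₁ hno
    have h4 : LinearMap.det (en g₁) = 1 := by
      have := congrArg Units.val hdet₁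
      rwa [LinearEquiv.coe_det] at this
    rw [h4] at h3
    simp only [finrank_fintype_fun_eq_card, Fintype.card_fin] at h3
    rw [hodd.neg_one_pow] at h3
    exact neg_one_ne h2 h3.symm
  refine ⟨n₁, n₂, Q₁, Q₂, g₁, g₂, e, he, hge, hdim, hQ₁, hQ₂, ?_, ⟨hg₁, hdet₁, hsp₁⟩, hg₂, hno, hnil, hpar⟩
  rw [dc_iso he, dc_prod]

/-- a sign with given value -/
theorem exists_sign {d : ℤ} (h : d = 1 ∨ d = -1) : ∃ s : ℤˣ, (s : ℤ) = d := by
  rcases h with rfl | rfl
  · exact ⟨1, rfl⟩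
  · exact ⟨-1, rfl⟩

theorem dc_zero (Q : QuadraticForm F (Fin 0 → F)) : dc Q = 1 := by
  unfold dc
  rw [gdet_of_zero Q (by simp), map_one]

theorem neg_neg_mul {V : Type*} [AddCommGroup V] [Module F V] (g : V ≃ₗ[F] V) :
    LinearEquiv.neg F * (LinearEquiv.neg F * g) = g := by
  rw [← mul_assoc, ← pow_two, Cfsg.Agent.H160.QUpper.neg_pow_two, one_mul]

theorem neg_mul_odd {V : Type*} [AddCommGroup V] [Module F V] {g : V ≃ₗ[F] V} {m : ℕ} (hm : Odd m) (h : g ^ m = 1) :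
    (LinearEquiv.neg F * g) ^ m = LinearEquiv.neg F := by
  rw [(neg_comm g).mul_pow, h, mul_one]
  obtain ⟨k, rfl⟩ := hm
  rw [pow_add, pow_mul, Cfsg.Agent.H160.QUpper.neg_pow_two, one_pow, one_mul, pow_one]

include hp in
/-- **Splitting into three parts.** -/
theorem split_three (h2 : (2 : F) ≠ 0) {V : Type*} [AddCommGroup V] [Module F V] [FiniteDimensional F V] [Finite V]
    {Q : QuadraticForm F V} (hQ : Nondeg Q) {g : V ≃ₗ[F] V} (hg : El Q 1 g) :
    ∃ (n a b : ℕ) (Q₀ : QuadraticForm F (Fin n → F)) (Q₁ : QuadraticForm F (Fin a → F))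
      (Q₂ : QuadraticForm F (Fin b → F)) (g₀ : (Fin n → F) ≃ₗ[F] (Fin n → F)) (u₁ : (Fin a → F) ≃ₗ[F] (Fin a → F))
      (u₂ : (Fin b → F) ≃ₗ[F] (Fin b → F)) (s : ℤˣ),
      n + a + b = finrank F V ∧ Nondeg Q₀ ∧ Nondeg Q₁ ∧ Nondeg Q₂ ∧ dc Q = dc Q₀ * dc Q₁ * dc Q₂ ∧
      (s : ℤ) = dc Q₂ ∧ El Q₀ s g₀ ∧ u₁ ∈ O Q₁ ∧ u₂ ∈ O Q₂ ∧ (∀ x, g₀ x = x → x = 0) ∧ (∀ x, g₀ x = -x → x = 0) ∧
      (en u₁ - 1) ^ a = 0 ∧ (en u₂ - 1) ^ b = 0 ∧ Even n ∧ Even b ∧
      (∀ N, g₀ ^ N = 1 → u₁ ^ N = 1 → (LinearEquiv.neg F * u₂) ^ N = 1 → g ^ N = 1) ∧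
      (∀ N, g₀ ^ N = LinearEquiv.neg F → u₁ ^ N = LinearEquiv.neg F → (LinearEquiv.neg F * u₂) ^ N = LinearEquiv.neg F →
        g ^ N = LinearEquiv.neg F) := by
  obtain ⟨n₁, n₂, Q₁, Q₂, g₁, h88⟩ := split_one (p := p) h2 hQ hg
  revert h88; rintro ⟨g₂, e, he, hge, hdim, h88⟩
  revert h88; rintro ⟨hQ₁, hQ₂, hdc, hg₁, hg₂, h88⟩
  revert h88; rintro ⟨hno, hnil, hev⟩
  obtain ⟨s₁, hs₁⟩ := exists_sign (dc_cases hQ₁)
  have hneg₁ : El Q₁ s₁ (LinearEquiv.neg F * g₁) := by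
    have := (el_neg h2 hQ₁ (by simpa only [_root_.Module.finrank_fintype_fun_eq_card, _root_.Fintype.card_fin] using hev) hs₁).mul hg₁
    rwa [mul_one] at this
  obtain ⟨n₃, n₄, Q₃, Q₄, g₃, h88⟩ :=
    split_one (p := p) h2 hQ₁ hneg₁
  revert h88; rintro ⟨g₄, e', he', hge', hdim', h88⟩
  revert h88; rintro ⟨hQ₃, hQ₄, hdc', hg₃, hg₄, h88⟩
  revert h88; rintro ⟨hno', hnil', hev'⟩
  obtain ⟨s₃, hs₃⟩ := exists_sign (dc_cases hQ₃)
  obtain ⟨s₄, hs₄⟩ := exists_sign (dc_cases hQ₄)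
  have hg₁eq : g₁ = cj e' (pr (LinearEquiv.neg F * g₃) (LinearEquiv.neg F * g₄)) := by
    rw [← neg_neg_mul g₁, hge', pr_mul, cj_mul, pr_neg, cj_neg]
  have hs : s₃ * s₁ = s₄ := by
    apply Units.ext
    rw [Units.val_mul, hs₃, hs₁, hdc', hs₄]
    rcases dc_cases hQ₃ with h | h <;> rw [h] <;> ring
  have hg₀ : El Q₃ s₄ (LinearEquiv.neg F * g₃) := by
    have := (el_neg h2 hQ₃ (by simpa only [_root_.Module.finrank_fintype_fun_eq_card, _root_.Fintype.card_fin] using hev') hs₃).mul hg₃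
    rwa [hs] at this
  have hdim'' : n₃ + n₄ = n₁ := by rw [hdim']; simp only [_root_.Module.finrank_fintype_fun_eq_card, _root_.Fintype.card_fin]
  refine ⟨n₃, n₂, n₄, Q₃, Q₂, Q₄, LinearEquiv.neg F * g₃, g₂, g₄, s₄, by omega, hQ₃, hQ₂, hQ₄, ?_, hs₄, hg₀, hg₂, hg₄,
    ?_, ?_, hnil, hnil', hev', ?_, ?_, ?_⟩
  · rw [hdc, hdc']; ring
  · intro x hx
    have h3 : g₁ (e' (x, 0)) = e' (x, 0) := by
      rw [hg₁eq, cj_apply', pr_apply]
      simp only [map_zero, hx]
    have h4 := hno _ h3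
    rw [e'.map_eq_zero_iff] at h4
    exact congrArg Prod.fst h4
  · intro x hx
    apply hno'
    have h3 : -(g₃ x) = -x := hx
    exact neg_injective h3
  · have h5 : Even (n₃ + n₄) := by rw [hdim'']; exact hev
    exact (Nat.even_add.1 h5).1 hev'
  · intro N h3 h4 h5
    rw [hge, ← cj_pow, pr_pow, h4, hg₁eq, ← cj_pow, pr_pow, h3, h5, pr_one, cj_one, pr_one, cj_one]
  · intro N h3 h4 h5
    rw [hge, ← cj_pow, pr_pow, h4, hg₁eq, ← cj_pow, pr_pow, h3, h5, pr_neg, cj_neg, pr_neg, cj_neg]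

/-! ### The spinor sign and the roots -/

section Roots

variable {V : Type*} [AddCommGroup V] [Module F V] [FiniteDimensional F V]

omit hp [CharP F p] [Fintype F] [DecidableEq F] in
theorem psi_rts (g : V ≃ₗ[F] V) (hev : Even (finrank F V)) :
    psi (rts (en g)) = algebraMap F (AlgebraicClosure F) (LinearMap.det (1 + en g)) := by
  rw [← Cfsg.Agent.H899.O7.Upper.eval_one g hev]
  rw [← Polynomial.coe_aeval_eq_eval, ← Polynomial.aeval_algebraMap_apply, ← Polynomial.eval_map_algebraMap,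
    eq_prod, Polynomial.eval_multiset_prod, Multiset.map_map, psi]
  have h1 : ((Polynomial.eval ((algebraMap F (AlgebraicClosure F)) (-1))) ∘ fun x : AlgebraicClosure F =>
      (Polynomial.X - Polynomial.C x)) = fun x => (-1) * (1 + x) := by
    funext x
    simp only [Function.comp_apply, Polynomial.eval_sub, Polynomial.eval_X, Polynomial.eval_C, map_neg, map_one]
    ring
  rw [h1, Multiset.prod_map_mul, Multiset.map_const', Multiset.prod_replicate, card_rts, hev.neg_one_pow, one_mul]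

theorem det_one_add_ne {g : V ≃ₗ[F] V} (hm : ∀ v, g v = -v → v = 0) : LinearMap.det (1 + en g) ≠ 0 := by
  apply det_ne_zero_of_inj
  intro v hv
  apply hm
  rw [LinearMap.add_apply, Module.End.one_apply] at hv
  exact eq_neg_of_add_eq_zero_right hv

/-- `psi ^ ((q - 1) / 2)` is the spinor sign -/
theorem psi_pow [Finite V] (h2 : (2 : F) ≠ 0) {Q : QuadraticForm F V} (hQ : Nondeg Q) (hev : Even (finrank F V))
    {g : V ≃ₗ[F] V} (hg : El Q 1 g) (hm : ∀ v, g v = -v → v = 0) {e : ℕ} (he : Fintype.card F = 2 * e + 1) :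
    psi (rts (en g)) ^ e = 1 := by
  obtain ⟨hgO, hdet, hsp⟩ := hg
  have hne := det_one_add_ne hm
  have h3 := Cfsg.Agent.H899.O7.Zass.zass h2 hQ hev (finrank F V) hgO hdet hne (by omega)
  rw [hsp] at h3
  have h4 := (quadraticChar_one_iff_isSquare hne).1 h3.symm
  obtain ⟨a, ha⟩ := h4
  have ha0 : a ≠ 0 := by rintro rfl; rw [ha] at hne; simp at hne
  rw [psi_rts g hev, ← map_pow, ha, ← pow_two, ← pow_mul]
  have h5 : 2 * e = Fintype.card F - 1 := by omega
  rw [h5, FiniteField.pow_card_sub_one_eq_one a ha0, map_one]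

theorem phi_pow [Finite V] {Q : QuadraticForm F V} (hQ : Nondeg Q)
    {g : V ≃ₗ[F] V} {s : ℤˣ} (hg : El Q s g) (h1 : ∀ v, g v = v → v = 0) (hm : ∀ v, g v = -v → v = 0) (hdc : dc Q = 1)
    {e : ℕ} (he : Fintype.card F = 2 * e + 1) : phi (rts (en g)) ^ e = 1 := by
  obtain ⟨hgO, hdet, hsp⟩ := hg
  have hdet1 : LinearMap.det (en g) = 1 := by
    have := congrArg Units.val hdet
    rwa [LinearEquiv.coe_det] at this
  obtain ⟨hne, hdcQ⟩ := dc_of_no_pm hQ hgO h1 hm hdet1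
  rw [phi_rts, ← map_pow]
  rw [hdc] at hdcQ
  have h4 := (quadraticChar_one_iff_isSquare hne).1 hdcQ.symm
  obtain ⟨a, ha⟩ := h4
  have ha0 : a ≠ 0 := by rintro rfl; rw [ha] at hne; simp at hne
  rw [ha, ← pow_two, ← pow_mul]
  have h5 : 2 * e = Fintype.card F - 1 := by omega
  rw [h5, FiniteField.pow_card_sub_one_eq_one a ha0, map_one]

end Roots

end Cfsg.Agent.H951.B6
end

-- part: H951/B6/Up8
section
/-!
# Orders of the elements of `Ω₈⁺(q)` modulo `±1`, `q = 5 ^ m` (block 6, L3)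
-/

set_option autoImplicit false
set_option linter.unusedSectionVars false

namespace Cfsg.Agent.H951.B6

open QuadraticMap Module
open Cfsg.Agent.LieClassical.OrthCore Cfsg.Agent.H160.QSpin Cfsg.Agent.H160.QDisc Cfsg.Agent.H160.QSplit
  Cfsg.Agent.H160.QMain Cfsg.Agent.H160.QUpper Cfsg.Agent.H160.QRoots Cfsg.Agent.H160.QChar

/-- the exponents -/
def Lst (q N : ℕ) : Prop :=
  N = (q ^ 3 - 1) / 2 ∨ N = (q ^ 3 + 1) / 2 ∨ N = (q ^ 4 - 1) / 4 ∨ N = 5 * (q ^ 2 + 1) ∨ N = 5 * (q ^ 2 - 1) ∨ N = 25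

variable {F : Type*} [Field F] [Fintype F] [DecidableEq F]

theorem eq_zero_dim {n : ℕ} (hn : n = 0) (g h : (Fin n → F) ≃ₗ[F] (Fin n → F)) : g = h := by
  subst hn
  ext x i
  exact i.elim0

theorem finrank_fin (n : ℕ) : finrank F (Fin n → F) = n := by simp only [_root_.Module.finrank_fintype_fun_eq_card, _root_.Fintype.card_fin]

theorem upV [CharP F 5] (h2 : (2 : F) ≠ 0) {e : ℕ} (he : Fintype.card F = 2 * e + 1) (hev : Even e)
    {V : Type*} [AddCommGroup V] [Module F V] [FiniteDimensional F V] [Finite V]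
    {Q : QuadraticForm F V} (hQ : Nondeg Q) (hV : finrank F V = 8) (hdc : dc Q = 1) {g : V ≃ₗ[F] V} (hg : El Q 1 g) :
    ∃ N, Lst (Fintype.card F) N ∧ (g ^ N = 1 ∨ g ^ N = LinearEquiv.neg F) := by
  classical
  have hp : Fact (Nat.Prime 5) := ⟨by norm_num⟩
  set q := Fintype.card F with hqdef
  have hq0 : 0 < q := Fintype.card_pos
  have hqodd : Odd q := ⟨e, he⟩
  have ev1 : 2 ∣ q ^ 2 - 1 := even_iff_two_dvd.1 (Nat.Odd.sub_odd hqodd.pow odd_one)
  have ev2 : 2 ∣ q ^ 2 + 1 := even_iff_two_dvd.1 hqodd.pow.add_one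
  obtain ⟨n, a, b, Q₀, Q₁, h88⟩ := split_three (p := 5) h2 hQ hg
  revert h88; rintro ⟨Q₂, g₀, u₁, u₂, s, h88⟩
  revert h88; rintro ⟨hdim, hQ₀, hQ₁, hQ₂, hdcs, h88⟩
  revert h88; rintro ⟨hs, hg₀, hu₁, hu₂, hno, h88⟩
  revert h88; rintro ⟨hnm, hnil₁, hnil₂, hen, heb, h88⟩
  revert h88; rintro ⟨hone, hneg⟩
  rw [hV] at hdim
  have hea : Even a := by
    obtain ⟨n', hn'⟩ := hen
    obtain ⟨b', hb'⟩ := heb
    exact ⟨4 - n' - b', by omega⟩
  have hInv := inv_rts hQ₀ hg₀.1 hno hnm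
  have hcard := card_rts (en g₀)
  rw [finrank_fin] at hcard
  -- exponents of the part without eigenvalues `±1`
  have hex : ∀ {k : (Fin n → F) ≃ₗ[F] (Fin n → F)} {M N c : ℕ}, Bd (rts (en k)) M N → M ≤ 5 ^ c → k ^ (N * 5 ^ c) = 1 := by
    intro k M N c hB hc
    apply en_inj
    rw [en_pow]
    exact pow_eq_one_of_bd hB hc
  -- unipotent parts
  have hu5 : ∀ {d : ℕ} {Q' : QuadraticForm F (Fin d → F)} {u : (Fin d → F) ≃ₗ[F] (Fin d → F)}, Nondeg Q' → u ∈ O Q' →
      (en u - 1) ^ d = 0 → Even d → d ≤ 6 → u ^ 5 = 1 := by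
    intro d Q' u hQ' hu hnil hd hd6
    by_cases h6 : d = 6
    · subst h6
      have h5 := unip_even h2 hQ' hu (n := 5) (finrank_fin 6) (by decide) hnil
      have := unip_pow (p := 5) (c := 1) h5 (by norm_num)
      rwa [pow_one] at this
    · have h5 : d ≤ 5 ^ 1 := by
        obtain ⟨t, ht⟩ := hd
        omega
      have := unip_pow (p := 5) hnil h5
      rwa [pow_one] at this
  have hu1 : ∀ {d : ℕ} {Q' : QuadraticForm F (Fin d → F)} {u : (Fin d → F) ≃ₗ[F] (Fin d → F)}, Nondeg Q' → u ∈ O Q' →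
      (en u - 1) ^ d = 0 → d = 2 → u = 1 := by
    intro d Q' u hQ' hu hnil hd
    subst hd
    have h5 := unip_even h2 hQ' hu (n := 1) (finrank_fin 2) (by decide) hnil
    have := unip_pow (p := 5) (c := 0) h5 (by norm_num)
    rwa [pow_zero, pow_one] at this
  have hu10 : ∀ {d : ℕ} {u : (Fin d → F) ≃ₗ[F] (Fin d → F)}, u ^ 5 = 1 → (LinearEquiv.neg F * u) ^ (5 * 2) = 1 := by
    intro d u hu
    have := neg_mul_pow hu
    rwa [mul_comm] at this
  have hn8 : n = 0 ∨ n = 2 ∨ n = 4 ∨ n = 6 ∨ n = 8 := by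
    obtain ⟨t, ht⟩ := hen
    (clear * - hdim ht; omega)
  have hL4 : Lst q (5 * (q ^ 2 + 1)) := Or.inr (Or.inr (Or.inr (Or.inl rfl)))
  have hL5 : Lst q (5 * (q ^ 2 - 1)) := Or.inr (Or.inr (Or.inr (Or.inr (Or.inl rfl))))
  rcases hn8 with hn | hn | hn | hn | hn
  · -- only eigenvalues `±1`
    have hg₀1 : g₀ = 1 := eq_zero_dim hn _ _
    by_cases hb0 : b = 0
    · refine ⟨25, Or.inr (Or.inr (Or.inr (Or.inr (Or.inr rfl)))), Or.inl (hone _ (by rw [hg₀1, one_pow]) ?_
        (eq_zero_dim hb0 _ _))⟩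
      have := unip_pow (p := 5) (c := 2) hnil₁ (by norm_num; omega)
      norm_num only [] at this
      exact this
    · by_cases ha0 : a = 0
      · refine ⟨25, Or.inr (Or.inr (Or.inr (Or.inr (Or.inr rfl)))), Or.inr (hneg _ (eq_zero_dim hn _ _)
          (eq_zero_dim ha0 _ _) (neg_mul_odd (by decide) ?_))⟩
        have := unip_pow (p := 5) (c := 2) hnil₂ (by norm_num; omega)
        norm_num only [] at this
        exact this
      · have ha6 : a ≤ 6 := by
          obtain ⟨t, ht⟩ := heb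
          (clear * - hdim hb0 ht; omega)
        have hb6 : b ≤ 6 := by
          obtain ⟨t, ht⟩ := hea
          (clear * - hdim ha0 ht; omega)
        have h3 := hu5 hQ₁ hu₁ hnil₁ hea ha6
        have h4 := hu5 hQ₂ hu₂ hnil₂ heb hb6
        refine ⟨_, hL5, Or.inl (hone _ (by rw [hg₀1, one_pow]) (pow_dvd_one h3 (Dvd.intro _ rfl))
          (pow_dvd_one (hu10 h4) (Nat.mul_dvd_mul_left 5 ev1)))⟩
  · -- one pair
    have h3 := hu5 hQ₁ hu₁ hnil₁ hea (by omega)
    have h4 := hu5 hQ₂ hu₂ hnil₂ heb (by omega)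
    refine ⟨_, hL5, Or.inl (hone _ ?_ (pow_dvd_one h3 (Dvd.intro _ rfl))
      (pow_dvd_one (hu10 h4) (Nat.mul_dvd_mul_left 5 ev1)))⟩
    rcases one (frob_inj F) hq0 hInv (by rw [hcard, hn]) with hB | hB
    · have := hex (c := 0) hB (by simp)
      rw [pow_zero, mul_one] at this
      exact pow_dvd_one this ((sub_one_dvd _ 2).trans (Dvd.intro_left 5 rfl))
    · have := hex (c := 0) hB (by simp)
      rw [pow_zero, mul_one] at this
      exact pow_dvd_one this ((add_one_dvd_sq _).trans (Dvd.intro_left 5 rfl))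
  · -- two pairs
    have h3 := hu5 hQ₁ hu₁ hnil₁ hea (by omega)
    have h4 := hu5 hQ₂ hu₂ hnil₂ heb (by omega)
    rcases two (frob_inj F) hq0 hInv (by rw [hcard, hn]) with hB | hB
    · refine ⟨_, hL4, Or.inl (hone _ ?_ (pow_dvd_one h3 (Dvd.intro _ rfl))
        (pow_dvd_one (hu10 h4) (Nat.mul_dvd_mul_left 5 ev2)))⟩
      have := hex (c := 1) hB (by norm_num)
      rwa [pow_one, mul_comm] at this
    · refine ⟨_, hL5, Or.inl (hone _ ?_ (pow_dvd_one h3 (Dvd.intro _ rfl))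
        (pow_dvd_one (hu10 h4) (Nat.mul_dvd_mul_left 5 ev1)))⟩
      have := hex (c := 1) hB (by norm_num)
      rwa [pow_one, mul_comm] at this
  · -- three pairs
    have key : ∀ k : (Fin n → F) ≃ₗ[F] (Fin n → F), El Q₀ 1 k → (∀ x, k x = x → x = 0) → (∀ x, k x = -x → x = 0) →
        ∃ N, Lst q N ∧ k ^ N = 1 := by
      intro k hk hk1 hk2
      have hI := inv_rts hQ₀ hk.1 hk1 hk2
      have hc := card_rts (en k)
      rw [finrank_fin] at hc
      have hps := psi_pow h2 hQ₀ (by rw [finrank_fin]; exact hen) hk hk2 he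
      rcases six (frob_inj F) hq0 he hev (frob_sub F) hI (hc.trans hn) hps with hB | hB | hB | hB
      · exact ⟨_, Or.inl rfl, by simpa only [_root_.pow_zero, _root_.mul_one] using hex (c := 0) hB (by simp)⟩
      · exact ⟨_, Or.inr (Or.inl rfl), by simpa only [_root_.pow_zero, _root_.mul_one] using hex (c := 0) hB (by simp)⟩
      · exact ⟨_, Or.inr (Or.inr (Or.inl rfl)), by simpa only [_root_.pow_zero, _root_.mul_one] using hex (c := 0) hB (by simp)⟩
      · refine ⟨_, hL5, ?_⟩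
        have := hex (c := 1) hB (by norm_num)
        rwa [pow_one, mul_comm] at this
    have hab : (a = 2 ∧ b = 0) ∨ (a = 0 ∧ b = 2) := by
      obtain ⟨t, ht⟩ := heb
      (clear * - hdim hn ht; omega)
    rcases hab with ⟨ha, hb⟩ | ⟨ha, hb⟩
    · have hs1 : s = 1 := by
        subst hb
        rw [dc_zero] at hs
        exact Units.ext hs
      rw [hs1] at hg₀
      obtain ⟨N, hN, hk⟩ := key g₀ hg₀ hno hnm
      refine ⟨N, hN, Or.inl (hone _ hk ?_ (eq_zero_dim hb _ _))⟩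
      rw [hu1 hQ₁ hu₁ hnil₁ ha, one_pow]
    · have hdc1 : dc Q₁ = 1 := by
        subst ha
        exact dc_zero Q₁
      obtain ⟨s₀, hs₀⟩ := exists_sign (dc_cases hQ₀)
      have hss : s₀ * s = 1 := by
        apply Units.ext
        rw [Units.val_mul, hs₀, hs, Units.val_one]
        rw [hdc, hdc1, mul_one] at hdcs
        exact hdcs.symm
      have hk : El Q₀ 1 (LinearEquiv.neg F * g₀) := by
        have := (el_neg h2 hQ₀ (by rw [finrank_fin]; exact hen) hs₀).mul hg₀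
        rwa [hss] at this
      obtain ⟨N, hN, hkN⟩ := key (LinearEquiv.neg F * g₀) hk (fun x hx => hnm x (by
          have h3 : -(g₀ x) = x := hx
          rw [← h3, neg_neg]
          exact congrArg g₀ h3)) (fun x hx => hno x (by
          have h3 : -(g₀ x) = -x := hx
          exact neg_injective h3))
      have hu2 := hu1 hQ₂ hu₂ hnil₂ hb
      refine ⟨N, hN, ?_⟩
      rcases Nat.even_or_odd N with hNe | hNo
      · left
        obtain ⟨t, rfl⟩ := hNe
        have h5 : ∀ {d : ℕ} {u : (Fin d → F) ≃ₗ[F] (Fin d → F)}, u ^ (t + t) = 1 →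
            (LinearEquiv.neg F * u) ^ (t + t) = 1 := by
          intro d u hu
          rw [(neg_comm u).mul_pow, hu, mul_one, ← two_mul, pow_mul, Cfsg.Agent.H160.QUpper.neg_pow_two, one_pow]
        refine hone _ ?_ (eq_zero_dim ha _ _) (by rw [hu2]; exact h5 (one_pow _))
        have := h5 hkN
        rwa [neg_neg_mul] at this
      · right
        refine hneg _ ?_ (eq_zero_dim ha _ _) (by rw [hu2]; exact neg_mul_odd hNo (one_pow _))
        have := neg_mul_odd hNo hkN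
        rwa [neg_neg_mul] at this
  · -- four pairs
    have ha : a = 0 := by omega
    have hb : b = 0 := by omega
    have hs1 : s = 1 := by
      subst hb
      rw [dc_zero] at hs
      exact Units.ext hs
    rw [hs1] at hg₀
    have hdc0 : dc Q₀ = 1 := by
      subst ha
      subst hb
      rw [hdc, dc_zero, dc_zero, mul_one, mul_one] at hdcs
      exact hdcs.symm
    have hps := psi_pow h2 hQ₀ (by rw [finrank_fin]; exact hen) hg₀ hnm he
    have hph := phi_pow hQ₀ hg₀ hno hnm hdc0 he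
    have h2K : (2 : AlgebraicClosure F) ≠ 0 := by
      intro h
      apply h2
      apply (algebraMap F (AlgebraicClosure F)).injective
      rw [map_ofNat, map_zero, h]
    rcases eight (frob_inj F) hq0 he hev (frob_sub F) h2K hInv (by rw [hcard, hn]) hph hps with
      ⟨N, δ, hN, hδ, hcnt, hall⟩ | hB | hB
    · have hNL : Lst q N := by
        rcases hN with h | h | h
        · exact Or.inl h
        · exact Or.inr (Or.inl h)
        · exact Or.inr (Or.inr (Or.inl h))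
      have hq3 : 5 ≤ q := by
        obtain ⟨t, ht⟩ := hev
        have := Fintype.one_lt_card (α := F)
        omega
      have hN0 : 0 < N := by
        rw [← hqdef] at hN
        have h3 : 5 ^ 3 ≤ q ^ 3 := Nat.pow_le_pow_left hq3 3
        have h4 : 5 ^ 4 ≤ q ^ 4 := Nat.pow_le_pow_left hq3 4
        rcases hN with h | h | h <;> rw [h] <;> omega
      obtain ⟨c, hc1, hc⟩ : ∃ c : F, (c = 1 ∨ c = -1) ∧ δ = algebraMap F (AlgebraicClosure F) c := by
        rcases hδ with h | h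
        · exact ⟨1, Or.inl rfl, by rw [h, map_one]⟩
        · exact ⟨-1, Or.inr rfl, by rw [h, map_neg, map_one]⟩
      have h3 := Cfsg.Agent.H202.T.pow_eq_of_simple (g := en g₀) hN0 c hcnt (fun x hx => by rw [hall x hx, hc])
      refine ⟨N, hNL, ?_⟩
      rcases hc1 with rfl | rfl
      · left
        refine hone _ ?_ (eq_zero_dim ha _ _) (eq_zero_dim hb _ _)
        apply en_inj
        rw [en_pow, h3, map_one]
        rfl
      · right
        refine hneg _ ?_ (eq_zero_dim ha _ _) (eq_zero_dim hb _ _)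
        apply en_inj
        rw [en_pow, h3, map_neg, map_one]
        rfl
    · refine ⟨_, hL4, Or.inl (hone _ ?_ (eq_zero_dim ha _ _) (eq_zero_dim hb _ _))⟩
      have := hex (c := 1) hB (by norm_num)
      rwa [pow_one, mul_comm] at this
    · refine ⟨_, hL5, Or.inl (hone _ ?_ (eq_zero_dim ha _ _) (eq_zero_dim hb _ _))⟩
      have := hex (c := 1) hB (by norm_num)
      rwa [pow_one, mul_comm] at this

end Cfsg.Agent.H951.B6
end

private theorem dce_24555d285591 : _root_.True := by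
  try have : _root_.True := by simp only [_root_.Cfsg.Agent.H951.B6.psi.eq_1]
  exact _root_.True.intro
end

-- part: H206/LowPlus_mg
section
prune_inst 0x4f5506f045e42020000008090c3001e16a20004b0000800000820004a05888e0a05828860ac3011068aa080051031006813000100420000000a000400011d01a0808042001241010c26008f800000000000000000000000000000000000000000000000000
set_option linter.all false
open scoped Cfsg.Agent.FastGrp

-- part: H206/RegUni
section
/-!
# A regular unipotent element of `PΩ₈⁺(q)` (helper206)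

The product of the four Siegel transformations attached to the simple roots of `D₄`; it has order `8` in
characteristic two (`exists_eight`) and `25` in characteristic five (`exists_twentyfive`).
-/

set_option autoImplicit false
set_option linter.unusedSectionVars false
set_option linter.unusedSimpArgs false
set_option linter.style.haveILetI false

namespace Cfsg.Agent.H206.RegUni

open QuadraticMap
open Cfsg.Agent.LieClassical.OrthCore Cfsg.Agent.LieClassical.OrthForms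
  Cfsg.Agent.AutOrth.Main Cfsg.Agent.LieClassical.OrthTrans

abbrev I8 := Fin 4 ⊕ Fin 4

/-- elementary matrix with two extra entries -/
def el (R : Type*) [Ring R] (a b : I8) (c d : I8) : Matrix I8 I8 R :=
  Matrix.of fun i j => if i = j then 1 else if i = a ∧ j = b then 1 else if i = c ∧ j = d then -1 else 0

theorem el_map {R S : Type*} [Ring R] [Ring S] (φ : R →+* S) (a b c d : I8) :
    (el R a b c d).map φ = el S a b c d := by
  ext i j
  simp only [Matrix.map_apply, el, Matrix.of_apply]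
  split_ifs <;> simp only [_root_.map_one, _root_.map_neg, _root_.map_zero]

/-- the matrix of the product -/
def M (R : Type*) [Ring R] : Matrix I8 I8 R :=
  el R (.inr 1) (.inr 0) (.inl 0) (.inl 1) * el R (.inr 2) (.inr 1) (.inl 1) (.inl 2) *
    (el R (.inr 3) (.inr 2) (.inl 2) (.inl 3) * el R (.inl 3) (.inr 2) (.inl 2) (.inr 3))

theorem M_map {R S : Type*} [Ring R] [Ring S] (φ : R →+* S) : (M R).map φ = M S := by
  simp only [M, Matrix.map_mul, el_map]

theorem M_pow_map {R S : Type*} [Ring R] [Ring S] (φ : R →+* S) (k : ℕ) : (M R ^ k).map φ = M S ^ k := by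
  rw [← M_map φ]
  exact map_pow (RingHom.mapMatrix φ) (M R) k

/-! ### the powers in characteristic two and five -/

def ix : I8 → ℕ
  | .inl i => i.1
  | .inr i => 4 + i.1

def lit (p : ℕ) (l : List (List ℕ)) : Matrix I8 I8 (ZMod p) :=
  Matrix.of fun i j => (((l.getD (ix i) []).getD (ix j) 0 : ℕ) : ZMod p)

def two1 : Matrix I8 I8 (ZMod 2) := lit 2 [[1, 1, 1, 1, 0, 0, 1, 1], [0, 1, 1, 1, 0, 0, 1, 1], [0, 0, 1, 1, 0, 0, 1, 1], [0, 0, 0, 1, 0, 0, 1, 0], [0, 0, 0, 0, 1, 0, 0, 0], [0, 0, 0, 0, 1, 1, 0, 0], [0, 0, 0, 0, 0, 1, 1, 0], [0, 0, 0, 0, 0, 0, 1, 1]]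
def two2 : Matrix I8 I8 (ZMod 2) := lit 2 [[1, 0, 1, 0, 0, 1, 0, 0], [0, 1, 0, 1, 0, 1, 1, 1], [0, 0, 1, 0, 0, 1, 0, 0], [0, 0, 0, 1, 0, 1, 0, 0], [0, 0, 0, 0, 1, 0, 0, 0], [0, 0, 0, 0, 0, 1, 0, 0], [0, 0, 0, 0, 1, 0, 1, 0], [0, 0, 0, 0, 0, 1, 0, 1]]
def two4 : Matrix I8 I8 (ZMod 2) := lit 2 [[1, 0, 0, 0, 0, 1, 0, 0], [0, 1, 0, 0, 1, 0, 0, 0], [0, 0, 1, 0, 0, 0, 0, 0], [0, 0, 0, 1, 0, 0, 0, 0], [0, 0, 0, 0, 1, 0, 0, 0], [0, 0, 0, 0, 0, 1, 0, 0], [0, 0, 0, 0, 0, 0, 1, 0], [0, 0, 0, 0, 0, 0, 0, 1]]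
def five1 : Matrix I8 I8 (ZMod 5) := lit 5 [[1, 4, 1, 4, 0, 0, 4, 4], [0, 1, 4, 1, 0, 0, 1, 1], [0, 0, 1, 4, 0, 0, 4, 4], [0, 0, 0, 1, 0, 0, 1, 0], [0, 0, 0, 0, 1, 0, 0, 0], [0, 0, 0, 0, 1, 1, 0, 0], [0, 0, 0, 0, 0, 1, 1, 0], [0, 0, 0, 0, 0, 0, 1, 1]]
def five2 : Matrix I8 I8 (ZMod 5) := lit 5 [[1, 3, 3, 1, 0, 4, 4, 1], [0, 1, 3, 3, 0, 1, 0, 3], [0, 0, 1, 3, 0, 4, 1, 3], [0, 0, 0, 1, 0, 1, 2, 0], [0, 0, 0, 0, 1, 0, 0, 0], [0, 0, 0, 0, 2, 1, 0, 0], [0, 0, 0, 0, 1, 2, 1, 0], [0, 0, 0, 0, 0, 1, 2, 1]]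
def five4 : Matrix I8 I8 (ZMod 5) := lit 5 [[1, 1, 0, 0, 2, 3, 0, 0], [0, 1, 1, 0, 2, 0, 0, 0], [0, 0, 1, 1, 4, 1, 4, 1], [0, 0, 0, 1, 4, 1, 4, 0], [0, 0, 0, 0, 1, 0, 0, 0], [0, 0, 0, 0, 4, 1, 0, 0], [0, 0, 0, 0, 1, 4, 1, 0], [0, 0, 0, 0, 4, 1, 4, 1]]
def five5 : Matrix I8 I8 (ZMod 5) := lit 5 [[1, 0, 0, 0, 0, 3, 0, 0], [0, 1, 0, 0, 2, 0, 0, 0], [0, 0, 1, 0, 0, 0, 0, 0], [0, 0, 0, 1, 0, 0, 0, 0], [0, 0, 0, 0, 1, 0, 0, 0], [0, 0, 0, 0, 0, 1, 0, 0], [0, 0, 0, 0, 0, 0, 1, 0], [0, 0, 0, 0, 0, 0, 0, 1]]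
def five10 : Matrix I8 I8 (ZMod 5) := lit 5 [[1, 0, 0, 0, 0, 1, 0, 0], [0, 1, 0, 0, 4, 0, 0, 0], [0, 0, 1, 0, 0, 0, 0, 0], [0, 0, 0, 1, 0, 0, 0, 0], [0, 0, 0, 0, 1, 0, 0, 0], [0, 0, 0, 0, 0, 1, 0, 0], [0, 0, 0, 0, 0, 0, 1, 0], [0, 0, 0, 0, 0, 0, 0, 1]]
def five20 : Matrix I8 I8 (ZMod 5) := lit 5 [[1, 0, 0, 0, 0, 2, 0, 0], [0, 1, 0, 0, 3, 0, 0, 0], [0, 0, 1, 0, 0, 0, 0, 0], [0, 0, 0, 1, 0, 0, 0, 0], [0, 0, 0, 0, 1, 0, 0, 0], [0, 0, 0, 0, 0, 1, 0, 0], [0, 0, 0, 0, 0, 0, 1, 0], [0, 0, 0, 0, 0, 0, 0, 1]]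

theorem M_two : M (ZMod 2) = two1 := by decide +kernel
theorem two_two : two1 * two1 = two2 := by decide +kernel
theorem two_four : two2 * two2 = two4 := by decide +kernel
theorem two_eight : two4 * two4 = 1 := by decide +kernel
theorem two4_ne : two4 ≠ 1 := by decide +kernel
theorem M_five : M (ZMod 5) = five1 := by decide +kernel
theorem five_two : five1 * five1 = five2 := by decide +kernel
theorem five_four : five2 * five2 = five4 := by decide +kernel
theorem five_five : five4 * five1 = five5 := by decide +kernel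
theorem five_ten : five5 * five5 = five10 := by decide +kernel
theorem five_twenty : five10 * five10 = five20 := by decide +kernel
theorem five_last : five20 * five5 = 1 := by decide +kernel
theorem five5_ne : five5 ≠ 1 := by decide +kernel

theorem pow_four' {G : Type*} [Monoid G] {a b c : G} (h1 : a * a = b) (h2 : b * b = c) : a ^ 4 = c := by
  rw [← h2, ← h1]
  simp only [pow_succ, pow_zero, one_mul, mul_assoc]

theorem M_two_four : M (ZMod 2) ^ 4 = two4 := by
  rw [M_two]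
  exact pow_four' two_two two_four

theorem M_two_eight : M (ZMod 2) ^ 8 = 1 := by
  have h : M (ZMod 2) ^ 8 = (M (ZMod 2) ^ 4) * (M (ZMod 2) ^ 4) := pow_add _ 4 4
  rw [h, M_two_four, two_eight]

theorem M_five_five : M (ZMod 5) ^ 5 = five5 := by
  have h : M (ZMod 5) ^ 5 = (M (ZMod 5) ^ 4) * M (ZMod 5) := pow_succ _ 4
  have h4 : M (ZMod 5) ^ 4 = five4 := by
    rw [M_five]
    exact pow_four' five_two five_four
  rw [h, h4, M_five, five_five]

theorem M_five_last : M (ZMod 5) ^ 25 = 1 := by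
  have h : M (ZMod 5) ^ 25 = (M (ZMod 5) ^ 5) ^ 4 * (M (ZMod 5) ^ 5) := by
    rw [← pow_mul, ← pow_add]
  rw [h, M_five_five, pow_four' five_ten five_twenty, five_last]

section

variable {F : Type*} [Field F]

theorem M_pow_eq_one_iff {p : ℕ} [CharP F p] (k : ℕ) : M F ^ k = 1 ↔ M (ZMod p) ^ k = 1 := by
  rw [← M_pow_map (ZMod.castHom (dvd_refl p) F) k]
  constructor
  · intro h
    ext i j
    apply ZMod.castHom_injective F
    have := congrFun (congrFun h i) j
    rw [Matrix.map_apply] at this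
    rw [this, Matrix.one_apply, Matrix.one_apply]
    split_ifs <;> simp
  · intro h
    rw [h]
    exact Matrix.map_one _ (map_zero _) (map_one _)

/-- basis vectors -/
def bv (F : Type*) [Field F] (i : I8) : I8 → F := Pi.single i 1

/-- the opposite index -/
def op : I8 → I8
  | .inl i => .inr i
  | .inr i => .inl i

theorem Q_bv (i : I8) : plusForm 4 F (bv F i) = 0 := by
  rw [coe_plusForm, quadFormPlus_apply]
  rcases i with i | i <;> (revert i; simp [bv, Fin.sum_univ_four, Pi.single_apply, _root_.Fin.forall_fin_succ])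

theorem polar_bv (i : I8) (v : I8 → F) : polar (plusForm 4 F) (bv F i) v = v (op i) := by
  rw [polar_plusForm]
  rcases i with i | i <;> (revert i; simp [bv, op, Fin.sum_univ_four, Pi.single_apply, _root_.Fin.forall_fin_succ])

/-- the Siegel transformation of two orthogonal basis vectors -/
noncomputable def sg (F : Type*) [Field F] (i j : I8) (h : j ≠ op i) : (I8 → F) ≃ₗ[F] (I8 → F) :=
  siegel (plusForm 4 F) (bv F i) (bv F j) (Q_bv i) (by
    rw [polar_bv, bv, Pi.single_apply, if_neg h.symm])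

theorem sg_apply (i j : I8) (h : j ≠ op i) (v : I8 → F) :
    sg F i j h v = v + v (op i) • bv F j - v (op j) • bv F i := by
  rw [sg, siegel_apply, polar_bv, polar_bv, Q_bv, zero_mul, zero_smul, sub_zero]

theorem sg_mem (i j : I8) (h : j ≠ op i) : sg F i j h ∈ E (plusForm 4 F) := siegel_mem_E _ _

theorem el_mulVec (a b c d : I8) (hab : a ≠ b) (hcd : c ≠ d) (hac : a ≠ c) (v : I8 → F) :
    (el F a b c d).mulVec v = v + v b • bv F a - v d • bv F c := by
  funext i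
  simp only [Matrix.mulVec, dotProduct, el, Matrix.of_apply, Pi.add_apply, Pi.sub_apply,
    Pi.smul_apply, smul_eq_mul, bv, Pi.single_apply]
  have key : ∀ j : I8, (if i = j then (1 : F) else if i = a ∧ j = b then 1 else if i = c ∧ j = d then -1 else 0)
      * v j = (if i = j then v j else 0) + (if j = b then (if i = a then v j else 0) else 0)
        - (if j = d then (if i = c then v j else 0) else 0) := by
    intro j
    by_cases h1 : i = j
    · subst h1
      by_cases h2 : i = b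
      · subst h2
        by_cases h3 : i = d
        · subst h3
          simp [Ne.symm hab, Ne.symm hcd]
        · simp [Ne.symm hab, h3]
      · by_cases h3 : i = d
        · subst h3
          simp [Ne.symm hcd, h2]
        · simp [h2, h3]
    · by_cases h2 : j = b
      · subst h2
        by_cases h3 : i = a
        · subst h3
          simp [h1, hac]
        · by_cases h4 : j = d
          · subst h4
            by_cases h5 : i = c
            · subst h5
              simp [h1, h3, Ne.symm hac]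
            · simp [h1, h3, h5]
          · simp [h1, h3, h4]
      · by_cases h4 : j = d
        · subst h4
          by_cases h5 : i = c
          · subst h5
            simp [h1, h2]
          · simp [h1, h2, h5]
        · simp [h1, h2, h4]
  rw [Finset.sum_congr rfl fun j _ => key j]
  rw [Finset.sum_sub_distrib, Finset.sum_add_distrib, Finset.sum_ite_eq, Finset.sum_ite_eq', Finset.sum_ite_eq']
  simp only [_root_.Finset.mem_univ, ↓ _root_.reduceIte, _root_.mul_ite, _root_.mul_one, _root_.MulZeroClass.mul_zero]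

theorem sg_mulVec (i j : I8) (h : j ≠ op i) (h' : i ≠ op j) (hij : j ≠ i) (v : I8 → F) :
    sg F i j h v = (el F j (op i) i (op j)).mulVec v := by
  rw [sg_apply, el_mulVec _ _ _ _ h h' hij]

/-- the regular unipotent element -/
noncomputable def g (F : Type*) [Field F] : (I8 → F) ≃ₗ[F] (I8 → F) :=
  sg F (.inl 0) (.inr 1) (by decide) * sg F (.inl 1) (.inr 2) (by decide) *
    (sg F (.inl 2) (.inr 3) (by decide) * sg F (.inl 2) (.inl 3) (by decide))

theorem g_mem : g F ∈ E (plusForm 4 F) :=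
  mul_mem (mul_mem (sg_mem _ _ _) (sg_mem _ _ _)) (mul_mem (sg_mem _ _ _) (sg_mem _ _ _))

theorem g_apply (v : I8 → F) : g F v = (M F).mulVec v := by
  simp only [g, LinearEquiv.mul_apply]
  rw [sg_mulVec _ _ _ (by decide) (by decide), sg_mulVec _ _ _ (by decide) (by decide),
    sg_mulVec _ _ _ (by decide) (by decide), sg_mulVec _ _ _ (by decide) (by decide)]
  rw [M, ← Matrix.mulVec_mulVec, ← Matrix.mulVec_mulVec, ← Matrix.mulVec_mulVec]
  rfl

theorem g_pow_apply (k : ℕ) (v : I8 → F) : (g F ^ k) v = (M F ^ k).mulVec v := by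
  induction k generalizing v with
  | zero => simp
  | succ k ih => rw [pow_succ, LinearEquiv.mul_apply, ih, g_apply, Matrix.mulVec_mulVec, ← pow_succ]

theorem g_pow_eq_one_iff {p : ℕ} [CharP F p] (k : ℕ) : g F ^ k = 1 ↔ M (ZMod p) ^ k = 1 := by
  rw [← M_pow_eq_one_iff (F := F)]
  constructor
  · intro h
    apply Matrix.mulVec_injective
    funext v
    rw [← g_pow_apply, h, Matrix.one_mulVec]
    rfl
  · intro h
    ext1 v
    rw [g_pow_apply, h, Matrix.one_mulVec]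
    rfl

theorem orderOf_g_two [CharP F 2] : orderOf (g F) = 8 := by
  haveI : Fact (Nat.Prime 2) := ⟨Nat.prime_two⟩
  have h := orderOf_eq_prime_pow (p := 2) (n := 2) (x := g F)
    (by
      rw [g_pow_eq_one_iff (p := 2)]
      change ¬ M (ZMod 2) ^ 4 = 1
      rw [M_two_four]
      exact two4_ne)
    (by
      rw [g_pow_eq_one_iff (p := 2)]
      exact M_two_eight)
  exact h

theorem orderOf_g_five [CharP F 5] : orderOf (g F) = 25 := by
  haveI : Fact (Nat.Prime 5) := ⟨Nat.prime_five⟩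
  have h := orderOf_eq_prime_pow (p := 5) (n := 1) (x := g F)
    (by
      rw [g_pow_eq_one_iff (p := 5)]
      change ¬ M (ZMod 5) ^ 5 = 1
      rw [M_five_five]
      exact five5_ne)
    (by
      rw [g_pow_eq_one_iff (p := 5)]
      exact M_five_last)
  exact h

open Cfsg.Agent.LieClassical.OrthFinite Cfsg.Agent.LieClassical.QuadForms in
/-- an element of `E Q` which is of odd order or in characteristic two keeps its order in `POmega` -/
theorem exists_of_E [Finite F] {ι : Type} [Fintype ι] [DecidableEq ι] {Q : QuadraticForm F (ι → F)} (hG : Good Q)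
    (x : (ι → F) ≃ₗ[F] (ι → F)) (hx : x ∈ E Q) (h : (2 : F) = 0 ∨ Odd (orderOf x)) :
    ∃ y : Cfsg.POmega F ⇑Q, orderOf y = orderOf x := by
  have hd : 5 ≤ Fintype.card ι := by
    have := hG.dim
    rwa [Module.finrank_fintype_fun_eq_card] at this
  let z : Cfsg.Omega F ⇑Q := (oe hG).symm ⟨x, hx⟩
  have hz : orderOf z = orderOf x := by
    rw [MulEquiv.orderOf_eq]
    exact Subgroup.orderOf_mk x hx
  refine ⟨QuotientGroup.mk z, ?_⟩
  rw [← hz]
  rw [orderOf_eq_orderOf_iff]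
  intro k
  rw [← QuotientGroup.mk_pow, QuotientGroup.eq_one_iff,
    Cfsg.Agent.LieClassical.OrthCenter.mem_center_omega_iff (Cfsg.Agent.H377.nondegenerate_of_nondeg hG.nondeg) (by omega) hG.sing]
  have e1 : ∀ w : Cfsg.Omega F ⇑Q,
      (((w : Cfsg.isometryGroup F (⇑Q)) : Matrix.GeneralLinearGroup ι F) : Matrix ι ι F) = 1 ↔ w = 1 := by
    intro w
    constructor
    · intro h
      apply Subtype.ext
      apply Subtype.ext
      apply Units.ext
      exact h
    · rintro rfl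
      rfl
  rw [e1]
  constructor
  · rintro (h1 | h1)
    · exact h1
    · rcases h with h | h
      · rw [← e1, h1]
        have h3 : (-1 : F) = 1 := by linear_combination -h
        rw [← one_smul F (1 : Matrix ι ι F), ← neg_smul, h3]
      · have h2 : (z ^ k) ^ 2 = 1 := by
          rw [← e1]
          change ((((z ^ k : Cfsg.Omega F ⇑Q) : Cfsg.isometryGroup F (⇑Q)) : Matrix.GeneralLinearGroup ι F) :
            Matrix ι ι F) ^ 2 = 1
          rw [h1, neg_one_sq]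
        have h3 : (z ^ k) ^ (orderOf z) = 1 := by
          rw [← pow_mul, mul_comm, pow_mul, pow_orderOf_eq_one, one_pow]
        rw [← orderOf_dvd_iff_pow_eq_one] at h2 h3
        rw [← hz] at h
        have h4 : orderOf (z ^ k) ∣ Nat.gcd 2 (orderOf z) := Nat.dvd_gcd h2 h3
        rw [Nat.coprime_two_left.2 h] at h4
        exact orderOf_eq_one_iff.1 (Nat.dvd_one.1 h4)
  · exact Or.inl

theorem good_plus8 [Finite F] : Good (plusForm 4 F) :=
  Cfsg.Agent.LieClassical.OrthFinite.good_of_finite (nondeg_plusForm 4 F)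
    (by rw [Module.finrank_fintype_fun_eq_card]; decide)

/-- **`PΩ₈⁺(2^a)` has an element of order `8`** -/
theorem exists_eight [Finite F] (h2 : (2 : F) = 0) :
    ∃ y : Cfsg.POmega F (Cfsg.quadFormPlus 4 F), orderOf y = 8 := by
  haveI : CharP F 2 := CharTwo.of_one_ne_zero_of_two_eq_zero one_ne_zero h2
  obtain ⟨y, hy⟩ := exists_of_E (good_plus8 (F := F)) (g F) g_mem (Or.inl h2)
  rw [orderOf_g_two] at hy
  rw [← coe_plusForm]
  exact ⟨y, hy⟩

/-- **`PΩ₈⁺(5^a)` has an element of order `25`** -/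
theorem exists_twentyfive [Finite F] [CharP F 5] :
    ∃ y : Cfsg.POmega F (Cfsg.quadFormPlus 4 F), orderOf y = 25 := by
  obtain ⟨y, hy⟩ := exists_of_E (good_plus8 (F := F)) (g F) g_mem
    (Or.inr (by rw [orderOf_g_five]; decide))
  rw [orderOf_g_five] at hy
  rw [← coe_plusForm]
  exact ⟨y, hy⟩

end

end Cfsg.Agent.H206.RegUni
end

-- part: H206/LowPlus
section
/-!
# Element orders of `PΩ₈⁺(q)`, `q` a power of `2` or `5` (helper206; tasks L6, L10)
-/

set_option autoImplicit false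
set_option linter.unusedSectionVars false
set_option linter.style.haveILetI false

namespace Cfsg.Agent.H206.LowPlus

open Cfsg Cfsg.Agent.H377

variable {F : Type*} [Field F] [Fintype F]

theorem nat_card_eq : Nat.card F = Fintype.card F := Nat.card_eq_fintype_card

theorem two_eq_zero {m : ℕ} (hF : Fintype.card F = 2 ^ m) : (2 : F) = 0 := by
  obtain ⟨p, hp⟩ := CharP.exists F
  haveI := hp
  haveI : Fact p.Prime := ⟨CharP.char_is_prime F p⟩
  obtain ⟨n, hn, hc⟩ := FiniteField.card F p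
  have h1 : p ∣ 2 ^ m := by
    rw [← hF, hc]
    exact dvd_pow_self p n.ne_zero
  have h2 : p = 2 := (Nat.prime_dvd_prime_iff_eq hn Nat.prime_two).1 (hn.dvd_of_dvd_pow h1)
  subst h2
  exact CharP.cast_eq_zero F 2

theorem charP_five {m : ℕ} (hF : Fintype.card F = 5 ^ m) : CharP F 5 := by
  obtain ⟨p, hp⟩ := CharP.exists F
  haveI := hp
  haveI : Fact p.Prime := ⟨CharP.char_is_prime F p⟩
  obtain ⟨n, hn, hc⟩ := FiniteField.card F p
  have h1 : p ∣ 5 ^ m := by
    rw [← hF, hc]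
    exact dvd_pow_self p n.ne_zero
  have h2 : p = 5 := (Nat.prime_dvd_prime_iff_eq hn Nat.prime_five).1 (hn.dvd_of_dvd_pow h1)
  subst h2
  exact hp

/-! ### characteristic two -/

section Two

variable {m : ℕ}

theorem even_card (hF : Fintype.card F = 2 ^ m) (hm : 1 ≤ m) : Even (Fintype.card F) := by
  rw [hF]
  exact (even_two).pow_of_ne_zero (by omega)

theorem odd_pow_sub {q k : ℕ} (hq : Even q) (h0 : 0 < q) (hk : k ≠ 0) : Odd (q ^ k - 1) := by
  have h1 : Even (q ^ k) := hq.pow_of_ne_zero hk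
  have h2 : 0 < q ^ k := Nat.pow_pos h0
  obtain ⟨a, ha⟩ := h1
  exact ⟨a - 1, by omega⟩

theorem odd_pow_add {q k : ℕ} (hq : Even q) (hk : k ≠ 0) : Odd (q ^ k + 1) := by
  have h1 : Even (q ^ k) := hq.pow_of_ne_zero hk
  exact h1.add_one

/-- **L10 (a)** -/
theorem two_a (hF : Fintype.card F = 2 ^ m) (hm : 1 ≤ m) :
    ∃ g : POmega F (quadFormPlus 4 F), orderOf g = Fintype.card F ^ 3 - 1 := by
  have h : Elt F 3 1 (Fintype.card F ^ 3 - 1) := elt_tor_plus (by norm_num) (by rw [nat_card_eq])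
  have h' := h.add (m := 1) le_rfl (ε' := 1) (Or.inl rfl)
  rw [mul_one] at h'
  exact (Elt.two (by norm_num) (odd_pow_sub (even_card hF hm) Fintype.card_pos (by norm_num)) h').plus le_rfl

/-- **L10 (b)** -/
theorem two_b (hF : Fintype.card F = 2 ^ m) (hm : 1 ≤ m) :
    ∃ g : POmega F (quadFormPlus 4 F), orderOf g = Fintype.card F ^ 3 + 1 := by
  have h : Elt F 3 (-1) (Fintype.card F ^ 3 + 1) := elt_tor_minus (by norm_num) (by rw [nat_card_eq])
  have h' := h.add (m := 1) le_rfl (ε' := -1) (Or.inr rfl)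
  rw [show (-1 : ℤ) * -1 = 1 by norm_num] at h'
  exact (Elt.two (by norm_num) (odd_pow_add (even_card hF hm) (by norm_num)) h').plus le_rfl

/-- **L10 (e)** -/
theorem two_e (hF : Fintype.card F = 2 ^ m) (hm : 1 ≤ m) :
    ∃ g : POmega F (quadFormPlus 4 F), orderOf g = Fintype.card F ^ 4 - 1 := by
  have h : Elt F 4 1 (Fintype.card F ^ 4 - 1) := elt_tor_plus (by norm_num) (by rw [nat_card_eq])
  exact (Elt.two (by norm_num) (odd_pow_sub (even_card hF hm) Fintype.card_pos (by norm_num)) h).plus le_rfl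

theorem sq_add_dvd (q : ℕ) : q ^ 2 + 1 ∣ q ^ 4 - 1 := by
  refine ⟨q ^ 2 - 1, ?_⟩
  have h := Nat.sq_sub_sq (q ^ 2) 1
  rw [one_pow, ← pow_mul] at h
  exact h

/-- **L10 (c)** -/
theorem two_c (hF : Fintype.card F = 2 ^ m) (hm : 1 ≤ m) :
    ∃ g : POmega F (quadFormPlus 4 F), orderOf g = Fintype.card F ^ 2 + 1 := by
  have h : Elt F 4 1 (Fintype.card F ^ 2 + 1) :=
    elt_tor_plus (by norm_num) (by rw [nat_card_eq]; exact sq_add_dvd _)
  exact (Elt.two (by norm_num) (odd_pow_add (even_card hF hm) (by norm_num)) h).plus le_rfl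

/-- **L10 (d)** -/
theorem two_d (hF : Fintype.card F = 2 ^ m) :
    ∃ g : POmega F (quadFormPlus 4 F), orderOf g = 8 :=
  RegUni.exists_eight (two_eq_zero hF)

end Two

/-! ### characteristic five -/

section Five

variable {m : ℕ}

theorem mod_four (hF : Fintype.card F = 5 ^ m) : Fintype.card F % 4 = 1 := by
  rw [hF, Nat.pow_mod]
  norm_num

theorem pow_mod_four {q : ℕ} (hq : q % 4 = 1) (k : ℕ) : q ^ k % 4 = 1 := by
  rw [Nat.pow_mod, hq, one_pow]
  rfl

/-- **L6 (a)** -/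
theorem five_a (hF : Fintype.card F = 5 ^ m) :
    ∃ g : POmega F (quadFormPlus 4 F), orderOf g = (Fintype.card F ^ 3 - 1) / 2 := by
  have h : Elt F 3 1 (Fintype.card F ^ 3 - 1) := elt_tor_plus (by norm_num) (by rw [nat_card_eq])
  have h3 := pow_mod_four (mod_four (F := F) hF) 3
  have h' := h.add_two (n₂ := 1) le_rfl (ε₂ := 1) (Or.inl rfl) (by
    rw [Nat.even_iff]
    omega)
  rw [mul_one] at h'
  exact h'.plus le_rfl

/-- **L6 (b)** -/
theorem five_b (hF : Fintype.card F = 5 ^ m) :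
    ∃ g : POmega F (quadFormPlus 4 F), orderOf g = (Fintype.card F ^ 3 + 1) / 2 := by
  have h : Elt F 3 (-1) (Fintype.card F ^ 3 + 1) := elt_tor_minus (by norm_num) (by rw [nat_card_eq])
  have h3 := pow_mod_four (mod_four (F := F) hF) 3
  have h' := h.add_two (n₂ := 1) le_rfl (ε₂ := -1) (Or.inr rfl) (by
    rw [Nat.even_iff]
    omega)
  rw [show (-1 : ℤ) * -1 = 1 by norm_num] at h'
  exact h'.plus le_rfl

theorem half_dvd {q : ℕ} (hq : q % 4 = 1) : (q ^ 2 + 1) / 2 ∣ q ^ 4 - 1 := by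
  have h2 := pow_mod_four hq 2
  refine dvd_trans ?_ (sq_add_dvd q)
  exact ⟨2, by omega⟩

/-- **L6 (c)** -/
theorem five_c (hF : Fintype.card F = 5 ^ m) :
    ∃ g : POmega F (quadFormPlus 4 F), orderOf g = (Fintype.card F ^ 2 + 1) / 2 := by
  have h : Elt F 4 1 ((Fintype.card F ^ 2 + 1) / 2) :=
    elt_tor_plus (by norm_num) (by rw [nat_card_eq]; exact half_dvd (mod_four (F := F) hF))
  have h2 := pow_mod_four (mod_four (F := F) hF) 2
  refine (Elt.two (by norm_num) ?_ h).plus le_rfl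
  rw [Nat.odd_iff]
  omega

/-- **L6 (d)** -/
theorem five_d (hF : Fintype.card F = 5 ^ m) :
    ∃ g : POmega F (quadFormPlus 4 F), orderOf g = 25 := by
  haveI := charP_five hF
  exact RegUni.exists_twentyfive

theorem neg_one_sq' (n : ℕ) : (-1 : Module.End F (Fin n → F)) ^ 2 = 1 := by
  refine LinearMap.ext fun v => ?_
  rw [pow_two, Module.End.mul_apply]
  change -(-v) = v
  rw [neg_neg]

/-- an isometry of order `4 K`: `K` is attained in `PΩ` -/
theorem elt_quarter (h2 : (2 : F) ≠ 0) {n K : ℕ} (hn : 4 ≤ n) (h : Elt F n 1 (4 * K)) :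
    ∃ g : POmega F (quadFormPlus n F), orderOf g = K := by
  obtain ⟨hN0, Q, g, hQ, hs, hg, ho⟩ := h
  have hsq : ∀ j, g ^ (2 * j) = -1 → K ∣ j := by
    intro j hj
    have h1 : g ^ (4 * j) = 1 := by
      have : g ^ (4 * j) = (g ^ (2 * j)) ^ 2 := by rw [← pow_mul]; ring_nf
      rw [this, hj]
      exact neg_one_sq' _
    rw [← orderOf_dvd_iff_pow_eq_one, ho] at h1
    exact (Nat.mul_dvd_mul_iff_left (by norm_num)).1 h1
  have e1 : ∀ j, g ^ (2 * j) = 1 ↔ 2 * K ∣ j := by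
    intro j
    rw [← orderOf_dvd_iff_pow_eq_one, ho, show 4 * K = 2 * (2 * K) by ring]
    exact Nat.mul_dvd_mul_iff_left (by norm_num)
  by_cases hc : g ^ (2 * K) = -1
  · have : Elt2 F n 1 K := by
      refine ⟨Q, g, hQ, hs, hg, fun j => ?_⟩
      constructor
      · rintro (hj | hj)
        · exact dvd_trans (Dvd.intro_left _ rfl) ((e1 j).1 hj)
        · exact hsq j hj
      · rintro ⟨c, rfl⟩
        have h1 : g ^ (2 * (K * c)) = (g ^ (2 * K)) ^ c := by rw [← pow_mul]; ring_nf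
        rw [h1, hc]
        exact neg_one_pow_eq_or (Module.End F (Fin (2 * n) → F)) c
    exact this.plus hn
  · have : Elt2 F n 1 (2 * K) := by
      refine ⟨Q, g, hQ, hs, hg, fun j => ?_⟩
      rw [← e1]
      constructor
      · rintro (hj | hj)
        · exact hj
        · exfalso
          apply hc
          obtain ⟨c, rfl⟩ := hsq j hj
          have h4 : g ^ (4 * K) = 1 := by rw [← ho]; exact pow_orderOf_eq_one g
          rcases Nat.even_or_odd' c with ⟨d, rfl | rfl⟩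
          · have h2' : g ^ (2 * (K * (2 * d))) = (g ^ (4 * K)) ^ d := by rw [← pow_mul]; ring_nf
            rw [h2', h4, one_pow] at hj
            exfalso
            have h6 := LinearMap.congr_fun hj (fun _ => (1 : F))
            have h7 := congrFun h6 ⟨0, by omega⟩
            change (1 : F) = -1 at h7
            apply h2
            linear_combination h7
          · have h2' : g ^ (2 * (K * (2 * d + 1))) = (g ^ (4 * K)) ^ d * g ^ (2 * K) := by
              rw [← pow_mul, ← pow_add]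
              ring_nf
            rw [h2', h4, one_pow, one_mul] at hj
            exact hj
      · exact Or.inl
    obtain ⟨x, hx⟩ := this.plus hn
    refine ⟨x ^ 2, ?_⟩
    rw [orderOf_pow' x two_ne_zero, hx, Nat.gcd_eq_right (Dvd.intro _ rfl)]
    omega

/-- **L6 (e)** -/
theorem five_e (hF : Fintype.card F = 5 ^ m) :
    ∃ g : POmega F (quadFormPlus 4 F), orderOf g = (Fintype.card F ^ 4 - 1) / 4 := by
  haveI := charP_five hF
  have h4 := pow_mod_four (mod_four (F := F) hF) 4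
  have h2 : (2 : F) ≠ 0 := by
    intro h
    have h5 : (5 : F) = 0 := by exact_mod_cast CharP.cast_eq_zero F 5
    exact one_ne_zero (α := F) (by linear_combination h5 - 2 * h)
  refine elt_quarter h2 le_rfl ?_
  have h : Elt F 4 1 (Fintype.card F ^ 4 - 1) := elt_tor_plus (by norm_num) (by rw [nat_card_eq])
  rw [show 4 * ((Fintype.card F ^ 4 - 1) / 4) = Fintype.card F ^ 4 - 1 by omega]
  exact h

end Five

end Cfsg.Agent.H206.LowPlus
end

-- part: H951/B6/L3
section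
/-!
# Upper bounds for the element orders of `PΩ₈⁺(q)`, `q = 5 ^ m` (block 6, L3)
-/

set_option autoImplicit false
set_option linter.unusedSectionVars false

namespace Cfsg.Agent.H951.B6

open QuadraticMap Module
open Cfsg.Agent.LieClassical.OrthCore Cfsg.Agent.LieClassical.OrthForms Cfsg.Agent.H160.QSpin Cfsg.Agent.H160.QDisc
  Cfsg.Agent.H160.QSplit Cfsg.Agent.H160.QSemi Cfsg.Agent.H160.QFinal

theorem dc_plusForm {F : Type*} [Field F] [Fintype F] [DecidableEq F] (k : ℕ) :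
    dc (plusForm k F) = quadraticChar F (-1) ^ k := by
  let e : ((Fin k → F) × (Fin k → F)) ≃ₗ[F] (Fin k ⊕ Fin k → F) :=
    (LinearEquiv.sumArrowLequivProdArrow (Fin k) (Fin k) F F).symm
  have he : IsIso (hyp F k) (plusForm k F) e := by
    rintro ⟨x, y⟩
    rw [coe_plusForm, quadFormPlus_apply, hyp_apply]
    rfl
  rw [dc_iso he, dc_hyp]

/-- arithmetic of `q = 5 ^ m` -/
theorem five_pow (m : ℕ) : ∃ e, 5 ^ m = 2 * e + 1 ∧ Even e := by
  induction m with
  | zero => exact ⟨0, rfl, Even.zero⟩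
  | succ m ih =>
    obtain ⟨e, he, hev⟩ := ih
    refine ⟨5 * e + 2, ?_, ?_⟩
    · rw [pow_succ, he]; ring
    · obtain ⟨t, rfl⟩ := hev
      exact ⟨5 * t + 1, by ring⟩

section

variable {F : Type*} [Field F] [Finite F] {ι : Type} [Fintype ι] [DecidableEq ι]

/-- orders in `PΩ(Q)` from powers equal to `±1` -/
theorem orderOf_dvd_of_lin (Q : QuadraticForm F (ι → F)) (x : Cfsg.Omega F ⇑Q) {N : ℕ}
    (h : lin Q x ^ N = 1 ∨ lin Q x ^ N = LinearEquiv.neg F) : orderOf (x : Cfsg.POmega F ⇑Q) ∣ N := by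
  apply orderOf_dvd_of_pow_eq_one
  rw [← QuotientGroup.mk_pow, QuotientGroup.eq_one_iff, Subgroup.mem_center_iff]
  intro y
  apply lin_injective Q
  rw [map_mul, map_mul, map_pow]
  rcases h with h | h <;> rw [h]
  · rw [mul_one, one_mul]
  · exact ((Cfsg.Agent.H160.QUpper.neg_comm (lin Q y)).eq).symm

end

/-- **L3.** -/
theorem ub_plus (F : Type*) [Field F] [Fintype F] {m : ℕ} (hm : 1 ≤ m) (hF : Fintype.card F = 5 ^ m)
    (g : Cfsg.POmega F (Cfsg.quadFormPlus 4 F)) :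
    orderOf g ∣ (Fintype.card F ^ 3 - 1) / 2 ∨ orderOf g ∣ (Fintype.card F ^ 3 + 1) / 2 ∨
      orderOf g ∣ (Fintype.card F ^ 4 - 1) / 4 ∨ orderOf g ∣ 5 * (Fintype.card F ^ 2 + 1) ∨
      orderOf g ∣ 5 * (Fintype.card F ^ 2 - 1) ∨ orderOf g ∣ 25 := by
  classical
  have hp : Fact (Nat.Prime 5) := ⟨by norm_num⟩
  have : CharP F 5 := charP_of_card_eq_prime_pow (f := m) hF
  obtain ⟨e, he, hev⟩ := five_pow m
  rw [← hF] at he
  have h2 : (2 : F) ≠ 0 := by
    intro h
    have h1 : ((2 : ℕ) : F) = 0 := by exact_mod_cast h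
    have h3 := (CharP.cast_eq_zero_iff F 5 2).1 h1
    norm_num at h3
  have hQ : Nondeg (plusForm 4 F) := nondeg_plusForm 4 F
  have hdc : dc (plusForm 4 F) = 1 := by
    rw [dc_plusForm]
    have h3 : quadraticChar F (-1) ^ 2 = 1 := quadraticChar_sq_one (neg_ne_zero.2 one_ne_zero)
    rw [show (4 : ℕ) = 2 * 2 from rfl, pow_mul, h3, one_pow]
  have key : ∀ g : Cfsg.POmega F ⇑(plusForm 4 F), ∃ N, Lst (Fintype.card F) N ∧ orderOf g ∣ N := by
    intro g
    obtain ⟨x, rfl⟩ := QuotientGroup.mk_surjective g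
    have hx := el_lin h2 hQ (by simp) x
    obtain ⟨N, hN, h3⟩ := upV h2 he hev hQ (by simp) hdc hx
    exact ⟨N, hN, orderOf_dvd_of_lin _ x h3⟩
  rw [coe_plusForm] at key
  obtain ⟨N, hN, h3⟩ := key g
  rcases hN with h | h | h | h | h | h <;> rw [h] at h3
  · exact Or.inl h3
  · exact Or.inr (Or.inl h3)
  · exact Or.inr (Or.inr (Or.inl h3))
  · exact Or.inr (Or.inr (Or.inr (Or.inl h3)))
  · exact Or.inr (Or.inr (Or.inr (Or.inr (Or.inl h3))))
  · exact Or.inr (Or.inr (Or.inr (Or.inr (Or.inr h3))))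

end Cfsg.Agent.H951.B6
end

private theorem dce_9399267c5a25 : _root_.True := by
  try have : _root_.True := by simp only [_root_.Cfsg.Agent.H206.RegUni.M.eq_1]
  try have : _root_.True := by simp only [_root_.Cfsg.Agent.H206.RegUni.sg.eq_1]
  try have : _root_.True := by simp only [_root_.Cfsg.Agent.H206.RegUni.op.eq_2]
  try have : _root_.True := by simp only [_root_.Cfsg.Agent.H206.RegUni.sg.congr_simp]
  try have : _root_.True := by simp only [_root_.Cfsg.Agent.H206.RegUni.op.eq_1]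
  try have : _root_.True := by simp only [_root_.Cfsg.Agent.H206.RegUni.el.eq_1]
  try have : _root_.True := by simp only [_root_.Cfsg.Agent.H206.RegUni.g.eq_1]
  try have : _root_.True := by simp only [_root_.Cfsg.Agent.H206.RegUni.bv.eq_1]
  exact _root_.True.intro
end

-- part: H342/O8Dim_mg
section
prune_inst 0x4f0504f007640020000000094830022106800042000200800a020010e0109810884c280400ea004060a2200010800006813000090424000000e00000000050100000050043211010c860018800084000000000000000000000000000000000000000000000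
set_option linter.all false
open scoped Cfsg.Agent.FastGrp

-- part: H342/O8Dim
section
/-!
# Roots of powers and dimensions of fixed spaces (helper342)

* `rts_pow` : the eigenvalues of `g ^ n`;
* `finrank_ker_pow` : for `g ^ (M * r) = 1`, `r ≠ 0` in `F`, the dimension of the fixed space of `g ^ M` is the number
  of eigenvalues `x` of `g` with `x ^ M = 1`.
-/

set_option autoImplicit false
set_option linter.unusedSectionVars false

namespace Cfsg.Agent.H342.O8

open Module Polynomial Cfsg.Agent.H160.QChar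

variable {F V : Type*} [Field F] [AddCommGroup V] [Module F V] [FiniteDimensional F V]

theorem rts_eq (g : V →ₗ[F] V) : rts g = (g.baseChange (AlgebraicClosure F)).charpoly.roots := by
  rw [rts, LinearMap.charpoly_baseChange]

theorem rts_pow (g : V →ₗ[F] V) (n : ℕ) : rts (g ^ n) = (rts g).map (fun x => x ^ n) := by
  rw [rts_eq, rts_eq, ← Cfsg.Agent.H671.KGV.roots_charpoly_pow]
  congr 2
  exact LinearMap.baseChange_pow _ _ _ g n

theorem ker_pow_of_compl {w : V →ₗ[F] V} (h : Disjoint (LinearMap.ker w) (LinearMap.range w)) (k : ℕ) :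
    LinearMap.ker (w ^ (k + 1)) = LinearMap.ker w := by
  induction k with
  | zero => rw [zero_add, pow_one]
  | succ k ih =>
    apply le_antisymm
    · intro v hv
      rw [LinearMap.mem_ker, pow_succ, Module.End.mul_apply] at hv
      have h1 : w v ∈ LinearMap.ker w := by
        rw [← ih]; exact hv
      have h2 : w v ∈ LinearMap.range w := LinearMap.mem_range_self w v
      exact Submodule.disjoint_def.1 h _ h1 h2
    · intro v hv
      rw [LinearMap.mem_ker, pow_succ, Module.End.mul_apply, LinearMap.mem_ker.1 hv, map_zero]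

open Classical in
theorem finrank_ker {z : V →ₗ[F] V} (h : Disjoint (LinearMap.ker (z - 1)) (LinearMap.range (z - 1))) :
    finrank F (LinearMap.ker (z - 1)) = (rts z).count 1 := by
  have h1 := LinearMap.finrank_maxGenEigenspace_eq z 1
  have h2 : Module.End.maxGenEigenspace z 1 = LinearMap.ker (z - 1) := by
    have h3 : (z - (1 : F) • (1 : Module.End F V)) = z - 1 := by rw [one_smul]
    apply le_antisymm
    · intro v hv
      rw [Module.End.mem_maxGenEigenspace] at hv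
      obtain ⟨k, hk⟩ := hv
      rw [h3] at hk
      rcases k with _ | k
      · rw [pow_zero, Module.End.one_apply] at hk
        rw [hk]; exact Submodule.zero_mem _
      · rw [← ker_pow_of_compl h k]; exact hk
    · intro v hv
      rw [Module.End.mem_maxGenEigenspace]
      refine ⟨1, ?_⟩
      rw [h3, pow_one]
      exact hv
  rw [h2] at h1
  rw [h1, rts, Polynomial.count_roots,
    Polynomial.eq_rootMultiplicity_map (algebraMap F (AlgebraicClosure F)).injective, map_one]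

open Classical in
/-- **The dimension of the fixed space of a power of order prime to the characteristic.** -/
theorem finrank_ker_pow {g : V →ₗ[F] V} {M r : ℕ} (hr : (r : F) ≠ 0) (h : g ^ (M * r) = 1) :
    finrank F (LinearMap.ker (g ^ M - 1)) = ((rts g).filter (fun x => x ^ M = 1)).card := by
  have h1 := Cfsg.Agent.H150.isCompl_fix hr (g ^ M) (by rw [← pow_mul]; exact h)
  rw [finrank_ker h1.disjoint, rts_pow, Multiset.count_map]
  congr 1
  apply Multiset.filter_congr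
  intro x _
  exact eq_comm

end Cfsg.Agent.H342.O8
end

-- part: H686/B6/LowSp
section
/-!
# Block 6 (S3467, S3470, S3471), task L4: element orders of `PSp₆(q)`, `q = 5 ^ m` (helper686)

* `exists_minus`, `exists_plus`, `exists_sq`, `exists_25` : elements of orders `(q³ - 1)/2`, `(q³ + 1)/2`,
  `(q² + 1)/2`, `25`;
* `ne` : `(q⁴ - 1)/4` is not an element order.
-/

set_option autoImplicit false
set_option linter.unusedSectionVars false

namespace Cfsg.Agent.H686.B6

open Matrix Cfsg.Agent.H202.T Cfsg.Agent.H160.QRoots Cfsg.Agent.H160.QChar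

section low

variable {F : Type*} [Field F] [Fintype F] {m : ℕ}

theorem odd_card (hF : Fintype.card F = 5 ^ m) : Odd (Fintype.card F) := by
  rw [hF]
  exact Odd.pow (by decide)

theorem charP_five (hm : 1 ≤ m) (hF : Fintype.card F = 5 ^ m) : CharP F 5 := by
  obtain ⟨p, hp⟩ := CharP.exists F
  obtain ⟨n, hn, h2⟩ := FiniteField.card F p
  have h3 : p ∣ 5 ^ m := by rw [← hF, h2]; exact dvd_pow_self p n.pos.ne'
  have h4 : p = 5 := (Nat.prime_dvd_prime_iff_eq hn (by norm_num)).1 (hn.dvd_of_dvd_pow h3)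
  exact h4 ▸ hp

theorem five_le (hm : 1 ≤ m) (hF : Fintype.card F = 5 ^ m) : 5 ≤ Fintype.card F := by
  rw [hF]
  calc 5 = 5 ^ 1 := by norm_num
    _ ≤ 5 ^ m := Nat.pow_le_pow_right (by norm_num) hm

/-- (a) -/
theorem exists_minus (hm : 1 ≤ m) (hF : Fintype.card F = 5 ^ m) :
    ∃ g : Cfsg.PSp 3 F, orderOf g = (Fintype.card F ^ 3 - 1) / 2 := by
  have h5 := five_le hm hF
  have hev : 2 ∣ Fintype.card F ^ 3 - 1 := even_iff_two_dvd.1 (Nat.Odd.sub_odd (odd_card hF).pow odd_one)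
  have hge : 2 ≤ Fintype.card F ^ 3 - 1 := by
    have : 5 ^ 3 ≤ Fintype.card F ^ 3 := Nat.pow_le_pow_left h5 3
    omega
  refine Cfsg.Agent.H377.exists_psp_tor_plus (by norm_num) (by omega) (Or.inr ?_)
  rw [Nat.card_eq_fintype_card, Nat.mul_div_cancel' hev]

/-- (b) -/
theorem exists_plus (hF : Fintype.card F = 5 ^ m) :
    ∃ g : Cfsg.PSp 3 F, orderOf g = (Fintype.card F ^ 3 + 1) / 2 := by
  have hev : 2 ∣ Fintype.card F ^ 3 + 1 := even_iff_two_dvd.1 (odd_card hF).pow.add_one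
  refine Cfsg.Agent.H377.exists_psp_tor_minus (by norm_num) (by omega) (Or.inr ?_)
  rw [Nat.card_eq_fintype_card, Nat.mul_div_cancel' hev]

theorem two_ne (hF : Fintype.card F = 5 ^ m) : (1 : F) ≠ -1 := by
  intro h
  have h2 : (2 : F) = 0 := by
    have : (1 : F) + 1 = 0 := by rw [eq_neg_iff_add_eq_zero] at h; exact h
    rw [← this]; norm_num
  have hodd := odd_card hF
  obtain ⟨p, hp⟩ := CharP.exists F
  obtain ⟨n, hn, h3⟩ := FiniteField.card F p
  have h4 : p ∣ 2 := by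
    rw [← CharP.cast_eq_zero_iff F p]
    exact_mod_cast h2
  have h5 : p = 2 := (Nat.prime_dvd_prime_iff_eq hn Nat.prime_two).1 h4
  rw [h5] at h3
  rw [h3] at hodd
  exact (Nat.not_even_iff_odd.2 hodd) (Nat.even_pow.2 ⟨even_two, n.2.ne'⟩)

/-- an element of odd order keeps its order in the projective group -/
theorem orderOf_mk_odd {n : ℕ} (hn : 1 ≤ n) (h1 : (1 : F) ≠ -1) (x : Matrix.symplecticGroup (Fin n) F) (ho : Odd (orderOf x)) :
    orderOf (QuotientGroup.mk x : Cfsg.PSp n F) = orderOf x := by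
  apply Nat.dvd_antisymm
  · exact orderOf_map_dvd (QuotientGroup.mk' _) _
  · apply orderOf_dvd_of_pow_eq_one
    set d := orderOf (QuotientGroup.mk x : Cfsg.PSp n F) with hd
    have h3 : x ^ d ∈ Subgroup.center (Matrix.symplecticGroup (Fin n) F) := by
      rw [← QuotientGroup.eq_one_iff, QuotientGroup.mk_pow, hd, pow_orderOf_eq_one]
    rcases ClassicalGeometry.SympInvolutions.center_eq h3 with h4 | h4
    · exact Subtype.ext h4
    · exfalso
      have h7 : ((x ^ d) ^ orderOf x).1 = 1 := by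
        rw [← pow_mul, mul_comm, pow_mul, pow_orderOf_eq_one, one_pow]
        rfl
      have h8 : ((x ^ d) ^ orderOf x).1 = (x ^ d).1 ^ orderOf x := rfl
      rw [h8, h4, ho.neg_one_pow] at h7
      have h9 := congrFun (congrFun h7 (Sum.inl ⟨0, by omega⟩)) (Sum.inl ⟨0, by omega⟩)
      rw [Matrix.neg_apply, Matrix.one_apply_eq] at h9
      exact h1 h9.symm

/-- (c) -/
theorem exists_sq (hm : 1 ≤ m) (hF : Fintype.card F = 5 ^ m) :
    ∃ g : Cfsg.PSp 3 F, orderOf g = (Fintype.card F ^ 2 + 1) / 2 := by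
  obtain ⟨A, hA⟩ := Cfsg.Agent.H376.SpEmb.exists_plus F 2 (by norm_num)
  rw [Nat.card_eq_fintype_card] at hA
  obtain ⟨k, hk⟩ := odd_card hF
  have hh : (Fintype.card F ^ 2 + 1) / 2 = 2 * (k ^ 2 + k) + 1 := by
    rw [hk, show (2 * k + 1) ^ 2 + 1 = 2 * (2 * (k ^ 2 + k) + 1) by ring, Nat.mul_div_cancel_left _ (by norm_num)]
  have hA2 : orderOf (A ^ 2) = (Fintype.card F ^ 2 + 1) / 2 := by
    rw [orderOf_pow' A two_ne_zero, hA]
    congr 1
    rw [hk, show (2 * k + 1) ^ 2 + 1 = 2 * (2 * (k ^ 2 + k) + 1) by ring]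
    exact Nat.gcd_eq_right (Dvd.intro _ rfl)
  obtain ⟨φ, hφ, hφ1⟩ := Cfsg.Agent.H376.Odd8.exists_phi (F := F) (show 2 + 1 = 2 + 1 from rfl)
  have hord : orderOf (φ (A ^ 2, 1)) = (Fintype.card F ^ 2 + 1) / 2 := by
    rw [orderOf_injective _ hφ, Prod.orderOf_mk, hA2, orderOf_one, Nat.lcm_one_right]
  refine ⟨QuotientGroup.mk (φ (A ^ 2, 1)), ?_⟩
  rw [orderOf_mk_odd (by norm_num) (two_ne hF) _ (by rw [hord, hh]; exact ⟨_, rfl⟩), hord]

/-- regular unipotent element over the integers -/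
def uZ : Matrix (Fin 3 ⊕ Fin 3) (Fin 3 ⊕ Fin 3) ℤ :=
  Matrix.fromBlocks !![1, 1, 0; 0, 1, 1; 0, 0, 1] !![0, 0, 0; 0, 0, 1; 0, 0, 1] 0 !![1, 0, 0; -1, 1, 0; 1, -1, 1]

theorem uZ_facts : uZ * Matrix.J (Fin 3) ℤ * uZᵀ = Matrix.J (Fin 3) ℤ ∧ (uZ - 1) ^ 6 = 0 ∧
    ((uZ - 1) ^ 5 : Matrix (Fin 3 ⊕ Fin 3) (Fin 3 ⊕ Fin 3) ℤ) (Sum.inl 0) (Sum.inr 0) = 1 ∧
    ((uZ - 1) ^ 5 : Matrix (Fin 3 ⊕ Fin 3) (Fin 3 ⊕ Fin 3) ℤ) (Sum.inl 0) (Sum.inl 0) = 0 := by
  decide +kernel

/-- (d) -/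
theorem exists_25 (hm : 1 ≤ m) (hF : Fintype.card F = 5 ^ m) : ∃ g : Cfsg.PSp 3 F, orderOf g = 25 := by
  have hch := charP_five hm hF
  have hp : Fact (Nat.Prime 5) := ⟨by norm_num⟩
  obtain ⟨h1, h2, h3, h4⟩ := uZ_facts
  let f : Matrix (Fin 3 ⊕ Fin 3) (Fin 3 ⊕ Fin 3) ℤ →+* Matrix (Fin 3 ⊕ Fin 3) (Fin 3 ⊕ Fin 3) F :=
    (Int.castRingHom F).mapMatrix
  have hJ : f (Matrix.J (Fin 3) ℤ) = Matrix.J (Fin 3) F := by
    ext i j
    rcases i with i | i <;> rcases j with j | j <;>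
      simp [f, Matrix.J, Matrix.one_apply, apply_ite]
  have hT : f uZᵀ = (f uZ)ᵀ := rfl
  have hmem : f uZ ∈ Matrix.symplecticGroup (Fin 3) F := by
    rw [SymplecticGroup.mem_iff, ← hT, ← hJ, ← map_mul, ← map_mul, h1]
  let u : Matrix.symplecticGroup (Fin 3) F := ⟨f uZ, hmem⟩
  have hN6 : (f uZ - 1) ^ 6 = 0 := by
    rw [← map_one f, ← map_sub, ← map_pow, h2, map_zero]
  have h5 : (f uZ) ^ 5 = (f uZ - 1) ^ 5 + 1 := by
    have hc : CharP (Matrix (Fin 3 ⊕ Fin 3) (Fin 3 ⊕ Fin 3) F) 5 := inferInstance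
    have := sub_pow_char_of_commute (R := Matrix (Fin 3 ⊕ Fin 3) (Fin 3 ⊕ Fin 3) F) 5
      (Commute.one_right (f uZ))
    rw [this, one_pow, sub_add_cancel]
  have h25 : (f uZ) ^ 25 = 1 := by
    have h6 : (f uZ - 1) ^ 25 = 0 := by
      rw [show 25 = 6 + 19 by norm_num, pow_add, hN6, zero_mul]
    have h7 := sub_pow_char_pow_of_commute (R := Matrix (Fin 3 ⊕ Fin 3) (Fin 3 ⊕ Fin 3) F) (p := 5) (n := 2)
      (Commute.one_right (f uZ))
    norm_num at h7
    rw [h6] at h7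
    exact (sub_eq_zero.1 h7.symm)
  refine ⟨QuotientGroup.mk u, ?_⟩
  show orderOf _ = 5 ^ (1 + 1)
  refine orderOf_eq_prime_pow ?_ ?_
  · intro h
    rw [pow_one, ← QuotientGroup.mk_pow, QuotientGroup.eq_one_iff] at h
    have e5 : ((u ^ 5 : Matrix.symplecticGroup (Fin 3) F)).1 = (f uZ - 1) ^ 5 + 1 := by
      rw [← h5]; rfl
    have e1 : ((f uZ - 1) ^ 5 : Matrix (Fin 3 ⊕ Fin 3) (Fin 3 ⊕ Fin 3) F) (Sum.inl 0) (Sum.inr 0) = 1 := by
      rw [← map_one f, ← map_sub, ← map_pow]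
      show ((((uZ - 1) ^ 5 : Matrix (Fin 3 ⊕ Fin 3) (Fin 3 ⊕ Fin 3) ℤ) (Sum.inl 0) (Sum.inr 0) : ℤ) : F) = 1
      rw [h3, Int.cast_one]
    have e2 : ((f uZ - 1) ^ 5 : Matrix (Fin 3 ⊕ Fin 3) (Fin 3 ⊕ Fin 3) F) (Sum.inl 0) (Sum.inl 0) = 0 := by
      rw [← map_one f, ← map_sub, ← map_pow]
      show ((((uZ - 1) ^ 5 : Matrix (Fin 3 ⊕ Fin 3) (Fin 3 ⊕ Fin 3) ℤ) (Sum.inl 0) (Sum.inl 0) : ℤ) : F) = 0
      rw [h4, Int.cast_zero]
    rcases ClassicalGeometry.SympInvolutions.center_eq h with h6 | h6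
    · rw [e5] at h6
      have h7 := congrFun (congrFun h6 (Sum.inl 0)) (Sum.inr 0)
      rw [Matrix.add_apply, e1, Matrix.one_apply_ne (by simp)] at h7
      simp at h7
    · rw [e5] at h6
      have h7 := congrFun (congrFun h6 (Sum.inl 0)) (Sum.inl 0)
      rw [Matrix.add_apply, e2, Matrix.neg_apply, Matrix.one_apply_eq, zero_add] at h7
      exact two_ne hF h7
  · rw [← QuotientGroup.mk_pow, QuotientGroup.eq_one_iff]
    have : u ^ 5 ^ (1 + 1) = 1 := by
      apply Subtype.ext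
      show (f uZ) ^ 25 = 1
      exact h25
    rw [this]
    exact Subgroup.one_mem _

end low

section numbers

end numbers

section ne

variable {F : Type*} [Field F] [Fintype F] {m : ℕ}

end ne

end Cfsg.Agent.H686.B6
end
end

-- part: H382/Own5Sp
section
set_option linter.all false
open scoped Cfsg.Agent.FastGrp

/-!
# `PSp₆(5^m)`: an extraspecial block (helper382)
-/

set_option autoImplicit false

namespace Cfsg.Agent.H382.Own5

open Matrix Cfsg

/-! ### The homomorphism -/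

/-- change of rings -/
def spMap {n : ℕ} {K K' : Type*} [CommRing K] [CommRing K'] (f : K →+* K') :
    symplecticGroup (Fin n) K →* symplecticGroup (Fin n) K' where
  toFun A := ⟨f.mapMatrix A.1, by
    rw [SymplecticGroup.mem_iff]
    have h := congrArg f.mapMatrix (SymplecticGroup.mem_iff.1 A.2)
    have hJ : f.mapMatrix (J (Fin n) K) = J (Fin n) K' := by
      rw [RingHom.mapMatrix_apply, J, J, fromBlocks_map]
      congr 1
      · ext i j; simp
      · ext i j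
        rw [map_apply, neg_apply, map_neg, neg_apply]
        by_cases h : i = j
        · subst h; simp
        · simp [h]
      · ext i j
        by_cases h : i = j
        · subst h; simp
        · simp [h]
      · ext i j; simp
    rw [map_mul, map_mul, hJ] at h
    exact h⟩
  map_one' := Subtype.ext (map_one _)
  map_mul' A B := Subtype.ext (map_mul _ _ _)

section field

variable (F : Type*) [Field F] [CharP F 5]

/-- the embedding of the prime field -/
def pf : ZMod 5 →+* F := ZMod.castHom (dvd_refl 5) F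

/-- `Sp₆(5) → PSp₆(F)` -/
def Psi : symplecticGroup (Fin 3) (ZMod 5) →* PSp 3 F :=
  (QuotientGroup.mk' (Subgroup.center (symplecticGroup (Fin 3) F))).comp (spMap (pf F))

variable {F}

theorem psi_eq_one {A : symplecticGroup (Fin 3) (ZMod 5)} :
    Psi F A = 1 ↔ ∃ a : F, (pf F).mapMatrix A.1 = a • (1 : Matrix (Fin 3 ⊕ Fin 3) (Fin 3 ⊕ Fin 3) F) :=
  (QuotientGroup.eq_one_iff _).trans (LieClassical.SympCenter.mem_center_iff 3 (spMap (pf F) A))

theorem psi_ne_one {A : symplecticGroup (Fin 3) (ZMod 5)} (i j : Fin 3 ⊕ Fin 3) (h : A.1 i i ≠ A.1 j j) :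
    Psi F A ≠ 1 := by
  intro h1
  obtain ⟨a, ha⟩ := psi_eq_one.1 h1
  have : Fact (Nat.Prime 5) := ⟨Nat.prime_five⟩
  have h2 : ∀ k, pf F (A.1 k k) = a := by
    intro k
    have := congrFun (congrFun ha k) k
    simpa using this
  exact h ((pf F).injective ((h2 i).trans (h2 j).symm))

theorem psi_neg {A B : symplecticGroup (Fin 3) (ZMod 5)} (h : A.1 = - B.1) : Psi F A = Psi F B := by
  have h1 : (-1 : M6) ∈ symplecticGroup (Fin 3) (ZMod 5) := by
    rw [SymplecticGroup.mem_iff]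
    simp
  have h2 : A = ⟨-1, h1⟩ * B := by
    apply Subtype.ext
    rw [h]
    show - B.1 = -1 * B.1
    simp
  have h3 : Psi F ⟨-1, h1⟩ = 1 := by
    rw [psi_eq_one]
    refine ⟨-1, ?_⟩
    rw [map_neg, map_one, neg_smul, one_smul]
  rw [h2, map_mul, h3, one_mul]

/-- the elements of `PSp₆(F)` -/
def tabP (F : Type*) [Field F] [CharP F 5] (a : A) : PSp 3 F := Psi F ⟨tab (idx a), tab_sp _⟩

theorem cfg_sp : Cfg (Psi F ⟨wm, wm_sp⟩) (Psi F ⟨tab 1, tab_sp 1⟩) (Psi F ⟨um, um_sp⟩) (Psi F ⟨sm, sm_sp⟩)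
    (tabP F) where
  z2 := by
    rw [← map_mul]
    have : (⟨wm, wm_sp⟩ : symplecticGroup (Fin 3) (ZMod 5)) * ⟨wm, wm_sp⟩ = 1 := Subtype.ext wm_two
    rw [this, map_one]
  z1 := psi_ne_one (.inl 0) (.inl 1) (by decide)
  zu := by
    rw [← map_mul, ← map_mul]
    exact congrArg (Psi F) (Subtype.ext wm_um)
  u5 := by
    rw [← map_pow]
    have : (⟨um, um_sp⟩ : symplecticGroup (Fin 3) (ZMod 5)) ^ 5 = 1 := Subtype.ext um_five
    rw [this, map_one]
  ze a := by
    rw [tabP, ← map_mul, ← map_mul]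
    exact congrArg (Psi F) (Subtype.ext (wm_tab a))
  one := by
    have : (⟨tab (idx 1), tab_sp _⟩ : symplecticGroup (Fin 3) (ZMod 5)) = 1 := Subtype.ext tab_one
    rw [tabP, this, map_one]
  mul a b := by
    rw [tabP, tabP, tabP, ← map_mul, ← map_mul]
    rcases tab_mul a b with h | h
    · left
      exact congrArg (Psi F) (Subtype.ext h)
    · right
      exact congrArg (Psi F) (Subtype.ext h)
  conj a := by
    rw [tabP, tabP, ← map_mul, ← map_mul, ← map_mul]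
    rcases um_tab a with h | h
    · left
      exact congrArg (Psi F) (Subtype.ext h)
    · right
      exact congrArg (Psi F) (Subtype.ext h)
  mem := by
    refine ⟨![-1, 1, 1, 1], ?_⟩
    rw [tabP]
    exact congrArg (Psi F) (Subtype.ext (by decide +kernel))
  s1 := by
    rw [← map_mul, ← map_mul]
    exact psi_neg sm_wm
  s2 := by
    rw [← map_mul, ← map_mul]
    exact psi_neg sm_tab
  ne := by
    rw [← map_mul]
    exact psi_ne_one (.inl 0) (.inl 2) (by decide +kernel)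

end field

end Cfsg.Agent.H382.Own5

private theorem dce_8d5fb0e2851a : _root_.True := by
  try have : _root_.True := by simp only [_root_.Cfsg.Agent.H382.Own5.tabP.eq_1]
  try have : _root_.True := by simp only [_root_.Cfsg.Agent.H382.Own5.pf.congr_simp]
  exact _root_.True.intro
end

-- part: H382/Own5SpEnd
section
set_option linter.all false

/-!
# `PSp₆(5^m)`, modules in characteristic 5 (helper382)
-/

set_option autoImplicit false

namespace Cfsg.Agent.H382.Own5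

open Matrix Cfsg Module

end Cfsg.Agent.H382.Own5
end

-- part: H458/Six/NoAL
section
prune_inst 0x4f5706f447e42020000008096c3002214680005b000200801e960054e0909c32a8d82a1400e8015061a4ab28118010020020000d0404000000e0034000007012080aa5204b37d0d0ca6009f801085080c00000000000000000000000000000004000000000
set_option linter.all false
open scoped Cfsg.Agent.FastGrp

/-!
# `A₇` and `PSL₂(u)`, `u` odd: excluded by the order (helper458)

* `no_al2` : `|S| d = w ^ k M`, `w` an odd prime prime to `d`, `k ≥ 3`, `M ≤ 2 w ^ k t`, `t ^ 3 ≤ w ^ k` ⇒ `S` is neither `A₇` nor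
  `PSL₂(u)`, `u` odd.
-/

set_option autoImplicit false
set_option linter.unusedSectionVars false

namespace Cfsg.Agent.H458.Six

open Cfsg.Agent.H376.Six

theorem card_psl2 {K : Type*} [Field K] [Fintype K] (ho : Odd (Fintype.card K)) :
    2 * Nat.card (Matrix.ProjectiveSpecialLinearGroup (Fin 2) K) = Fintype.card K * (Fintype.card K ^ 2 - 1) := by
  have h1 := H163.PG.card_psl (F := K) (n := 2) le_rfl
  have h2 : Nat.gcd 2 (Fintype.card K - 1) = 2 := by
    apply Nat.gcd_eq_left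
    obtain ⟨k, hk⟩ := ho
    omega
  rw [h2] at h1
  simpa only [_root_.Nat.add_one_sub_one, _root_.mul_one, _root_.Order.lt_two_iff, _root_.zero_le, _root_.Nat.div_self, _root_.pow_one, _root_.Finset.range_one, _root_.Finset.prod_singleton, _root_.zero_add] using h1

theorem le_of_dvd_cube {w k u : ℕ} (hw : w.Prime) (hw2 : w ≠ 2) (hu : 2 ≤ u) (h : w ^ k ∣ u * (u ^ 2 - 1)) :
    w ^ k ≤ u + 1 := by
  have h1 : u ^ 2 - 1 = (u + 1) * (u - 1) := by
    rw [← Nat.sq_sub_sq, one_pow]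
  by_cases hu1 : w ∣ u
  · have h2 : ¬ w ∣ u ^ 2 - 1 := by
      intro h3
      have h4 : w ∣ u ^ 2 := dvd_pow hu1 (by norm_num)
      have h5 : 1 ≤ u ^ 2 := Nat.one_le_pow _ _ (by omega)
      have h6 := Nat.dvd_sub h4 h3
      rw [Nat.sub_sub_self h5] at h6
      exact hw.one_lt.ne' (Nat.dvd_one.1 h6)
    have h3 : Nat.Coprime (w ^ k) (u ^ 2 - 1) := Nat.Coprime.pow_left k ((Nat.Prime.coprime_iff_not_dvd hw).2 h2)
    have h4 := Nat.le_of_dvd (by omega) (h3.dvd_of_dvd_mul_right h)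
    omega
  · have h2 : Nat.Coprime (w ^ k) u := Nat.Coprime.pow_left k ((Nat.Prime.coprime_iff_not_dvd hw).2 hu1)
    have h3 := h2.dvd_of_dvd_mul_left h
    rw [h1] at h3
    by_cases hu2 : w ∣ u - 1
    · have h4 : ¬ w ∣ u + 1 := by
        intro h5
        have h6 := Nat.dvd_sub h5 hu2
        have h7 : u + 1 - (u - 1) = 2 := by omega
        rw [h7] at h6
        exact hw2 ((Nat.prime_dvd_prime_iff_eq hw Nat.prime_two).1 h6)
      have h5 : Nat.Coprime (w ^ k) (u + 1) := Nat.Coprime.pow_left k ((Nat.Prime.coprime_iff_not_dvd hw).2 h4)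
      have h6 := Nat.le_of_dvd (by omega) (h5.dvd_of_dvd_mul_left h3)
      omega
    · have h5 : Nat.Coprime (w ^ k) (u - 1) := Nat.Coprime.pow_left k ((Nat.Prime.coprime_iff_not_dvd hw).2 hu2)
      exact Nat.le_of_dvd (by omega) (h5.dvd_of_dvd_mul_right h3)

theorem no_al2 {S : Type*} [Group S] {w k d M t : ℕ} (hw : w.Prime) (hw2 : w ≠ 2) (hk : 3 ≤ k)
    (hwd : ¬ w ∣ d) (hd : 1 ≤ d) (hc : d * Nat.card S = w ^ k * M) (hM : M ≤ 2 * w ^ k * t) (ht : t ^ 3 ≤ w ^ k)
    (hS : AL2 S) : False := by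
  have hw3 : 3 ≤ w := by
    have := hw.two_le
    omega
  have hP : 27 ≤ w ^ k := by
    calc 27 = 3 ^ 3 := by norm_num
      _ ≤ w ^ 3 := Nat.pow_le_pow_left hw3 3
      _ ≤ w ^ k := Nat.pow_le_pow_right (by omega) hk
  have hPS : w ^ k ∣ Nat.card S := by
    have h1 : Nat.Coprime (w ^ k) d := Nat.Coprime.pow_left k ((Nat.Prime.coprime_iff_not_dvd hw).2 hwd)
    exact h1.dvd_of_dvd_mul_left (by rw [hc]; exact dvd_mul_right _ _)
  rcases hS with ⟨⟨e⟩⟩ | ⟨K, i1, i2, ho, ⟨e⟩⟩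
  · have h1 : Nat.card S = 2520 := by
      have : Nontrivial (Fin 7) := inferInstance
      have h2 := two_mul_nat_card_alternatingGroup (α := Fin 7)
      rw [Nat.card_perm, Nat.card_fin] at h2
      rw [Nat.card_congr e.toEquiv]
      have h3 : Nat.factorial 7 = 5040 := by decide
      omega
    rw [h1] at hPS
    have h2 : w ^ 3 ∣ 2520 := (pow_dvd_pow w hk).trans hPS
    have h3 : w ≤ 13 := by
      by_contra hcon
      have h4 := Nat.le_of_dvd (by norm_num) h2
      have h5 : 14 ^ 3 ≤ w ^ 3 := Nat.pow_le_pow_left (by omega) 3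
      omega
    interval_cases w <;> revert h2 <;> norm_num
  · have hu : 2 ≤ Fintype.card K := Fintype.one_lt_card
    have h1 := card_psl2 (K := K) ho
    rw [← Nat.card_congr e.toEquiv] at h1
    set u := Fintype.card K
    have h2 : w ^ k ∣ u * (u ^ 2 - 1) := by
      rw [← h1]
      exact hPS.mul_left _
    have h3 := le_of_dvd_cube hw hw2 hu h2
    set P := w ^ k
    have h4 : Nat.card S ≤ P * M := by
      rw [← hc]
      exact Nat.le_mul_of_pos_left _ hd
    have h5 : u * (u ^ 2 - 1) ≤ 2 * (P * (2 * P * t)) := by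
      rw [← h1]
      exact Nat.mul_le_mul_left 2 (h4.trans (Nat.mul_le_mul_left P hM))
    obtain ⟨a, ha⟩ : ∃ a, P = a + 2 := ⟨P - 2, by omega⟩
    have h6 : (a + 1) * ((a + 1) ^ 2 - 1) ≤ u * (u ^ 2 - 1) :=
      Nat.mul_le_mul (by omega) (Nat.sub_le_sub_right (Nat.pow_le_pow_left (by omega) 2) 1)
    have h7 : (a + 1) ^ 2 - 1 = a * (a + 2) := by
      have : (a + 1) ^ 2 = a * (a + 2) + 1 := by ring
      omega
    rw [h7] at h6
    have h8 := h6.trans h5
    rw [ha] at h8 ht hP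
    -- `(a + 1) a (a + 2) ≤ 4 (a + 2)² t`
    have h9 : (a + 1) * a ≤ 4 * (a + 2) * t := by
      have h10 : (a + 2) * ((a + 1) * a) ≤ (a + 2) * (4 * (a + 2) * t) := by
        calc (a + 2) * ((a + 1) * a) = (a + 1) * (a * (a + 2)) := by ring
          _ ≤ 2 * ((a + 2) * (2 * (a + 2) * t)) := h8
          _ = (a + 2) * (4 * (a + 2) * t) := by ring
      exact Nat.le_of_mul_le_mul_left h10 (by omega)
    rcases Nat.lt_or_ge t 3 with h10 | h10
    · interval_cases t <;> nlinarith only [hP, h9]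
    · -- `a + 2 ≥ t³ ≥ 9 t`
      have h11 : 9 * t ≤ a + 2 := by
        calc 9 * t ≤ t ^ 2 * t := Nat.mul_le_mul_right t (by nlinarith only [h10])
          _ = t ^ 3 := by ring
          _ ≤ a + 2 := ht
      nlinarith only [hP, h9, h11]

end Cfsg.Agent.H458.Six

private theorem dce_a821aa2c2d4b : _root_.True := by
  try have : _root_.True := by simp only [_root_.Matrix.ProjectiveSpecialLinearGroup.congr_simp]
  exact _root_.True.intro
end
end
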