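import Cfsg.Agent.H382.Own5OmEnd_m3
import Cfsg.Agent.S0295
import Cfsg.Agent.H321.SpecEven.Defs_m3
import Cfsg.Agent.H403.TLSmall
import Cfsg.Agent.H376.Six.Top_m3
import Cfsg.Agent.H424.P4Orth_m3
import Cfsg.Agent.H378.TwRowsF
import Cfsg.Agent.H371.Core.TwF4
import Cfsg.Agent.H129.CycCardF
import Cfsg.Agent.H129.CycRow
import Cfsg.Agent.H659.TwF4Ord
import Cfsg.Agent.H341.ThreeList_m3
import Cfsg.Agent.H493.PGE7_m3
import Cfsg.Agent.H77.E4Seven_m3
import Cfsg.Agent.H493.EigFast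
import Cfsg.Agent.H376.PslPair_m3
import Cfsg.Agent.SignalizersComponents.NoFixedGen
import Cfsg.Agent.H414.SpecFrame_m3
import Cfsg.Agent.H373.Recog
import Cfsg.Agent.H148.Oct.SepG2
import Cfsg.Agent.H161.G2Elems
import Cfsg.Agent.S1055
import Cfsg.Agent.S1059
import Cfsg.Agent.S2121
import Cfsg.Agent.H481.TBound
import Cfsg.Agent.H390.B6.OddTwo
import Cfsg.Agent.S3534
import Cfsg.Agent.S3535
import Cfsg.Agent.S3671
import Cfsg.Agent.H374.SpFour
import Cfsg.Agent.S2475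
import Cfsg.Agent.S2238
import Cfsg.Agent.S0324
import Cfsg.Agent.S1159
import Cfsg.Agent.OddCyclic.ClaimC.SzIso
import Cfsg.Agent.H149.PGUGoal
import Cfsg.Agent.LieClassical.SympTransvection
import Cfsg.Agent.S0270
import Cfsg.Agent.S0814
import Cfsg.Agent.H984.FCPsp
import Cfsg.Agent.H377.OddThree_m3
import Cfsg.Agent.LieClassical.OmegaCenter
import Cfsg.Agent.H390.Cocl
import Cfsg.Agent.S0816
import Cfsg.Agent.H579.MpoMain
import Cfsg.Agent.H424.SpecL_mg
import Cfsg.Agent.H149.PGO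
import Mathlib
import Cfsg.Agent.H366.IsoE6_mg_m3
import Cfsg.Agent.S2362
import Cfsg.Agent.FastGrp
import Cfsg.Agent.Prune
set_option linter.all false

section
prune_inst 0x7ff3e9f89bb829deffff7e7ff690cffc1b915fffe6dff943ffe86bff0b9f030609c5fba50de010fe0e96c21410b87803fa7eeeffe26bd87ffffd1ff41ffbee4fe5f6b508519080240f3c2fff83f0778e7f3fffffffffdfffffffffffffffffbeffbfffffffff

-- part: H970/Cov/B3
section
prune_inst 0x405440296210000000000680003e060a00000000288000480002460f818d0000008920be10100410068084003c001811000080424000000e000400011801801080020460c1a008000006008004000000000000020000000000000000000000000000000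
set_option linter.all false
open scoped Cfsg.Agent.FastGrp

/-!
# Block 6: no cover of `Omega7(q)` in the other characteristics (helper970, task N1)

* `exists_frob` : `Ω⁺_6(q)` contains the Frobenius group `q² : (q² - 1)`;
* `exists_orderOf` : a simple group containing `Ω⁺_6(q)` modulo its centre has in every noncentral cover by an
  elementary abelian `t`-group (`(t, q) = 1`) an element of order `(q² - 1) t`;
* `nc_b3`.
-/

set_option autoImplicit false

universe u v w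

namespace Cfsg.Agent.H970.Cov

open Matrix Cfsg.Agent.H912.Bd Cfsg.Agent.H376.Six Cfsg.Agent.H371

section Singer

variable {K : Type w} [Field K] [Fintype K]

/-- the embedding of `K²` in `K³` -/
def ext (v : Fin 2 → K) : Fin 3 → K := ![v 0, v 1, 0]

/-- `diag (M, (det M)⁻¹)` -/
def blk (M : Matrix (Fin 2) (Fin 2) K) : Matrix (Fin 3) (Fin 3) K :=
  !![M 0 0, M 0 1, 0; M 1 0, M 1 1, 0; 0, 0, (M.det)⁻¹]

theorem det_blk (M : Matrix (Fin 2) (Fin 2) K) (h : M.det ≠ 0) : (blk M).det = 1 := by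
  rw [blk, det_fin_three]
  simp only [of_apply, cons_val', cons_val_zero, cons_val_one, cons_val_two, empty_val', cons_val_fin_one, head_cons,
    tail_cons, head_fin_const]
  have : M 0 0 * M 1 1 * (M.det)⁻¹ - M 0 1 * M 1 0 * (M.det)⁻¹ = 1 := by
    rw [← sub_mul, ← det_fin_two, mul_inv_cancel₀ h]
  linear_combination this

theorem blk_mul (M N : Matrix (Fin 2) (Fin 2) K) : blk (M * N) = blk M * blk N := by
  have h : ((M * N).det)⁻¹ = (M.det)⁻¹ * (N.det)⁻¹ := by rw [det_mul, mul_inv]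
  rw [blk, h]
  ext i j
  fin_cases i <;> fin_cases j <;>
    simp [blk, Matrix.mul_apply, Fin.sum_univ_two, Fin.sum_univ_three]

theorem blk_one : blk (1 : Matrix (Fin 2) (Fin 2) K) = 1 := by
  ext i j
  fin_cases i <;> fin_cases j <;> simp [blk]

theorem blk_pow (M : Matrix (Fin 2) (Fin 2) K) (k : ℕ) : blk M ^ k = blk (M ^ k) := by
  induction k with
  | zero => rw [pow_zero, pow_zero, blk_one]
  | succ k ih => rw [pow_succ, pow_succ, blk_mul, ih]

theorem blk_ext (M : Matrix (Fin 2) (Fin 2) K) (v : Fin 2 → K) : blk M *ᵥ ext v = ext (M *ᵥ v) := by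
  ext i
  fin_cases i <;> simp [blk, ext, mulVec, dotProduct, Fin.sum_univ_two, Fin.sum_univ_three]

theorem ext_injective : Function.Injective (ext : (Fin 2 → K) → _) := by
  intro v w h
  have h0 := congrFun h 0
  have h1 := congrFun h 1
  simp only [ext, cons_val_zero, cons_val_one] at h0 h1
  funext i
  fin_cases i
  · exact h0
  · exact h1

theorem ext_add (v w : Fin 2 → K) : ext (v + w) = ext v + ext w := by
  ext i
  fin_cases i <;> simp [ext]

/-- the Singer cycle -/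
theorem exists_singer : ∃ M : Matrix (Fin 2) (Fin 2) K, M ^ (Fintype.card K ^ 2 - 1) = 1 ∧
    ∀ i, 0 < i → i < Fintype.card K ^ 2 - 1 → ∀ v : Fin 2 → K, M ^ i *ᵥ v = v → v = 0 := by
  classical
  obtain ⟨p, hp⟩ := CharP.exists K
  obtain ⟨n, hp', hn⟩ := FiniteField.card K p
  have : Fact p.Prime := ⟨hp'⟩
  let E := FiniteField.Extension K p 2
  have hE : Module.finrank K E = 2 := FiniteField.finrank_extension K p 2
  have hFE : Module.Finite K E := Module.finite_of_finrank_pos (by rw [hE]; norm_num)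
  have hfE : Finite E := Module.finite_of_finite K
  have b : Module.Basis (Fin 2) K E := Module.finBasisOfFinrankEq K E hE
  set L := Algebra.leftMulMatrix b with hL
  have hcard : Nat.card E = Fintype.card K ^ 2 := by
    rw [Module.natCard_eq_pow_finrank (K := K) (V := E), hE, Nat.card_eq_fintype_card]
  obtain ⟨ζ, hζ⟩ := IsCyclic.exists_generator (α := Eˣ)
  have hord : orderOf ζ = Fintype.card K ^ 2 - 1 := by
    rw [orderOf_eq_card_of_forall_mem_zpowers hζ, Nat.card_units, hcard]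
  refine ⟨L (ζ : E), ?_, ?_⟩
  · rw [← map_pow, ← Units.val_pow_eq_pow_val, ← hord, pow_orderOf_eq_one, Units.val_one, map_one]
  · intro i hi0 hi v hv
    rw [← map_pow] at hv
    have h1 : b.equivFun (((ζ : E) ^ i) * b.equivFun.symm v) = v := by
      have h2 := Algebra.leftMulMatrix_mulVec_repr b ((ζ : E) ^ i) (b.equivFun.symm v)
      rw [← hL] at h2
      have h3 : (⇑(b.repr (b.equivFun.symm v)) : Fin 2 → K) = v := by
        have := b.equivFun.apply_symm_apply v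
        exact this
      rw [h3, hv] at h2
      exact h2.symm
    have h4 : ((ζ : E) ^ i) * b.equivFun.symm v = b.equivFun.symm v := by
      rw [LinearEquiv.eq_symm_apply, h1]
    by_contra hv0
    have h5 : b.equivFun.symm v ≠ 0 := fun h => hv0 (by
      have := congrArg b.equivFun h
      rwa [LinearEquiv.apply_symm_apply, map_zero] at this)
    have h6 : (ζ : E) ^ i = 1 := mul_right_cancel₀ h5 (by rw [h4, one_mul])
    have h7 : ζ ^ i = 1 := Units.ext (by rw [Units.val_pow_eq_pow_val, h6, Units.val_one])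
    have h8 := orderOf_dvd_of_pow_eq_one h7
    rw [hord] at h8
    exact absurd (Nat.le_of_dvd hi0 h8) (not_le.2 hi)

/-- the subgroup `q²` -/
def uE : Multiplicative (Fin 2 → K) →* Cfsg.Omega K (Cfsg.quadFormPlus 3 K) where
  toFun v := uO (Multiplicative.ofAdd (ext (Multiplicative.toAdd v)))
  map_one' := by
    rw [toAdd_one]
    have : ext (0 : Fin 2 → K) = 0 := by
      ext i
      fin_cases i <;> simp [ext]
    rw [this, ofAdd_zero, map_one]
  map_mul' v w := by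
    rw [toAdd_mul, ext_add, ofAdd_add, map_mul]

theorem uE_injective : Function.Injective (uE (K := K)) := fun v w h =>
  Multiplicative.toAdd.injective (ext_injective (Multiplicative.ofAdd.injective (uO_injective h)))

/-- `Ω⁺_6(q)` contains the Frobenius group `q² : (q² - 1)` -/
theorem exists_frob : ∃ (M : Matrix (Fin 2) (Fin 2) K) (c : Cfsg.Omega K (Cfsg.quadFormPlus 3 K)),
    c ^ (Fintype.card K ^ 2 - 1) = 1 ∧
    (∀ (i : ℕ) (v : Fin 2 → K), c ^ i * uE (Multiplicative.ofAdd v) * (c ^ i)⁻¹ = uE (Multiplicative.ofAdd (M ^ i *ᵥ v))) ∧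
    ∀ i, 0 < i → i < Fintype.card K ^ 2 - 1 → ∀ v : Fin 2 → K, M ^ i *ᵥ v = v → v = 0 := by
  obtain ⟨M, hM1, hM⟩ := exists_singer (K := K)
  have hcard : 2 ≤ Fintype.card K := Fintype.one_lt_card
  have h3 : 1 < Fintype.card K ^ 2 - 1 := by
    have : 2 ^ 2 ≤ Fintype.card K ^ 2 := Nat.pow_le_pow_left hcard 2
    omega
  have hdet : M.det ≠ 0 := by
    intro h
    have h1 := congrArg Matrix.det hM1
    rw [det_pow, h, det_one, zero_pow (by omega)] at h1
    exact zero_ne_one h1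
  let D : SpecialLinearGroup (Fin 3) K := ⟨blk M, det_blk M hdet⟩
  have hDk : ∀ i, (D ^ i).1 = blk (M ^ i) := by
    intro i
    rw [← blk_pow]
    exact Matrix.SpecialLinearGroup.coe_pow D i
  let τ : SpecialLinearGroup (Fin 3) K →* SpecialLinearGroup (Fin 3) K :=
    { toFun := fun D => (D⁻¹).transpose
      map_one' := by
        rw [inv_one]
        exact Subtype.ext transpose_one
      map_mul' := fun A B => by
        rw [_root_.mul_inv_rev]
        apply Subtype.ext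
        change ((B⁻¹).1 * (A⁻¹).1)ᵀ = ((A⁻¹).1)ᵀ * ((B⁻¹).1)ᵀ
        rw [transpose_mul] }
  have hτ : ∀ D, τ D = (D⁻¹).transpose := fun _ => rfl
  refine ⟨M, slO le_rfl (τ D), ?_, ?_, hM⟩
  · rw [← map_pow, ← map_pow]
    have h1 : D ^ (Fintype.card K ^ 2 - 1) = 1 := by
      apply Subtype.ext
      rw [hDk, hM1, blk_one]
      rfl
    rw [h1, map_one, map_one]
  · intro i v
    rw [← map_pow, ← map_pow, hτ]
    have h1 := conj_uO' (D ^ i) (ext v)
    rw [hDk, blk_ext] at h1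
    exact h1

end Singer

section Main

variable {K : Type w} [Field K] [Fintype K]

/-- **An element of large order.** -/
theorem exists_orderOf {X : Type*} [Group X] [IsSimpleGroup X]
    (f : Cfsg.Omega K (Cfsg.quadFormPlus 3 K) →* X) (hf : f.ker ≤ Subgroup.center _) {H : Type*} [Group H]
    [Finite H] (V : Subgroup H) [V.Normal] {t : ℕ} (hV : Cov t H V) (ht : (Fintype.card K).Coprime t)
    (e : H ⧸ V ≃* X) :
    ∃ y : H, orderOf y = (Fintype.card K ^ 2 - 1) * t := by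
  classical
  obtain ⟨M, c, hc1, hcv, hM⟩ := exists_frob (K := K)
  have hcard : 2 ≤ Fintype.card K := Fintype.one_lt_card
  have h3 : 1 < Fintype.card K ^ 2 - 1 := by
    have : 2 ^ 2 ≤ Fintype.card K ^ 2 := Nat.pow_le_pow_left hcard 2
    omega
  obtain ⟨φ, hφ⟩ : ∃ φ : Cfsg.Omega K (Cfsg.quadFormPlus 3 K) →* H ⧸ V, φ.ker ≤ Subgroup.center _ :=
    ⟨e.symm.toMonoidHom.comp f, fun x hx => hf (by
      rw [MonoidHom.mem_ker] at hx ⊢
      have h1 : e.symm (f x) = 1 := hx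
      rw [← map_one e.symm] at h1
      exact e.symm.injective h1)⟩
  -- commuting modulo the kernel
  have hcomm : ∀ i, 0 < i → i < Fintype.card K ^ 2 - 1 → ∀ v : Fin 2 → K,
      φ c ^ i * φ (uE (Multiplicative.ofAdd v)) = φ (uE (Multiplicative.ofAdd v)) * φ c ^ i → v = 0 := by
    intro i hi0 hi v h
    have h1 : φ (uE (Multiplicative.ofAdd (M ^ i *ᵥ v - v))) = 1 := by
      rw [ofAdd_sub, div_eq_mul_inv, map_mul, map_inv, ← hcv, map_mul, map_mul, map_inv, map_mul, map_inv, map_pow, h]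
      group
    have h2 : uE (Multiplicative.ofAdd (M ^ i *ᵥ v - v)) ∈ Subgroup.center _ := hφ h1
    rw [Subgroup.mem_center_iff] at h2
    have h4 := h2 (c ^ 1)
    have h5 := hcv 1 (M ^ i *ᵥ v - v)
    rw [h4, mul_inv_cancel_right] at h5
    have h6 := hM 1 one_pos h3 _ (Multiplicative.ofAdd.injective (uE_injective h5)).symm
    exact hM i hi0 hi v (sub_eq_zero.1 h6)
  have hord : orderOf (φ c) = Fintype.card K ^ 2 - 1 := by
    have h1 : orderOf (φ c) ∣ Fintype.card K ^ 2 - 1 := orderOf_dvd_of_pow_eq_one (by rw [← map_pow, hc1, map_one])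
    refine le_antisymm (Nat.le_of_dvd (by omega) h1) (not_lt.1 fun h2 => ?_)
    have h4 := hcomm (orderOf (φ c)) (orderOf_pos _) h2 (fun _ => 1) (by rw [pow_orderOf_eq_one, one_mul, mul_one])
    exact one_ne_zero (congrFun h4 0)
  have hker : ∀ v : Fin 2 → K, φ (uE (Multiplicative.ofAdd v)) = 1 → v = 0 := by
    intro v hv
    exact hcomm 1 one_pos h3 v (by rw [hv, mul_one, one_mul])
  rw [← hord]
  refine Frob.exists_orderOf (G := H) V ⟨⟨fun a b => Subtype.ext (hV.comm a a.2 b b.2)⟩⟩ hV.prime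
    hV.pow ((φ.comp uE).range) (c := φ c) ?_ ?_ ?_ ?_
  · rintro _ ⟨b, rfl⟩
    refine ⟨Multiplicative.ofAdd (M ^ 1 *ᵥ b.toAdd), ?_⟩
    have h1 := congrArg φ (hcv 1 b.toAdd)
    rw [pow_one, map_mul, map_mul, map_inv] at h1
    exact h1.symm
  · rintro i hi0 hi _ ⟨b, rfl⟩ h
    rw [hord] at hi
    have h1 := hcomm i hi0 hi b.toAdd h
    have : b = 1 := h1
    rw [this, map_one]
  · have h2 := Subgroup.card_range_dvd (φ.comp (uE (K := K)))
    have h4 : Nat.card (Multiplicative (Fin 2 → K)) = Fintype.card K ^ 2 := by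
      rw [Nat.card_congr (Multiplicative.toAdd (α := Fin 2 → K)), Nat.card_eq_fintype_card, Fintype.card_fun,
        Fintype.card_fin]
    rw [h4] at h2
    exact Nat.Coprime.coprime_dvd_left h2 (ht.pow_left 2)
  · obtain ⟨x, hx⟩ := QuotientGroup.mk_surjective (φ (uE (Multiplicative.ofAdd (fun _ => (1 : K)))))
    have h4 : (x : H ⧸ V) ≠ 1 := by
      rw [hx]
      intro h
      exact one_ne_zero (congrFun (hker _ h) 0)
    obtain ⟨v, hv, hxv⟩ := Cfsg.Agent.H411.Six.Cov.exists_ne hV e h4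
    exact ⟨x, by rw [hx]; exact ⟨Multiplicative.ofAdd (fun _ => (1 : K)), rfl⟩, v, hv, hxv⟩

end Main

theorem arith {q t : ℕ} (hq : 5 ≤ q) (hq2 : q % 4 = 1) (ht : t.Prime) (ht5 : t ≠ 5)
    (h : UB5 q ((q ^ 2 - 1) * t)) : False := by
  obtain ⟨k, rfl⟩ : ∃ k, q = 4 * k + 1 := ⟨q / 4, by omega⟩
  obtain ⟨s, rfl⟩ := Nat.exists_eq_add_of_le (show 1 ≤ k by omega)
  have e2 : (4 * (1 + s) + 1) ^ 2 - 1 = 16 * s ^ 2 + 40 * s + 24 := by
    have : (4 * (1 + s) + 1) ^ 2 = 16 * s ^ 2 + 40 * s + 24 + 1 := by ring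
    omega
  have e2' : (4 * (1 + s) + 1) ^ 2 + 1 = 16 * s ^ 2 + 40 * s + 26 := by ring
  have e3 : ((4 * (1 + s) + 1) ^ 3 - 1) / 2 = 32 * s ^ 3 + 120 * s ^ 2 + 150 * s + 62 := by
    have : (4 * (1 + s) + 1) ^ 3 = 2 * (32 * s ^ 3 + 120 * s ^ 2 + 150 * s + 62) + 1 := by ring
    omega
  have e3' : ((4 * (1 + s) + 1) ^ 3 + 1) / 2 = 32 * s ^ 3 + 120 * s ^ 2 + 150 * s + 63 := by
    have : (4 * (1 + s) + 1) ^ 3 + 1 = 2 * (32 * s ^ 3 + 120 * s ^ 2 + 150 * s + 63) := by ring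
    omega
  have e4 : ((4 * (1 + s) + 1) ^ 4 - 1) / 4 = 64 * s ^ 4 + 320 * s ^ 3 + 600 * s ^ 2 + 500 * s + 156 := by
    have : (4 * (1 + s) + 1) ^ 4 = 4 * (64 * s ^ 4 + 320 * s ^ 3 + 600 * s ^ 2 + 500 * s + 156) + 1 := by ring
    omega
  unfold UB5 at h
  rw [e3, e3', e2, e2', e4] at h
  have z2 := Nat.zero_le (s ^ 2)
  have hf : 16 * s ^ 2 + 40 * s + 24 = (4 * s + 6) * (4 * s + 4) := by ring
  have hp := ht.two_le
  rcases h with h | h | h | h | h | h
  · have h1 : 4 * s + 6 ∣ 32 * s ^ 3 + 120 * s ^ 2 + 150 * s + 62 := by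
      rw [hf, mul_assoc] at h
      exact (Dvd.intro _ rfl).trans h
    have h2 : 4 * s + 6 ∣ 2 * (32 * s ^ 3 + 120 * s ^ 2 + 150 * s + 62) + 2 :=
      ⟨16 * s ^ 2 + 36 * s + 21, by ring⟩
    have h3 := (Nat.dvd_add_right (h1.mul_left 2)).1 h2
    have := Nat.le_of_dvd two_pos h3
    omega
  · have h1 : 4 * s + 4 ∣ 32 * s ^ 3 + 120 * s ^ 2 + 150 * s + 63 := by
      rw [hf, mul_comm (4 * s + 6), mul_assoc] at h
      exact (Dvd.intro _ rfl).trans h
    have h2 : 4 * s + 4 ∣ 2 * (32 * s ^ 3 + 120 * s ^ 2 + 150 * s + 62) := ⟨16 * s ^ 2 + 44 * s + 31, by ring⟩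
    have h4 : 2 * (32 * s ^ 3 + 120 * s ^ 2 + 150 * s + 63) = 2 * (32 * s ^ 3 + 120 * s ^ 2 + 150 * s + 62) + 2 := by ring
    have h5 := h1.mul_left 2
    rw [h4] at h5
    have h3 := (Nat.dvd_add_right h2).1 h5
    have := Nat.le_of_dvd two_pos h3
    omega
  · obtain ⟨k, hk⟩ := h
    have h1 : (16 * s ^ 2 + 40 * s + 24) * (16 * s ^ 2 + 40 * s + 26) =
        (16 * s ^ 2 + 40 * s + 24) * (4 * (t * k)) := by
      have : (16 * s ^ 2 + 40 * s + 24) * (4 * (t * k)) = 4 * ((16 * s ^ 2 + 40 * s + 24) * t * k) := by ring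
      rw [this, ← hk]
      ring
    have h2 := Nat.eq_of_mul_eq_mul_left (by positivity) h1
    omega
  · have h1 : 16 * s ^ 2 + 40 * s + 24 ∣ 5 * (16 * s ^ 2 + 40 * s + 26) := (Dvd.intro _ rfl).trans h
    have h2 : 5 * (16 * s ^ 2 + 40 * s + 26) = 5 * (16 * s ^ 2 + 40 * s + 24) + 10 := by ring
    rw [h2] at h1
    have h3 := (Nat.dvd_add_right (Dvd.intro_left 5 rfl)).1 h1
    have := Nat.le_of_dvd (by norm_num) h3
    omega
  · rw [mul_comm 5] at h
    have h1 := Nat.dvd_of_mul_dvd_mul_left (by positivity) h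
    rcases (Nat.dvd_prime Nat.prime_five).1 h1 with h2 | h2
    · omega
    · exact ht5 h2
  · have h1 : 2 ∣ 25 := by
      refine Dvd.dvd.trans ?_ h
      exact Dvd.dvd.mul_right ⟨8 * s ^ 2 + 20 * s + 12, by ring⟩ t
    omega

/-- **N1, `B₃(q)`, characteristic 5, other characteristics.** -/
theorem nc_b3 {F : Type*} [Field F] [Fintype F] {m : ℕ} (hm : 1 ≤ m) (hF : Fintype.card F = 5 ^ m) {H : Type*}
    [Group H] [Finite H] (V : Subgroup H) [V.Normal] {t : ℕ} (ht5 : t ≠ 5) (hV : Cov t H V)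
    (e : H ⧸ V ≃* Cfsg.POmega F (Cfsg.quadFormOdd 3 F)) (hub : ∀ x : H, UB5 (Fintype.card F) (orderOf x)) : False := by
  obtain ⟨f, hf⟩ := exists_odd (K := F) (le_refl 3)
  have h1 : Fintype.card F % 4 = 1 := by
    rw [hF, Nat.pow_mod, show 5 % 4 = 1 by norm_num, one_pow, Nat.one_mod]
  have h5 : 5 ≤ Fintype.card F := by
    rw [hF]; exact Nat.le_self_pow (by omega) 5
  have hs : IsSimpleGroup (Cfsg.POmega F (Cfsg.quadFormOdd 3 F)) :=
    Cfsg.Agent.S0295.result (Nat.odd_iff.2 (by omega)) 3 le_rfl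
  obtain ⟨y, hy⟩ := exists_orderOf f hf V hV (by
    rw [hF]; exact Nat.Coprime.pow_left _ ((Nat.coprime_primes Nat.prime_five hV.prime).2 ht5.symm)) e
  have h2 := hub y
  rw [hy] at h2
  exact arith h5 h1 hV.prime ht5 h2

end Cfsg.Agent.H970.Cov

private theorem dce_79cb55c3f862 : _root_.True := by
  try have : _root_.True := by simp only [_root_.Cfsg.Agent.H970.Cov.blk.eq_1]
  try have : _root_.True := by simp only [_root_.Cfsg.Agent.H970.Cov.ext.eq_1]
  exact _root_.True.intro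
end

-- part: H424/Six/Kill_mg
section
prune_inst 0xc140024069621000000000949100200448000190002000002800094200090102800081000e8010040208220000050000001000d0004000000e00000000010100100810044081000c040000800080000000000000000000000000000000000004000000000
set_option linter.all false
open scoped Cfsg.Agent.FastGrp

-- part: H424/Six/Torus
section
/-!
# Orders prime to the characteristic of matrices similar to their inverses (helper424)

* `exists_TL_of_inv` : `M` similar to `M⁻¹`, of size at most `2 n + 1`, of odd order prime to the characteristic: the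
  order divides a least common multiple of numbers `q ^ k ± 1` with the sum of the `k` at most `n` (`TL q n L`);
* `tl_prime_pow` : a prime power dividing `L` divides one of the numbers `q ^ k ± 1`, `k ≤ n`;
* `tl_full` : if a prime dividing `L` does not divide `q ^ (2 i) - 1` for `1 ≤ i < n`, then `L` divides `q ^ n ± 1`.
-/

set_option autoImplicit false
set_option linter.unusedSectionVars false

namespace Cfsg.Agent.H424.Six

open Cfsg.Agent.H403 Function

/-- a finite set with a fixed point free involution has even cardinality -/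
theorem even_of_inv {E : Type*} [Field E] (S : Finset E) (h1 : ∀ x ∈ S, x⁻¹ ∈ S) (h2 : ∀ x ∈ S, x⁻¹ ≠ x) :
    Even S.card := by
  have h : ∑ _x ∈ S, (1 : ZMod 2) = 0 :=
    Finset.sum_involution (fun x _ => x⁻¹) (fun _ _ => by decide) (fun x hx _ => h2 x hx) (fun x hx => h1 x hx)
      (fun x _ => inv_inv x)
  rw [Finset.sum_const, nsmul_eq_mul, mul_one, ZMod.natCast_eq_zero_iff] at h
  exact even_iff_two_dvd.2 h

section

variable {F : Type*} [Field F] [Fintype F] {ι : Type*} [Fintype ι] [DecidableEq ι]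

end

theorem tl_prime_pow {q n L : ℕ} (h : TL q n L) {r a : ℕ} (hr : r.Prime) (ha : a ≠ 0) (hd : r ^ a ∣ L) :
    ∃ k, 1 ≤ k ∧ k ≤ n ∧ (r ^ a ∣ q ^ k - 1 ∨ r ^ a ∣ q ^ k + 1) := by
  have key : ∀ x y : ℕ, r ^ a ∣ Nat.lcm x y → r ^ a ∣ x ∨ r ^ a ∣ y := by
    intro x y hxy
    rcases Nat.eq_zero_or_pos x with rfl | hx
    · exact Or.inl (dvd_zero _)
    rcases Nat.eq_zero_or_pos y with rfl | hy
    · exact Or.inr (dvd_zero _)
    rw [hr.pow_dvd_iff_le_factorization (Nat.lcm_ne_zero hx.ne' hy.ne'), Nat.factorization_lcm hx.ne' hy.ne',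
      Finsupp.sup_apply, le_sup_iff] at hxy
    rw [hr.pow_dvd_iff_le_factorization hx.ne', hr.pow_dvd_iff_le_factorization hy.ne']
    exact hxy
  induction h with
  | one n =>
    exfalso
    have h1 := (Nat.pow_eq_one.1 (Nat.dvd_one.1 hd))
    rcases h1 with h1 | h1
    · exact hr.one_lt.ne' h1
    · exact ha h1
  | @pos n L k hk _ ih =>
    rcases key _ _ hd with h1 | h1
    · exact ⟨k, hk, by omega, Or.inl h1⟩
    · obtain ⟨j, h2, h3, h4⟩ := ih h1
      exact ⟨j, h2, by omega, h4⟩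
  | @neg n L k hk _ ih =>
    rcases key _ _ hd with h1 | h1
    · exact ⟨k, hk, by omega, Or.inr h1⟩
    · obtain ⟨j, h2, h3, h4⟩ := ih h1
      exact ⟨j, h2, by omega, h4⟩

theorem pow_sub_dvd_two (q k : ℕ) : q ^ k - 1 ∣ q ^ (2 * k) - 1 ∧ q ^ k + 1 ∣ q ^ (2 * k) - 1 := by
  have h := Nat.sq_sub_sq (q ^ k) 1
  rw [one_pow, ← pow_mul, mul_comm k 2] at h
  rw [h]
  exact ⟨dvd_mul_left _ _, dvd_mul_right _ _⟩

theorem tl_full {q n L : ℕ} (h : TL q n L) {r : ℕ} (hr : r.Prime) (hd : r ∣ L)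
    (hi : ∀ i, 1 ≤ i → i < n → ¬ r ∣ q ^ (2 * i) - 1) : L = q ^ n - 1 ∨ L = q ^ n + 1 := by
  induction h with
  | one n => exact absurd (Nat.dvd_one.1 hd) hr.one_lt.ne'
  | @pos n L k hk h ih =>
    rcases Nat.eq_zero_or_pos n with rfl | hn
    · left
      rw [h.zero, Nat.lcm_one_right, Nat.zero_add]
    · exfalso
      rcases hr.dvd_mul.1 (hd.trans (Nat.lcm_dvd_mul _ _)) with h1 | h1
      · exact hi k hk (by omega) (h1.trans (pow_sub_dvd_two q k).1)
      · obtain ⟨j, h2, h3, h4⟩ := tl_prime_pow h hr one_ne_zero (by rwa [pow_one])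
        rw [pow_one] at h4
        rcases h4 with h4 | h4
        · exact hi j h2 (by omega) (h4.trans (pow_sub_dvd_two q j).1)
        · exact hi j h2 (by omega) (h4.trans (pow_sub_dvd_two q j).2)
  | @neg n L k hk h ih =>
    rcases Nat.eq_zero_or_pos n with rfl | hn
    · right
      rw [h.zero, Nat.lcm_one_right, Nat.zero_add]
    · exfalso
      rcases hr.dvd_mul.1 (hd.trans (Nat.lcm_dvd_mul _ _)) with h1 | h1
      · exact hi k hk (by omega) (h1.trans (pow_sub_dvd_two q k).2)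
      · obtain ⟨j, h2, h3, h4⟩ := tl_prime_pow h hr one_ne_zero (by rwa [pow_one])
        rw [pow_one] at h4
        rcases h4 with h4 | h4
        · exact hi j h2 (by omega) (h4.trans (pow_sub_dvd_two q j).1)
        · exact hi j h2 (by omega) (h4.trans (pow_sub_dvd_two q j).2)

end Cfsg.Agent.H424.Six
end

-- part: H424/Six/OddOrd
section
/-!
# Odd orders of matrices similar to their inverses (helper424)

* `exists_TL_odd` : `M` similar to `M⁻¹`, of size at most `2 n + 1`, of odd order, over a field of characteristic `p`: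
  the order divides `L` with `TL q n L`, or `L * p ^ b` with `TL q (n - 1) L` and `p ^ (b - 1) ≤ 2 n`.
-/

set_option autoImplicit false
set_option linter.unusedSectionVars false

namespace Cfsg.Agent.H424.Six

open Cfsg.Agent.H403 Function

theorem tl_coprime {q n L p : ℕ} (h : TL q n L) (hp : p.Prime) (hq : 1 ≤ q) (hpq : p ∣ q) : ¬ p ∣ L := by
  intro hd
  obtain ⟨k, h1, h2, h3⟩ := tl_prime_pow h hp one_ne_zero (by rwa [pow_one])
  have h4 : p ∣ q ^ k := hpq.trans (dvd_pow_self _ (by omega))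
  rw [pow_one] at h3
  rcases h3 with h3 | h3
  · have h5 : q ^ k = (q ^ k - 1) + 1 := by
      have := Nat.one_le_pow k q hq
      omega
    rw [h5] at h4
    exact hp.one_lt.ne' (Nat.dvd_one.1 ((Nat.dvd_add_right h3).1 h4))
  · exact hp.one_lt.ne' (Nat.dvd_one.1 ((Nat.dvd_add_right h4).1 h3))

theorem tl_pos {q n L : ℕ} (h : TL q n L) (hq : 2 ≤ q) : 0 < L := by
  induction h with
  | one n => exact one_pos
  | @pos n L k hk _ ih =>
    apply Nat.lcm_pos _ ih
    have := Nat.one_lt_pow (n := k) (by omega) (show 1 < q by omega)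
    omega
  | @neg n L k hk _ ih =>
    exact Nat.lcm_pos (by omega) ih

variable {F : Type*} [Field F] [Fintype F] {ι : Type*} [Fintype ι] [DecidableEq ι]

theorem exists_TL_odd (M : Matrix ι ι F) (hM : IsUnit M) (hinv : M⁻¹.charpoly = M.charpoly) {n : ℕ} (p : ℕ)
    [hpp : Fact p.Prime] [hFp : CharP F p] (hn : Fintype.card ι ≤ 2 * n + 1) {N : ℕ} (hMN : M ^ N = 1) (hodd : Odd N) :
    ∃ L b n', TL (Fintype.card F) n' L ∧ M ^ (L * p ^ b) = 1 ∧
      ((b = 0 ∧ n' = n) ∨ (1 ≤ b ∧ n' + 1 = n ∧ p ^ (b - 1) ≤ 2 * n)) := by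
  classical
  rcases isEmpty_or_nonempty ι with hι | hι
  · exact ⟨1, 0, n, TL.one n, Subsingleton.elim _ _, Or.inl ⟨rfl, rfl⟩⟩
  let E := AlgebraicClosure F
  have hE : CharP E p := charP_of_injective_algebraMap (algebraMap F E).injective p
  obtain ⟨k, -, hk⟩ := FiniteField.card F p
  have hinj : Injective fun x : E => x ^ Fintype.card F := by
    intro x y hxy
    dsimp only at hxy
    rw [hk, ← iterateFrobenius_def, ← iterateFrobenius_def] at hxy
    exact (iterateFrobenius_inj E p k) hxy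
  set R : Multiset E := evs E M with hR
  have h0 : (0 : E) ∉ R := zero_notMem_evs E M hM
  have hinvR : R.map (·⁻¹) = R := by
    rw [hR, ← evs_inv E M hM, evs, hinv, evs]
  have hfr := evs_frob E M
  have hpow : ∀ y ∈ R, y ^ N = 1 := by
    intro y hy
    have := pow_of_mem_evs (E := E) (M := M) (k := N) (c := 1) (by rw [hMN, one_smul]) hy
    rwa [map_one] at this
  have hsq : ∀ y ∈ R, y ^ 2 = 1 → y = 1 := by
    intro y hy h2
    obtain ⟨m, hm⟩ := hodd
    have h3 := hpow y hy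
    rw [hm, pow_succ, pow_mul, h2, one_pow, one_mul] at h3
    exact h3
  set S := R.toFinset.erase 1 with hS
  have hS1 : ∀ x ∈ S, x ∈ R ∧ x ≠ 1 := fun x hx =>
    ⟨Multiset.mem_toFinset.1 (Finset.mem_of_mem_erase hx), (Finset.mem_erase.1 hx).1⟩
  have hSm : ∀ x, x ∈ R → x ≠ 1 → x ∈ S := fun x h1 h2 =>
    Finset.mem_erase.2 ⟨h2, Multiset.mem_toFinset.2 h1⟩
  have hSinv : ∀ x ∈ S, x⁻¹ ∈ S := by
    intro x hx
    obtain ⟨h1, h2⟩ := hS1 x hx
    refine hSm _ ?_ fun h => h2 ?_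
    · rw [← hinvR]
      exact Multiset.mem_map_of_mem _ h1
    · rw [← inv_inv x, h, inv_one]
  have hSne : ∀ x ∈ S, x⁻¹ ≠ x := by
    intro x hx h
    obtain ⟨h1, h2⟩ := hS1 x hx
    apply h2
    apply hsq x h1
    have hx0 : x ≠ 0 := by
      rintro rfl
      exact h0 h1
    rw [pow_two]
    nth_rewrite 1 [← h]
    exact inv_mul_cancel₀ hx0
  have hSfr : ∀ x ∈ S, x ^ Fintype.card F ∈ S := by
    intro x hx
    obtain ⟨h1, h2⟩ := hS1 x hx
    refine hSm _ ?_ fun h => h2 ?_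
    · rw [hR, ← hfr]
      exact Multiset.mem_map_of_mem _ h1
    · apply hinj
      dsimp only
      rw [h, one_pow]
  have hcard : Multiset.card R = Fintype.card ι := card_evs E M
  have hmain : ∀ n', S.card ≤ 2 * n' → ∃ L, TL (Fintype.card F) n' L ∧ ∀ x ∈ R, x ^ L = 1 := by
    intro n' hn'
    obtain ⟨L, hL1, hL2⟩ := exists_TL (Fintype.card F) hinj n' S
      (fun x hx => by
        rintro rfl
        exact h0 (hS1 0 hx).1)
      (fun x hx h => (hS1 x hx).2 (hsq x (hS1 x hx).1 h)) hSfr hSinv hn'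
    refine ⟨L, hL1, fun y hy => ?_⟩
    by_cases hy1 : y = 1
    · rw [hy1, one_pow]
    · exact hL2 y (hSm y hy hy1)
  have hSle : S.card ≤ Fintype.card ι := by
    rw [← hcard]
    exact (Finset.card_le_card (Finset.erase_subset _ _)).trans (Multiset.toFinset_card_le R)
  obtain ⟨m, hm⟩ := even_of_inv S hSinv hSne
  have hq2 : 2 ≤ Fintype.card F := Fintype.one_lt_card
  by_cases hnd : R.Nodup
  · obtain ⟨L, hL1, hL2⟩ := hmain n (by omega)
    refine ⟨L, 0, n, hL1, ?_, Or.inl ⟨rfl, rfl⟩⟩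
    have h3 := pow_eq_smul_of_nodup E (M := M) (k := L) (tl_pos hL1 hq2) (c := 1) hnd
      (fun y hy => by rw [map_one]; exact hL2 y hy)
    rw [pow_zero, mul_one, h3, one_smul]
  · -- a repeated eigenvalue
    have h2 : S.card + 2 ≤ Fintype.card ι := by
      obtain ⟨y, hy⟩ : ∃ y, 2 ≤ R.count y := by
        by_contra hcon
        apply hnd
        rw [Multiset.nodup_iff_count_le_one]
        intro a
        by_contra h
        exact hcon ⟨a, by omega⟩
      have hyR : y ∈ R := Multiset.count_pos.1 (by omega)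
      have hcnt : ∀ x ∈ R, 1 ≤ R.count x := fun x hx => Multiset.count_pos.2 hx
      have hsum : ∑ x ∈ R.toFinset, R.count x = Multiset.card R := Multiset.toFinset_sum_count_eq R
      rw [← hcard, ← hsum]
      by_cases hy1 : y = 1
      · subst hy1
        have h3 := Finset.sum_erase_add R.toFinset (fun x => R.count x) (Multiset.mem_toFinset.2 hyR)
        rw [← h3]
        apply Nat.add_le_add _ hy
        rw [Finset.card_eq_sum_ones]
        exact Finset.sum_le_sum fun x hx => hcnt x (hS1 x hx).1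
      · have hyS := hSm y hyR hy1
        have hy' : 2 ≤ R.count y⁻¹ := by
          have h4 : R.count y⁻¹ = (R.map (·⁻¹)).count y⁻¹ := by rw [hinvR]
          rw [h4, Multiset.count_map_eq_count' _ _ inv_injective]
          exact hy
        have h5 : ∑ x ∈ S, R.count x ≤ ∑ x ∈ R.toFinset, R.count x :=
          Finset.sum_le_sum_of_subset (Finset.erase_subset _ _)
        refine le_trans ?_ h5
        have h6 := Finset.sum_erase_add S (fun x => R.count x) hyS
        have hys' : y⁻¹ ∈ S.erase y := Finset.mem_erase.2 ⟨hSne y hyS, hSinv y hyS⟩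
        have h7 := Finset.sum_erase_add (S.erase y) (fun x => R.count x) hys'
        have h8 : ((S.erase y).erase y⁻¹).card ≤ ∑ x ∈ (S.erase y).erase y⁻¹, R.count x := by
          rw [Finset.card_eq_sum_ones]
          exact Finset.sum_le_sum fun x hx =>
            hcnt x (hS1 x (Finset.mem_of_mem_erase (Finset.mem_of_mem_erase hx))).1
        rw [Finset.card_erase_of_mem hys', Finset.card_erase_of_mem hyS] at h8
        omega
    have hn1 : 1 ≤ n := by omega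
    obtain ⟨L, hL1, hL2⟩ := hmain (n - 1) (by omega)
    refine ⟨L, Nat.clog p (Fintype.card ι), n - 1, hL1, ?_, Or.inr ⟨?_, by omega, ?_⟩⟩
    · refine pow_eq_one_of_evs E p M L _ (fun x hx => hL2 x hx) fun x => ?_
      refine le_trans ?_ (Nat.le_pow_clog hpp.out.one_lt _)
      rw [← hcard]
      exact Multiset.count_le_card _ _
    · exact Nat.clog_pos hpp.out.one_lt (by omega)
    · have h3 := Nat.pow_pred_clog_lt_self hpp.out.one_lt (x := Fintype.card ι) (by omega)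
      rw [Nat.pred_eq_sub_one] at h3
      omega

end Cfsg.Agent.H424.Six
end

-- part: H424/Six/Num
section
/-!
# Elimination of sections of types `B_n`, `C_n`, `q = 5 ^ m`: arithmetic (helper424)

* `E5.of_ap`, `E5.of_am` : orders divisible by a prime divisor of `ap q`, `am q`; `E5.of_25` : by `25`;
* `num_pair` : two tori dividing `A`, `A + 1` and differing by `1` or `2`;
* `num_small` : the case of a Sylow subgroup of the defining characteristic.
-/

set_option autoImplicit false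

namespace Cfsg.Agent.H424.Six

open Cfsg.Agent.H376.Six Cfsg.Agent.H403 Cfsg.Agent.H424.P4

section facts

variable {q : ℕ} {S : Type*} [Group S]

theorem E5.odd (h : E5 q S) : q % 2 = 1 := by
  obtain ⟨m, -, rfl⟩ := h.pow
  rw [Nat.pow_mod]
  norm_num

theorem E5.five_le (h : E5 q S) : 5 ≤ q := by
  obtain ⟨m, hm, rfl⟩ := h.pow
  exact Nat.le_self_pow (by omega) 5

theorem E5.five_dvd (h : E5 q S) : 5 ∣ q := by
  obtain ⟨m, hm, rfl⟩ := h.pow
  exact dvd_pow_self 5 (by omega)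

theorem E5.prime_ne (h : E5 q S) {r : ℕ} (hr : r.Prime) (hd : r ∣ ap q * am q) : r ≠ 2 ∧ r ≠ 3 ∧ r ≠ 5 ∧ ¬ r ∣ q ^ 4 - 1 := by
  have hq : 2 ≤ q := by have := E5.five_le h; omega
  have h5 := E5.five_dvd h
  rcases hr.dvd_mul.1 hd with h1 | h1
  · obtain ⟨a, b, c⟩ := ap_ne hq hr h1
    exact ⟨a, b, fun h => c (h ▸ h5), ap_prime hq hr h1⟩
  · obtain ⟨a, b, c⟩ := am_ne hq hr h1
    exact ⟨a, b, fun h => c (h ▸ h5), am_prime hq hr h1⟩

theorem E5.of_both (h : E5 q S) {r : ℕ} (hr : r.Prime) (hd : r ∣ ap q * am q) {x : S} (hx : r ∣ orderOf x) :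
    orderOf x ∣ (q ^ 3 - 1) / 2 ∨ orderOf x ∣ (q ^ 3 + 1) / 2 := by
  obtain ⟨h2, h3, h5, h4⟩ := E5.prime_ne h hr hd
  have key5 : ¬ r ∣ 5 := fun h => h5 ((Nat.prime_dvd_prime_iff_eq hr Nat.prime_five).1 h)
  rcases h.ub x with h1 | h1 | h1 | h1 | h1 | h1
  · exact Or.inl h1
  · exact Or.inr h1
  · exact absurd ((hx.trans h1).trans (Nat.div_dvd_of_dvd (by
      have h6 : 8 ∣ q ^ 2 - 1 := by
        have h7 := E5.odd h
        have h8 : q ^ 2 % 8 = 1 := by
          have : q % 8 = 1 ∨ q % 8 = 3 ∨ q % 8 = 5 ∨ q % 8 = 7 := by omega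
          rcases this with h | h | h | h <;> rw [Nat.pow_mod, h]
        omega
      exact (Dvd.dvd.trans (by norm_num) h6).trans (sq_pm_dvd q).2))) h4
  · rcases hr.dvd_mul.1 (hx.trans h1) with h6 | h6
    · exact absurd h6 key5
    · exact absurd (h6.trans (sq_pm_dvd q).1) h4
  · rcases hr.dvd_mul.1 (hx.trans h1) with h6 | h6
    · exact absurd h6 key5
    · exact absurd (h6.trans (sq_pm_dvd q).2) h4
  · exact absurd (hr.dvd_of_dvd_pow (show r ∣ 5 ^ 2 by norm_num; exact hx.trans h1)) key5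

theorem E5.of_ap (h : E5 q S) {r : ℕ} (hr : r.Prime) (hd : r ∣ ap q) {x : S} (hx : r ∣ orderOf x) :
    orderOf x ∣ (q ^ 3 - 1) / 2 := by
  rcases E5.of_both h hr (hd.mul_right _) hx with h1 | h1
  · exact h1
  · have hq : 2 ≤ q := by have := E5.five_le h; omega
    exact absurd (Nat.dvd_one.1 ((Nat.dvd_gcd (hd.trans (ap_dvd_half hq (E5.odd h))) (hx.trans h1)).trans
      (dvd_of_eq (coprime_half (E5.odd h))))) hr.one_lt.ne'

theorem E5.of_am (h : E5 q S) {r : ℕ} (hr : r.Prime) (hd : r ∣ am q) {x : S} (hx : r ∣ orderOf x) :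
    orderOf x ∣ (q ^ 3 + 1) / 2 := by
  rcases E5.of_both h hr (hd.mul_left _) hx with h1 | h1
  · have hq : 2 ≤ q := by have := E5.five_le h; omega
    exact absurd (Nat.dvd_one.1 ((Nat.dvd_gcd (hx.trans h1) (hd.trans (am_dvd_half hq (E5.odd h)))).trans
      (dvd_of_eq (coprime_half (E5.odd h))))) hr.one_lt.ne'
  · exact h1

/-- `25` divides the order: the order is `25` -/
theorem E5.of_25 (h : E5 q S) {x : S} (hx : 25 ∣ orderOf x) : orderOf x = 25 := by
  have h5 := E5.five_dvd h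
  have hq5 := E5.five_le h
  have h2 := E5.odd h
  have key : ∀ k, 1 ≤ k → 5 ∣ q ^ k := fun k hk => h5.trans (dvd_pow_self q (by omega))
  have h3 := key 3 (by norm_num)
  have h4 := key 4 (by norm_num)
  have h6 := key 2 (by norm_num)
  have p2 : 1 ≤ q ^ 2 := Nat.one_le_pow _ _ (by omega)
  have p3 : 1 ≤ q ^ 3 := Nat.one_le_pow _ _ (by omega)
  have p4 : 1 ≤ q ^ 4 := Nat.one_le_pow _ _ (by omega)
  have hx5 : 5 ∣ orderOf x := Dvd.dvd.trans (by norm_num) hx
  have o3 : q ^ 3 % 2 = 1 := by rw [Nat.pow_mod, h2]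
  have o4 : q ^ 4 % 4 = 1 := by
    have : q % 4 = 1 ∨ q % 4 = 3 := by (clear * - h2; omega)
    rcases this with h | h <;> rw [Nat.pow_mod, h]
  rcases h.ub x with h1 | h1 | h1 | h1 | h1 | h1
  · exfalso
    have := hx5.trans h1
    (clear * - h3 o3 this; omega)
  · exfalso
    have := hx5.trans h1
    omega
  · exfalso
    have := hx5.trans h1
    (clear * - h4 o4 this; omega)
  · exfalso
    have h7 : 5 * 5 ∣ 5 * (q ^ 2 + 1) := by
      have := hx.trans h1
      norm_num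
      exact this
    have := (Nat.mul_dvd_mul_iff_left (by norm_num : 0 < 5)).1 h7
    omega
  · exfalso
    have h7 : 5 * 5 ∣ 5 * (q ^ 2 - 1) := by
      have := hx.trans h1
      norm_num only []
      exact this
    have := (Nat.mul_dvd_mul_iff_left (by norm_num : 0 < 5)).1 h7
    (clear * - h6 p2 this; omega)
  · exact Nat.dvd_antisymm h1 hx

theorem T2.dvd_50 (h : E5 q S) {M : ℕ} (hT : T2 S M) (hM : 25 ∣ M) : M ∣ 50 := by
  obtain ⟨g, hg⟩ := hT
  have h1 : 25 ∣ orderOf g := (Nat.Coprime.dvd_of_dvd_mul_left (by norm_num) (hM.trans hg))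
  rw [E5.of_25 h h1] at hg
  exact hg

theorem E5.big (h : E5 q S) : 3 * ((q ^ 3 - 1) / 2 + 1) < ap q * am q := by
  have hq5 := E5.five_le h
  have h3 : ¬ 3 ∣ q := by
    obtain ⟨m, -, rfl⟩ := h.pow
    intro hd
    have := (Nat.prime_dvd_prime_iff_eq Nat.prime_three Nat.prime_five).1 (Nat.prime_three.dvd_of_dvd_pow hd)
    omega
  have h1 := ap_mul_am (q := q) (by omega) h3
  have h2 : 5 * q ^ 3 ≤ q ^ 4 := by
    rw [pow_succ q 3, mul_comm]
    exact Nat.mul_le_mul_left _ hq5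
  have h4 : 125 ≤ q ^ 3 := by
    calc 125 = 5 ^ 3 := by norm_num
      _ ≤ _ := Nat.pow_le_pow_left hq5 3
  have h6 : 25 ≤ q ^ 2 := by
    calc 25 = 5 ^ 2 := by norm_num
      _ ≤ _ := Nat.pow_le_pow_left hq5 2
  omega

end facts

/-- two tori dividing `A`, `A + 1` and differing by `1` or `2` -/
theorem num_pair {A TA TB c : ℕ} (hc : c = 1 ∨ c = 2) (hA : TA ∣ A) (hB : TB ∣ A + 1)
    (hd : TB * c = TA * c + 2 ∨ TA * c = TB * c + 2) (h : 3 * (A + 1) < TA * TB) : c = 2 ∧ TA = A ∧ TB = TA + 1 := by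
  obtain ⟨j', hj'⟩ := hA
  obtain ⟨j, hj⟩ := hB
  have hTA : 0 < TA := by
    rcases Nat.eq_zero_or_pos TA with h0 | h0
    · rw [h0, zero_mul] at h; omega
    · exact h0
  have hTB : 0 < TB := by
    rcases Nat.eq_zero_or_pos TB with h0 | h0
    · rw [h0, mul_zero] at h; omega
    · exact h0
  have hj0 : 0 < j := by
    rcases Nat.eq_zero_or_pos j with h0 | h0
    · rw [h0, mul_zero] at hj; omega
    · exact h0
  rcases hc with rfl | rfl
  · exfalso
    rw [mul_one, mul_one] at hd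
    rcases hd with rfl | rfl
    · -- `(j' - j) TA = 2 j - 1`
      have h1 : TA ≤ 2 * j := by
        by_contra hcon
        rcases le_or_gt j' j with h2 | h2
        · obtain ⟨d, rfl⟩ := Nat.exists_eq_add_of_le h2
          nlinarith only [hj', hj0, hj]
        · obtain ⟨d, rfl⟩ := Nat.exists_eq_add_of_le (Nat.succ_le_of_lt h2)
          linarith only [hj, hcon, hj', Nat.zero_le (TA * d)]
      nlinarith only [h, hj, h1]
    · have h1 : TB ≤ 1 + 2 * j' := by
        by_contra hcon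
        rcases le_or_gt j j' with h2 | h2
        · obtain ⟨d, rfl⟩ := Nat.exists_eq_add_of_le h2
          nlinarith only [hj, hj']
        · obtain ⟨d, rfl⟩ := Nat.exists_eq_add_of_le (Nat.succ_le_of_lt h2)
          linarith only [hj', hcon, hj, Nat.zero_le (TB * d)]
      nlinarith only [h, hj', h1]
  · rcases hd with hd | hd
    · obtain rfl : TB = TA + 1 := by omega
      refine ⟨rfl, ?_, rfl⟩
      rcases lt_trichotomy j' j with h2 | h2 | h2
      · exfalso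
        obtain ⟨d, rfl⟩ := Nat.exists_eq_add_of_le (Nat.succ_le_of_lt h2)
        linarith only [hj', hTA, hj, Nat.zero_le (TA * d)]
      · subst h2
        have : j' = 1 := by linarith only [hj', hj]
        rw [hj', this, mul_one]
      · exfalso
        obtain ⟨d, rfl⟩ := Nat.exists_eq_add_of_le (Nat.succ_le_of_lt h2)
        have h3 : TA + 1 ≤ j := by linarith only [hj, hj', Nat.zero_le (TA * d)]
        nlinarith only [h, hj, h3]
    · exfalso
      obtain rfl : TA = TB + 1 := by omega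
      have h1 : TB ≤ 1 + j' := by
        by_contra hcon
        rcases le_or_gt j j' with h2 | h2
        · obtain ⟨d, rfl⟩ := Nat.exists_eq_add_of_le h2
          nlinarith only [hj, hj']
        · obtain ⟨d, rfl⟩ := Nat.exists_eq_add_of_le (Nat.succ_le_of_lt h2)
          linarith only [hj', hcon, hj, Nat.zero_le (TB * d)]
      nlinarith only [h, hj', h1]

theorem pow_seven (m : ℕ) : 262 * (m + 4) ^ 3 ≤ 7 ^ (2 * m + 5) := by
  induction m with
  | zero => norm_num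
  | succ m ih =>
    have h1 : 7 ^ (2 * (m + 1) + 5) = 49 * 7 ^ (2 * m + 5) := by
      rw [show 2 * (m + 1) + 5 = (2 * m + 5) + 2 by ring, pow_add]
      norm_num
      ring
    rw [h1]
    have h2 : (m + 1 + 4) ^ 3 ≤ 2 * (m + 4) ^ 3 := by
      nlinarith only [Nat.zero_le (m ^ 3), _root_.sq_nonneg (↑m : ℤ)]
    generalize (m + 1 + 4) ^ 3 = b at h2 ⊢
    generalize (m + 4) ^ 3 = a at h2 ih
    generalize 7 ^ (2 * m + 5) = X at ih ⊢
    omega

/-- the case of a Sylow subgroup of the defining characteristic -/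
theorem num_small {q u p n N : ℕ} (hq : 5 ≤ q) (hqm : q = 5 ∨ 25 ≤ q) (hn : 3 ≤ n) (hp : 7 ≤ p) (hpu : p ≤ u)
    (hu : u ^ n ≤ q ^ 3 + 2) (hN1 : q ^ 2 + 1 ≤ 3 * N + q) (hN2 : N ≤ 2 * n * p) (hN3 : n = 3 → N ≤ p) : False := by
  rcases hn.eq_or_lt with rfl | hn4
  · have h1 := hN3 rfl
    have h2 : u ≤ q := by
      by_contra hcon
      have h3 : (q + 1) ^ 3 ≤ u ^ 3 := Nat.pow_le_pow_left (by omega) 3
      linarith only [hq, hu, h3, _root_.sq_nonneg (↑q : ℤ)]
    nlinarith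
  · rcases hqm with rfl | hq25
    · have h1 : 7 ^ 4 ≤ u ^ n := (Nat.pow_le_pow_left (by omega) 4).trans (Nat.pow_le_pow_right (by omega) (by omega))
      norm_num at h1 hu
      omega
    · obtain ⟨m, rfl⟩ : ∃ m, n = m + 4 := ⟨n - 4, by omega⟩
      set z := u ^ (m + 4) with hz
      have hz1 : 2401 ≤ z := by
        calc 2401 = 7 ^ 4 := by norm_num
          _ ≤ u ^ 4 := Nat.pow_le_pow_left (by omega) 4
          _ ≤ _ := Nat.pow_le_pow_right (by omega) (by omega)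
      have h1 : 4 * q ^ 2 ≤ 25 * ((m + 4) * u) := by
        have h2 : N ≤ 2 * (m + 4) * u := hN2.trans (Nat.mul_le_mul_left _ hpu)
        nlinarith only [hN1, hq25, h2]
      have h2 : 64 * (q ^ 3) ^ 2 ≤ 15625 * ((m + 4) ^ 3 * u ^ 3) := by
        have h3 := Nat.pow_le_pow_left h1 3
        calc 64 * (q ^ 3) ^ 2 = (4 * q ^ 2) ^ 3 := by ring
          _ ≤ _ := h3
          _ = _ := by ring
      have h3 : 599 * z ^ 2 ≤ 600 * (q ^ 3) ^ 2 := by
        obtain ⟨w, hw⟩ : ∃ w, z = w + 2 := ⟨z - 2, by omega⟩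
        have h4 : w ^ 2 ≤ (q ^ 3) ^ 2 := Nat.pow_le_pow_left (by omega) 2
        rw [hw]
        nlinarith only [hz1, hw, h4]
      have h4 : z ^ 2 = u ^ (2 * m + 5) * u ^ 3 := by
        rw [hz, ← pow_mul, ← pow_add]
        congr 1
        ring
      have h5 : 7 ^ (2 * m + 5) ≤ u ^ (2 * m + 5) := Nat.pow_le_pow_left (by omega) _
      have h6 := pow_seven m
      have h7 : 0 < u ^ 3 := Nat.pow_pos (by omega)
      have h8 : 38336 * (u ^ (2 * m + 5) * u ^ 3) ≤ 9375000 * ((m + 4) ^ 3 * u ^ 3) := by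
        rw [← h4]
        linarith only [h2, h3]
      have h9 : 38336 * u ^ (2 * m + 5) ≤ 9375000 * (m + 4) ^ 3 := by
        apply Nat.le_of_mul_le_mul_right _ h7
        linarith only [h2, h3, h4]
      have h10 : 0 < (m + 4) ^ 3 := Nat.pow_pos (by omega)
      omega

end Cfsg.Agent.H424.Six
end

-- part: H424/Six/Kill
section
/-!
# Elimination of sections of types `B_n`, `C_n`, `q = 5 ^ m` (helper424)

`BC u p n S` : the facts used about `PSp_{2n}(u)`, `Ω_{2n+1}(u)`, `n ≥ 3`, `u` a power of `p`.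

`BC.kill` : `E5 q S` is impossible for `5 ∤ u`.
-/

set_option autoImplicit false

namespace Cfsg.Agent.H424.Six

open Cfsg.Agent.H376.Six Cfsg.Agent.H403 Cfsg.Agent.H424.P4

/-- The facts used about the groups of types `B_n`, `C_n` over the field of `u` elements -/
structure BC (u p n : ℕ) (S : Type*) [Group S] : Prop where
  pr : p.Prime
  pow : ∃ f, 1 ≤ f ∧ u = p ^ f
  three : 3 ≤ n
  fin : Finite S
  odd : ∀ g : S, Odd (orderOf g) → ∃ L b n', TL u n' L ∧ orderOf g ∣ L * p ^ b ∧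
    ((b = 0 ∧ n' = n) ∨ (1 ≤ b ∧ n' + 1 = n ∧ p ^ (b - 1) ≤ 2 * n))
  tor : ∀ k, 1 ≤ k → k ≤ n → ∀ ε : ℤ, ε = 1 ∨ ε = -1 → T2 S (ts u k ε)
  pair : ∀ k, 1 ≤ k → k < n → ∀ ε : ℤ, ε = 1 ∨ ε = -1 → T2 S (Nat.lcm (ts u k ε) (u - 1))
  frob : ∀ r : ℕ, r.Prime → r ≠ 2 → ¬ r ∣ u → ∀ i, 1 ≤ i → i < n → r ∣ u ^ (2 * i) - 1 →
    ∃ U : Subgroup S, IsPGroup p U ∧ ∃ y : S, orderOf y = r ∧ (∀ x ∈ U, y * x * y⁻¹ ∈ U) ∧
      ∃ x ∈ U, y * x ≠ x * y
  out : 5 ∣ Nat.card (Cfsg.Out S) → ∃ v, u = v ^ 5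

variable {u p n q : ℕ} {S : Type*} [Group S]

theorem BC.two_le (B : BC u p n S) : 2 ≤ u := by
  obtain ⟨f, hf, rfl⟩ := B.pow
  exact B.pr.two_le.trans (Nat.le_self_pow (by omega) p)

theorem BC.p_dvd (B : BC u p n S) : p ∣ u := by
  obtain ⟨f, hf, rfl⟩ := B.pow
  exact dvd_pow_self p (by omega)

theorem BC.p_le (B : BC u p n S) : p ≤ u := Nat.le_of_dvd (by have := B.two_le; omega) B.p_dvd

theorem BC.pow_prime (B : BC u p n S) {k N : ℕ} (h : u ^ k = N) {r s : ℕ} (hr : r.Prime) (hs : s.Prime)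
    (hrs : r ≠ s) (hrN : r ∣ N) (hsN : s ∣ N) : False := by
  obtain ⟨f, -, rfl⟩ := B.pow
  rw [← h, ← pow_mul] at hrN hsN
  exact hrs (((Nat.prime_dvd_prime_iff_eq hr B.pr).1 (hr.dvd_of_dvd_pow hrN)).trans
    ((Nat.prime_dvd_prime_iff_eq hs B.pr).1 (hs.dvd_of_dvd_pow hsN)).symm)

theorem BC.w25 (B : BC u p n S) (h : E5 q S) {k : ℕ} (h1 : 1 ≤ k) (h2 : k ≤ n) {ε : ℤ} (hε : ε = 1 ∨ ε = -1) :
    ¬ 25 ∣ ts u k ε := by
  intro hd
  have h3 := T2.dvd_50 h (B.tor k h1 h2 ε hε) hd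
  have hu := B.two_le
  have hpos := ts_pos hu h1 hε
  have hn := B.three
  have h4 : ts u k ε = 25 ∨ ts u k ε = 50 := by
    obtain ⟨c, hc⟩ := hd
    rw [hc] at h3 hpos ⊢
    have h5 : c ∣ 2 := (Nat.mul_dvd_mul_iff_left (by norm_num : 0 < 25)).1 (by norm_num; exact h3)
    have h6 := Nat.le_of_dvd (by norm_num) h5
    omega
  have h5 : u ^ k = 24 ∨ u ^ k = 26 ∨ u ^ k = 49 ∨ u ^ k = 51 := by
    have h6 : 1 ≤ u ^ k := Nat.one_le_pow _ _ (by omega)
    rcases hε with rfl | rfl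
    · rw [ts_one] at h4; (clear * - h4; omega)
    · rw [ts_neg] at h4; omega
  rcases h5 with h5 | h5 | h5 | h5
  · exact B.pow_prime h5 Nat.prime_two Nat.prime_three (by norm_num) (by norm_num) (by norm_num)
  · exact B.pow_prime h5 Nat.prime_two (by norm_num : Nat.Prime 13) (by norm_num) (by norm_num) (by norm_num)
  · -- `u ^ k = 49`
    have h7 : 7 ∣ u := (by norm_num : Nat.Prime 7).dvd_of_dvd_pow (show 7 ∣ u ^ k by rw [h5]; norm_num)
    have hu7 : 7 ≤ u := Nat.le_of_dvd (by omega) h7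
    have hk : k ≤ 2 := by
      by_contra hcon
      have : 7 ^ 3 ≤ u ^ k := (Nat.pow_le_pow_left hu7 3).trans (Nat.pow_le_pow_right (by omega) (by omega))
      rw [h5] at this
      norm_num at this
    have h8 := T2.dvd_50 h (B.pair k h1 (by omega) ε hε) (hd.trans (Nat.dvd_lcm_left _ _))
    have h9 : u - 1 ∣ 50 := (Nat.dvd_lcm_right _ _).trans h8
    obtain rfl | rfl : k = 1 ∨ k = 2 := by omega
    · rw [pow_one] at h5
      subst h5
      norm_num at h9
    · have : u = 7 := by nlinarith only [h5]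
      subst this
      norm_num at h9
  · exact B.pow_prime h5 Nat.prime_three (by norm_num : Nat.Prime 17) (by norm_num) (by norm_num) (by norm_num)

theorem BC.no25 (B : BC u p n S) (h5 : ¬ 5 ∣ u) (h : E5 q S) (x : S) : orderOf x ≠ 25 := by
  intro hx
  obtain ⟨L, b, n', hL, hd, hc⟩ := B.odd x (by rw [hx]; decide)
  have hp5 : p ≠ 5 := fun h => h5 (h ▸ B.p_dvd)
  have h1 : 25 ∣ L := by
    rw [hx] at hd
    refine Nat.Coprime.dvd_of_dvd_mul_right ?_ hd
    exact Nat.Coprime.pow_right _ (show Nat.Coprime (5 ^ 2) p from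
      Nat.Coprime.pow_left _ ((Nat.coprime_primes Nat.prime_five B.pr).2 hp5.symm))
  obtain ⟨k, hk1, hk2, hk3⟩ := tl_prime_pow hL Nat.prime_five (two_ne_zero) (show 5 ^ 2 ∣ L by norm_num; exact h1)
  norm_num only [] at hk3
  rcases hk3 with hk3 | hk3
  · exact B.w25 h hk1 (by omega) (Or.inl rfl) (by rw [ts_one]; exact hk3)
  · exact B.w25 h hk1 (by omega) (Or.inr rfl) (by rw [ts_neg]; exact hk3)

theorem fifth_pow_mod (v : ℕ) (h : ¬ 5 ∣ v) : 25 ∣ (v ^ 5) ^ 2 - 1 ∨ 25 ∣ (v ^ 5) ^ 2 + 1 := by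
  have h1 : (v ^ 5) ^ 2 % 25 = 1 ∨ (v ^ 5) ^ 2 % 25 = 24 := by
    have h2 : ∀ w : ℕ, w < 25 → ¬ 5 ∣ w → (w ^ 5) ^ 2 % 25 = 1 ∨ (w ^ 5) ^ 2 % 25 = 24 := by decide
    have h3 := h2 (v % 25) (Nat.mod_lt _ (by norm_num)) (by omega)
    have h4 : (v ^ 5) ^ 2 % 25 = ((v % 25) ^ 5) ^ 2 % 25 := by
      rw [← pow_mul, ← pow_mul]
      exact Nat.pow_mod _ _ _
    rwa [← h4] at h3
  omega

theorem BC.no_out (B : BC u p n S) (h5 : ¬ 5 ∣ u) (h : E5 q S) : ¬ 5 ∣ Nat.card (Cfsg.Out S) := by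
  intro hd
  obtain ⟨v, rfl⟩ := B.out hd
  have hn := B.three
  rcases fifth_pow_mod v (fun h => h5 (h.trans (dvd_pow_self v (by norm_num)))) with h1 | h1
  · exact B.w25 h (k := 2) (by norm_num) (by omega) (Or.inl rfl) (by rw [ts_one]; exact h1)
  · exact B.w25 h (k := 2) (by norm_num) (by omega) (Or.inr rfl) (by rw [ts_neg]; exact h1)

/-- the semisimple case -/
theorem BC.semi (B : BC u p n S) (hcl : ∀ r : ℕ, r.Prime → r ∣ ap q * am q → ¬ r ∣ u → ∀ i, 1 ≤ i → i < n →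
    ¬ r ∣ u ^ (2 * i) - 1) {x : S} {N : ℕ} (hx : orderOf x = N) (hN : N ∣ ap q * am q) (hodd : Odd N) (hN1 : N ≠ 1)
    (hp : ¬ p ∣ N) : ∃ ε : ℤ, (ε = 1 ∨ ε = -1) ∧ N ∣ ts u n ε := by
  obtain ⟨L, b, n', hL, hd, hc⟩ := B.odd x (by rwa [hx])
  rw [hx] at hd
  have h1 : N ∣ L := Nat.Coprime.dvd_of_dvd_mul_right
    (Nat.Coprime.pow_right _ ((B.pr.coprime_iff_not_dvd.2 hp).symm)) hd
  obtain ⟨r, hr, hrN⟩ := Nat.exists_prime_and_dvd hN1
  have hru : ¬ r ∣ u := by
    obtain ⟨f, -, hf⟩ := B.pow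
    intro h
    rw [hf] at h
    have h2 := (Nat.prime_dvd_prime_iff_eq hr B.pr).1 (hr.dvd_of_dvd_pow h)
    exact hp (h2 ▸ hrN)
  have h3 := hcl r hr (hrN.trans hN) hru
  rcases hc with ⟨-, rfl⟩ | ⟨-, hn', -⟩
  · rcases tl_full hL hr (hrN.trans h1) h3 with rfl | rfl
    · exact ⟨1, Or.inl rfl, by rwa [ts_one]⟩
    · exact ⟨-1, Or.inr rfl, by rwa [ts_neg]⟩
  · exfalso
    obtain ⟨k, hk1, hk2, hk3⟩ := tl_prime_pow hL hr one_ne_zero (by rw [pow_one]; exact hrN.trans h1)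
    rw [pow_one] at hk3
    rcases hk3 with hk3 | hk3
    · exact h3 k hk1 (by omega) (hk3.trans (pow_sub_dvd_two u k).1)
    · exact h3 k hk1 (by omega) (hk3.trans (pow_sub_dvd_two u k).2)

/-- the unipotent case -/
theorem BC.unip (B : BC u p n S) (hcl : ∀ r : ℕ, r.Prime → r ∣ ap q * am q → ¬ r ∣ u → ∀ i, 1 ≤ i → i < n →
    ¬ r ∣ u ^ (2 * i) - 1) {x : S} {N : ℕ} (hx : orderOf x = N) (hN : N ∣ ap q * am q) (hodd : Odd N)
    (hp : p ∣ N) (hp7 : 7 ≤ p) : N ≤ 2 * n * p ∧ (n = 3 → N ≤ p) := by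
  obtain ⟨L, b, n', hL, hd, hc⟩ := B.odd x (by rwa [hx])
  rw [hx] at hd
  have hu := B.two_le
  have hpL : ¬ p ∣ L := tl_coprime hL B.pr (by omega) B.p_dvd
  have hb : 1 ≤ b ∧ n' + 1 = n ∧ p ^ (b - 1) ≤ 2 * n := by
    rcases hc with ⟨rfl, -⟩ | hc
    · exfalso
      rw [pow_zero, mul_one] at hd
      exact hpL (hp.trans hd)
    · exact hc
  obtain ⟨hb1, hn', hb2⟩ := hb
  have hcop : Nat.Coprime N L := by
    apply Nat.coprime_of_dvd
    intro r hr hrN hrL
    by_cases hrp : r = p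
    · exact hpL (hrp ▸ hrL)
    have hru : ¬ r ∣ u := by
      obtain ⟨f, -, hf⟩ := B.pow
      intro h
      rw [hf] at h
      exact hrp ((Nat.prime_dvd_prime_iff_eq hr B.pr).1 (hr.dvd_of_dvd_pow h))
    have h3 := hcl r hr (hrN.trans hN) hru
    obtain ⟨k, hk1, hk2, hk3⟩ := tl_prime_pow hL hr one_ne_zero (by rwa [pow_one])
    rw [pow_one] at hk3
    rcases hk3 with hk3 | hk3
    · exact h3 k hk1 (by omega) (hk3.trans (pow_sub_dvd_two u k).1)
    · exact h3 k hk1 (by omega) (hk3.trans (pow_sub_dvd_two u k).2)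
  have h1 : N ∣ p ^ b := hcop.dvd_of_dvd_mul_left hd
  have h2 : N ≤ p ^ b := Nat.le_of_dvd (Nat.pow_pos (by omega)) h1
  have h3 : p ^ b = p ^ (b - 1) * p := by rw [← pow_succ, Nat.sub_add_cancel hb1]
  refine ⟨?_, ?_⟩
  · calc N ≤ p ^ b := h2
      _ = p ^ (b - 1) * p := h3
      _ ≤ _ := Nat.mul_le_mul_right _ hb2
  · rintro rfl
    have h4 : b - 1 = 0 := by
      by_contra h0
      have : p ^ 1 ≤ p ^ (b - 1) := Nat.pow_le_pow_right (by omega) (by omega)
      rw [pow_one] at this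
      omega
    rw [h3, h4, pow_zero, one_mul] at h2
    exact h2

theorem cc_two_or (u : ℕ) : cc u = 1 ∨ cc u = 2 := by
  unfold cc
  split_ifs <;> simp

theorem BC.kill (B : BC u p n S) (h5 : ¬ 5 ∣ u) (h : E5 q S) : False := by
  rcases h.five with ⟨⟨xa, ha⟩, ⟨xb, hb⟩, hNF | ho⟩ | ⟨x, hx⟩
  swap
  · exact B.no_out h5 h ho
  swap
  · exact B.no25 h5 h x hx
  have hq5 := E5.five_le h
  have hq2 : 2 ≤ q := by omega
  have hqo := E5.odd h
  have hn := B.three
  have hu := B.two_le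
  have : Finite S := B.fin
  have hp5 : p ≠ 5 := fun h => h5 (h ▸ B.p_dvd)
  have hapo : Odd (ap q) := Nat.coprime_two_left.1 (ap_odd hq2)
  have hamo : Odd (am q) := Nat.coprime_two_left.1 (am_odd hq2)
  have hap3 := three_ap hq2
  have ham3 := three_am hq2
  have hq25 : q = 5 ∨ 25 ≤ q := by
    obtain ⟨m, hm, rfl⟩ := h.pow
    rcases hm.eq_or_lt with rfl | hm2
    · left; norm_num
    · right
      calc 25 = 5 ^ 2 := by norm_num
        _ ≤ _ := Nat.pow_le_pow_right (by norm_num) hm2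
  have hap1 : ap q ≠ 1 := by linarith only [hq5, hap3, _root_.sq_nonneg (↑q : ℤ)]
  have hqq : q * 5 ≤ q ^ 2 := by rw [pow_two]; exact Nat.mul_le_mul_left _ hq5
  have ham1 : am q ≠ 1 := by (clear * - hqo ham3 hqq; omega)
  have hcl : ∀ r : ℕ, r.Prime → r ∣ ap q * am q → ¬ r ∣ u → ∀ i, 1 ≤ i → i < n → ¬ r ∣ u ^ (2 * i) - 1 := by
    intro r hr hrd hru i hi1 hi2 hd
    obtain ⟨h2, -, -, -⟩ := E5.prime_ne h hr hrd
    obtain ⟨U, hU, y, hy, hn1, x, hx, hne⟩ := B.frob r hr h2 hru i hi1 hi2 hd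
    exact hne (hNF r hr hrd p B.pr hp5 (fun h => hru (h ▸ B.p_dvd)) U hU y hy hn1 x hx)
  -- tori divisible by a prime divisor of `ap`, `am`
  have htorA : ∀ ε : ℤ, (ε = 1 ∨ ε = -1) → ap q ∣ ts u n ε → ap q ∣ hf u n ε ∧ hf u n ε ∣ (q ^ 3 - 1) / 2 := by
    intro ε hε hd
    have h1 : ap q ∣ hf u n ε := by
      rw [← hf_mul hε] at hd
      refine Nat.Coprime.dvd_of_dvd_mul_left ?_ hd
      rcases cc_two_or u with hc | hc <;> rw [hc]
      · exact Nat.coprime_one_right _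
      · exact (ap_odd hq2).symm
    obtain ⟨x, hx⟩ := T2.hf hε (by omega) hu (B.tor n (by omega) le_rfl ε hε)
    obtain ⟨r, hr, hrd⟩ := Nat.exists_prime_and_dvd hap1
    have h2 := E5.of_ap h hr hrd (x := x) (by rw [hx]; exact hrd.trans h1)
    rw [hx] at h2
    exact ⟨h1, h2⟩
  have htorB : ∀ ε : ℤ, (ε = 1 ∨ ε = -1) → am q ∣ ts u n ε → am q ∣ hf u n ε ∧ hf u n ε ∣ (q ^ 3 + 1) / 2 := by
    intro ε hε hd
    have h1 : am q ∣ hf u n ε := by
      rw [← hf_mul hε] at hd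
      refine Nat.Coprime.dvd_of_dvd_mul_left ?_ hd
      rcases cc_two_or u with hc | hc <;> rw [hc]
      · exact Nat.coprime_one_right _
      · exact (am_odd hq2).symm
    obtain ⟨x, hx⟩ := T2.hf hε (by omega) hu (B.tor n (by omega) le_rfl ε hε)
    obtain ⟨r, hr, hrd⟩ := Nat.exists_prime_and_dvd ham1
    have h2 := E5.of_am h hr hrd (x := x) (by rw [hx]; exact hrd.trans h1)
    rw [hx] at h2
    exact ⟨h1, h2⟩
  have hq3 : 125 ≤ q ^ 3 := by
    calc 125 = 5 ^ 3 := by norm_num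
      _ ≤ _ := Nat.pow_le_pow_left hq5 3
  have hun : ∀ ε : ℤ, (ε = 1 ∨ ε = -1) → hf u n ε ≤ (q ^ 3 + 1) / 2 → u ^ n ≤ q ^ 3 + 2 := by
    intro ε hε hle
    have h1 := hf_mul (u := u) (k := n) hε
    have h2 : u ^ n ≤ ts u n ε + 1 := by
      rcases hε with rfl | rfl
      · rw [ts_one]; omega
      · rw [ts_neg]; omega
    rw [← h1] at h2
    have h3 : cc u * hf u n ε ≤ 2 * ((q ^ 3 + 1) / 2) := Nat.mul_le_mul (cc_le u) hle
    omega
  have hp7 : ∀ N, Odd N → N ∣ ap q * am q → p ∣ N → 7 ≤ p := by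
    intro N hN hNd hpN
    obtain ⟨h2, h3, -, -⟩ := E5.prime_ne h B.pr (hpN.trans hNd)
    by_contra hcon
    have h4 := B.pr.two_le
    have h6 : p = 4 ∨ p = 6 := by (clear * - hp5 h2 h3 hcon h4; omega)
    rcases h6 with rfl | rfl
    · exact absurd B.pr (by norm_num)
    · exact absurd B.pr (by norm_num)
  by_cases hpa : p ∣ ap q
  · -- `ap` is a power of the characteristic
    have h7 := hp7 _ hapo (dvd_mul_right _ _) hpa
    obtain ⟨hN2, hN3⟩ := B.unip hcl ha (dvd_mul_right _ _) hapo hpa h7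
    have hpb : ¬ p ∣ am q := by
      intro hpb
      have h1 := Nat.dvd_gcd (hpa.trans (ap_dvd_half hq2 hqo)) (hpb.trans (am_dvd_half hq2 hqo))
      rw [coprime_half hqo] at h1
      exact B.pr.one_lt.ne' (Nat.dvd_one.1 h1)
    obtain ⟨ε, hε, hd⟩ := B.semi hcl hb (dvd_mul_left _ _) hamo ham1 hpb
    have h1 := Nat.le_of_dvd (by omega) (htorB ε hε hd).2
    exact num_small hq5 hq25 hn h7 B.p_le (hun ε hε h1) (by omega) hN2 hN3
  · obtain ⟨ε, hε, hd⟩ := B.semi hcl ha (dvd_mul_right _ _) hapo hap1 hpa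
    obtain ⟨hA1, hA2⟩ := htorA ε hε hd
    have hAle := Nat.le_of_dvd (by omega) hA2
    by_cases hpb : p ∣ am q
    · have h7 := hp7 _ hamo (dvd_mul_left _ _) hpb
      obtain ⟨hN2, hN3⟩ := B.unip hcl hb (dvd_mul_left _ _) hamo hpb h7
      exact num_small hq5 hq25 hn h7 B.p_le (hun ε hε (by (clear * - hAle; omega))) (by (clear * - ham3; omega)) hN2 hN3
    · obtain ⟨δ, hδ, hd'⟩ := B.semi hcl hb (dvd_mul_left _ _) hamo ham1 hpb
      obtain ⟨hB1, hB2⟩ := htorB δ hδ hd'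
      have hne : ε ≠ δ := by
        rintro rfl
        have h1 := Nat.dvd_gcd (hA1.trans hA2) (hA1.trans hB2)
        rw [coprime_half hqo] at h1
        exact hap1 (Nat.dvd_one.1 h1)
      have hA0 : 0 < hf u n ε := Nat.pos_of_ne_zero fun h0 => by rw [h0] at hA2; have := Nat.eq_zero_of_zero_dvd hA2; (clear * - hq3 hA2; omega)
      have hB0 : 0 < hf u n δ := Nat.pos_of_ne_zero fun h0 => by rw [h0] at hB2; have := Nat.eq_zero_of_zero_dvd hB2; omega
      have hbig := E5.big h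
      have h1 : ap q * am q ≤ hf u n ε * hf u n δ := Nat.mul_le_mul (Nat.le_of_dvd hA0 hA1) (Nat.le_of_dvd hB0 hB1)
      have hAB : (q ^ 3 + 1) / 2 = (q ^ 3 - 1) / 2 + 1 := by (clear * - hq3; omega)
      rw [hAB] at hB2
      have h2 := hf_mul (u := u) (k := n) hε
      have h3 := hf_mul (u := u) (k := n) hδ
      have hun1 : 1 ≤ u ^ n := Nat.one_le_pow _ _ (by omega)
      have h4 : hf u n δ * cc u = hf u n ε * cc u + 2 ∨ hf u n ε * cc u = hf u n δ * cc u + 2 := by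
        rw [mul_comm _ (cc u), mul_comm _ (cc u), h2, h3]
        rcases hε with rfl | rfl <;> rcases hδ with rfl | rfl
        · exact absurd rfl hne
        · rw [ts_one, ts_neg]; omega
        · rw [ts_one, ts_neg]; omega
        · exact absurd rfl hne
      obtain ⟨hc, hTA, hTB⟩ := num_pair (cc_two_or u) hA2 hB2 h4 (lt_of_lt_of_le hbig h1)
      -- `u ^ n = q ^ 3`
      rw [hc] at h2 h3
      rw [hTB, hTA] at h3
      rw [hTA] at h2
      have hq3o : q ^ 3 % 2 = 1 := by rw [Nat.pow_mod, hqo]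
      have h6 : u ^ n = q ^ 3 := by
        rcases hε with rfl | rfl <;> rcases hδ with rfl | rfl
        · exact absurd rfl hne
        · rw [ts_one] at h2; (clear * - hun1 hq3o h2; omega)
        · rw [ts_neg] at h2
          rw [ts_one] at h3
          (clear * - h2 h3; omega)
        · exact absurd rfl hne
      have h7 : 5 ∣ u ^ n := by rw [h6]; exact (E5.five_dvd h).trans (dvd_pow_self q (by norm_num))
      exact h5 (Nat.prime_five.dvd_of_dvd_pow h7)

end Cfsg.Agent.H424.Six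
end

-- part: H228/Six/NumTF
section
/-!
# Arithmetic for `²F₄(v)`, `q = 5 ^ m` (helper228, block 6)

`v = 2 b²`, `b = 2 ^ m`; the tori `v ± 1`, `v ± √(2v) + 1`, `v² - v + 1`, `v² ± v√(2v) + v ± √(2v) + 1`.

* `W q` : the odd numbers `N` with `Ub q N`, prime to `am q`, divide `W q` (`dvd_W`);
* `small`, `big` : the final contradictions.
-/

set_option autoImplicit false

namespace Cfsg.Agent.H228.Six

open Cfsg.Agent.H376.Six Cfsg.Agent.H60.Six5

variable {q : ℕ}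

/-- the bound -/
def W (q : ℕ) : ℕ := ((q ^ 3 - 1) / 4) * (75 * ((q ^ 4 - 1) / 16))

theorem sixteen_dvd (h : Pow5 q) : 16 ∣ q ^ 4 - 1 := by
  have h1 : q ^ 4 % 16 = 1 := by
    have h2 : q % 16 = 1 ∨ q % 16 = 5 ∨ q % 16 = 9 ∨ q % 16 = 13 := by have := h.mod; omega
    rw [Nat.pow_mod]
    rcases h2 with h2 | h2 | h2 | h2 <;> rw [h2]
  omega

theorem four_dvd (h : Pow5 q) : 4 ∣ q ^ 3 - 1 := by
  have h1 : q ^ 3 % 4 = 1 := by rw [Nat.pow_mod, h.mod]
  omega

theorem odd_dvd {N x k : ℕ} (ho : N % 2 = 1) (h : N ∣ 2 ^ k * x) : N ∣ x :=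
  (Nat.Coprime.pow_right k (Nat.coprime_two_right.2 (Nat.odd_iff.2 ho))).dvd_of_dvd_mul_left h

theorem dvd_W (h : Pow5 q) {N : ℕ} (ho : N % 2 = 1) (hc : N.Coprime (am q)) (hu : Ub q N) : N ∣ W q := by
  have hq := h.le
  have h16 := sixteen_dvd h
  have key : N ∣ 75 * (q ^ 4 - 1) → N ∣ W q := by
    intro h1
    refine Dvd.dvd.mul_left (odd_dvd (k := 4) ho ?_) _
    have e : 2 ^ 4 * (75 * ((q ^ 4 - 1) / 16)) = 75 * (q ^ 4 - 1) := by omega
    rwa [e]
  rcases hu with h1 | h1 | h1 | h1 | h1 | h1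
  · refine Dvd.dvd.mul_right (odd_dvd (k := 1) ho ?_) _
    have h4 := four_dvd h
    have e : 2 ^ 1 * ((q ^ 3 - 1) / 4) = (q ^ 3 - 1) / 2 := by omega
    rwa [e]
  · apply key
    have h2 : N ∣ q ^ 3 + 1 := by
      have h5 : q ^ 3 % 2 = 1 := by rw [Nat.pow_mod, h.two]
      exact h1.trans ⟨2, by omega⟩
    have e : q ^ 3 + 1 = (q + 1) * (q ^ 2 - q + 1) := by
      have h5 : q ≤ q ^ 2 := by nlinarith only []
      zify [h5]; ring
    have h3 : N ∣ ((q + 1) * 3) * am q := by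
      refine h2.trans ?_
      rw [e, ← (am_spec (q := q) (by omega)).1]
      obtain ⟨c, hc⟩ := Nat.gcd_dvd_left 3 (q + 1)
      refine ⟨c, ?_⟩
      calc (q + 1) * 3 * am q = (q + 1) * (Nat.gcd 3 (q + 1) * c) * am q := by rw [← hc]
        _ = _ := by ring
    have h4 : N ∣ (q + 1) * 3 := hc.dvd_of_dvd_mul_right h3
    refine h4.trans ?_
    have h6 : q + 1 ∣ q ^ 4 - 1 := by
      have h7 : q ^ 4 - 1 = (q + 1) * ((q - 1) * (q ^ 2 + 1)) := by
        have h8 : 1 ≤ q := by omega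
        have h9 : 1 ≤ q ^ 4 := Nat.one_le_pow _ _ (by omega)
        zify [h8, h9]; ring
      exact ⟨_, h7⟩
    rw [mul_comm (q + 1) 3]
    exact mul_dvd_mul (by norm_num) h6
  · exact key ((h1.trans h.four).mul_left _)
  · exact key (h1.trans (mul_dvd_mul (by norm_num) (sq_pm_dvd q).1))
  · exact key (h1.trans (mul_dvd_mul (by norm_num) (sq_pm_dvd q).2))
  · exact key (h1.trans (Dvd.dvd.mul_right (by norm_num) _))

theorem W_pos (h : Pow5 q) : 0 < W q := by
  have hq := h.le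
  have h1 : 5 ^ 3 ≤ q ^ 3 := Nat.pow_le_pow_left hq 3
  have h2 : 5 ^ 4 ≤ q ^ 4 := Nat.pow_le_pow_left hq 4
  unfold W
  have h3 : 0 < (q ^ 3 - 1) / 4 := by omega
  have h4 : 0 < (q ^ 4 - 1) / 16 := by omega
  positivity

theorem W_le (q : ℕ) : 64 * W q ≤ 75 * q ^ 7 := by
  unfold W
  have h1 : 4 * ((q ^ 3 - 1) / 4) ≤ q ^ 3 := by omega
  have h2 : 16 * ((q ^ 4 - 1) / 16) ≤ q ^ 4 := by omega
  calc 64 * ((q ^ 3 - 1) / 4 * (75 * ((q ^ 4 - 1) / 16)))
      = 75 * ((4 * ((q ^ 3 - 1) / 4)) * (16 * ((q ^ 4 - 1) / 16))) := by ring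
    _ ≤ 75 * (q ^ 3 * q ^ 4) := Nat.mul_le_mul le_rfl (Nat.mul_le_mul h1 h2)
    _ = 75 * q ^ 7 := by ring

/-- the small cases -/
theorem small (h : Pow5 q) {F : ℕ} (hF : F ∈ [57, 109, 37, 993, 1321, 793, 16257, 18577, 14449]) (hd : am q ∣ F) :
    False := by
  have h0 := h.le
  have hF1 : 0 < F ∧ F ≤ 18577 := by
    simp only [List.mem_cons, List.not_mem_nil, or_false] at hF
    omega
  have h1 := Nat.le_of_dvd hF1.1 hd
  have h2 := three_am (q := q) (by omega)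
  have h3 : q < 625 := by
    by_contra hcon
    push Not at hcon
    have h4 : 625 * q ≤ q ^ 2 := by nlinarith only [hcon]
    omega
  obtain ⟨m, hm, hq⟩ := h.pow
  have hm4 : m < 4 := by
    by_contra hcon
    push Not at hcon
    have : 5 ^ 4 ≤ 5 ^ m := Nat.pow_le_pow_right (by norm_num) hcon
    omega
  have hm' : m = 1 ∨ m = 2 ∨ m = 3 := by omega
  have key : ∀ n : ℕ, n = 7 ∨ n = 601 ∨ n = 5167 → ¬ n ∣ F := by
    simp only [List.mem_cons, List.not_mem_nil, or_false] at hF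
    rintro n (rfl | rfl | rfl) <;> rcases hF with rfl | rfl | rfl | rfl | rfl | rfl | rfl | rfl | rfl <;> norm_num
  refine key (am q) ?_ hd
  rw [hq]
  rcases hm' with rfl | rfl | rfl
  · left; decide
  · right; left; decide +kernel
  · right; right; decide +kernel

/-- the size of `q` -/
theorem size {b : ℤ} (hb : 16 ≤ b) (hq : 5 ≤ q) {N : ℤ}
    (hN : N ≤ 4 * b ^ 4 + 4 * b ^ 3 + 2 * b ^ 2 + 2 * b + 1) (hq2 : ((q ^ 2 - q + 1 : ℕ) : ℤ) ≤ 3 * N) :
    5 * (q : ℤ) ≤ 9 * (2 * b ^ 2) := by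
  have h5 : q ≤ q ^ 2 := by nlinarith only []
  rw [Nat.cast_add, Nat.cast_sub h5] at hq2
  push_cast at hq2
  have e2 : 16 * b ≤ b ^ 2 := by nlinarith only [hb]
  have e3 : 16 * b ^ 2 ≤ b ^ 3 := by linarith only [mul_nonneg (sq_nonneg b) (by linarith : (0 : ℤ) ≤ b - 16)]
  have e4 : 16 * b ^ 3 ≤ b ^ 4 := by
    linarith only [mul_nonneg (pow_nonneg (by linarith : (0 : ℤ) ≤ b) 3) (by linarith : (0 : ℤ) ≤ b - 16)]
  have h1 : 15 * N ≤ 16 * (2 * b ^ 2) ^ 2 := by
    have : (2 * b ^ 2) ^ 2 = 4 * b ^ 4 := by ring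
    rw [this]
    linarith
  have hv : 512 ≤ 2 * b ^ 2 := by linarith only [hb, e2]
  generalize 2 * b ^ 2 = v at h1 hv ⊢
  by_contra hcon
  push Not at hcon
  have h6 : 25 * ((q : ℤ) ^ 2 - q + 1) ≤ 80 * v ^ 2 := by linarith only [hq2, h1]
  nlinarith only [hq2, h1, hv, mul_nonneg (by linarith : (0 : ℤ) ≤ 5 * q - 9 * v) (by linarith : (0 : ℤ) ≤ 5 * q + 9 * v - 5)]

theorem big {v : ℤ} (hv : 512 ≤ v) (h5 : 5 * (q : ℤ) ≤ 9 * v) {P X : ℕ} (hP : (P : ℤ) = (v ^ 4 - 1) * X)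
    (hX : 15 * (v ^ 2 * (v ^ 2 - v + 1)) ≤ 48 * (X : ℤ)) (hle : P ≤ W q) : False := by
  have h1 : (64 : ℤ) * P ≤ 75 * q ^ 7 := by
    have := (Nat.mul_le_mul (le_refl 64) hle).trans (W_le q)
    exact_mod_cast this
  have hv0 : (0 : ℤ) ≤ v := by linarith only [hv]
  have h2 : (5 * (q : ℤ)) ^ 7 ≤ (9 * v) ^ 7 := pow_le_pow_left₀ (by positivity) h5 7
  have h3 : 64 * 5 ^ 7 * (P : ℤ) ≤ 75 * 9 ^ 7 * v ^ 7 := by
    calc 64 * 5 ^ 7 * (P : ℤ) = 5 ^ 7 * (64 * P) := by ring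
      _ ≤ 5 ^ 7 * (75 * (q : ℤ) ^ 7) := by linarith
      _ = 75 * (5 * (q : ℤ)) ^ 7 := by ring
      _ ≤ 75 * (9 * v) ^ 7 := by linarith
      _ = 75 * 9 ^ 7 * v ^ 7 := by ring
  have h4 : (0 : ℤ) < v ^ 4 - 1 := by
    have : (512 : ℤ) ^ 4 ≤ v ^ 4 := pow_le_pow_left₀ (by norm_num) hv 4
    norm_num at this
    linarith
  have h6 : 15 * ((v ^ 4 - 1) * (v ^ 2 * (v ^ 2 - v + 1))) ≤ 48 * (P : ℤ) := by
    rw [hP]
    linarith only [mul_le_mul_of_nonneg_left hX h4.le]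
  have h7 : v ^ 7 * (v - 1) ≤ (v ^ 4 - 1) * (v ^ 2 * (v ^ 2 - v + 1)) := by
    have e : (v ^ 4 - 1) * (v ^ 2 * (v ^ 2 - v + 1)) = v ^ 7 * (v - 1) + v ^ 2 * (v ^ 2 * (v ^ 2 - 1) + (v - 1)) := by ring
    rw [e]
    have h8 : (0 : ℤ) ≤ v ^ 2 - 1 := by nlinarith only [h4]
    have h9 : (0 : ℤ) ≤ v ^ 2 * (v ^ 2 * (v ^ 2 - 1) + (v - 1)) := by
      apply mul_nonneg (sq_nonneg v)
      have := mul_nonneg (sq_nonneg v) h8
      linarith
    linarith only [h9]
  have h10 : (0 : ℤ) < v ^ 7 := by positivity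
  have h11 : (511 : ℤ) * v ^ 7 ≤ v ^ 7 * (v - 1) := by nlinarith only [hv, h1, h2]
  norm_num only [] at h3
  linarith

/-! ### coprimality -/

theorem cop2 {X Y : ℕ} {x y : ℤ} (hX : X % 2 = 1) (h : x * X + y * Y = 2) : Nat.Coprime X Y := by
  refine Nat.coprime_of_dvd fun r hr h1 h2 => ?_
  have h3 : (r : ℤ) ∣ 2 := by
    rw [← h]
    exact dvd_add ((Int.natCast_dvd_natCast.2 h1).mul_left _) ((Int.natCast_dvd_natCast.2 h2).mul_left _)
  have h4 : r = 2 := (Nat.prime_dvd_prime_iff_eq hr Nat.prime_two).1 (by exact_mod_cast h3)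
  subst h4
  omega

theorem cop3 {X Y : ℕ} {x y : ℤ} (hX : ¬ 3 ∣ X) (h : x * X + y * Y = 3) : Nat.Coprime X Y := by
  refine Nat.coprime_of_dvd fun r hr h1 h2 => ?_
  have h3 : (r : ℤ) ∣ 3 := by
    rw [← h]
    exact dvd_add ((Int.natCast_dvd_natCast.2 h1).mul_left _) ((Int.natCast_dvd_natCast.2 h2).mul_left _)
  have h4 : r = 3 := (Nat.prime_dvd_prime_iff_eq hr Nat.prime_three).1 (by exact_mod_cast h3)
  subst h4
  exact hX h1

/-- the numbers -/
structure Nums (b : ℤ) (N₁ N₂ N₃ N₄ N₅ N₆ N₇ : ℕ) : Prop where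
  h1 : (N₁ : ℤ) = 2 * b ^ 2 - 1
  h2 : (N₂ : ℤ) = 2 * b ^ 2 + 1
  h3 : (N₃ : ℤ) = 2 * b ^ 2 + 2 * b + 1
  h4 : (N₄ : ℤ) = 2 * b ^ 2 - 2 * b + 1
  h5 : 3 * (N₅ : ℤ) = 4 * b ^ 4 - 2 * b ^ 2 + 1
  h6 : (N₆ : ℤ) = 4 * b ^ 4 + 4 * b ^ 3 + 2 * b ^ 2 + 2 * b + 1
  h7 : (N₇ : ℤ) = 4 * b ^ 4 - 4 * b ^ 3 + 2 * b ^ 2 - 2 * b + 1

namespace Nums

variable {b : ℤ} {N₁ N₂ N₃ N₄ N₅ N₆ N₇ : ℕ} (h : Nums b N₁ N₂ N₃ N₄ N₅ N₆ N₇)

theorem odd_of {N : ℕ} {z : ℤ} (hz : (N : ℤ) = 2 * z + 1) : N % 2 = 1 := by omega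

include h

theorem o1 : N₁ % 2 = 1 := odd_of (z := b ^ 2 - 1) (by rw [h.h1]; ring)
theorem o2 : N₂ % 2 = 1 := odd_of (z := b ^ 2) (by rw [h.h2])
theorem o3 : N₃ % 2 = 1 := odd_of (z := b ^ 2 + b) (by rw [h.h3]; ring)
theorem o4 : N₄ % 2 = 1 := odd_of (z := b ^ 2 - b) (by rw [h.h4]; ring)
theorem o6 : N₆ % 2 = 1 := odd_of (z := 2 * b ^ 4 + 2 * b ^ 3 + b ^ 2 + b) (by rw [h.h6]; ring)
theorem o7 : N₇ % 2 = 1 := odd_of (z := 2 * b ^ 4 - 2 * b ^ 3 + b ^ 2 - b) (by rw [h.h7]; ring)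
theorem o5 : N₅ % 2 = 1 := by
  have h1 : (3 * N₅) % 2 = 1 := odd_of (z := 2 * b ^ 4 - b ^ 2) (by push_cast; rw [h.h5]; ring)
  omega

theorem t5 : ¬ 3 ∣ N₅ := by
  rintro ⟨c, hc⟩
  have h1 := h.h5
  rw [hc] at h1
  have h2 : ((4 * b ^ 4 - 2 * b ^ 2 + 1 : ℤ) : ZMod 9) = 0 :=
    (ZMod.intCast_zmod_eq_zero_iff_dvd _ 9).2 ⟨c, by rw [← h1]; push_cast; ring⟩
  push_cast at h2
  generalize (b : ZMod 9) = x at h2
  revert h2; revert x; decide

theorem t67 : ¬ 3 ∣ N₆ * N₇ := by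
  intro h1
  have h2 : (((N₆ * N₇ : ℕ) : ℤ) : ZMod 3) = 0 :=
    (ZMod.intCast_zmod_eq_zero_iff_dvd _ 3).2 (Int.natCast_dvd_natCast.2 h1)
  rw [Nat.cast_mul, h.h6, h.h7] at h2
  push_cast at h2
  generalize (b : ZMod 3) = x at h2
  revert h2; revert x; decide

theorem c12 : N₁.Coprime N₂ := cop2 (x := -1) (y := 1) h.o1 (by rw [h.h1, h.h2]; ring)
theorem c34 : N₃.Coprime N₄ := cop2 (x := 1 - b) (y := 1 + b) h.o3 (by rw [h.h3, h.h4]; ring)
theorem c1234 : (N₁ * N₂).Coprime (N₃ * N₄) := by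
  refine cop2 (x := -1) (y := 1) ?_ (by push_cast; rw [h.h1, h.h2, h.h3, h.h4]; ring)
  rw [Nat.mul_mod, h.o1, h.o2]
theorem c67 : N₆.Coprime N₇ := cop2 (x := 1 - b) (y := 1 + b) h.o6 (by rw [h.h6, h.h7]; ring)

theorem cast4 : ((N₁ * N₂ * (N₃ * N₄) : ℕ) : ℤ) = (2 * b ^ 2) ^ 4 - 1 := by
  push_cast; rw [h.h1, h.h2, h.h3, h.h4]; ring

theorem cast67 : ((N₆ * N₇ : ℕ) : ℤ) = (2 * b ^ 2) ^ 4 - (2 * b ^ 2) ^ 2 + 1 := by
  push_cast; rw [h.h6, h.h7]; ring

theorem cP67 : (N₁ * N₂ * (N₃ * N₄)).Coprime (N₆ * N₇) := by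
  refine (cop3 (x := (2 * b ^ 2) ^ 2 + 2) (y := -((2 * b ^ 2) ^ 2 + 1)) h.t67 ?_).symm
  rw [h.cast67, h.cast4]
  ring

theorem c5P : N₅.Coprime (N₁ * N₂ * (N₃ * N₄)) := by
  refine cop3 (x := 3 * (1 - (2 * b ^ 2 - 2) * (2 * b ^ 2) * (2 * b ^ 2 + 1))) (y := 2 * b ^ 2 - 2) h.t5 ?_
  rw [h.cast4]
  linear_combination (1 - (2 * b ^ 2 - 2) * (2 * b ^ 2) * (2 * b ^ 2 + 1)) * h.h5

theorem c567 : N₅.Coprime (N₆ * N₇) := by
  refine cop2 (x := 3 * (2 - (2 * b ^ 2) * ((2 * b ^ 2) ^ 2 + 2 * b ^ 2 - 1))) (y := 2 * b ^ 2) h.o5 ?_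
  rw [h.cast67]
  linear_combination (2 - (2 * b ^ 2) * ((2 * b ^ 2) ^ 2 + 2 * b ^ 2 - 1)) * h.h5

theorem cP5 : (N₁ * N₂ * (N₃ * N₄)).Coprime N₅ := h.c5P.symm
theorem cP6 : (N₁ * N₂ * (N₃ * N₄)).Coprime N₆ := h.cP67.coprime_mul_right_right
theorem cP7 : (N₁ * N₂ * (N₃ * N₄)).Coprime N₇ := h.cP67.coprime_mul_left_right
theorem c56 : N₅.Coprime N₆ := h.c567.coprime_mul_right_right
theorem c57 : N₅.Coprime N₇ := h.c567.coprime_mul_left_right

theorem dvd4 {M : ℕ} (d1 : N₁ ∣ M) (d2 : N₂ ∣ M) (d3 : N₃ ∣ M) (d4 : N₄ ∣ M) : N₁ * N₂ * (N₃ * N₄) ∣ M :=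
  h.c1234.mul_dvd_of_dvd_of_dvd (h.c12.mul_dvd_of_dvd_of_dvd d1 d2) (h.c34.mul_dvd_of_dvd_of_dvd d3 d4)

/-- what is coprime to the product is coprime to the factors -/
theorem of4 {x : ℕ} (hx : (N₁ * N₂ * (N₃ * N₄)).Coprime x) :
    N₁.Coprime x ∧ N₂.Coprime x ∧ N₃.Coprime x ∧ N₄.Coprime x :=
  ⟨hx.coprime_mul_right.coprime_mul_right, hx.coprime_mul_right.coprime_mul_left,
    hx.coprime_mul_left.coprime_mul_right, hx.coprime_mul_left.coprime_mul_left⟩

/-- **The contradiction for large `b`.** -/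
theorem final (hb : 16 ≤ b) (P : Pow5 q) (hle : ((q ^ 2 - q + 1 : ℕ) : ℤ) ≤ 3 * N₆) {U V : ℕ}
    (hPU : (N₁ * N₂ * (N₃ * N₄)).Coprime U) (hPV : (N₁ * N₂ * (N₃ * N₄)).Coprime V) (hUV : U.Coprime V)
    (d1 : N₁ ∣ W q) (d2 : N₂ ∣ W q) (d3 : N₃ ∣ W q) (d4 : N₄ ∣ W q) (dU : U ∣ W q) (dV : V ∣ W q)
    (hU : 4 * b ^ 4 - 2 * b ^ 2 + 1 ≤ 3 * (U : ℤ)) (hV : (N₇ : ℤ) ≤ V) : False := by
  have h1 : N₁ * N₂ * (N₃ * N₄) * (U * V) ∣ W q :=
    (hPU.mul_right hPV).mul_dvd_of_dvd_of_dvd (h.dvd4 d1 d2 d3 d4) (hUV.mul_dvd_of_dvd_of_dvd dU dV)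
  have h2 := Nat.le_of_dvd (W_pos P) h1
  have hv : 512 ≤ 2 * b ^ 2 := by nlinarith only [hb]
  have h3 := size hb P.le (N := N₆) h.h6.le hle
  refine big hv h3 (P := N₁ * N₂ * (N₃ * N₄) * (U * V)) (X := U * V) ?_ ?_ h2
  · rw [Nat.cast_mul, h.cast4]
  · have e7 : 15 * (2 * b ^ 2) ^ 2 ≤ 16 * (V : ℤ) := by
      have e2 : 16 * b ≤ b ^ 2 := by nlinarith only [hv]
      have e3 : 16 * b ^ 2 ≤ b ^ 3 := by linarith only [mul_nonneg (sq_nonneg b) (by linarith : (0 : ℤ) ≤ b - 16)]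
      have e4 : 16 * b ^ 3 ≤ b ^ 4 := by
        linarith only [mul_nonneg (pow_nonneg (by linarith : (0 : ℤ) ≤ b) 3) (by linarith : (0 : ℤ) ≤ b - 16)]
      have e5 : (2 * b ^ 2) ^ 2 = 4 * b ^ 4 := by ring
      rw [e5]
      have := h.h7
      linarith only [hV, hv, e2, e4, this]
    have e0 : (2 * b ^ 2) ^ 2 - 2 * b ^ 2 + 1 ≤ 3 * (U : ℤ) := by
      have : (2 * b ^ 2) ^ 2 = 4 * b ^ 4 := by ring
      rw [this]; exact hU
    have e6 : (0 : ℤ) ≤ (2 * b ^ 2) ^ 2 - 2 * b ^ 2 + 1 := by nlinarith only []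
    have e8 := mul_le_mul e7 e0 e6 (by (clear * -; positivity))
    push_cast
    linarith only [e8]

end Nums

end Cfsg.Agent.H228.Six
end

-- part: H228/Six/TwF
section
/-!
# Elimination of `²F₄(v)`, `q = 5 ^ m` (helper228, block 6)

* `tf4'` : `Iso2F4 S → E5 q S → False`;
* `tf4` : the row.
-/

set_option autoImplicit false
set_option linter.unusedSectionVars false

namespace Cfsg.Agent.H228.Six

open Cfsg Cfsg.Lie Cfsg.Agent.H376.Six Cfsg.Agent.H60.Six5 Cfsg.Agent.H129 Cfsg.Agent.H129.CycT Cfsg.Agent.H129.CycCard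
open Cfsg.Agent.H493.PGF4T Cfsg.Agent.H378.TwRowsF Cfsg.Agent.H94.PG Cfsg.Agent.H436

universe u

variable {q : ℕ}

/-- The order of an element whose order is divisible by `r` divides the order of the torus. -/
theorem cent_dvd {G : Type*} [Group G] [Finite G] {r m d : ℕ} (hr : r.Prime) (h : CycCard G r m d) {x : G}
    (hx : r ∣ orderOf x) : orderOf x ∣ m := by
  obtain ⟨T, h1, h2, -, h4, h5⟩ := h
  obtain ⟨c, hc⟩ := hx
  have hc0 : c ≠ 0 := by
    rintro rfl
    rw [mul_zero] at hc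
    exact (orderOf_pos x).ne' hc
  have hy : orderOf (x ^ c) = r := by
    rw [orderOf_pow_of_dvd hc0 (by rw [hc]; exact Dvd.intro_left _ rfl), hc,
      Nat.mul_div_cancel _ (Nat.pos_of_ne_zero hc0)]
  obtain ⟨g, -, hg⟩ := centralizer_conj h1 hr h4 h5 hy
  have h6 : x ∈ Subgroup.centralizer ({x ^ c} : Set G) := by
    rw [Subgroup.mem_centralizer_singleton_iff, ← pow_succ, ← pow_succ']
  have h7 := (hg x).1 h6
  have h8 : orderOf (g * x * g⁻¹) = orderOf x :=
    orderOf_injective (MulAut.conj g).toMonoidHom (MulAut.conj g).injective x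
  rw [← h8]
  exact (Subgroup.orderOf_dvd_natCard T h7).trans h2

/-- The primes of `am q` are not adjacent to two. -/
theorem not_adj {S : Type u} [Group S] (h : E5 q S) {s : ℕ} (hs : s ∣ am q) : ¬ Adj S s 2 := by
  rintro ⟨hsp, -, hs2, x, y, hx, hy, hxy⟩
  have P := pow5 h.pow
  have hc : Nat.Coprime (orderOf x) (orderOf y) := by
    rw [hx, hy]
    exact (Nat.coprime_primes hsp Nat.prime_two).2 hs2
  have h1 := hxy.orderOf_mul_eq_mul_orderOf_of_coprime hc
  rw [hx, hy] at h1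
  have h2 := dvd_B P hsp hs (dvd_mul_right s 2) (h.ub' ⟨_, h1⟩)
  have h3 : 2 ∣ (q ^ 3 + 1) / 2 := (dvd_mul_left 2 s).trans h2
  have h4 := P.B
  have h5 := four_dvd P
  omega

/-- the values for `m ≤ 3` -/
theorem small_val {b : ℤ} {N₁ N₂ N₃ N₄ N₅ N₆ N₇ : ℕ} (h : Nums b N₁ N₂ N₃ N₄ N₅ N₆ N₇) (hb : b = 2 ∨ b = 4 ∨ b = 8) :
    3 * N₅ ∈ [57, 109, 37, 993, 1321, 793, 16257, 18577, 14449] ∧
    N₆ ∈ [57, 109, 37, 993, 1321, 793, 16257, 18577, 14449] ∧
    N₇ ∈ [57, 109, 37, 993, 1321, 793, 16257, 18577, 14449] := by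
  have h5 := h.h5
  have h6 := h.h6
  have h7 := h.h7
  simp only [List.mem_cons, List.not_mem_nil, or_false]
  rcases hb with rfl | rfl | rfl <;> norm_num only [] at h5 h6 h7 <;> refine ⟨?_, ?_, ?_⟩ <;> (clear * - h5 h6 h7; omega)

section

variable {K : Type u} [Field K] [Fintype K] {m : ℕ} (hm : 1 ≤ m) (hK : Fintype.card K = 2 ^ (2 * m + 1))

include hK

theorem exists_775 (hm : m = 2) : ∃ g : ↥(twistedF4 K (2 ^ m)), orderOf g = 775 := by
  subst hm
  refine H371.Core.TwF4.exists_orderOf (m := 2) hK hA chainC_ok (Th := ThC) hThC (by norm_num) (by norm_num)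
    (L := ![-4, -124, 31, -32]) (U := ![0, 0, 0, -1]) ?_ ?_
  · decide +kernel
  · rw [show ((775 : ℕ) : ℤ) = 775 from rfl,
      show (∑ i, (![0, 0, 0, -1] : Fin 4 → ℤ) i * (![-4, -124, 31, -32] : Fin 4 → ℤ) i) = 32 by decide]
    exact ⟨-9, 218, by norm_num⟩

/-- No element of order 25. -/
theorem no_25 (hm : 1 ≤ m) (h : E5 q ↥(twistedF4 K (2 ^ m))) : ¬ ∃ x : ↥(twistedF4 K (2 ^ m)), orderOf x = 25 := by
  rintro ⟨x, hx⟩
  have P := pow5 h.pow
  have hv : Fintype.card K ^ 2 + 1 = (2 * (2 ^ m) ^ 2) ^ 2 + 1 := by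
    rw [hK]
    ring
  have hb : (2 : ℤ) ≤ 2 ^ m := by
    calc (2 : ℤ) = 2 ^ 1 := by norm_num
      _ ≤ 2 ^ m := pow_le_pow_right₀ (by norm_num) hm
  -- `5 ∣ v² + 1`
  have h5 : (5 : ℤ) ∣ ((Fintype.card K : ℕ) : ℤ) ^ 2 + 1 := by
    have h1 : (((Fintype.card K : ℕ) : ℤ) ^ 2 + 1 : ℤ) = 4 * 16 ^ m + 1 := by
      rw [hK]
      push_cast
      have e : ((2 : ℤ) ^ (2 * m + 1)) ^ 2 = 4 * (2 ^ 4) ^ m := by
        rw [← pow_mul, ← pow_mul]
        rw [show (2 * m + 1) * 2 = 4 * m + 2 by ring, pow_add]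
        ring
      rw [e]; norm_num
    rw [h1]
    have h2 : (16 : ℤ) ^ m ≡ 1 [ZMOD 5] := by
      have : (16 : ℤ) ^ m ≡ 1 ^ m [ZMOD 5] := Int.ModEq.pow m (by decide)
      simpa using this
    have h3 : (4 * 16 ^ m + 1 : ℤ) ≡ 4 * 1 + 1 [ZMOD 5] := Int.ModEq.add_right 1 (Int.ModEq.mul_left 4 h2)
    exact (Int.modEq_zero_iff_dvd).1 (h3.trans (by decide))
  have h25 : 25 ∣ Fintype.card K ^ 2 + 1 := by
    rw [← hx]
    refine H659.TwF4Ord.dvd_four hK fun s hs hsx => ?_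
    rw [hx] at hsx
    have : s = 5 := (Nat.prime_dvd_prime_iff_eq hs Nat.prime_five).1
      (hs.dvd_of_dvd_pow (show s ∣ 5 ^ 2 by norm_num; exact hsx))
    rw [this]
    exact_mod_cast h5
  obtain ⟨A, hA1⟩ := Int.eq_ofNat_of_zero_le (show 0 ≤ fp (2 ^ m) by unfold fp; positivity)
  obtain ⟨C, hC1⟩ := Int.eq_ofNat_of_zero_le (show 0 ≤ fm (2 ^ m) by unfold fm; nlinarith only [hb])
  have gA := H371.Core.TwF4.exists_cert hK chainB_ok hThB certB_fp (N := A) hA1.symm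
  have gC := H371.Core.TwF4.exists_cert hK chainC_ok hThC certC_fm (N := C) hC1.symm
  unfold fp at hA1
  unfold fm at hC1
  have hAo : A % 2 = 1 := by
    have e : (2 * (2 ^ m) ^ 2 + 2 * 2 ^ m + 1 : ℤ) = 2 * ((2 ^ m) ^ 2 + 2 ^ m) + 1 := by ring
    rw [e] at hA1
    omega
  have hcop : A.Coprime C := cop2 (x := 1 - 2 ^ m) (y := 1 + 2 ^ m) hAo (by rw [← hA1, ← hC1]; ring)
  have hAC : Fintype.card K ^ 2 + 1 = A * C := by
    rw [hv]
    have : (((2 * (2 ^ m) ^ 2) ^ 2 + 1 : ℕ) : ℤ) = ((A * C : ℕ) : ℤ) := by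
      push_cast
      rw [← hA1, ← hC1]
      ring
    exact_mod_cast this
  rw [hAC] at h25
  have h25' : 25 ∣ A ∨ 25 ∣ C := by
    have h1 : 5 ∣ A * C := (by norm_num : (5 : ℕ) ∣ 25).trans h25
    rcases (Nat.prime_five.dvd_mul).1 h1 with h2 | h2
    · left
      have h3 : Nat.Coprime 25 C := by
        have h4 : Nat.Coprime 5 C := by
          rw [Nat.prime_five.coprime_iff_not_dvd]
          intro h5
          have := Nat.dvd_gcd h2 h5
          rw [hcop] at this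
          norm_num at this
        exact Nat.Coprime.pow_left 2 h4
      exact h3.dvd_of_dvd_mul_right h25
    · right
      have h3 : Nat.Coprime 25 A := by
        have h4 : Nat.Coprime 5 A := by
          rw [Nat.prime_five.coprime_iff_not_dvd]
          intro h5
          have := Nat.dvd_gcd h5 h2
          rw [hcop] at this
          norm_num at this
        exact Nat.Coprime.pow_left 2 h4
      exact h3.dvd_of_dvd_mul_left h25
  rcases h25' with h1 | h1
  · have h2 := eq_25 P h1 (h.ub' gA)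
    rw [h2] at hA1
    generalize hbb : (2 : ℤ) ^ m = b at *
    have h3 : b * b + b = 12 := by push_cast at hA1; linarith only [hA1]
    have h4 : b = 3 := by nlinarith only [hb, h3]
    rw [h4] at hbb
    have h6 : (2 : ℤ) ∣ 3 := by rw [← hbb]; exact dvd_pow_self 2 (by omega)
    norm_num at h6
  · have h2 := eq_25 P h1 (h.ub' gC)
    rw [h2] at hC1
    have hm2 : m = 2 := by
      generalize hbb : (2 : ℤ) ^ m = b at *
      have h3 : b * b - b = 12 := by push_cast at hC1; linarith only [hC1]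
      have h4 : b = 4 := by nlinarith only [hb, h3]
      rw [h4] at hbb
      have h6 : 2 ^ m = 2 ^ 2 := by
        have : ((2 ^ m : ℕ) : ℤ) = 4 := by push_cast; exact hbb
        exact_mod_cast this
      exact Nat.pow_right_injective (le_refl 2) h6
    have h3 := eq_25 P (by norm_num) (h.ub' (exists_775 hK hm2))
    norm_num at h3

theorem core (hm : 1 ≤ m) (h : E5 q ↥(twistedF4 K (2 ^ m))) : False := by
  have P := pow5 h.pow
  have hq := P.le
  obtain ⟨y, hy⟩ : ∃ y : ↥(twistedF4 K (2 ^ m)), orderOf y = am q := by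
    rcases h.five with ⟨-, h1, -⟩ | h1
    · exact h1
    · exact absurd h1 (no_25 hK hm h)
  obtain ⟨s, hs, hsa⟩ := exists_am P
  obtain ⟨hs2, hs3, -⟩ := am_ne (q := q) (by omega) hs hsa
  have hadj : ¬ Adj ↥(twistedF4 K (2 ^ m)) s 2 := not_adj h hsa
  have hsy : s ∣ orderOf y := by rw [hy]; exact hsa
  have hsS : s ∣ Nat.card ↥(twistedF4 K (2 ^ m)) := hsy.trans (orderOf_dvd_natCard y)
  rw [Cfsg.Agent.S1068.result hK] at hsS
  have hb : (2 : ℤ) ≤ 2 ^ m := by
    calc (2 : ℤ) = 2 ^ 1 := by norm_num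
      _ ≤ 2 ^ m := pow_le_pow_right₀ (by norm_num) hm
  have hcK := cast_card hK
  have to_nat : ∀ {n : ℕ} {z : ℤ}, (s : ℤ) ∣ z → z ∣ (n : ℤ) → s ∣ n := fun h1 h2 =>
    Int.natCast_dvd_natCast.1 (h1.trans h2)
  -- the numbers
  obtain ⟨N₁, e1⟩ := Int.eq_ofNat_of_zero_le (show 0 ≤ f1 (2 ^ m) by unfold f1; nlinarith only [hb])
  obtain ⟨N₂, e2⟩ := Int.eq_ofNat_of_zero_le (show 0 ≤ f2 (2 ^ m) by unfold f2; positivity)
  obtain ⟨N₃, e3⟩ := Int.eq_ofNat_of_zero_le (show 0 ≤ fp (2 ^ m) by unfold fp; positivity)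
  obtain ⟨N₄, e4⟩ := Int.eq_ofNat_of_zero_le (show 0 ≤ fm (2 ^ m) by unfold fm; nlinarith only [hb])
  obtain ⟨M₅, e5⟩ := Int.eq_ofNat_of_zero_le (show 0 ≤ f6 (2 ^ m) by
    unfold f6; linarith only [sq_nonneg ((2 : ℤ) * (2 ^ m) ^ 2 - 1), _root_.sq_nonneg (2 ^ m : ℤ), _root_.sq_nonneg (2 * (2 ^ m) ^ 2 - 1 : ℤ)])
  obtain ⟨N₆, e6⟩ := Int.eq_ofNat_of_zero_le (show 0 ≤ fP (2 ^ m) by unfold fP; positivity)
  obtain ⟨N₇, e7⟩ := Int.eq_ofNat_of_zero_le (show 0 ≤ fM (2 ^ m) by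
    unfold fM
    nlinarith only [pow_pos (by linarith : (0 : ℤ) < 2 ^ m) 3, mul_pos (pow_pos (by linarith : (0 : ℤ) < 2 ^ m) 3) (by linarith : (0 : ℤ) < 2 ^ m - 1)])
  have g1 := H371.Core.TwF4.exists_cert hK chainA_ok hThA certA_f1 (N := N₁) e1.symm
  have g2 := H371.Core.TwF4.exists_cert hK chainA_ok hThA certA_f2 (N := N₂) e2.symm
  have g3 := H371.Core.TwF4.exists_cert hK chainB_ok hThB certB_fp (N := N₃) e3.symm
  have g4 := H371.Core.TwF4.exists_cert hK chainC_ok hThC certC_fm (N := N₄) e4.symm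
  have g5 := H371.Core.TwF4.exists_cert hK chainD_ok hThD certD_f6 (N := M₅) e5.symm
  have g6 := H371.Core.TwF4.exists_cert hK chainEp_ok hThEp certEp_fP (N := N₆) e6.symm
  have g7 := H371.Core.TwF4.exists_cert hK chainEm_ok hThEm certEm_fM (N := N₇) e7.symm
  -- three divides
  have h3 : 3 ∣ M₅ := by
    apply Int.natCast_dvd_natCast.1
    rw [show ((M₅ : ℕ) : ℤ) = f6 (2 ^ m) from e5.symm]
    exact (H493.PGF4T.three_dvd m).2
  obtain ⟨N₅, rfl⟩ := h3
  have g5' : ∃ x : ↥(twistedF4 K (2 ^ m)), orderOf x = N₅ := by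
    obtain ⟨x, hx⟩ := g5
    refine ⟨x ^ 3, ?_⟩
    rw [orderOf_pow_of_dvd (by norm_num) (by rw [hx]; exact dvd_mul_right 3 _), hx]
    omega
  have hN : Nums (2 ^ m) N₁ N₂ N₃ N₄ N₅ N₆ N₇ := by
    refine ⟨?_, ?_, ?_, ?_, ?_, ?_, ?_⟩
    · exact e1.symm
    · exact e2.symm
    · exact e3.symm
    · exact e4.symm
    · have := e5
      rw [show ((3 * N₅ : ℕ) : ℤ) = 3 * (N₅ : ℤ) by push_cast; ring] at this
      exact this.symm
    · exact e6.symm
    · exact e7.symm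
  have hbs : ((2 : ℤ) ^ m = 2 ∨ (2 : ℤ) ^ m = 4 ∨ (2 : ℤ) ^ m = 8) ∨ 16 ≤ (2 : ℤ) ^ m := by
    rcases (show m = 1 ∨ m = 2 ∨ m = 3 ∨ 4 ≤ m by omega) with rfl | rfl | rfl | h4
    · left; left; norm_num
    · left; right; left; norm_num
    · left; right; right; norm_num
    · right
      calc (16 : ℤ) = 2 ^ 4 := by norm_num
        _ ≤ 2 ^ m := pow_le_pow_right₀ (by norm_num) h4
  have ham := three_am (q := q) (by omega)
  -- the sizes
  have hle6 : 4 * ((2 : ℤ) ^ m) ^ 4 - 2 * (2 ^ m) ^ 2 + 1 ≤ N₆ := by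
    rw [hN.h6]
    have : (0 : ℤ) ≤ 4 * (2 ^ m) ^ 3 + 4 * (2 ^ m) ^ 2 + 2 * 2 ^ m := by positivity
    linarith only [this]
  have hle7 : (N₇ : ℤ) ≤ N₆ := by
    rw [hN.h6, hN.h7]
    have : (0 : ℤ) ≤ 8 * (2 ^ m) ^ 3 + 4 * 2 ^ m := by positivity
    linarith only [this]
  have hsize : ∀ {F : ℕ}, 0 < F → am q ∣ F → (F : ℤ) ≤ N₆ → ((q ^ 2 - q + 1 : ℕ) : ℤ) ≤ 3 * N₆ := by
    intro F hF0 hF hF6
    have h1 := Nat.le_of_dvd hF0 hF
    have h2 : ((q ^ 2 - q + 1 : ℕ) : ℤ) ≤ 3 * (am q : ℤ) := by exact_mod_cast ham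
    have h4 : (am q : ℤ) ≤ F := by exact_mod_cast h1
    linarith only [hF6, h1, h2]
  have hpos5 : 0 < 3 * N₅ := by have := hN.o5; (clear * - this; omega)
  have hpos6 : 0 < N₆ := by have := hN.o6; omega
  have hpos7 : 0 < N₇ := by have := hN.o7; omega
  rcases cover hs hsS with (h1 | h1 | h1 | h1 | h1 | h1) | h1 | h1
  · exact hs2 h1
  · exact hadj (adj_minus hK hs hs2 h1)
  · refine hadj (adj_plus hK hs hs2 (to_nat h1 ?_))
    push_cast
    rw [hcK]
    exact ⟨1, by unfold f2; ring⟩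
  · refine hadj (adj_sq hK hs hs2 (to_nat h1 ?_))
    push_cast
    rw [hcK]
    exact ⟨fm (2 ^ m), by unfold fp fm; ring⟩
  · refine hadj (adj_sq hK hs hs2 (to_nat h1 ?_))
    push_cast
    rw [hcK]
    exact ⟨fp (2 ^ m), by unfold fp fm; ring⟩
  · -- `v² - v + 1`
    have h2 : am q ∣ 3 * N₅ := by
      rw [← hy]
      refine cent_dvd hs (card_tF4_6 hK (N := 3 * N₅) ?_ hs ?_ hs3) hsy
      · rw [show ((3 * N₅ : ℕ) : ℤ) = f6 (2 ^ m) from e5.symm]; unfold f6; ring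
      · have e : (1 - 2 * (2 ^ m) ^ 2 + 4 * (2 ^ m) ^ 4 : ℤ) = f6 (2 ^ m) := by unfold f6; ring
        rw [e]; exact h1
    rcases hbs with h4 | h4
    · exact small P (small_val hN h4).1 h2
    · have h5 : am q ∣ N₅ := by
        refine Nat.Coprime.dvd_of_dvd_mul_left ?_ h2
        exact ((Nat.Prime.coprime_iff_not_dvd Nat.prime_three).2 (am_spec (q := q) (by omega)).2).symm
      obtain ⟨c1, c2, c3, c4⟩ := hN.of4 hN.cP5
      refine hN.final h4 P (hsize hpos5 h2 ?_) hN.cP6 hN.cP7 hN.c67 (dvd_W P hN.o1 (c1.coprime_dvd_right h5) (h.ub' g1))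
        (dvd_W P hN.o2 (c2.coprime_dvd_right h5) (h.ub' g2)) (dvd_W P hN.o3 (c3.coprime_dvd_right h5) (h.ub' g3))
        (dvd_W P hN.o4 (c4.coprime_dvd_right h5) (h.ub' g4))
        (dvd_W P hN.o6 (hN.c56.symm.coprime_dvd_right h5) (h.ub' g6))
        (dvd_W P hN.o7 (hN.c57.symm.coprime_dvd_right h5) (h.ub' g7)) ?_ le_rfl
      · push_cast; rw [hN.h5]; exact hle6
      · have : (0 : ℤ) ≤ N₆ := Int.natCast_nonneg _
        linarith only [hle6]
  · have h2 : am q ∣ N₆ := by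
      rw [← hy]
      refine cent_dvd hs (card_tF4_plus hK (N := N₆) ?_ hs ?_) hsy
      · rw [hN.h6]; ring
      · have e : (1 + 2 * (2 ^ m) + 2 * (2 ^ m) ^ 2 + 4 * (2 ^ m) ^ 3 + 4 * (2 ^ m) ^ 4 : ℤ) = fP (2 ^ m) := by
          unfold fP; ring
        rw [e]; exact h1
    rcases hbs with h4 | h4
    · exact small P (small_val hN h4).2.1 h2
    · obtain ⟨c1, c2, c3, c4⟩ := hN.of4 hN.cP6
      refine hN.final h4 P (hsize hpos6 h2 le_rfl) hN.cP5 hN.cP7 hN.c57 (dvd_W P hN.o1 (c1.coprime_dvd_right h2) (h.ub' g1))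
        (dvd_W P hN.o2 (c2.coprime_dvd_right h2) (h.ub' g2)) (dvd_W P hN.o3 (c3.coprime_dvd_right h2) (h.ub' g3))
        (dvd_W P hN.o4 (c4.coprime_dvd_right h2) (h.ub' g4))
        (dvd_W P hN.o5 (hN.c56.coprime_dvd_right h2) (h.ub' g5'))
        (dvd_W P hN.o7 (hN.c67.symm.coprime_dvd_right h2) (h.ub' g7)) hN.h5.ge le_rfl
  · have h2 : am q ∣ N₇ := by
      rw [← hy]
      refine cent_dvd hs (card_tF4_minus hK (N := N₇) ?_ hs ?_) hsy
      · rw [hN.h7]; ring
      · have e : (1 - 2 * (2 ^ m) + 2 * (2 ^ m) ^ 2 - 4 * (2 ^ m) ^ 3 + 4 * (2 ^ m) ^ 4 : ℤ) = fM (2 ^ m) := by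
          unfold fM; ring
        rw [e]; exact h1
    rcases hbs with h4 | h4
    · exact small P (small_val hN h4).2.2 h2
    · obtain ⟨c1, c2, c3, c4⟩ := hN.of4 hN.cP7
      refine hN.final h4 P (hsize hpos7 h2 hle7) hN.cP5 hN.cP6 hN.c56 (dvd_W P hN.o1 (c1.coprime_dvd_right h2) (h.ub' g1))
        (dvd_W P hN.o2 (c2.coprime_dvd_right h2) (h.ub' g2)) (dvd_W P hN.o3 (c3.coprime_dvd_right h2) (h.ub' g3))
        (dvd_W P hN.o4 (c4.coprime_dvd_right h2) (h.ub' g4))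
        (dvd_W P hN.o5 (hN.c57.coprime_dvd_right h2) (h.ub' g5'))
        (dvd_W P hN.o6 (hN.c67.coprime_dvd_right h2) (h.ub' g6)) hN.h5.ge hle7

end

/-- **The row.** -/
theorem tf4 {q w : ℕ} {S : Type u} [Group S] (hS : IsNamed (.tf4 w) S) (h : E5 q S) : False := by
  obtain ⟨K, _, _, m, hm, hK, hw, ⟨e⟩⟩ := hS.real
  exact core (hK.trans hw) hm (E5.congr e h)

end Cfsg.Agent.H228.Six
end

-- part: H75/M5hSix
section
/-!
# Numbers for `E₆(v)`, `²E₆(v)` in BLOCK 6 (helper75, task 2625)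

`x = v` for `E₆(v)`, `x = -v` for `²E₆(v)`.

* `p3`, `p5`, `p8`, `p9`, `p12`, `tx` : values of (products of) cyclotomic polynomials at `x`;
* `prod_a`, `prod_b` : their product divides a small multiple of a common multiple;
* `num6` : the contradiction.
-/

set_option autoImplicit false
set_option linter.unusedVariables false
set_option linter.unusedSimpArgs false

namespace Cfsg.Agent.H75.M5h

open Cfsg.Agent.H376.Six

def p3 (x : ℤ) : ℤ := x ^ 2 + x + 1
def p5 (x : ℤ) : ℤ := x ^ 4 + x ^ 3 + x ^ 2 + x + 1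
def p8 (x : ℤ) : ℤ := x ^ 4 + 1
def p9 (x : ℤ) : ℤ := x ^ 6 + x ^ 3 + 1
def p12 (x : ℤ) : ℤ := x ^ 4 - x ^ 2 + 1
def tx (x : ℤ) : ℤ := (x ^ 4 - 1) * (x ^ 2 - x + 1)

theorem s8 (x : ℤ) : ∃ a b : ℤ, a * (tx x) + b * p8 x = 2 :=
  ⟨x^3 + x^2 - 1,
    -x^5 + x + 1, by
      simp only [tx, p3, p5, p8, p9, p12]; ring⟩

theorem s5 (x : ℤ) : ∃ a b : ℤ, a * (tx x * p8 x) + b * p5 x = 5 :=
  ⟨-2*x^3 - 4*x^2 - 6*x - 3,
    2*x^9 + 2*x^7 - 3*x^6 + 2*x^5 + 2*x^4 - 3*x^3 + 2*x^2 - 5*x + 2, by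
      simp only [tx, p3, p5, p8, p9, p12]; ring⟩

theorem s12 (x : ℤ) : ∃ a b : ℤ, a * (tx x * p8 x * p5 x) + b * p12 x = 6 :=
  ⟨-x^3 + 3*x^2 - x,
    x^13 - 3*x^12 + 3*x^11 - 5*x^10 + x^9 - 4*x^8 - 2*x^6 - x^5 + 5*x^4 - 3*x^3 + 9*x^2 - x + 6, by
      simp only [tx, p3, p5, p8, p9, p12]; ring⟩

theorem s3 (x : ℤ) : ∃ a b : ℤ, a * (tx x * p8 x * p5 x * p12 x) + b * p3 x = 12 :=
  ⟨2*x + 1,
    -2*x^17 + x^16 + x^15 - 4*x^14 + 5*x^12 - 6*x^11 - 2*x^10 + 9*x^9 - 6*x^8 - 5*x^7 + 12*x^6 - 4*x^5 - 9*x^4 + 14*x^3 - 2*x^2 - 11*x + 13, by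
      simp only [tx, p3, p5, p8, p9, p12]; ring⟩

theorem s9 (x : ℤ) : ∃ a b : ℤ, a * (tx x * p8 x * p5 x * p12 x * p3 x) + b * p9 x = 3 :=
  ⟨-x^5 + x^2,
    x^19 + x^18 + x^17 - x^16 - x^14 - 2*x^12 + x^9 - x^7 - x^5 + x^4 - 2*x^3 + x^2 + 3, by
      simp only [tx, p3, p5, p8, p9, p12]; ring⟩


theorem bez_mul {X Y N g : ℤ} (h : ∃ a b : ℤ, a * X + b * Y = g) (hX : X ∣ N) (hY : Y ∣ N) : X * Y ∣ g * N := by
  obtain ⟨a, b, h⟩ := h
  obtain ⟨m, hm⟩ := hX
  obtain ⟨n, hn⟩ := hY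
  refine ⟨a * n + b * m, ?_⟩
  calc g * N = a * X * N + b * Y * N := by rw [← h]; ring
    _ = a * X * (Y * n) + b * Y * (X * m) := by
      nth_rewrite 1 [hn]; rw [hm]
    _ = _ := by ring

theorem bez_red {X Y g h : ℤ} (h1 : ∃ a b : ℤ, a * X + b * Y = g * h) (hY : ∃ c, Y = h * c + 1) :
    ∃ a b : ℤ, a * X + b * Y = g := by
  obtain ⟨a, b, h1⟩ := h1
  obtain ⟨c, hc⟩ := hY
  refine ⟨-(c * a), g - c * b, ?_⟩
  linear_combination -c * h1 + g * hc

theorem six_dvd (x : ℤ) : ∃ c, x * (x ^ 2 - 1) = 6 * c := by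
  have h2 : (2 : ℤ) ∣ x * (x ^ 2 - 1) := by
    rw [Int.dvd_iff_emod_eq_zero]
    have : x % 2 = 0 ∨ x % 2 = 1 := by omega
    rcases this with h | h <;> simp only [Int.mul_emod, Int.sub_emod, pow_two, h, _root_.MulZeroClass.mul_zero, _root_.EuclideanDomain.zero_mod, _root_.Int.one_emod_two, _root_.zero_sub, _root_.Int.reduceNeg, _root_.Int.neg_emod_two, _root_.mul_one, _root_.sub_self]
  have h3 : (3 : ℤ) ∣ x * (x ^ 2 - 1) := by
    rw [Int.dvd_iff_emod_eq_zero]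
    have : x % 3 = 0 ∨ x % 3 = 1 ∨ x % 3 = 2 := by omega
    rcases this with h | h | h <;> simp only [Int.mul_emod, Int.sub_emod, pow_two, h, _root_.MulZeroClass.mul_zero, _root_.EuclideanDomain.zero_mod, _root_.Int.reduceMod, _root_.zero_sub, _root_.Int.reduceNeg, _root_.MulZeroClass.zero_mul, _root_.mul_one, _root_.sub_self, _root_.Int.reduceMul]
  have h6 : (6 : ℤ) ∣ x * (x ^ 2 - 1) := by omega
  exact h6

theorem p12_six (x : ℤ) : ∃ c, p12 x = 6 * c + 1 := by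
  obtain ⟨c, hc⟩ := six_dvd x
  exact ⟨x * c, by simp only [p12]; linear_combination x * hc⟩

theorem bez_unit {X Y g h : ℤ} (h1 : ∃ a b : ℤ, a * X + b * Y = g * h) (hY : IsCoprime Y h) :
    ∃ a b : ℤ, a * X + b * Y = g := by
  obtain ⟨a, b, h1⟩ := h1
  obtain ⟨s, t, hst⟩ := hY
  refine ⟨t * a, g * s + t * b, ?_⟩
  linear_combination t * h1 + g * hst

theorem p3_cop_four (x : ℤ) : IsCoprime (p3 x) 4 := by
  obtain ⟨c, hc⟩ := half x
  have h1 : p3 x = 2 * c + 1 := by simp only [p3]; linear_combination hc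
  have h2 : IsCoprime (p3 x) 2 := ⟨1, -c, by rw [h1]; ring⟩
  have h3 := h2.mul_right h2
  norm_num at h3
  exact h3

theorem cop_three {x : ℤ} (h : ¬ (3 : ℤ) ∣ x - 1) : IsCoprime (p3 x) 3 ∧ IsCoprime (p9 x) 3 := by
  have h1 : x % 3 = 0 ∨ x % 3 = 2 := by omega
  have h3 : p3 x % 3 = 1 := by
    simp only [p3]
    rcases h1 with h | h <;> simp only [Int.add_emod, pow_two, Int.mul_emod, h, _root_.MulZeroClass.mul_zero, _root_.EuclideanDomain.zero_mod, _root_.add_zero, _root_.Int.reduceMod, _root_.zero_add, _root_.Int.reduceMul, _root_.Int.reduceAdd, _root_.EuclideanDomain.mod_self]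
  have h9 : p9 x % 3 = 1 := by
    have : p9 x = x * x * (x * x) * (x * x) + x * x * x + 1 := by simp only [p9]; ring
    rw [this]
    rcases h1 with h | h <;> simp only [Int.add_emod, Int.mul_emod, h, _root_.MulZeroClass.mul_zero, _root_.EuclideanDomain.zero_mod, _root_.add_zero, _root_.Int.reduceMod, _root_.zero_add, _root_.Int.reduceMul, _root_.mul_one, _root_.one_mul, _root_.Int.reduceAdd, _root_.EuclideanDomain.mod_self]
  exact ⟨⟨1, -(p3 x / 3), by omega⟩, ⟨1, -(p9 x / 3), by omega⟩⟩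

/-- the product divides `10 N` -/
theorem prod_a {x N : ℤ} (h : ¬ (3 : ℤ) ∣ x - 1) (ht : tx x ∣ N) (h8 : p8 x ∣ N) (h5 : p5 x ∣ N) (h12 : p12 x ∣ N)
    (h3 : p3 x ∣ N) (h9 : p9 x ∣ N) : tx x * p8 x * p5 x * p12 x * p3 x * p9 x ∣ 10 * N := by
  obtain ⟨k3, k9⟩ := cop_three h
  have e1 := bez_mul (s8 x) ht h8
  have e2 := bez_mul (s5 x) e1 (h5.mul_left 2)
  rw [← mul_assoc] at e2
  norm_num only [] at e2
  have e3 := bez_mul (bez_red (g := 1) (h := 6) (by simpa only [_root_.one_mul] using s12 x) (p12_six x)) e2 (h12.mul_left 10)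
  rw [one_mul] at e3
  have e4 := bez_mul (bez_unit (g := 1) (h := 12) (by simpa only [_root_.one_mul] using s3 x) (by
    have := (p3_cop_four x).mul_right k3
    norm_num at this
    exact this)) e3 (h3.mul_left 10)
  rw [one_mul] at e4
  have e5 := bez_mul (bez_unit (g := 1) (h := 3) (by simpa only [_root_.one_mul] using s9 x) k9) e4 (h9.mul_left 10)
  rwa [one_mul] at e5

/-- the product divides `90 N` -/
theorem prod_b {x N : ℤ} (ht : tx x ∣ N) (h8 : p8 x ∣ N) (h5 : p5 x ∣ N) (h12 : p12 x ∣ N)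
    (h3 : p3 x ∣ N) (h9 : p9 x ∣ N) : tx x * p8 x * p5 x * p12 x * p3 x * p9 x ∣ 90 * N := by
  have e1 := bez_mul (s8 x) ht h8
  have e2 := bez_mul (s5 x) e1 (h5.mul_left 2)
  rw [← mul_assoc] at e2
  norm_num only [] at e2
  have e3 := bez_mul (bez_red (g := 1) (h := 6) (by simpa only [_root_.one_mul] using s12 x) (p12_six x)) e2 (h12.mul_left 10)
  rw [one_mul] at e3
  have e4 := bez_mul (bez_unit (g := 3) (h := 4) (by simpa only [_root_.Int.reduceMul] using s3 x) (p3_cop_four x)) e3 (h3.mul_left 10)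
  rw [← mul_assoc] at e4
  norm_num only [] at e4
  have e5 := bez_mul (s9 x) e4 (h9.mul_left 30)
  rw [← mul_assoc] at e5
  norm_num only [] at e5
  exact e5

/-! ### size -/

section Size

variable {x v : ℤ} (hxv : x = v ∨ x = -v)

include hxv

theorem lo_t3 (hv : 2 ≤ v) : v ^ 8 ≤ tx x * p3 x := by
  have : tx x * p3 x = v ^ 8 + (v ^ 2 * (v ^ 4 - 1) - 1) := by
    rcases hxv with rfl | rfl <;> (simp only [tx, p3]; ring)
  rw [this]
  have h4 : 2 ^ 4 ≤ v ^ 4 := pow_le_pow_left₀ (by norm_num) hv 4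
  have h2 : 2 ^ 2 ≤ v ^ 2 := pow_le_pow_left₀ (by norm_num) hv 2
  nlinarith only [h4]

theorem lo_5 (hv : 2 ≤ v) : v ^ 3 * (v - 1) ≤ p5 x := by
  have h0 : 0 ≤ v := by omega
  rcases hxv with rfl | rfl
  · have : p5 x = x ^ 3 * (x - 1) + (2 * x ^ 3 + x ^ 2 + x + 1) := by simp only [p5]; ring
    rw [this]; linarith only [show 0 ≤ 2 * x ^ 3 + x ^ 2 + x + 1 by positivity]
  · have : p5 (-v) = v ^ 3 * (v - 1) + (v * (v - 1) + 1) := by simp only [p5]; ring
    have h1 : 0 ≤ v - 1 := by omega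
    rw [this]; linarith only [show 0 ≤ v * (v - 1) + 1 by positivity]

theorem eq_8 : p8 x = v ^ 4 + 1 := by
  rcases hxv with rfl | rfl <;> (simp only [p8]; try ring)

theorem lo_12 : v ^ 2 * (v ^ 2 - 1) ≤ p12 x := by
  have : p12 x = v ^ 2 * (v ^ 2 - 1) + 1 := by rcases hxv with rfl | rfl <;> (simp only [p12]; ring)
  omega

theorem up_9 (hv : 2 ≤ v) : p9 x ≤ v ^ 3 * (v ^ 3 + 2) := by
  have h3 : 2 ^ 3 ≤ v ^ 3 := pow_le_pow_left₀ (by norm_num) hv 3
  rcases hxv with rfl | rfl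
  · have : p9 x = x ^ 3 * (x ^ 3 + 2) - (x ^ 3 - 1) := by simp only [p9]; ring
    omega
  · have : p9 (-v) = v ^ 3 * (v ^ 3 + 2) - (3 * v ^ 3 - 1) := by simp only [p9]; ring
    omega

theorem lo_9 (hv : 2 ≤ v) : v ^ 3 * (v ^ 3 - 1) ≤ p9 x := by
  have h3 : 2 ^ 3 ≤ v ^ 3 := pow_le_pow_left₀ (by norm_num) hv 3
  rcases hxv with rfl | rfl
  · have : p9 x = x ^ 3 * (x ^ 3 - 1) + (2 * x ^ 3 + 1) := by simp only [p9]; ring
    omega
  · have : p9 (-v) = v ^ 3 * (v ^ 3 - 1) + 1 := by simp only [p9]; ring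
    omega

theorem big9 (hv : 148 ≤ v) : 21500 * p9 x ^ 4 < tx x * p8 x * p5 x * p12 x * p3 x * p9 x := by
  have hv2 : 2 ≤ v := by omega
  have h0 : 0 < v := by omega
  have h1 : 0 ≤ v - 1 := by omega
  have h2 : 21904 ≤ v ^ 2 := by nlinarith only [hv]
  have h2' : 0 ≤ v ^ 2 - 1 := by omega
  have h3 : 3241792 ≤ v ^ 3 := by
    calc (3241792 : ℤ) = 148 ^ 3 := by norm_num
      _ ≤ v ^ 3 := pow_le_pow_left₀ (by norm_num) hv 3
  have e1 := lo_t3 hxv hv2
  have e2 := lo_5 hxv hv2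
  have e3 : v ^ 4 ≤ p8 x := by rw [eq_8 hxv]; omega
  have e4 := lo_12 hxv
  have e5 := up_9 hxv hv2
  have e6 : 0 < p9 x := lt_of_lt_of_le (by nlinarith only [h3]) (lo_9 hxv hv2)
  have f1 : v ^ 17 * ((v - 1) * (v ^ 2 - 1)) ≤ tx x * p3 x * p5 x * p8 x * p12 x := by
    have := mul5 (a := v ^ 8) (b := v ^ 3 * (v - 1)) (c := v ^ 4) (d := v ^ 2 * (v ^ 2 - 1)) (e := 1)
      (by positivity) (by (clear * - hv h1; positivity)) (by positivity) (by (clear * - hv h2'; positivity)) (by norm_num) e1 e2 e3 e4 (le_refl 1)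
    calc v ^ 17 * ((v - 1) * (v ^ 2 - 1)) = v ^ 8 * (v ^ 3 * (v - 1)) * v ^ 4 * (v ^ 2 * (v ^ 2 - 1)) * 1 := by ring
      _ ≤ _ := this
      _ = _ := by ring
  have f2 : p9 x ^ 3 ≤ (v ^ 3 * (v ^ 3 + 2)) ^ 3 := pow_le_pow_left₀ e6.le e5 3
  have f3 : (1000000 * (v ^ 3 + 2)) ^ 3 ≤ (1000001 * v ^ 3) ^ 3 :=
    pow_le_pow_left₀ (by positivity) (by omega) 3
  have f4 : v * (147 * 21903) ≤ 148 * ((v - 1) * (v ^ 2 - 1)) := by
    have : 147 * v * 21903 ≤ 148 * (v - 1) * (v ^ 2 - 1) :=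
      mul_le_mul (by omega) (by omega) (by norm_num) (by omega)
    linarith
  have f5 : (0 : ℤ) < v ^ 9 := by positivity
  have f6 : 21500 * (v ^ 3 + 2) ^ 3 < v ^ 8 * ((v - 1) * (v ^ 2 - 1)) := by
    have g1 : v ^ 8 * (v * (147 * 21903)) ≤ v ^ 8 * (148 * ((v - 1) * (v ^ 2 - 1))) :=
      mul_le_mul_of_nonneg_left f4 (by positivity)
    have g2 : v ^ 8 * (v * (147 * 21903)) = 3219741 * v ^ 9 := by ring
    have g3 : (1000000 * (v ^ 3 + 2)) ^ 3 = 1000000000000000000 * (v ^ 3 + 2) ^ 3 := by ring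
    have g4 : (1000001 * v ^ 3) ^ 3 = 1000003000003000001 * v ^ 9 := by ring
    have g5 : v ^ 8 * (148 * ((v - 1) * (v ^ 2 - 1))) = 148 * (v ^ 8 * ((v - 1) * (v ^ 2 - 1))) := by ring
    rw [g3, g4] at f3
    rw [g2, g5] at g1
    omega
  have f7 : 21500 * p9 x ^ 3 < tx x * p3 x * p5 x * p8 x * p12 x := by
    calc 21500 * p9 x ^ 3 ≤ 21500 * (v ^ 3 * (v ^ 3 + 2)) ^ 3 := by omega
      _ = v ^ 9 * (21500 * (v ^ 3 + 2) ^ 3) := by ring
      _ < v ^ 9 * (v ^ 8 * ((v - 1) * (v ^ 2 - 1))) := (mul_lt_mul_iff_right₀ f5).2 f6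
      _ = v ^ 17 * ((v - 1) * (v ^ 2 - 1)) := by ring
      _ ≤ _ := f1
  calc 21500 * p9 x ^ 4 = p9 x * (21500 * p9 x ^ 3) := by ring
    _ < p9 x * (tx x * p3 x * p5 x * p8 x * p12 x) := (mul_lt_mul_iff_right₀ e6).2 f7
    _ = _ := by ring

theorem big8 (hv : 5 ≤ v) : 580500 * p8 x ^ 4 < tx x * p8 x * p5 x * p12 x * p3 x * p9 x := by
  have hv2 : 2 ≤ v := by omega
  have h0 : 0 < v := by omega
  have h1 : 0 ≤ v - 1 := by omega
  have h2 : 25 ≤ v ^ 2 := by nlinarith only [hv]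
  have h2' : 0 ≤ v ^ 2 - 1 := by omega
  have h3 : 125 ≤ v ^ 3 := by
    calc (125 : ℤ) = 5 ^ 3 := by norm_num
      _ ≤ v ^ 3 := pow_le_pow_left₀ (by norm_num) hv 3
  have h3' : 0 ≤ v ^ 3 - 1 := by omega
  have h4 : 625 ≤ v ^ 4 := by
    calc (625 : ℤ) = 5 ^ 4 := by norm_num
      _ ≤ v ^ 4 := pow_le_pow_left₀ (by norm_num) hv 4
  have h10 : 9765625 ≤ v ^ 10 := by
    calc (9765625 : ℤ) = 5 ^ 10 := by norm_num
      _ ≤ v ^ 10 := pow_le_pow_left₀ (by norm_num) hv 10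
  have e1 := lo_t3 hxv hv2
  have e2 := lo_5 hxv hv2
  have e4 := lo_12 hxv
  have e5 := lo_9 hxv hv2
  have e6 : p8 x = v ^ 4 + 1 := eq_8 hxv
  have f1 : v ^ 16 * ((v - 1) * (v ^ 2 - 1) * (v ^ 3 - 1)) ≤ tx x * p3 x * p5 x * p12 x * p9 x := by
    have := mul5 (a := v ^ 8) (b := v ^ 3 * (v - 1)) (c := v ^ 2 * (v ^ 2 - 1)) (d := v ^ 3 * (v ^ 3 - 1)) (e := 1)
      (by positivity) (by (clear * - hv h1; positivity)) (by (clear * - hv h2'; positivity)) (by (clear * - hv h3'; positivity)) (by norm_num) e1 e2 e4 e5 (le_refl 1)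
    calc v ^ 16 * ((v - 1) * (v ^ 2 - 1) * (v ^ 3 - 1)) =
          v ^ 8 * (v ^ 3 * (v - 1)) * (v ^ 2 * (v ^ 2 - 1)) * (v ^ 3 * (v ^ 3 - 1)) * 1 := by ring
      _ ≤ _ := this
      _ = _ := by ring
  have f2 : 11904 * v ^ 6 ≤ 15625 * ((v - 1) * (v ^ 2 - 1) * (v ^ 3 - 1)) := by
    have g1 : 4 * v * (24 * v ^ 2) ≤ 5 * (v - 1) * (25 * (v ^ 2 - 1)) :=
      mul_le_mul (by omega) (by omega) (by positivity) (by omega)
    have g2 : 4 * v * (24 * v ^ 2) * (124 * v ^ 3) ≤ 5 * (v - 1) * (25 * (v ^ 2 - 1)) * (125 * (v ^ 3 - 1)) :=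
      mul_le_mul g1 (by omega) (by positivity) (by (clear * - h1 h2'; positivity))
    calc 11904 * v ^ 6 = 4 * v * (24 * v ^ 2) * (124 * v ^ 3) := by ring
      _ ≤ _ := g2
      _ = _ := by ring
  have f3 : (625 * (v ^ 4 + 1)) ^ 3 ≤ (626 * v ^ 4) ^ 3 := pow_le_pow_left₀ (by positivity) (by omega) 3
  have f4 : 580500 * (v ^ 4 + 1) ^ 3 < v ^ 16 * ((v - 1) * (v ^ 2 - 1) * (v ^ 3 - 1)) := by
    have g0 : (0 : ℤ) < v ^ 12 := by positivity
    have g1 : v ^ 16 * (11904 * v ^ 6) ≤ v ^ 16 * (15625 * ((v - 1) * (v ^ 2 - 1) * (v ^ 3 - 1))) :=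
      mul_le_mul_of_nonneg_left f2 (by positivity)
    have g2 : 9765625 * v ^ 12 ≤ v ^ 10 * v ^ 12 := mul_le_mul_of_nonneg_right h10 g0.le
    have g3 : v ^ 16 * (11904 * v ^ 6) = 11904 * (v ^ 10 * v ^ 12) := by ring
    have g4 : v ^ 16 * (15625 * ((v - 1) * (v ^ 2 - 1) * (v ^ 3 - 1))) =
      15625 * (v ^ 16 * ((v - 1) * (v ^ 2 - 1) * (v ^ 3 - 1))) := by ring
    have g5 : (625 * (v ^ 4 + 1)) ^ 3 = 244140625 * (v ^ 4 + 1) ^ 3 := by ring
    have g6 : (626 * v ^ 4) ^ 3 = 245314376 * v ^ 12 := by ring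
    rw [g5, g6] at f3
    rw [g3, g4] at g1
    omega
  have e7 : 0 < p8 x := by rw [e6]; omega
  calc 580500 * p8 x ^ 4 = p8 x * (580500 * (v ^ 4 + 1) ^ 3) := by rw [e6]; ring
    _ < p8 x * (v ^ 16 * ((v - 1) * (v ^ 2 - 1) * (v ^ 3 - 1))) := (mul_lt_mul_iff_right₀ e7).2 f4
    _ ≤ p8 x * (tx x * p3 x * p5 x * p12 x * p9 x) := mul_le_mul_of_nonneg_left f1 e7.le
    _ = _ := by ring

end Size

/-! ### small values -/

theorem small9_aux : ∀ v ∈ List.range 148, ∀ m ∈ List.range 10, v < 2 ∨ m < 1 ∨ v % 5 = 0 ∨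
    ((v ^ 6 + v ^ 3 + 1) % am (5 ^ m) ≠ 0 ∧ (v ^ 6 - v ^ 3 + 1) % am (5 ^ m) ≠ 0) := by
  decide +kernel

theorem small9 {v m : ℕ} (hv : v < 148) (hm : m < 10) (hv2 : 2 ≤ v) (hm1 : 1 ≤ m) (h5 : ¬ 5 ∣ v) :
    ¬ am (5 ^ m) ∣ v ^ 6 + v ^ 3 + 1 ∧ ¬ am (5 ^ m) ∣ v ^ 6 - v ^ 3 + 1 := by
  rcases small9_aux v (List.mem_range.2 hv) m (List.mem_range.2 hm) with h | h | h | ⟨h, h'⟩
  · omega
  · omega
  · exact absurd (Nat.dvd_of_mod_eq_zero h) h5
  · exact ⟨fun hd => h (Nat.mod_eq_zero_of_dvd hd), fun hd => h' (Nat.mod_eq_zero_of_dvd hd)⟩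

theorem small8_aux : ∀ v ∈ List.range 5, ∀ m ∈ List.range 3, v < 2 ∨ m < 1 ∨
    ((v ^ 4 + 1) % am (5 ^ m) ≠ 0 ∧ (v ^ 4 - v ^ 2 + 1) % am (5 ^ m) ≠ 0) := by
  decide +kernel

theorem small8 {v m : ℕ} (hv : v < 5) (hm : m < 3) (hv2 : 2 ≤ v) (hm1 : 1 ≤ m) :
    ¬ am (5 ^ m) ∣ v ^ 4 + 1 ∧ ¬ am (5 ^ m) ∣ v ^ 4 - v ^ 2 + 1 := by
  rcases small8_aux v (List.mem_range.2 hv) m (List.mem_range.2 hm) with h | h | ⟨h, h'⟩
  · omega
  · omega
  · exact ⟨fun hd => h (Nat.mod_eq_zero_of_dvd hd), fun hd => h' (Nat.mod_eq_zero_of_dvd hd)⟩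

theorem am_big {m k : ℕ} (hk : k ≤ m) (hk1 : 1 ≤ k) : 5 ^ (2 * k) ≤ 4 * am (5 ^ m) := by
  have h1 : 5 ^ k ≤ 5 ^ m := Nat.pow_le_pow_right (by norm_num) hk
  have h5 : 5 ≤ 5 ^ k := by
    calc 5 = 5 ^ 1 := by norm_num
      _ ≤ 5 ^ k := Nat.pow_le_pow_right (by norm_num) hk1
  have h2 := three_am (q := 5 ^ m) (by omega)
  rw [pow_mul', pow_two]
  generalize 5 ^ m = q at *
  generalize 5 ^ k = s at *
  have h3 : 5 * q ≤ q ^ 2 := by nlinarith only [h5, h1]
  have h4 : s * s ≤ q ^ 2 := by nlinarith only [h1]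
  omega

theorem p9_cast_pos {v : ℕ} (hv : 2 ≤ v) {x : ℤ} (hxv : x = v ∨ x = -v) {a : ℕ} (h : (a : ℤ) ∣ p9 x) :
    a ∣ v ^ 6 + v ^ 3 + 1 ∨ a ∣ v ^ 6 - v ^ 3 + 1 := by
  have h1 : v ^ 3 ≤ v ^ 6 := Nat.pow_le_pow_right (by omega) (by norm_num)
  rcases hxv with rfl | rfl
  · left
    rw [← Int.natCast_dvd_natCast]
    push_cast
    exact h
  · right
    rw [← Int.natCast_dvd_natCast]
    push_cast [Nat.cast_sub h1]
    have : p9 (-(v : ℤ)) = (v : ℤ) ^ 6 - v ^ 3 + 1 := by simp only [p9]; ring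
    rwa [this] at h

theorem num6 {v m : ℕ} (hm : 1 ≤ m) (hv : 2 ≤ v) (hv5 : ¬ 5 ∣ v) {x M : ℤ} (hxv : x = v ∨ x = -v) (hM : 0 < M)
    (hMa : 2 * M ≤ 4300 * (am (5 ^ m) : ℤ) ^ 4)
    (hcls : ((am (5 ^ m) : ℤ) ∣ p8 x ∨ (am (5 ^ m) : ℤ) ∣ p12 x) ∨ (am (5 ^ m) : ℤ) ∣ p9 x)
    (h8 : p8 x ∣ M) (h5 : p5 x ∣ M) (h12 : p12 x ∣ M)
    (h369 : ((¬ (3 : ℤ) ∣ x - 1) ∧ tx x ∣ M ∧ p3 x ∣ M ∧ p9 x ∣ M) ∨
      ((3 : ℤ) ∣ x - 1 ∧ tx x ∣ 3 * M ∧ p3 x ∣ 3 * M ∧ p9 x ∣ 3 * M)) : False := by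
  have hq5 : 5 ≤ 5 ^ m := by
    calc 5 = 5 ^ 1 := by norm_num
      _ ≤ 5 ^ m := Nat.pow_le_pow_right (by norm_num) hm
  have ha0 : 0 < am (5 ^ m) := am_pos (by omega)
  have ha3 : ¬ 3 ∣ am (5 ^ m) := (am_spec (by omega)).2
  have hvz : (2 : ℤ) ≤ v := by exact_mod_cast hv
  obtain ⟨P, hP⟩ : ∃ P, P = tx x * p8 x * p5 x * p12 x * p3 x * p9 x := ⟨_, rfl⟩
  have key : ((¬ (3 : ℤ) ∣ x - 1) ∧ P ≤ 10 * M) ∨ ((3 : ℤ) ∣ x - 1 ∧ P ≤ 270 * M) := by
    rcases h369 with ⟨h, ht, h3, h9⟩ | ⟨h, ht, h3, h9⟩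
    · left
      refine ⟨h, ?_⟩
      rw [hP]
      exact Int.le_of_dvd (by omega) (prod_a h ht h8 h5 h12 h3 h9)
    · right
      refine ⟨h, ?_⟩
      rw [hP]
      have := Int.le_of_dvd (by omega) (prod_b ht (h8.mul_left 3) (h5.mul_left 3) (h12.mul_left 3) h3 h9)
      linarith only [this]
  have hP270 : P ≤ 270 * M := by rcases key with ⟨-, h⟩ | ⟨-, h⟩ <;> omega
  have az : (0 : ℤ) < am (5 ^ m) := by exact_mod_cast ha0
  rcases hcls with hcls | hcls
  · -- classes 8 and 12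
    have hle : (am (5 ^ m) : ℤ) ≤ p8 x := by
      have e8 := eq_8 hxv
      rcases hcls with h | h
      · exact Int.le_of_dvd (by rw [e8]; positivity) h
      · have e12 : p12 x = (v : ℤ) ^ 2 * ((v : ℤ) ^ 2 - 1) + 1 := by
          rcases hxv with rfl | rfl <;> (simp only [p12]; ring)
        have h1 : (0 : ℤ) ≤ (v : ℤ) ^ 2 - 1 := by nlinarith only [hv]
        have h2 := Int.le_of_dvd (by rw [e12]; (clear * - hv h1; positivity)) h
        rw [e12] at h2
        rw [e8]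
        linarith only [h1, h2]
    rcases Nat.lt_or_ge v 5 with h5' | h5'
    · rcases Nat.lt_or_ge m 3 with h3 | h3
      · obtain ⟨k1, k2⟩ := small8 h5' h3 hv hm
        rcases hcls with h | h
        · apply k1
          rw [← Int.natCast_dvd_natCast]
          rw [eq_8 hxv] at h
          push_cast
          exact h
        · apply k2
          rw [← Int.natCast_dvd_natCast]
          have e12 : p12 x = (v : ℤ) ^ 4 - (v : ℤ) ^ 2 + 1 := by
            rcases hxv with rfl | rfl <;> (simp only [p12]; try ring)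
          have h1 : v ^ 2 ≤ v ^ 4 := Nat.pow_le_pow_right (by omega) (by norm_num)
          push_cast [Nat.cast_sub h1]
          rwa [e12] at h
      · have h1 := am_big h3 (by norm_num)
        rw [eq_8 hxv] at hle
        have h2 : v ^ 4 ≤ 4 ^ 4 := Nat.pow_le_pow_left (by omega) 4
        have h3 : ((am (5 ^ m) : ℕ) : ℤ) ≤ ((v ^ 4 + 1 : ℕ) : ℤ) := by push_cast; exact hle
        have h4 := Int.ofNat_le.1 h3
        norm_num at h1
        omega
    · have h1 := big8 hxv (by exact_mod_cast h5' : (5 : ℤ) ≤ v)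
      have h2 : (am (5 ^ m) : ℤ) ^ 4 ≤ p8 x ^ 4 := pow_le_pow_left₀ az.le hle 4
      rw [← hP] at h1
      linarith only [hMa, hP270, h1, h2]
  · -- class 9
    have h9pos : 0 < p9 x := lt_of_lt_of_le (by
      have : (2 : ℤ) ^ 3 ≤ (v : ℤ) ^ 3 := pow_le_pow_left₀ (by norm_num) hvz 3
      nlinarith only [this]) (lo_9 hxv hvz)
    have hle := Int.le_of_dvd h9pos hcls
    rcases Nat.lt_or_ge v 148 with hs | hs
    · rcases Nat.lt_or_ge m 10 with h3 | h3
      · obtain ⟨k1, k2⟩ := small9 hs h3 hv hm hv5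
        rcases p9_cast_pos hv hxv hcls with h | h
        · exact k1 h
        · exact k2 h
      · have h1 := am_big h3 (by norm_num)
        have h2 := hle.trans (up_9 hxv hvz)
        have h3 : ((am (5 ^ m) : ℕ) : ℤ) ≤ ((v ^ 3 * (v ^ 3 + 2) : ℕ) : ℤ) := by push_cast; exact h2
        have h4 := Int.ofNat_le.1 h3
        have h5 : v ^ 3 ≤ 147 ^ 3 := Nat.pow_le_pow_left (by omega) 3
        have h6 : v ^ 3 * (v ^ 3 + 2) ≤ 147 ^ 3 * (147 ^ 3 + 2) := Nat.mul_le_mul h5 (by omega)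
        norm_num at h1 h6
        omega
    · have h1 := big9 hxv (by exact_mod_cast hs : (148 : ℤ) ≤ v)
      rw [← hP] at h1
      rcases key with ⟨h, hk⟩ | ⟨h, hk⟩
      · have h2 : (am (5 ^ m) : ℤ) ^ 4 ≤ p9 x ^ 4 := pow_le_pow_left₀ az.le hle 4
        linarith only [hMa, h1, hk, h2]
      · have h3 : (3 : ℤ) ∣ p9 x := by
          obtain ⟨c, hc⟩ := h
          exact ⟨c * (x ^ 2 + x + 1) * (x ^ 3 + 2) + 1, by
            simp only [p9]; linear_combination (x ^ 2 + x + 1) * (x ^ 3 + 2) * hc⟩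
        have h4 : IsCoprime (3 : ℤ) (am (5 ^ m) : ℤ) := by
          rw [show (3 : ℤ) = ((3 : ℕ) : ℤ) by norm_num]
          exact Nat.isCoprime_iff_coprime.2 ((Nat.Prime.coprime_iff_not_dvd Nat.prime_three).2 ha3)
        have h5 := Int.le_of_dvd h9pos (h4.mul_dvd h3 hcls)
        have h6 : (3 * (am (5 ^ m) : ℤ)) ^ 4 ≤ p9 x ^ 4 := pow_le_pow_left₀ (by positivity) h5 4
        have h7 : (3 * (am (5 ^ m) : ℤ)) ^ 4 = 81 * (am (5 ^ m) : ℤ) ^ 4 := by ring
        rw [h7] at h6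
        linarith only [hM, hMa, hP270, h1, h6]

end Cfsg.Agent.H75.M5h
end

-- part: H559/ConjE6
section
/-!
# Elements of order `r` with `x ~ x^q` in `E6(q)` (helper559)

`conj` : `r` a prime, `m` the order of `q` modulo `r`, `m ∈ [3, 4, 5, 6, 8, 9, 12]`.
-/

set_option autoImplicit false

namespace Cfsg.Agent.H559.ConjE6

open CoxeterSystem Cfsg Cfsg.Lie Cfsg.Lie.ChevalleyDatum
open Cfsg.Agent.ChevalleyStructure.CoxeterGeom Cfsg.Agent.ChevalleyStructure.CoxeterGeomTypes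
open Cfsg.Agent.Tits.Roots Cfsg.Agent.Tits.Core
open Cfsg.Agent.H129.WData Cfsg.Agent.Nodes.RGDChev
open Cfsg.Agent.H493.PGTorus Cfsg.Agent.H493.PGCyc Cfsg.Agent.H493.PGE6 Cfsg.Agent.H559.ChevConjX

universe u

/-- partial products of an element with characteristic polynomial divisible by the cyclotomic polynomial 3 -/
def chain3 : List (Fin 6 × Mat 6) := [
    (0, ![![0, 0, 1, 0, 0, 0], ![0, 1, 0, 0, 0, 0], ![-1, 0, -1, 0, 0, 0], ![1, 0, 1, 1, 0, 0], ![0, 0, 0, 0, 1, 0],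
      ![0, 0, 0, 0, 0, 1]]),
    (2, ![![1, 0, 1, 0, 0, 0], ![0, 1, 0, 0, 0, 0], ![0, 0, -1, 0, 0, 0], ![0, 0, 1, 1, 0, 0], ![0, 0, 0, 0, 1, 0],
      ![0, 0, 0, 0, 0, 1]])]

theorem chain3_ok : ChainOK Am chain3 :=
  H129.ChainF.ok H129.ChainF.i6 H129.ChainF.m6 (H129.ChainF.c6 <| H129.ChainF.c6 <| H129.ChainF.nil) (by decide +kernel)

/-- coefficients of the eigenvector -/
def V3 : Fin 2 → Fin 6 → ℤ := ![![-1, 0, 0, 0, 0, 0], ![0, 0, 1, 0, 0, 0]]

/-- the functional -/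
def U3 : Fin 6 → ℤ := ![-1, 0, 0, 0, 0, 0]

theorem eig3 : EigOK (hd chain3) c3 V3 U3 :=
  H493.EigF.ok (H493.EigF.hT H493.EigF.t6) H493.EigF.r2 (H493.EigF.mc H493.EigF.r6 <| H493.EigF.mc H493.EigF.r6 <| H493.EigF.m0) H493.EigF.r6 (by decide +kernel)

/-- partial products of an element with characteristic polynomial divisible by the cyclotomic polynomial 5 -/
def chain5 : List (Fin 6 × Mat 6) := [
    (0, ![![0, 0, 1, 0, 0, 0], ![1, 1, 1, 1, 0, 0], ![0, 0, 0, 1, 0, 0], ![0, 0, 0, 0, 1, 0],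
      ![-1, 0, -1, -1, -1, 0], ![1, 0, 1, 1, 1, 1]]),
    (2, ![![1, 0, 1, 0, 0, 0], ![0, 1, 1, 1, 0, 0], ![0, 0, 0, 1, 0, 0], ![0, 0, 0, 0, 1, 0],
      ![0, 0, -1, -1, -1, 0], ![0, 0, 1, 1, 1, 1]]),
    (3, ![![1, 0, 0, 0, 0, 0], ![0, 1, 0, 1, 0, 0], ![0, 0, 1, 1, 0, 0], ![0, 0, 0, 0, 1, 0], ![0, 0, 0, -1, -1, 0],
      ![0, 0, 0, 1, 1, 1]]),
    (4, ![![1, 0, 0, 0, 0, 0], ![0, 1, 0, 0, 0, 0], ![0, 0, 1, 0, 0, 0], ![0, 0, 0, 1, 1, 0], ![0, 0, 0, 0, -1, 0],
      ![0, 0, 0, 0, 1, 1]])]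

theorem chain5_ok : ChainOK Am chain5 :=
  H129.ChainF.ok H129.ChainF.i6 H129.ChainF.m6 (H129.ChainF.c6 <| H129.ChainF.c6 <| H129.ChainF.c6 <| H129.ChainF.c6 <| H129.ChainF.nil) (by decide +kernel)

/-- coefficients of the eigenvector -/
def V5 : Fin 4 → Fin 6 → ℤ := ![![0, 0, 0, -1, 0, 0], ![0, 0, -1, -1, 0, 0], ![-1, 0, -1, -1, 0, 0],
    ![0, 0, 0, 0, 1, 0]]

/-- the functional -/
def U5 : Fin 6 → ℤ := ![0, 0, 1, -1, 0, 0]

theorem eig5 : EigOK (hd chain5) c5 V5 U5 :=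
  H493.EigF.ok (H493.EigF.hT H493.EigF.t6) H493.EigF.r4 (H493.EigF.mc H493.EigF.r6 <| H493.EigF.mc H493.EigF.r6 <| H493.EigF.mc H493.EigF.r6 <| H493.EigF.mc H493.EigF.r6 <| H493.EigF.m0) H493.EigF.r6 (by decide +kernel)

end Cfsg.Agent.H559.ConjE6
end

-- part: H75/M5hSixExc
section
/-!
# `E₆(v)`, `²E₆(v)` in BLOCK 6, `q = 5 ^ m` (helper75, task 2625)

* `e6`, `te6_of` : `E5 q S → False` for `S = E₆(v)`, `²E₆(v)`, `v` not divisible by 5.
-/

set_option autoImplicit false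
set_option linter.unusedVariables false
set_option linter.unreachableTactic false
set_option linter.unusedTactic false

namespace Cfsg.Agent.H75.M5h

open CoxeterSystem Cfsg Cfsg.Lie Cfsg.Lie.ChevalleyDatum Cfsg.Agent.H376.Six
open Cfsg.Agent.ChevalleyStructure Cfsg.Agent.ChevalleyStructure.Elts Cfsg.Agent.ChevalleyStructure.CoxeterGeom
  Cfsg.Agent.ChevalleyStructure.CoxeterGeomTypes Cfsg.Agent.ChevalleyStructure.NPerm Cfsg.Agent.Nodes.RGDChev
open Cfsg.Agent.Tits.Roots Cfsg.Agent.Tits.Core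
open Cfsg.Agent.BpExc.RowsUntw Cfsg.Agent.BpExc.FamInst Cfsg.Agent.BpExc.FamExt
open Cfsg.Agent.H77.E4Poly Cfsg.Agent.H77.E4Tor Cfsg.Agent.H378.ExcAdj Cfsg.Agent.H378.ExcNear Cfsg.Agent.H77.E4Cls
open Cfsg.Agent.H493.PGCyc Cfsg.Agent.H493.PGTorus Cfsg.Agent.H129.WData Cfsg.Agent.H77.E4Cert
  Cfsg.Agent.H378.TwAdj Cfsg.Agent.H378.TwRows Cfsg.Agent.H77.E4ClsT

universe u

/-! ### general -/

/-- a common multiple of the element orders -/
theorem exists_M {q : ℕ} {S : Type*} [Group S] (h : E5 q S) : ∃ M : ℕ, 0 < M ∧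
    2 * (M : ℤ) ≤ 4300 * (am q : ℤ) ^ 4 ∧ ∀ x : S, orderOf x ∣ M := by
  obtain ⟨hq, -, -⟩ := q_facts h
  obtain ⟨hW, hWa⟩ := W_facts hq
  obtain ⟨M, hM⟩ := (dvd_W h 1)
  rw [orderOf_one, mul_one] at hM
  refine ⟨M, ?_, ?_, fun x => ?_⟩
  · have h1 : 0 < 25 * ((q ^ 6 - 1) * (q ^ 2 + 1)) := by exact_mod_cast hW
    omega
  · have h1 : ((25 * ((q ^ 6 - 1) * (q ^ 2 + 1)) : ℕ) : ℤ) = 2 * (M : ℤ) := by rw [hM]; push_cast; ring
    rw [← h1]
    exact hWa
  · have h1 := dvd_W h x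
    rw [hM] at h1
    exact Nat.dvd_of_mul_dvd_mul_left two_pos h1

theorem not_al2 {S : Type*} [Group S] {p n N M t d : ℕ} (hp : p.Prime) (hn : 1 ≤ n) (hN : 4 ≤ N) (hd : 1 ≤ d)
    (hpd : ¬ p ∣ d) (hc : d * Nat.card S = (p ^ n) ^ N * M) (hM : M ≤ (p ^ n) ^ N * t)
    (ht1 : 1 ≤ t) (ht : 4 * t ^ 3 ≤ (p ^ n) ^ N) : ¬ AL2 S := by
  intro hS
  rw [← pow_mul] at hc hM ht
  have hk : 4 ≤ n * N := by nlinarith only [hn, hN]
  by_cases hp2 : p = 2
  · subst hp2
    have h1 : 2 ^ (n * N) ∣ Nat.card S := by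
      have h1 : Nat.Coprime (2 ^ (n * N)) d := Nat.Coprime.pow_left _ ((Nat.Prime.coprime_iff_not_dvd Nat.prime_two).2 hpd)
      exact h1.dvd_of_dvd_mul_left (by rw [hc]; exact dvd_mul_right _ _)
    obtain ⟨M', hM'⟩ := h1
    have h2 : d * M' = M := by
      apply Nat.eq_of_mul_eq_mul_left (show 0 < 2 ^ (n * N) by positivity)
      rw [← hc, hM']
      ring
    refine no_al2_even hk hM' ?_ (le_trans ?_ ht) hS (t := t)
    · calc M' ≤ d * M' := Nat.le_mul_of_pos_left _ hd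
        _ = M := h2
        _ ≤ _ := hM
    · have : t ≤ t ^ 3 := Nat.le_self_pow (by norm_num) _
      omega
  · exact H458.Six.no_al2 hp hp2 (by omega) hpd hd hc (hM.trans (Nat.mul_le_mul_right _ (by omega))) (by omega) hS

theorem not_al2_E6 (F : Type u) [Field F] [Finite F] : ¬ AL2 ↥(chevE6.group F) := by
  have : Fintype F := Fintype.ofFinite F
  obtain ⟨p, hp⟩ := CharP.exists F
  obtain ⟨n, hpr, hn⟩ := FiniteField.card F p
  have hc := Cfsg.Agent.S1063.result (F := F) rfl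
  have hn0 : 1 ≤ (n : ℕ) := n.pos
  have hv2 : 2 ≤ Fintype.card F := Fintype.one_lt_card
  have hpv : p ∣ Fintype.card F := by rw [hn]; exact dvd_pow_self p n.pos.ne'
  refine not_al2 (p := p) (n := n) (N := 36) (d := Nat.gcd 3 (Fintype.card F - 1)) (t := Fintype.card F ^ 6)
    (M := (Fintype.card F ^ 2 - 1) * (Fintype.card F ^ 5 - 1) * (Fintype.card F ^ 6 - 1) * (Fintype.card F ^ 8 - 1) *
      (Fintype.card F ^ 9 - 1) * (Fintype.card F ^ 12 - 1)) hpr hn0 (by norm_num)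
    (Nat.gcd_pos_of_pos_left _ (by norm_num)) ?_ ?_ ?_ (Nat.one_le_pow _ _ (by omega)) ?_
  · intro h1
    have h2 : p ∣ Fintype.card F - (Fintype.card F - 1) := Nat.dvd_sub hpv (h1.trans (Nat.gcd_dvd_right _ _))
    rw [Nat.sub_sub_self (by omega)] at h2
    exact hpr.one_lt.ne' (Nat.dvd_one.1 h2)
  · rw [← hn, hc]; ring
  · rw [← hn]
    generalize Fintype.card F = v
    calc _ ≤ v ^ 2 * v ^ 5 * v ^ 6 * v ^ 8 * v ^ 9 * v ^ 12 := by
          gcongr <;> exact Nat.sub_le _ _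
      _ = v ^ 36 * v ^ 6 := by ring
  · rw [← hn]
    generalize Fintype.card F = v at *
    calc 4 * (v ^ 6) ^ 3 = 2 ^ 2 * v ^ 18 := by ring
      _ ≤ v ^ 2 * v ^ 18 := Nat.mul_le_mul_right _ (Nat.pow_le_pow_left hv2 2)
      _ = v ^ 20 := by ring
      _ ≤ v ^ 36 := Nat.pow_le_pow_right (by omega) (by norm_num)

theorem not_al2_2E6 {K : Type u} [Field K] [Fintype K] {v : ℕ} (hv : IsPrimePow v) (hK : Fintype.card K = v ^ 2) :
    ¬ AL2 ↥(twistedE6 K v) := by
  have hc := Cfsg.Agent.S1066.result hv hK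
  have hv2 : 2 ≤ v := hv.two_le
  obtain ⟨p, n, hpr, hn0, hn⟩ := (isPrimePow_nat_iff v).1 hv
  have hpv : p ∣ v := by rw [← hn]; exact dvd_pow_self p (by omega)
  refine not_al2 (p := p) (n := n) (N := 36) (d := Nat.gcd 3 (v + 1)) (t := 4 * v ^ 6)
    (M := (v ^ 2 - 1) * (v ^ 5 + 1) * (v ^ 6 - 1) * (v ^ 8 - 1) * (v ^ 9 + 1) * (v ^ 12 - 1)) hpr hn0 (by norm_num)
    (Nat.gcd_pos_of_pos_left _ (by norm_num)) ?_ ?_ ?_ (by have := Nat.one_le_pow 6 v (by omega); omega) ?_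
  · intro h1
    have h2 : p ∣ v + 1 := h1.trans (Nat.gcd_dvd_right _ _)
    exact hpr.one_lt.ne' (Nat.dvd_one.1 ((Nat.dvd_add_right hpv).1 h2))
  · rw [hn, hc]; ring
  · rw [hn]
    calc _ ≤ v ^ 2 * (2 * v ^ 5) * v ^ 6 * v ^ 8 * (2 * v ^ 9) * v ^ 12 := by
          have e5 := Nat.one_le_pow 5 v (by omega)
          have e9 := Nat.one_le_pow 9 v (by omega)
          gcongr
          · exact Nat.sub_le _ _
          · omega
          · exact Nat.sub_le _ _
          · exact Nat.sub_le _ _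
          · omega
          · exact Nat.sub_le _ _
      _ = v ^ 36 * (4 * v ^ 6) := by ring
  · rw [hn]
    calc 4 * (4 * v ^ 6) ^ 3 = 2 ^ 8 * v ^ 18 := by ring
      _ ≤ v ^ 8 * v ^ 18 := Nat.mul_le_mul_right _ (Nat.pow_le_pow_left hv2 8)
      _ = v ^ 26 := by ring
      _ ≤ v ^ 36 := Nat.pow_le_pow_right (by omega) (by norm_num)

/-! ### classes -/

theorem cls_E6 (F : Type u) [Field F] [Finite F] (x : ↥(chevE6.group F)) (hx : 1 < orderOf x)
    (h2 : ∀ r : ℕ, r.Prime → r ∣ orderOf x → r ≠ 2 ∧ ¬ H94.PG.Adj ↥(chevE6.group F) r 2) :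
    ∃ m ∈ [8, 9, 12], orderOf x ∣ Pn m (Nat.card F) := by
  have : Fintype F := Fintype.ofFinite F
  have hc := Cfsg.Agent.S1063.result (F := F) rfl
  rw [← Nat.card_eq_fintype_card] at hc
  have h3 : 2 ≤ Nat.card F := Finite.one_lt_card
  refine cls_untw e6T [8, 9, 12] (by decide) (fun r hr hrd => ?_) (fun m hm B hall hB => ?_) x hx h2
  · have := adj_E6 F hr hrd
    simpa using this
  · have hB := hB.mul_left (Nat.gcd 3 (Nat.card F - 1))
    rw [hc] at hB
    have hB' := Int.natCast_dvd_natCast.2 hB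
    simp only [Nat.cast_mul, Nat.cast_pow, cast_pred (show 1 ≤ Nat.card F by omega)] at hB'
    simp only [List.mem_cons, List.not_mem_nil, or_false] at hm
    rcases hm with rfl | rfl | rfl
    · exact fin_dvd hall 8 36 [2, 5, 6, 9, 12] (by decide) (by decide) (by omega) (by decide) hB'
        (by simp only [List.map_cons, List.map_nil, List.prod_cons, List.prod_nil]; ring)
    · exact fin_dvd hall 9 36 [2, 5, 6, 8, 12] (by decide) (by decide) (by omega) (by decide) hB'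
        (by simp only [List.map_cons, List.map_nil, List.prod_cons, List.prod_nil]; ring)
    · exact fin_dvd hall 12 36 [2, 5, 6, 8, 9] (by decide) (by decide) (by omega) (by decide) hB'
        (by simp only [List.map_cons, List.map_nil, List.prod_cons, List.prod_nil]; ring)

theorem od_of_c8 {q r : ℕ} (hr : r.Prime) (h2 : r ≠ 2) (h : (r : ℤ) ∣ pv c8 (q : ℤ)) : od q r = 8 := by
  have : Fact r.Prime := ⟨hr⟩
  rw [pv_c8] at h
  have h1 : ((q : ZMod r)) ^ 4 = -1 := by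
    have h3 : (((q : ℤ) ^ 4 + 1 : ℤ) : ZMod r) = 0 := (ZMod.intCast_zmod_eq_zero_iff_dvd _ _).2 h
    push_cast at h3
    exact eq_neg_of_add_eq_zero_left h3
  rw [od, show 8 = 2 ^ (2 + 1) by norm_num]
  refine orderOf_eq_prime_pow ?_ ?_
  · show ¬ (q : ZMod r) ^ 2 ^ 2 = 1
    rw [show 2 ^ 2 = 4 by norm_num, h1]
    intro h3
    have h4 : (2 : ZMod r) = 0 := by
      calc (2 : ZMod r) = 1 + 1 := by norm_num
        _ = -1 + 1 := by rw [h3]
        _ = 0 := by ring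
    have h5 : ((2 : ℕ) : ZMod r) = 0 := by exact_mod_cast h4
    rw [ZMod.natCast_eq_zero_iff] at h5
    exact h2 ((Nat.prime_dvd_prime_iff_eq hr Nat.prime_two).1 h5)
  · show (q : ZMod r) ^ 2 ^ (2 + 1) = 1
    calc (q : ZMod r) ^ 2 ^ (2 + 1) = ((q : ZMod r) ^ 4) ^ 2 := by ring
      _ = 1 := by rw [h1]; ring

section E

open Cfsg.Agent.H129 Cfsg.Agent.H493.TwE6Alg

variable {K : Type u} [Field K] [Fintype K] {q : ℕ} (hq : IsPrimePow q) (hK : Fintype.card K = q ^ 2)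

include hq hK

theorem adj_2E6_even (ho : 2 ∣ q) {r : ℕ} (hr : r.Prime) (h3 : r ≠ 3) (hd : r ∣ Nat.card ↥(twistedE6 K q)) :
    r = 2 ∨ H94.PG.Adj ↥(twistedE6 K q) r 2 ∨ od q r ∈ [8, 12, 18] := by
  by_cases h2 : r = 2
  · exact Or.inl h2
  right
  have hg := H493.PGE6T.natCard_ne_of hq hK hr h3
  have h1 : r ∣ q ^ 36 * (q ^ 2 - 1) * (q ^ 5 + 1) * (q ^ 6 - 1) * (q ^ 8 - 1) * (q ^ 9 + 1) * (q ^ 12 - 1) := by
    rw [← Cfsg.Agent.S1066.result hq hK]
    exact hd.mul_left _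
  rcases H493.PGE6T.cover hq.two_le hr h1 with (h | h | h | h | h | h | h) | h | h | h
  · exfalso
    obtain ⟨p, n, hp, hn, hpn⟩ := (isPrimePow_nat_iff q).1 hq
    rw [← hpn] at h ho
    have e1 := (Nat.prime_dvd_prime_iff_eq hr hp).1 (hr.dvd_of_dvd_pow h)
    have e2 := (Nat.prime_dvd_prime_iff_eq Nat.prime_two hp).1 (Nat.prime_two.dvd_of_dvd_pow ho)
    exact h2 (e1.trans e2.symm)
  · left
    exact (pairE_p hq hK H493.PGE6T.chainA_ok H493.PGE6T.hThA H493.PGE6T.eigA_1 (by decide) (by decide)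
      H493.PGE6T.fixA H493.PGE6T.vanA_1 hr Nat.prime_two hg h ho).adj hr Nat.prime_two h2
  · left
    exact (pairE_p hq hK H493.PGE6T.chainA_ok H493.PGE6T.hThA H493.PGE6T.eigA_2 (by decide) (by decide)
      H493.PGE6T.fixA H493.PGE6T.vanA_2 hr Nat.prime_two hg h ho).adj hr Nat.prime_two h2
  · left
    exact (pairE_p hq hK H493.PGE6T.chainB_ok H493.PGE6T.hThB H493.PGE6T.eigB_3 (by decide) (by decide)
      H493.PGE6T.fixB H493.PGE6T.vanB_3 hr Nat.prime_two hg h ho).adj hr Nat.prime_two h2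
  · left
    exact (pairE_p hq hK H493.PGE6T.chainC_ok H493.PGE6T.hThC H493.PGE6T.eigC_4 (by decide) (by decide)
      H493.PGE6T.fixC H493.PGE6T.vanC_4 hr Nat.prime_two hg h ho).adj hr Nat.prime_two h2
  · left
    exact (pairE_p hq hK H493.PGE6T.chainB_ok H493.PGE6T.hThB H493.PGE6T.eigB_6 (by decide) (by decide)
      H493.PGE6T.fixB H493.PGE6T.vanB_6 hr Nat.prime_two hg h ho).adj hr Nat.prime_two h2
  · left
    exact (pairE_p hq hK H493.PGE6T.chainD_ok H493.PGE6T.hThD H493.PGE6T.eigD_10 (by decide) (by decide)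
      H493.PGE6T.fixD H493.PGE6T.vanD_10 hr Nat.prime_two hg h ho).adj hr Nat.prime_two h2
  · right; rw [od_of_c8 hr h2 h]; decide
  · right; rw [od_of_c12 hr h]; decide
  · right; rw [od_of_c18 hr h3 h]; decide

theorem cls_2E6 (y : ↥(twistedE6 K q)) (hy : 1 < orderOf y) (hy3 : ¬ 3 ∣ orderOf y)
    (h2 : ∀ r : ℕ, r.Prime → r ∣ orderOf y → r ≠ 2 ∧ ¬ H94.PG.Adj ↥(twistedE6 K q) r 2) :
    ∃ m ∈ [8, 12, 18], orderOf y ∣ Pn m q := by
  have h3 : 2 ≤ q := hq.two_le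
  have hfin : Finite ↥(twistedE6 K q) := inferInstance
  obtain ⟨m, hm, hall⟩ := allOd (q := q) (P := fun m => m ∈ [8, 12, 18]) hy
    (fun r hr hrd => by
      obtain ⟨k3, k4⟩ := h2 r hr hrd
      have hr3 : r ≠ 3 := by rintro rfl; exact hy3 hrd
      rcases Nat.even_or_odd q with ho | ho
      · exact ((adj_2E6_even hq hK (even_iff_two_dvd.1 ho) hr hr3
          (hrd.trans (orderOf_dvd_natCard y))).resolve_left k3).resolve_left k4
      · have := ((adj_2E6 hq hK ho hr (hrd.trans (orderOf_dvd_natCard y))).resolve_left k3).resolve_left k4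
        exact List.mem_cons_of_mem _ this) (by
    rintro r s hr hs - - hmr hms hne ⟨z, hz⟩
    obtain ⟨p, f, hp, hf, rfl⟩ := (isPrimePow_nat_iff q).1 hq
    have hpf : Fact p.Prime := ⟨hp⟩
    have hch : CharP K p := by
      obtain ⟨p', hp'⟩ := CharP.exists K
      obtain ⟨n, hpp, hn⟩ := FiniteField.card K p'
      have h5 : p' ∣ (p ^ f) ^ 2 := by rw [← hK, hn]; exact dvd_pow_self _ n.pos.ne'
      have h6 := (Nat.prime_dvd_prime_iff_eq hpp hp).1 (hpp.dvd_of_dvd_pow (hpp.dvd_of_dvd_pow h5))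
      rwa [← h6]
    have hr0 : 8 ≤ orderOf (((p ^ f : ℕ) : ℕ) : ZMod r) := by
      simp only [List.mem_cons, List.not_mem_nil, or_false] at hmr
      omega
    have hs0 : 8 ≤ orderOf (((p ^ f : ℕ) : ℕ) : ZMod s) := by
      simp only [List.mem_cons, List.not_mem_nil, or_false] at hms
      omega
    obtain ⟨h7, h8⟩ := lt_of_od (q := p ^ f) (m := orderOf (((p ^ f : ℕ) : ℕ) : ZMod r)) hr rfl (by omega)
    obtain ⟨h9, h10⟩ := lt_of_od (q := p ^ f) (m := orderOf (((p ^ f : ℕ) : ℕ) : ZMod s)) hs rfl (by omega)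
    refine six_no_pair hf hK hr hs h8 h10 (by omega) (by omega) rfl rfl hne ?_ z hz
    simp only [List.mem_cons, List.not_mem_nil, or_false] at hmr hms
    rcases hmr with h | h | h <;> rcases hms with h' | h' | h' <;> rw [h, h'] <;>
      first | decide | exact absurd (h.trans h'.symm) hne)
  refine ⟨m, hm, ?_⟩
  have hB : orderOf y ∣ Nat.card ↥(twistedE6 K q) := orderOf_dvd_natCard y
  generalize orderOf y = B at *
  have hB := hB.mul_left (Nat.gcd 3 (q + 1))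
  rw [Cfsg.Agent.S1066.result hq hK] at hB
  have hB' := Int.natCast_dvd_natCast.2 hB
  simp only [Nat.cast_mul, Nat.cast_pow, cast_pred (show 1 ≤ q by omega), Nat.cast_add, Nat.cast_one] at hB'
  simp only [List.mem_cons, List.not_mem_nil, or_false] at hm
  rcases hm with rfl | rfl | rfl
  · refine fin_dvd hall 8 36 [2, 10, 6, 18, 12] (by decide) (by decide) (by omega) (by decide)
      (hB'.mul_right (((q : ℤ) ^ 5 - 1) * ((q : ℤ) ^ 9 - 1))) ?_
    simp only [List.map_cons, List.map_nil, List.prod_cons, List.prod_nil]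
    ring
  · refine fin_dvd hall 12 36 [2, 10, 6, 8, 18] (by decide) (by decide) (by omega) (by decide)
      (hB'.mul_right (((q : ℤ) ^ 5 - 1) * ((q : ℤ) ^ 9 - 1))) ?_
    simp only [List.map_cons, List.map_nil, List.prod_cons, List.prod_nil]
    ring
  · refine fin_dvd hall 18 36 [2, 10, 6, 8, 12] (by decide) (by decide) (by omega) (by decide)
      (hB'.mul_right (((q : ℤ) ^ 5 - 1) * ((q : ℤ) ^ 9 - 1))) ?_
    simp only [List.map_cons, List.map_nil, List.prod_cons, List.prod_nil]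
    ring

/-- torus elements of `²E₆(q)` -/
theorem row_T {L : List (Fin 6 × Mat 6)} (hL : ChainOK H493.PGE6T.Am L) {Th : Mat 6}
    (hTh : ∀ j, hd L (H493.TwE6Alg.pi j) = Th j) {f : ℕ} {c : Fin (f + 1) → ℤ} {V : Fin (f + 1) → Fin 6 → ℤ}
    {U : Fin 6 → ℤ} (h : EigOK (fun i j => Th j i) c V U) (hc : c 0 = 1 ∨ c 0 = -1) {m : ℕ} (hm : 0 < m)
    (h1 : (m : ℤ) ∣ pv c (q : ℤ)) : ∃ x : ↥(twistedE6 K q), m ∣ orderOf x * Nat.gcd 3 (q + 1) := by
  have := H493.PGE6.finW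
  obtain ⟨p, e, hpF, hpk, he, hqe, hk⟩ := H493.PGE6T.setup hq hK
  have hqe' : (q : ℤ) = ((p ^ e : ℕ) : ℤ) := by rw [hqe]
  rw [hqe'] at h1
  exact order_of_eig Cfsg.Agent.Nodes.RGDTwE6.hp CoxeterMatrix.E₆.toCoxeterSystem hk he H493.TwE6Alg.isFrob_tau
    (H493.TwE6Alg.fr_tau _) Cfsg.Agent.H129.TorusChar.invC_E6 (by norm_num)
    (e0 := H493.TwE6Alg.embT (algebraMap K (AlgebraicClosure K)) q) (d := Nat.gcd 3 (q + 1))
    (fun y hy => H493.TwE6Alg.tau_pow _ hqe hq hK hy) (H493.PGE6T.lin _ hL hTh) h hc hm h1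

end E

/-! ### the numbers -/

/-- from rows to divisibility -/
theorem of_rows {S : Type*} [Group S] {M g : ℕ} (hM : ∀ x : S, orderOf x ∣ M) {X : ℤ} (hX : 0 < X)
    (h : ∀ m : ℕ, 0 < m → (m : ℤ) ∣ X → ∃ x : S, m ∣ orderOf x * g) : X ∣ (M : ℤ) * g := by
  obtain ⟨n, hn⟩ := Int.eq_ofNat_of_zero_le hX.le
  obtain ⟨x, hx⟩ := h n (by omega) (by rw [hn])
  rw [hn]
  exact_mod_cast hx.trans (Nat.mul_dvd_mul_right (hM x) g)

theorem p8_cop_three (x : ℤ) : IsCoprime (p8 x) 3 := by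
  have h : p8 x % 3 = 1 ∨ p8 x % 3 = 2 := by
    have e : p8 x = x * x * (x * x) + 1 := by simp only [p8]; ring
    rw [e]
    have : x % 3 = 0 ∨ x % 3 = 1 ∨ x % 3 = 2 := by omega
    rcases this with h | h | h <;> simp only [Int.add_emod, Int.mul_emod, h, _root_.MulZeroClass.mul_zero, _root_.EuclideanDomain.zero_mod, _root_.Int.reduceMod, _root_.zero_add, _root_.OfNat.one_ne_ofNat, _root_.or_false, _root_.mul_one, _root_.Int.reduceAdd, _root_.OfNat.ofNat_ne_one, _root_.or_true, _root_.Int.reduceMul]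
  rcases h with h | h
  · exact ⟨1, -(p8 x / 3), by omega⟩
  · exact ⟨-1, (p8 x / 3) + 1, by omega⟩

theorem p5_cop_three (x : ℤ) : IsCoprime (p5 x) 3 := by
  have h : p5 x % 3 = 1 ∨ p5 x % 3 = 2 := by
    have e : p5 x = x * x * (x * x) + x * x * x + x * x + x + 1 := by simp only [p5]; ring
    rw [e]
    have : x % 3 = 0 ∨ x % 3 = 1 ∨ x % 3 = 2 := by omega
    rcases this with h | h | h <;> simp only [Int.add_emod, Int.mul_emod, h, _root_.MulZeroClass.mul_zero, _root_.EuclideanDomain.zero_mod, _root_.add_zero, _root_.Int.reduceMod, _root_.zero_add, _root_.OfNat.one_ne_ofNat, _root_.or_false, _root_.mul_one, _root_.Int.reduceAdd, _root_.EuclideanDomain.mod_self, _root_.OfNat.ofNat_ne_one, _root_.or_true, _root_.Int.reduceMul, _root_.one_mul]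
  rcases h with h | h
  · exact ⟨1, -(p5 x / 3), by omega⟩
  · exact ⟨-1, (p5 x / 3) + 1, by omega⟩

theorem p12_cop_three (x : ℤ) : IsCoprime (p12 x) 3 := by
  obtain ⟨c, hc⟩ := p12_six x
  exact ⟨1, -(2 * c), by rw [hc]; ring⟩

/-- the final step, uniform in `x = ± v` -/
theorem fin6 {q : ℕ} {S : Type*} [Group S] (h : E5 q S) {v : ℕ} (hv : 2 ≤ v) (hv5 : ¬ 5 ∣ v) {x : ℤ}
    (hxv : x = v ∨ x = -v) {g : ℕ} (hg : (g = 1 ∧ ¬ (3 : ℤ) ∣ x - 1) ∨ (g = 3 ∧ (3 : ℤ) ∣ x - 1))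
    (hcls : ((am q : ℤ) ∣ p8 x ∨ (am q : ℤ) ∣ p12 x) ∨ (am q : ℤ) ∣ p9 x)
    (h8 : ∀ m : ℕ, 0 < m → (m : ℤ) ∣ p8 x → ∃ y : S, m ∣ orderOf y * g)
    (h5 : ∀ m : ℕ, 0 < m → (m : ℤ) ∣ p5 x → ∃ y : S, m ∣ orderOf y * g)
    (h12 : ∀ m : ℕ, 0 < m → (m : ℤ) ∣ p12 x → ∃ y : S, m ∣ orderOf y * g)
    (h3 : ∀ m : ℕ, 0 < m → (m : ℤ) ∣ p3 x → ∃ y : S, m ∣ orderOf y * g)
    (h9 : ∀ m : ℕ, 0 < m → (m : ℤ) ∣ p9 x → ∃ y : S, m ∣ orderOf y * g)
    (ht : ∀ m : ℕ, 0 < m → (m : ℤ) ∣ tx x → ∃ y : S, m ∣ orderOf y * g) : False := by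
  obtain ⟨M, hM0, hMa, hM⟩ := exists_M h
  obtain ⟨m, hm, rfl⟩ := h.pow
  have hvz : (2 : ℤ) ≤ v := by exact_mod_cast hv
  have h0 : (0 : ℤ) < v := by omega
  have h1 : (0 : ℤ) < (v : ℤ) - 1 := by omega
  have p3' : 0 < p3 x := by
    rcases hxv with rfl | rfl
    · simp only [p3]; positivity
    · simp only [p3]; nlinarith only []
  have q8 : 0 < p8 x := by rw [eq_8 hxv]; positivity
  have q5 : 0 < p5 x := lt_of_lt_of_le (by positivity) (lo_5 hxv hvz)
  have e2 : (4 : ℤ) ≤ (v : ℤ) ^ 2 := by nlinarith only [hv]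
  have e3 : (8 : ℤ) ≤ (v : ℤ) ^ 3 := by
    calc (8 : ℤ) = 2 ^ 3 := by norm_num
      _ ≤ (v : ℤ) ^ 3 := pow_le_pow_left₀ (by norm_num) hvz 3
  have q12 : 0 < p12 x := lt_of_lt_of_le (by nlinarith only [e2]) (lo_12 hxv)
  have q9 : 0 < p9 x := lt_of_lt_of_le (by nlinarith only [e3]) (lo_9 hxv hvz)
  have qt : 0 < tx x := by
    have h2 := lo_t3 hxv hvz
    have h3 : 0 < tx x * p3 x := lt_of_lt_of_le (by positivity) h2
    exact (pos_iff_pos_of_mul_pos h3).2 p3'
  have k8 := of_rows hM q8 h8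
  have k5 := of_rows hM q5 h5
  have k12 := of_rows hM q12 h12
  have k3 := of_rows hM p3' h3
  have k9 := of_rows hM q9 h9
  have kt := of_rows hM qt ht
  have hMz : (0 : ℤ) < M := by exact_mod_cast hM0
  rcases hg with ⟨rfl, hg⟩ | ⟨rfl, hg⟩
  · simp only [Nat.cast_one, mul_one] at k8 k5 k12 k3 k9 kt
    exact num6 hm hv hv5 hxv hMz hMa hcls k8 k5 k12 (Or.inl ⟨hg, kt, k3, k9⟩)
  · rw [mul_comm] at k8 k5 k12 k3 k9 kt
    simp only [Nat.cast_ofNat] at k8 k5 k12 k3 k9 kt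
    exact num6 hm hv hv5 hxv hMz hMa hcls ((p8_cop_three x).dvd_of_dvd_mul_left k8)
      ((p5_cop_three x).dvd_of_dvd_mul_left k5) ((p12_cop_three x).dvd_of_dvd_mul_left k12)
      (Or.inr ⟨hg, kt, k3, k9⟩)

theorem gcd_case {n : ℕ} : (Nat.gcd 3 n = 1 ∧ ¬ 3 ∣ n) ∨ (Nat.gcd 3 n = 3 ∧ 3 ∣ n) := by
  by_cases h : 3 ∣ n
  · exact Or.inr ⟨Nat.gcd_eq_left h, h⟩
  · exact Or.inl ⟨(Nat.Prime.coprime_iff_not_dvd Nat.prime_three).2 h, h⟩

/-- **`E₆(v)`.** -/
theorem e6 {q : ℕ} {F : Type*} [Field F] [Fintype F] (h5 : ¬ 5 ∣ Fintype.card F)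
    (h : E5 q ↥(Cfsg.Lie.chevE6.group F)) : False := by
  obtain ⟨hq, -, -⟩ := q_facts h
  obtain ⟨x, hx⟩ := h.minus.resolve_left (not_al2_E6 F)
  have h7 := seven_le_am hq
  obtain ⟨m, hm, hd⟩ := cls_E6 F x (by omega) fun r hr hrd => not_adj h hr (by rwa [← hx])
  rw [hx] at hd
  have hv : 2 ≤ Nat.card F := Finite.one_lt_card
  have hd' : (am q : ℤ) ∣ Pz m (Nat.card F : ℕ) := by
    have := Int.natCast_dvd_natCast.2 hd
    rwa [cast_Pn hv] at this
  let cs : CoxeterSystem CoxeterMatrix.E₆ CoxeterMatrix.E₆.Group := CoxeterMatrix.E₆.toCoxeterSystem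
  have := finite_W e6T cs
  have inv := H129.TorusChar.invC_E6
  rw [← Nat.card_eq_fintype_card] at h5
  refine fin6 h hv h5 (Or.inl rfl) (g := Nat.gcd 3 (Nat.card F - 1)) ?_ ?_
    (fun m hm hd => exists_row e6T cs inv three_ne_zero H493.PGE6.hA H493.PGE6.chain8_ok H493.PGE6.eig8 hm
      (by rw [pv_c8]; exact hd))
    (fun m hm hd => exists_row e6T cs inv three_ne_zero H493.PGE6.hA H559.ConjE6.chain5_ok H559.ConjE6.eig5 hm
      (by rw [pv_c5]; exact hd))
    (fun m hm hd => exists_row e6T cs inv three_ne_zero H493.PGE6.hA H493.PGE6.chain12_ok H493.PGE6.eig12 hm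
      (by rw [pv_c12]; exact hd))
    (fun m hm hd => exists_row e6T cs inv three_ne_zero H493.PGE6.hA H559.ConjE6.chain3_ok H559.ConjE6.eig3 hm
      (by rw [pv_c3]; exact hd))
    (fun m hm hd => exists_row e6T cs inv three_ne_zero H493.PGE6.hA H493.PGE6.chain9_ok H493.PGE6.eig9 hm
      (by rw [pv_c9]; exact hd))
    (fun m hm hd => exists_row e6T cs inv three_ne_zero H378.AdjE6.hA chainE6 eigE6 hm
      (hd.trans (dvd_of_eq (by simp only [pv, cE6, tx, Fin.sum_univ_succ]; simp only [_root_.Nat.card_eq_fintype_card, _root_.Nat.reduceAdd, _root_.Int.reduceNeg, _root_.Fin.isValue, _root_.Matrix.cons_val_zero, _root_.Fin.coe_ofNat_eq_mod, _root_.Nat.zero_mod, _root_.pow_zero, _root_.mul_one, _root_.Fin.succ_zero_eq_one, _root_.Matrix.cons_val_one, _root_.Nat.one_mod, _root_.pow_one, _root_.one_mul, _root_.Fin.succ_one_eq_two, _root_.Matrix.cons_val, _root_.Nat.reduceMod, _root_.neg_mul, _root_.Fin.reduceSucc, _root_.MulZeroClass.zero_mul,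 _root_.Nat.mod_succ, _root_.Finset.univ_eq_empty, _root_.Matrix.cons_val_succ, _root_.Matrix.cons_val_fin_one, _root_.Fin.val_succ, _root_.Fin.val_eq_zero, _root_.zero_add, _root_.Finset.sum_neg_distrib, _root_.Finset.sum_const, _root_.Finset.card_empty, _root_.zero_nsmul, _root_.neg_zero, _root_.add_zero]; ring))))
  · rcases gcd_case (n := Nat.card F - 1) with ⟨h1, h2⟩ | ⟨h1, h2⟩
    · refine Or.inl ⟨h1, fun h3 => h2 ?_⟩
      have : ((Nat.card F - 1 : ℕ) : ℤ) = ((Nat.card F : ℕ) : ℤ) - 1 := by push_cast [Nat.cast_sub (by omega : 1 ≤ Nat.card F)]; ring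
      rw [← this] at h3
      exact_mod_cast h3
    · refine Or.inr ⟨h1, ?_⟩
      have : ((Nat.card F - 1 : ℕ) : ℤ) = ((Nat.card F : ℕ) : ℤ) - 1 := by push_cast [Nat.cast_sub (by omega : 1 ≤ Nat.card F)]; ring
      rw [← this]
      exact_mod_cast h2
  · simp only [List.mem_cons, List.not_mem_nil, or_false] at hm
    rcases hm with rfl | rfl | rfl
    · exact Or.inl (Or.inl hd')
    · exact Or.inr hd'
    · exact Or.inl (Or.inr hd')

/-- **`²E₆(v)`.** -/
theorem te6_of {q : ℕ} {K : Type*} [Field K] [Fintype K] {v : ℕ} (hv : IsPrimePow v) (hK : Fintype.card K = v ^ 2)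
    (h5 : ¬ 5 ∣ v) (h : E5 q ↥(twistedE6 K v)) : False := by
  obtain ⟨hq, -, -⟩ := q_facts h
  obtain ⟨x, hx⟩ := h.minus.resolve_left (not_al2_2E6 hv hK)
  have h7 := seven_le_am hq
  obtain ⟨m, hm, hd⟩ := cls_2E6 hv hK x (by omega) (by rw [hx]; exact (am_spec (by omega)).2)
    fun r hr hrd => not_adj h hr (by rwa [← hx])
  rw [hx] at hd
  have hv2 : 2 ≤ v := hv.two_le
  have hd' : (am q : ℤ) ∣ Pz m (v : ℕ) := by
    have := Int.natCast_dvd_natCast.2 hd
    rwa [cast_Pn hv2] at this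
  refine fin6 h hv2 h5 (Or.inr rfl) (g := Nat.gcd 3 (v + 1)) ?_ ?_
    (fun m hm hd => row_T hv hK H493.PGE6T.chainE_ok H493.PGE6T.hThE H493.PGE6T.eigE_8 (by decide) hm
      (by rw [pv_c8]; exact hd.trans (dvd_of_eq (by simp only [p8]; ring))))
    (fun m hm hd => row_T hv hK H493.PGE6T.chainD_ok H493.PGE6T.hThD H493.PGE6T.eigD_10 (by decide) hm
      (by rw [pv_c10]; exact hd.trans (dvd_of_eq (by simp only [p5]; ring))))
    (fun m hm hd => row_T hv hK H493.PGE6T.chainF_ok H493.PGE6T.hThF H493.PGE6T.eigF_12 (by decide) hm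
      (by rw [pv_c12]; exact hd.trans (dvd_of_eq (by simp only [p12]; ring))))
    (fun m hm hd => row_T hv hK H493.PGE6T.chainB_ok H493.PGE6T.hThB H493.PGE6T.eigB_6 (by decide) hm
      (by rw [pv_c6]; exact hd.trans (dvd_of_eq (by simp only [p3]; ring))))
    (fun m hm hd => row_T hv hK H493.PGE6T.chainG_ok H493.PGE6T.hThG H493.PGE6T.eigG_18 (by decide) hm
      (by rw [pv_c18]; exact hd.trans (dvd_of_eq (by simp only [p9]; ring))))
    (fun m hm hd => row_T hv hK chainT6 thT6 eigT6 (by right; rfl) hm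
      (hd.trans (dvd_of_eq (by simp only [pv, cT6, tx, Fin.sum_univ_succ]; simp only [_root_.even_two, _root_.Even.neg_pow, _root_.sub_neg_eq_add, _root_.Nat.reduceAdd, _root_.Int.reduceNeg, _root_.Fin.isValue, _root_.Matrix.cons_val_zero, _root_.Fin.coe_ofNat_eq_mod, _root_.Nat.zero_mod, _root_.pow_zero, _root_.mul_one, _root_.Fin.succ_zero_eq_one, _root_.Matrix.cons_val_one, _root_.Nat.one_mod, _root_.pow_one, _root_.neg_mul, _root_.one_mul, _root_.Fin.succ_one_eq_two, _root_.Matrix.cons_val, _root_.Nat.reduceMod, _root_.Fin.reduceSucc, _root_.MulZeroClass.zero_mul, _root_.Nat.mod_succ, _root_.Finset.univ_eq_empty, _root_.Matrix.cons_val_succ, _root_.Matrix.cons_val_fin_one, _root_.Fin.val_succ, _root_.Fin.val_eq_zero, _root_.zero_add, _root_.Finset.sum_const, _root_.Finset.card_empty, _root_.zero_nsmul, _root_.add_zero]; ring))))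
  · rcases gcd_case (n := v + 1) with ⟨h1, h2⟩ | ⟨h1, h2⟩
    · refine Or.inl ⟨h1, fun h3 => h2 ?_⟩
      have h4 : (3 : ℤ) ∣ ((v + 1 : ℕ) : ℤ) := by
        push_cast
        obtain ⟨c, hc⟩ := h3
        exact ⟨-c, by linear_combination -hc⟩
      exact_mod_cast h4
    · refine Or.inr ⟨h1, ?_⟩
      have h4 : (3 : ℤ) ∣ ((v + 1 : ℕ) : ℤ) := by exact_mod_cast h2
      push_cast at h4
      obtain ⟨c, hc⟩ := h4
      exact ⟨-c, by linear_combination -hc⟩
  · simp only [List.mem_cons, List.not_mem_nil, or_false] at hm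
    rcases hm with rfl | rfl | rfl
    · left; left
      have : p8 (-(v : ℤ)) = Pz 8 (v : ℤ) := by simp only [p8, Pz]; ring
      rw [this]; exact hd'
    · left; right
      have : p12 (-(v : ℤ)) = Pz 12 (v : ℤ) := by simp only [p12, Pz]; ring
      rw [this]; exact hd'
    · right
      have : p9 (-(v : ℤ)) = Pz 18 (v : ℤ) := by simp only [p9, Pz]; ring
      rw [this]; exact hd'

end Cfsg.Agent.H75.M5h
end

-- part: H75/M5hTE6
section
/-!
# `²E₆(v)` in BLOCK 6, named form (helper75, task 2625)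
-/

set_option autoImplicit false

namespace Cfsg.Agent.H75.M5h

open Cfsg Cfsg.Lie Cfsg.Agent.H376.Six Cfsg.Agent.OrdDiv Cfsg.Agent.H436

universe u

/-- **`²E₆(v)`.** -/
theorem te6 {q w : ℕ} {S : Type u} [Group S] (hS : IsNamed (.te6 w) S) (h5 : ¬ 5 ∣ w) (h : E5 q S) : False := by
  obtain ⟨F, _, _, hF, ⟨e⟩⟩ := hS.real
  exact te6_of hS.cond hF h5 (h.congr e)

end Cfsg.Agent.H75.M5h
end

private theorem dce_255520b96ed9 : _root_.True := by
  try have : _root_.True := by simp only [_root_.Cfsg.Agent.H77.E4Poly.Pz.eq_4]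
  try have : _root_.True := by simp only [_root_.Cfsg.Agent.H77.E4Poly.Pz.eq_8]
  try have : _root_.True := by simp only [_root_.Cfsg.Agent.H77.E4Poly.Pz.eq_6]
  try have : _root_.True := by simp only [_root_.Cfsg.Agent.H77.E4Poly.Pz.eq_12]
  try have : _root_.True := by simp only [_root_.Cfsg.Agent.H77.E4Poly.Pz.eq_5]
  try have : _root_.True := by simp only [_root_.Cfsg.Agent.H77.E4Poly.Pz.eq_2]
  try have : _root_.True := by simp only [_root_.Cfsg.Agent.H77.E4Poly.Pz.eq_3]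
  try have : _root_.True := by simp only [_root_.Cfsg.Agent.H75.M5h.eq_8]
  try have : _root_.True := by simp only [_root_.Cfsg.Agent.H77.E4Poly.Pz.eq_10]
  try have : _root_.True := by simp only [_root_.Cfsg.Agent.H75.M5h.p5.eq_1]
  try have : _root_.True := by simp only [_root_.Cfsg.Agent.H77.E4Poly.Pz.eq_7]
  try have : _root_.True := by simp only [_root_.Cfsg.Agent.H77.E4Poly.Pz.eq_9]
  try have : _root_.True := by simp only [_root_.Cfsg.Agent.H77.E4Poly.Pz.eq_13]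
  try have : _root_.True := by simp only [_root_.Cfsg.Agent.H75.M5h.p3.eq_1]
  try have : _root_.True := by simp only [_root_.Cfsg.Agent.H77.E4Poly.Pz.eq_11]
  try have : _root_.True := by simp only [_root_.Cfsg.Agent.H75.M5h.p8.eq_1]
  try have : _root_.True := by simp only [_root_.Cfsg.Agent.H75.M5h.p9.eq_1]
  try have : _root_.True := by simp only [_root_.Cfsg.Agent.H77.E4Poly.Pz.eq_1]
  try have : _root_.True := by simp only [_root_.Cfsg.Agent.H75.M5h.tx.eq_1]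
  try have : _root_.True := by simp only [_root_.Cfsg.Agent.H75.M5h.p12.eq_1]
  exact _root_.True.intro
end

-- part: H390/B6/FromRed
section
prune_inst 0xc1607644494010000000009691002204480001900020800158000f46020e93228000a9004c801d06020a220000050018100000d040400000040004000001012090a8100071c1010c040007800086000000000000020000000000000000041004000000000
set_option linter.all false
open scoped Cfsg.Agent.FastGrp

-- part: H424/ShultTwo
section
/-!
# The Shult step with a 2-group (helper424, task of helper376)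

`exists_orderOf_mul_two` : `K ⊴ G` solvable, `S ≤ G/K`; `t ∣ |K|`; `y ∈ S` of odd prime order `w ∤ |K|`, with
`(w - 1)² ∤ 2ⁿ` for all `n`, normalises and does not centralise a `2`-subgroup of `S`, `t ≠ 2, w`: then `G` has an
element of order `t w`.
-/

set_option autoImplicit false
set_option linter.unusedVariables false

namespace Cfsg.Agent.H424.ShultTwo

open Subgroup
open Cfsg (IsPiHallOf)
open Cfsg.Agent.H381.Cover
open Cfsg.Agent.H376.Shult

universe u

/-- **The Shult step, 2-group.** -/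
theorem exists_orderOf_mul_two {G : Type u} [Group G] [Finite G] (K : Subgroup G) [K.Normal]
    (hK : Group.IsSolvable ↥K) (S : Subgroup (G ⧸ K)) (hS : IsSimpleGroup ↥S) {t w : ℕ} (ht : t.Prime)
    (hw : w.Prime) (hw2 : w ≠ 2) (ht2 : t ≠ 2) (htw : t ≠ w) (hnf : ∀ n : ℕ, ¬ (w - 1) ^ 2 ∣ 2 ^ n)
    (htK : t ∣ Nat.card ↥K) (hwK : ¬ w ∣ Nat.card ↥K) (A : Subgroup ↥S) (hA : IsPGroup 2 A) (y : ↥S)
    (hy : orderOf y = w) (hyA : y ∈ normalizer (A : Set ↥S)) {a : ↥S} (ha : a ∈ A) (hya : ¬ Commute y a) :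
    ∃ g : G, orderOf g = t * w := by
  have htf : Fact t.Prime := ⟨ht⟩
  have hvf : Fact (Nat.Prime 2) := ⟨Nat.prime_two⟩
  let f : G →* G ⧸ K := QuotientGroup.mk' K
  let ι : ↥S →* G ⧸ K := S.subtype
  have hker : f.ker = K := QuotientGroup.ker_mk' K
  have hsol : Group.IsSolvable f.ker := by rw [hker]; exact hK
  have htop : Cov f ι ⊤ := fun z _ => by
    obtain ⟨g, hg⟩ := QuotientGroup.mk'_surjective K z
    exact ⟨g, mem_top g, hg⟩
  obtain ⟨V, hV⟩ := Cfsg.Agent.OddOrderLocal.HallPi.exists_isPiHallOf hK ({t} : Set ℕ)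
  have hVt : IsPGroup t V := (Cfsg.Agent.OddOrderLocal.PiCoreOf.isPi_singleton_iff ht V).mp hV.2.1
  have hM : Cov f ι (⊤ ⊓ normalizer (V : Set G)) :=
    htop.frattini hK le_top (by rw [normalizer_eq_top]) (by rw [hker]) hV
  rw [top_inf_eq] at hM
  set M := normalizer (V : Set G) with hMdef
  -- an element of order `t` of `V`
  have hVne : t ∣ Nat.card V := by
    obtain ⟨n, hn⟩ := IsPGroup.iff_card.1 hVt
    rcases Nat.eq_zero_or_pos n with h0 | h0
    · exfalso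
      rw [h0, pow_zero] at hn
      have h1 : V = ⊥ := (Subgroup.card_eq_one).1 hn
      have h2 := hV.2.2 t ht (Set.mem_singleton t)
      rw [h1, relIndex_bot_left] at h2
      exact h2 htK
    · rw [hn]
      exact dvd_pow_self t h0.ne'
  obtain ⟨x, hx⟩ := exists_prime_orderOf_dvd_card' t hVne
  have hx' : orderOf (x : G) = t := by rw [Subgroup.orderOf_coe, hx]
  have key : ∀ g : G, orderOf g = w → (∃ z ∈ V, orderOf z = t ∧ Commute g z) → ∃ g : G, orderOf g = t * w := by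
    rintro g hg ⟨z, -, hz, hc⟩
    refine ⟨z * g, ?_⟩
    rw [hc.symm.orderOf_mul_eq_mul_orderOf_of_coprime (by rw [hz, hg]; exact (Nat.coprime_primes ht hw).2 htw), hz, hg]
  have hyι : orderOf (ι y) = w := by rw [← hy]; exact orderOf_injective ι S.subtype_injective y
  obtain ⟨Y, hYM, g, hgM, hY, hYA, hgY, hgy, hgo⟩ :=
    hM.lift_pair hsol Nat.prime_two hw hA hyA (k := 1) (by rw [hy, pow_one])
  have hg : orderOf g = w := orderOf_eq_of_lift K hw hwK hyι hgy hgo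
  by_cases hfix : V ⊓ centralizer (zpowers g : Set G) = ⊥
  · -- `[Y, g]` centralises `V`
    obtain ⟨n, hn⟩ := IsPGroup.iff_card.1 hY
    obtain ⟨m, hm⟩ := IsPGroup.iff_card.1 hVt
    have hRc : Nat.card (zpowers g) = w := by rw [Nat.card_zpowers, hg]
    have hnil := hY.isNilpotent
    have hnil' := hVt.isNilpotent
    have hc := Cfsg.Agent.SignalizersComponents.NoFixedGen.commutator_le_centralizer_of_fixedFree Y (zpowers g) V
      inferInstance
      (by rw [hn, hRc]; exact hnf n) (by rw [hRc]; exact hw) (by rw [hRc]; exact hw2)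
      (by rw [zpowers_le]; exact hgY) (by
        rw [hn, hRc]; exact Nat.Coprime.pow_left n ((Nat.coprime_primes Nat.prime_two hw).2 (Ne.symm hw2))) hYM
      (by rw [zpowers_le]; exact hgM) inferInstance (by
        rw [hn, hm]; exact Nat.Coprime.pow m n ((Nat.coprime_primes ht Nat.prime_two).2 ht2)) (by
        rw [hm, hRc]; exact Nat.Coprime.pow_left m ((Nat.coprime_primes ht hw).2 htw)) hfix
    have hcov := hM.centralizer_of_commutator (P := V) le_rfl hYM hYA hgM hgy ha hya hc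
    obtain ⟨g', hg'M, hg'y, hg'o⟩ := hcov.lift_elem hw (x := y) (k := 1) (by rw [hy, pow_one])
    have hg' : orderOf g' = w := orderOf_eq_of_lift K hw hwK hyι hg'y hg'o
    exact key g' hg' ⟨x, x.2, hx', ((mem_centralizer_iff.1 (mem_inf.1 hg'M).2) x x.2).symm⟩
  · -- an element of `V` centralised by `g`
    have hW : IsPGroup t (V ⊓ centralizer (zpowers g : Set G) : Subgroup G) := hVt.to_le inf_le_left
    have hWt : t ∣ Nat.card (V ⊓ centralizer (zpowers g : Set G) : Subgroup G) := by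
      obtain ⟨n, hn⟩ := IsPGroup.iff_card.1 hW
      rcases Nat.eq_zero_or_pos n with h0 | h0
      · rw [h0, pow_zero] at hn
        exact absurd ((Subgroup.card_eq_one).1 hn) hfix
      · rw [hn]
        exact dvd_pow_self t h0.ne'
    obtain ⟨z, hz⟩ := exists_prime_orderOf_dvd_card' t hWt
    obtain ⟨hzV, hzC⟩ := mem_inf.1 z.2
    exact key g hg ⟨z, hzV, by rw [Subgroup.orderOf_coe, hz], (mem_centralizer_iff.1 hzC) g (mem_zpowers g)⟩

end Cfsg.Agent.H424.ShultTwo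
end

-- part: H390/B6/FromRed
section
/-!
# The facts about the simple section (helper390, for block 6 of helper376)

* `e5_of_red`, `e2_of_red` : `E5 q S`, `E2 q S` from `X5 q G`, `X2 q G` and `Red G K S`;
* `X5.exists_red`, `X2.exists_red` : existence of the reduction.
-/

set_option autoImplicit false
set_option linter.unusedSectionVars false
set_option linter.unusedVariables false

namespace Cfsg.Agent.H376.Six

open Subgroup Cfsg.Agent.H420.QR

universe u v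

/-! ### Numbers -/

/-- a prime divisor of `ap q` dividing an element order -/
theorem X5.ub_ap {q : ℕ} {G : Type*} [Group G] (h : X5 q G) {r : ℕ} (hr : r.Prime) (hra : r ∣ ap q) (g : G)
    (hg : r ∣ orderOf g) : orderOf g ∣ (q ^ 3 - 1) / 2 := by
  obtain ⟨m, hm, hq⟩ := h.pow
  have hq5 : 5 ∣ q := by rw [hq]; exact dvd_pow_self 5 (by omega)
  have hq1 : 1 ≤ q := by rw [hq]; exact Nat.one_le_pow _ _ (by norm_num)
  have hq2 : 2 ≤ q := by have := Nat.le_of_dvd (by omega) hq5; omega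
  have hodd : q % 2 = 1 := by rw [hq, Nat.pow_mod]; norm_num
  obtain ⟨hr2, hr3, hrq⟩ := ap_ne hq2 hr hra
  have hr5 : r ≠ 5 := by rintro rfl; exact hrq hq5
  have hr5' : ¬ r ∣ 5 := fun h => hr5 ((Nat.prime_dvd_prime_iff_eq hr (by norm_num)).1 h)
  have hA : r ∣ (q ^ 3 - 1) / 2 := hra.trans (ap_dvd_half hq2 hodd)
  have h4 := ap_prime hq2 hr hra
  rcases h.ub g with h1 | h1 | h1 | h1 | h1 | h1
  · exact h1
  · exfalso
    have h2 := Nat.dvd_gcd hA (hg.trans h1)
    rw [coprime_half hodd] at h2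
    exact hr.one_lt.ne' (Nat.dvd_one.1 h2)
  · exfalso
    apply h4
    refine (hg.trans h1).trans ?_
    exact Nat.div_dvd_of_dvd (by
      have : (q : ℕ) ^ 4 - 1 = (q ^ 2 + 1) * ((q + 1) * (q - 1)) := by
        have h5 : q ^ 4 - 1 = (q ^ 2 + 1) * (q ^ 2 - 1) := by
          rw [show q ^ 4 = (q ^ 2) ^ 2 by ring, show ((q ^ 2) ^ 2 - 1) = (q ^ 2) ^ 2 - 1 ^ 2 by norm_num only [], Nat.sq_sub_sq]
        rw [h5, show q ^ 2 - 1 = q ^ 2 - 1 ^ 2 by norm_num only [], Nat.sq_sub_sq]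
      rw [this]
      have ha : 2 ∣ q + 1 := by (clear * - hodd; omega)
      have hb : 2 ∣ q - 1 := by (clear * - hodd; omega)
      exact Dvd.dvd.mul_left (mul_dvd_mul ha hb) _)
  · exfalso
    rcases hr.dvd_mul.1 (hg.trans h1) with h2 | h2
    · exact hr5' h2
    · exact h4 (h2.trans (sq_pm_dvd q).1)
  · exfalso
    rcases hr.dvd_mul.1 (hg.trans h1) with h2 | h2
    · exact hr5' h2
    · exact h4 (h2.trans (sq_pm_dvd q).2)
  · exfalso
    have h2 : r ∣ 5 ^ 2 := hg.trans h1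
    exact hr5' (hr.dvd_of_dvd_pow h2)

/-- a prime divisor of `am q` dividing an element order -/
theorem X5.ub_am {q : ℕ} {G : Type*} [Group G] (h : X5 q G) {r : ℕ} (hr : r.Prime) (hra : r ∣ am q) (g : G)
    (hg : r ∣ orderOf g) : orderOf g ∣ (q ^ 3 + 1) / 2 := by
  obtain ⟨m, hm, hq⟩ := h.pow
  have hq5 : 5 ∣ q := by rw [hq]; exact dvd_pow_self 5 (by omega)
  have hq1 : 1 ≤ q := by rw [hq]; exact Nat.one_le_pow _ _ (by norm_num)
  have hq2 : 2 ≤ q := by have := Nat.le_of_dvd (by omega) hq5; omega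
  have hodd : q % 2 = 1 := by rw [hq, Nat.pow_mod]; norm_num
  obtain ⟨hr2, hr3, hrq⟩ := am_ne hq2 hr hra
  have hr5 : r ≠ 5 := by rintro rfl; exact hrq hq5
  have hr5' : ¬ r ∣ 5 := fun h => hr5 ((Nat.prime_dvd_prime_iff_eq hr (by norm_num)).1 h)
  have hA : r ∣ (q ^ 3 + 1) / 2 := hra.trans (am_dvd_half hq2 hodd)
  have h4 := am_prime hq2 hr hra
  rcases h.ub g with h1 | h1 | h1 | h1 | h1 | h1
  · exfalso
    have h2 := Nat.dvd_gcd (hg.trans h1) hA
    rw [coprime_half hodd] at h2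
    exact hr.one_lt.ne' (Nat.dvd_one.1 h2)
  · exact h1
  · exfalso
    apply h4
    refine (hg.trans h1).trans ?_
    exact Nat.div_dvd_of_dvd (by
      have : (q : ℕ) ^ 4 - 1 = (q ^ 2 + 1) * ((q + 1) * (q - 1)) := by
        have h5 : q ^ 4 - 1 = (q ^ 2 + 1) * (q ^ 2 - 1) := by
          rw [show q ^ 4 = (q ^ 2) ^ 2 by ring, show ((q ^ 2) ^ 2 - 1) = (q ^ 2) ^ 2 - 1 ^ 2 by norm_num only [], Nat.sq_sub_sq]
        rw [h5, show q ^ 2 - 1 = q ^ 2 - 1 ^ 2 by norm_num only [], Nat.sq_sub_sq]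
      rw [this]
      have ha : 2 ∣ q + 1 := by (clear * - hodd; omega)
      have hb : 2 ∣ q - 1 := by (clear * - hodd; omega)
      exact Dvd.dvd.mul_left (mul_dvd_mul ha hb) _)
  · exfalso
    rcases hr.dvd_mul.1 (hg.trans h1) with h2 | h2
    · exact hr5' h2
    · exact h4 (h2.trans (sq_pm_dvd q).1)
  · exfalso
    rcases hr.dvd_mul.1 (hg.trans h1) with h2 | h2
    · exact hr5' h2
    · exact h4 (h2.trans (sq_pm_dvd q).2)
  · exfalso
    have h2 : r ∣ 5 ^ 2 := hg.trans h1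
    exact hr5' (hr.dvd_of_dvd_pow h2)

/-- `q ^ 3 - 1` and `q ^ 3 + 1` are coprime, `q` even -/
theorem coprime_cube {q : ℕ} (h : q % 2 = 0) (hq : 2 ≤ q) : Nat.Coprime (q ^ 3 - 1) (q ^ 3 + 1) := by
  have h0 : q ^ 3 % 2 = 0 := by rw [Nat.pow_mod, h]
  have h1 : 1 ≤ q ^ 3 := Nat.one_le_pow _ _ (by omega)
  have h2 : q ^ 3 + 1 = (q ^ 3 - 1) + 2 := by omega
  rw [h2, Nat.coprime_self_add_right, Nat.coprime_comm, Nat.Prime.coprime_iff_not_dvd Nat.prime_two]
  omega

theorem X2.ub_ap {q : ℕ} {G : Type*} [Group G] (h : X2 q G) {r : ℕ} (hr : r.Prime) (hra : r ∣ ap q) (g : G)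
    (hg : r ∣ orderOf g) : orderOf g ∣ q ^ 3 - 1 := by
  obtain ⟨m, hm, hq⟩ := h.pow
  have hq1 : 4 ≤ q := by
    rw [hq]
    calc 4 = 2 ^ 2 := by norm_num
      _ ≤ 2 ^ m := Nat.pow_le_pow_right (by norm_num) hm
  have hq2 : 2 ≤ q := by omega
  have heven : q % 2 = 0 := by rw [hq, Nat.pow_mod]; simp [show m ≠ 0 by omega]
  obtain ⟨hr2, hr3, hrq⟩ := ap_ne hq2 hr hra
  have hr2' : ¬ r ∣ 2 := fun h => hr2 ((Nat.prime_dvd_prime_iff_eq hr (by norm_num)).1 h)
  have hr4' : ¬ r ∣ 4 := fun h => hr2' (hr.dvd_of_dvd_pow (show r ∣ 2 ^ 2 from h))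
  have hA : r ∣ q ^ 3 - 1 := hra.trans (ap_dvd_cube hq2)
  have h4 := ap_prime hq2 hr hra
  rcases h.ub g with h1 | h1 | h1 | h1 | h1 | h1 | h1 | h1
  · exact h1
  · exfalso
    have h2 := Nat.dvd_gcd hA (hg.trans h1)
    rw [coprime_cube heven hq2] at h2
    exact hr.one_lt.ne' (Nat.dvd_one.1 h2)
  · exact absurd (hg.trans h1) h4
  · exfalso
    rcases hr.dvd_mul.1 (hg.trans h1) with h2 | h2
    · exact hr2' h2
    · exact h4 (h2.trans (sq_pm_dvd q).1)
  · exfalso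
    rcases hr.dvd_mul.1 (hg.trans h1) with h2 | h2
    · exact hr2' h2
    · exact h4 (h2.trans (sq_pm_dvd q).2)
  · exfalso
    rcases hr.dvd_mul.1 (hg.trans h1) with h2 | h2
    · exact hr4' h2
    · exact h4 (h2.trans (add_one_dvd q))
  · exfalso
    rcases hr.dvd_mul.1 (hg.trans h1) with h2 | h2
    · exact hr4' h2
    · exact h4 (h2.trans (one_dvd_pow q).1)
  · exact absurd (hr.dvd_of_dvd_pow (show r ∣ 2 ^ 3 from hg.trans h1)) hr2'

theorem X2.ub_am {q : ℕ} {G : Type*} [Group G] (h : X2 q G) {r : ℕ} (hr : r.Prime) (hra : r ∣ am q) (g : G)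
    (hg : r ∣ orderOf g) : orderOf g ∣ q ^ 3 + 1 := by
  obtain ⟨m, hm, hq⟩ := h.pow
  have hq1 : 4 ≤ q := by
    rw [hq]
    calc 4 = 2 ^ 2 := by norm_num
      _ ≤ 2 ^ m := Nat.pow_le_pow_right (by norm_num) hm
  have hq2 : 2 ≤ q := by omega
  have heven : q % 2 = 0 := by rw [hq, Nat.pow_mod]; simp [show m ≠ 0 by omega]
  obtain ⟨hr2, hr3, hrq⟩ := am_ne hq2 hr hra
  have hr2' : ¬ r ∣ 2 := fun h => hr2 ((Nat.prime_dvd_prime_iff_eq hr (by norm_num)).1 h)
  have hr4' : ¬ r ∣ 4 := fun h => hr2' (hr.dvd_of_dvd_pow (show r ∣ 2 ^ 2 from h))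
  have hA : r ∣ q ^ 3 + 1 := hra.trans (am_dvd_cube hq2)
  have h4 := am_prime hq2 hr hra
  rcases h.ub g with h1 | h1 | h1 | h1 | h1 | h1 | h1 | h1
  · exfalso
    have h2 := Nat.dvd_gcd (hg.trans h1) hA
    rw [coprime_cube heven hq2] at h2
    exact hr.one_lt.ne' (Nat.dvd_one.1 h2)
  · exact h1
  · exact absurd (hg.trans h1) h4
  · exfalso
    rcases hr.dvd_mul.1 (hg.trans h1) with h2 | h2
    · exact hr2' h2
    · exact h4 (h2.trans (sq_pm_dvd q).1)
  · exfalso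
    rcases hr.dvd_mul.1 (hg.trans h1) with h2 | h2
    · exact hr2' h2
    · exact h4 (h2.trans (sq_pm_dvd q).2)
  · exfalso
    rcases hr.dvd_mul.1 (hg.trans h1) with h2 | h2
    · exact hr4' h2
    · exact h4 (h2.trans (add_one_dvd q))
  · exfalso
    rcases hr.dvd_mul.1 (hg.trans h1) with h2 | h2
    · exact hr4' h2
    · exact h4 (h2.trans (one_dvd_pow q).1)
  · exact absurd (hr.dvd_of_dvd_pow (show r ∣ 2 ^ 3 from hg.trans h1)) hr2'


/-! ### Elements of `S` -/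

/-- an element order coprime to `|K| |G/K : S|` is an element order of `S` -/
theorem order_of_coprime {G : Type u} [Group G] [Finite G] {K : Subgroup G} [K.Normal] {S : Subgroup (G ⧸ K)}
    [S.Normal] {n : ℕ} (hx : ∃ g : G, orderOf g = n) (hc : n.Coprime (Nat.card ↥K * S.index)) :
    ∃ x : ↥S, orderOf x = n := by
  obtain ⟨g, hg⟩ := hx
  set f := QuotientGroup.mk' K with hf
  have hcK : n.Coprime (Nat.card ↥K) := hc.coprime_dvd_right (dvd_mul_right _ _)
  have hcI : n.Coprime S.index := hc.coprime_dvd_right (dvd_mul_left _ _)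
  have h1 : orderOf (f g) = n := by
    apply Nat.dvd_antisymm
    · rw [← hg]; exact orderOf_map_dvd f g
    · rw [← hg]
      apply orderOf_dvd_of_pow_eq_one
      have hm : g ^ orderOf (f g) ∈ K := by
        rw [← QuotientGroup.eq_one_iff]
        change f (g ^ orderOf (f g)) = 1
        rw [map_pow, pow_orderOf_eq_one]
      have h2 : orderOf (g ^ orderOf (f g)) ∣ Nat.card ↥K := Subgroup.orderOf_dvd_natCard K hm
      have h3 : orderOf (g ^ orderOf (f g)) ∣ n := by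
        rw [← hg]; exact orderOf_pow_dvd _
      have h4 := Nat.dvd_gcd h3 h2
      rw [hcK, Nat.dvd_one, orderOf_eq_one_iff] at h4
      exact h4
  have h2 : f g ^ S.index ∈ S := S.pow_index_mem (f g)
  refine ⟨⟨f g ^ S.index, h2⟩, ?_⟩
  rw [← Subgroup.orderOf_coe]
  change orderOf (f g ^ S.index) = n
  rw [Nat.Coprime.orderOf_pow, h1]
  rw [h1]
  exact hcI

/-- an element order of `S` divides an element order of `G` -/
theorem order_lift {G : Type u} [Group G] {K : Subgroup G} [K.Normal] {S : Subgroup (G ⧸ K)}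
    (x : ↥S) : ∃ g : G, orderOf x ∣ orderOf g := by
  obtain ⟨y, hy⟩ := QuotientGroup.mk'_surjective K (x : G ⧸ K)
  refine ⟨y, ?_⟩
  rw [← Subgroup.orderOf_coe, ← hy]
  exact orderOf_map_dvd _ y

/-- the index of `S` divides the order of `Out S` -/
theorem index_dvd_out {X : Type u} [Group X] [Finite X] (S : Subgroup X) [S.Normal]
    (hS : Subgroup.centralizer (S : Set X) = ⊥) : S.index ∣ Nat.card (Cfsg.Out ↥S) := by
  let f : X →* Cfsg.Out ↥S := (QuotientGroup.mk' (Cfsg.Inn ↥S)).comp (MulAut.conjNormal : X →* MulAut ↥S)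
  have hker : f.ker ≤ S := by
    intro g hg
    rw [MonoidHom.mem_ker] at hg
    have h1 : (QuotientGroup.mk' (Cfsg.Inn ↥S)) ((MulAut.conjNormal : X →* MulAut ↥S) g) = 1 := hg
    rw [QuotientGroup.mk'_apply, QuotientGroup.eq_one_iff] at h1
    obtain ⟨s, hs⟩ := h1
    have h2 : (s : X)⁻¹ * g ∈ Subgroup.centralizer (S : Set X) := by
      rw [Subgroup.mem_centralizer_iff]
      intro y hy
      have h3 := congrArg Subtype.val (DFunLike.congr_fun hs (⟨y, hy⟩ : ↥S))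
      have h4 : (s : X) * y * (s : X)⁻¹ = g * y * g⁻¹ := h3
      calc y * ((s : X)⁻¹ * g) = (s : X)⁻¹ * ((s : X) * y * (s : X)⁻¹) * g := by group
        _ = (s : X)⁻¹ * (g * y * g⁻¹) * g := by rw [h4]
        _ = (s : X)⁻¹ * g * y := by group
    rw [hS, Subgroup.mem_bot, inv_mul_eq_one] at h2
    rw [← h2]
    exact s.2
  have h1 : S.index ∣ f.ker.index := Subgroup.index_dvd_of_le hker
  rw [Subgroup.index_ker] at h1
  exact h1.trans (Subgroup.card_subgroup_dvd_card _)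

/-- `r ≡ 1 mod 3` -/
theorem three_dvd_of_root {r : ℕ} (hr : r.Prime) (h3 : r ≠ 3) {a : ZMod r} (h : a ^ 2 + a + 1 = 0) :
    3 ∣ r - 1 := by
  haveI := Fact.mk hr
  have h1 : a ^ 3 = 1 := by linear_combination (a - 1) * h
  have h2 : a ≠ 1 := by
    rintro rfl
    have h4 : ((3 : ℕ) : ZMod r) = 0 := by push_cast; linear_combination h
    rw [ZMod.natCast_eq_zero_iff] at h4
    exact h3 ((Nat.prime_dvd_prime_iff_eq hr Nat.prime_three).1 h4)
  have h4 : orderOf a = 3 := orderOf_eq_prime h1 h2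
  have h5 : a ≠ 0 := by rintro rfl; simp at h
  rw [← h4]
  exact ZMod.orderOf_dvd_card_sub_one h5

theorem three_dvd_sub_one {q r : ℕ} (hq : 2 ≤ q) (hr : r.Prime) (h : r ∣ ap q * am q) : 3 ∣ r - 1 := by
  rcases hr.dvd_mul.1 h with h | h
  · apply three_dvd_of_root hr (ap_ne hq hr h).2.1 (a := ((q : ℤ) : ZMod r))
    have h1 := (ZMod.intCast_zmod_eq_zero_iff_dvd ((q : ℤ) ^ 2 + q + 1) r).2 (ap_dvd_int hq h)
    push_cast at h1 ⊢
    exact h1
  · apply three_dvd_of_root hr (am_ne hq hr h).2.1 (a := -((q : ℤ) : ZMod r))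
    have h1 := (ZMod.intCast_zmod_eq_zero_iff_dvd ((q : ℤ) ^ 2 - q + 1) r).2 (am_dvd_int hq h)
    push_cast at h1 ⊢
    linear_combination h1

/-- **The covering step.** -/
theorem noFrob_of {G : Type u} [Group G] [Finite G] {K : Subgroup G} [K.Normal] {S : Subgroup (G ⧸ K)}
    [S.Normal] (hK : Group.IsSolvable ↥K) (hS : IsSimpleGroup ↥S) {q c : ℕ} (hq : 2 ≤ q) (hc : c.Prime)
    (hcK : c ∣ Nat.card ↥K)
    (hr : ∀ r : ℕ, r.Prime → r ∣ ap q * am q → ¬ r ∣ Nat.card ↥K ∧ ¬ ∃ g : G, orderOf g = c * r) :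
    NoFrob c q ↥S := by
  intro r hrp hra t ht htc htr U hU y hy hn u hu
  obtain ⟨hrK, hno⟩ := hr r hrp hra
  have hrp3 : r ≠ 2 ∧ r ≠ 3 := by
    rcases hrp.dvd_mul.1 hra with h | h
    · exact ⟨(ap_ne hq hrp h).1, (ap_ne hq hrp h).2.1⟩
    · exact ⟨(am_ne hq hrp h).1, (am_ne hq hrp h).2.1⟩
  have hcr : c ≠ r := by
    rintro rfl
    exact hrK hcK
  by_contra hcomm
  apply hno
  have hyU : y ∈ Subgroup.normalizer (U : Set ↥S) := by
    have h1 : ∀ n : ℕ, ∀ w ∈ U, y ^ n * w * (y ^ n)⁻¹ ∈ U := by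
      intro n
      induction n with
      | zero => intro w hw; simpa using hw
      | succ n ih =>
        intro w hw
        have h2 : y ^ (n + 1) * w * (y ^ (n + 1))⁻¹ = y * (y ^ n * w * (y ^ n)⁻¹) * y⁻¹ := by
          rw [pow_succ']
          group
        rw [h2]
        exact hn _ (ih w hw)
    rw [Subgroup.mem_normalizer_iff]
    intro w
    constructor
    · exact hn w
    · intro hw
      have h3 := h1 (r - 1) _ hw
      have h4 : y ^ (r - 1) * y = 1 := by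
        rw [← pow_succ, Nat.sub_add_cancel hrp.one_lt.le, ← hy, pow_orderOf_eq_one]
      have h5 : y ^ (r - 1) = y⁻¹ := eq_inv_of_mul_eq_one_left h4
      have h6 : y ^ (r - 1) * (y * w * y⁻¹) * (y ^ (r - 1))⁻¹ = w := by
        rw [h5]
        group
      rw [h6] at h3
      exact h3
  by_cases ht2 : t = 2
  · subst ht2
    refine Cfsg.Agent.H424.ShultTwo.exists_orderOf_mul_two K hK S hS hc hrp hrp3.1 (Ne.symm htc) hcr ?_ hcK hrK U hU
      y hy hyU hu hcomm
    -- `3 ∣ r - 1`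
    intro n hn2
    have h3 : 3 ∣ r - 1 := three_dvd_sub_one hq hrp hra
    have h4 : 3 ∣ 2 ^ n := (dvd_pow h3 (by norm_num)).trans hn2
    have h5 := Nat.prime_three.dvd_of_dvd_pow h4
    omega
  · exact Cfsg.Agent.H376.Shult.exists_orderOf_mul K hK S hS hc hrp ht hrp3.1 ht2 hcr (Ne.symm htc) htr hcK hrK U hU
      y hy hyU hu hcomm


/-- a common prime divisor of `q² + 1` and `q³ ∓ 1` is `2` -/
theorem sq_cube {q t : ℕ} (hq : 1 ≤ q) (ht : t.Prime) (h1 : t ∣ q ^ 2 + 1)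
    (h2 : t ∣ q ^ 3 - 1 ∨ t ∣ q ^ 3 + 1) : t = 2 := by
  have h3 : (t : ℤ) ∣ (q : ℤ) ^ 2 + 1 := by exact_mod_cast h1
  have h5 : (t : ℤ) ∣ 2 := by
    rcases h2 with h2 | h2
    · have h4 : (t : ℤ) ∣ (q : ℤ) ^ 3 - 1 := by
        have h6 : ((q ^ 3 - 1 : ℕ) : ℤ) = (q : ℤ) ^ 3 - 1 := by
          rw [Nat.cast_sub (Nat.one_le_pow _ _ hq)]; norm_num
        rw [← h6]
        exact_mod_cast h2
      have := Dvd.dvd.linear_comb h3 h4 ((q : ℤ) * (1 - q) + 1) ((q : ℤ) - 1)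
      have h7 : ((q : ℤ) * (1 - q) + 1) * ((q : ℤ) ^ 2 + 1) + ((q : ℤ) - 1) * ((q : ℤ) ^ 3 - 1) = 2 := by ring
      rwa [h7] at this
    · have h4 : (t : ℤ) ∣ (q : ℤ) ^ 3 + 1 := by exact_mod_cast h2
      have := Dvd.dvd.linear_comb h3 h4 (1 - (q : ℤ) * (q + 1)) ((q : ℤ) + 1)
      have h7 : (1 - (q : ℤ) * (q + 1)) * ((q : ℤ) ^ 2 + 1) + ((q : ℤ) + 1) * ((q : ℤ) ^ 3 + 1) = 2 := by ring
      rwa [h7] at this
  exact (Nat.prime_dvd_prime_iff_eq ht Nat.prime_two).1 (by exact_mod_cast h5)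

/-- the size of `q`, `q = 5 ^ m` -/
theorem X5.five_le {q : ℕ} {G : Type*} [Group G] (h : X5 q G) : 5 ≤ q ∧ 5 ∣ q ∧ q % 4 = 1 := by
  obtain ⟨m, hm, hq⟩ := h.pow
  refine ⟨?_, ?_, ?_⟩
  · rw [hq]
    calc 5 = 5 ^ 1 := by norm_num
      _ ≤ 5 ^ m := Nat.pow_le_pow_right (by norm_num) hm
  · rw [hq]; exact dvd_pow_self 5 (by omega)
  · rw [hq, Nat.pow_mod]; norm_num

theorem X2.four_le {q : ℕ} {G : Type*} [Group G] (h : X2 q G) : 4 ≤ q ∧ 4 ∣ q ∧ ¬ 3 ∣ q := by
  obtain ⟨m, hm, hq⟩ := h.pow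
  refine ⟨?_, ?_, ?_⟩
  · rw [hq]
    calc 4 = 2 ^ 2 := by norm_num
      _ ≤ 2 ^ m := Nat.pow_le_pow_right (by norm_num) hm
  · rw [hq]; exact pow_dvd_pow 2 hm
  · rw [hq]
    intro h3
    have := Nat.prime_three.dvd_of_dvd_pow h3
    omega

theorem exists_ap {q : ℕ} (hq : 4 ≤ q) : ∃ r : ℕ, r.Prime ∧ r ∣ ap q := by
  have h1 := three_ap (q := q) (by omega)
  exact ⟨_, Nat.minFac_prime (by linarith only [hq, h1, _root_.sq_nonneg (↑q : ℤ)]), Nat.minFac_dvd _⟩

theorem exists_am {q : ℕ} (hq : 4 ≤ q) : ∃ r : ℕ, r.Prime ∧ r ∣ am q := by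
  have h1 := three_am (q := q) (by omega)
  have h2 : 4 * q ≤ q ^ 2 := by nlinarith only [hq]
  refine ⟨_, Nat.minFac_prime (n := am q) ?_, Nat.minFac_dvd _⟩
  intro h3
  rw [h3] at h1
  omega

theorem dvd_card_of_order {G : Type*} [Group G] {n r : ℕ} (h : ∃ g : G, orderOf g = n) (hr : r ∣ n) :
    r ∣ Nat.card G := by
  obtain ⟨g, rfl⟩ := h
  exact hr.trans (_root_.orderOf_dvd_natCard g)

/-- divisors of element orders are element orders -/
theorem order_of_dvd {G : Type*} [Group G] [Finite G] {n m : ℕ} (h : ∃ g : G, orderOf g = n) (hm : m ∣ n) :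
    ∃ g : G, orderOf g = m := by
  obtain ⟨g, rfl⟩ := h
  obtain ⟨k, hk⟩ := hm
  have hk0 : k ≠ 0 := by
    rintro rfl
    rw [mul_zero] at hk
    exact (orderOf_pos g).ne' hk
  refine ⟨g ^ k, ?_⟩
  rw [orderOf_pow_of_dvd hk0 ⟨m, by rw [hk, mul_comm]⟩, hk, Nat.mul_div_cancel _ (Nat.pos_of_ne_zero hk0)]

section five

variable {q : ℕ} {G : Type u} [Group G] (hG : X5 q G)

include hG

theorem X5.dvd_ap {r : ℕ} (hr : r ∣ ap q) : r ∣ Nat.card G :=
  dvd_card_of_order hG.a (hr.trans (ap_dvd_half (by have := hG.five_le; omega) (by have := hG.five_le; omega)))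

theorem X5.dvd_am {r : ℕ} (hr : r ∣ am q) : r ∣ Nat.card G :=
  dvd_card_of_order hG.b (hr.trans (am_dvd_half (by have := hG.five_le; omega) (by have := hG.five_le; omega)))

theorem X5.no_pm {r s : ℕ} (hr : r.Prime) (hs : s.Prime) (hra : r ∣ ap q) (hsa : s ∣ am q) :
    r ≠ s ∧ ¬ ∃ g : G, orderOf g = r * s := by
  have h5 := hG.five_le
  have key : r ∣ (q ^ 3 - 1) / 2 ∧ ¬ s ∣ (q ^ 3 - 1) / 2 := by
    refine ⟨hra.trans (ap_dvd_half (by omega) (by omega)), fun h => ?_⟩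
    have h1 := Nat.dvd_gcd h (hsa.trans (am_dvd_half (by omega) (by omega)))
    rw [coprime_half (by omega)] at h1
    exact hs.one_lt.ne' (Nat.dvd_one.1 h1)
  refine ⟨?_, ?_⟩
  · rintro rfl
    exact key.2 key.1
  · rintro ⟨g, hg⟩
    have h1 := hG.ub_ap hr hra g (by rw [hg]; exact dvd_mul_right _ _)
    rw [hg] at h1
    exact key.2 ((dvd_mul_left _ _).trans h1)

theorem X5.no_five_ap {r : ℕ} (hr : r.Prime) (hra : r ∣ ap q) : 5 ≠ r ∧ ¬ ∃ g : G, orderOf g = 5 * r := by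
  have h5 := hG.five_le
  refine ⟨?_, ?_⟩
  · rintro rfl
    exact (ap_ne (by omega) hr hra).2.2 h5.2.1
  · rintro ⟨g, hg⟩
    have h1 := hG.ub_ap hr hra g (by rw [hg]; exact dvd_mul_left _ _)
    rw [hg] at h1
    have h2 : 5 ∣ q ^ 3 - 1 := (dvd_mul_right 5 r).trans (h1.trans (Nat.div_dvd_of_dvd (by
      have : q ^ 3 % 2 = 1 := by rw [Nat.pow_mod, show q % 2 = 1 by omega]
      omega)))
    have h3 : 5 ∣ q ^ 3 := dvd_pow h5.2.1 (by norm_num)
    have h4 : 1 ≤ q ^ 3 := Nat.one_le_pow _ _ (by omega)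
    omega

theorem X5.no_five_am {r : ℕ} (hr : r.Prime) (hra : r ∣ am q) : 5 ≠ r ∧ ¬ ∃ g : G, orderOf g = 5 * r := by
  have h5 := hG.five_le
  refine ⟨?_, ?_⟩
  · rintro rfl
    exact (am_ne (by omega) hr hra).2.2 h5.2.1
  · rintro ⟨g, hg⟩
    have h1 := hG.ub_am hr hra g (by rw [hg]; exact dvd_mul_left _ _)
    rw [hg] at h1
    have h2 : 5 ∣ q ^ 3 + 1 := (dvd_mul_right 5 r).trans (h1.trans (Nat.div_dvd_of_dvd (by
      have : q ^ 3 % 2 = 1 := by rw [Nat.pow_mod, show q % 2 = 1 by omega]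
      omega)))
    have h3 : 5 ∣ q ^ 3 := dvd_pow h5.2.1 (by norm_num)
    omega

theorem X5.no_two_am {r : ℕ} (hr : r.Prime) (hra : r ∣ am q) : ¬ ∃ g : G, orderOf g = 2 * r := by
  have h5 := hG.five_le
  rintro ⟨g, hg⟩
  have h1 := hG.ub_am hr hra g (by rw [hg]; exact dvd_mul_left _ _)
  rw [hg] at h1
  have h2 : 2 ∣ (q ^ 3 + 1) / 2 := (dvd_mul_right 2 r).trans h1
  have h3 : q ^ 3 % 4 = 1 := by rw [Nat.pow_mod, h5.2.2]
  omega

theorem X5.sq_odd : (q ^ 2 + 1) / 2 % 2 = 1 ∧ 2 ∣ q ^ 2 + 1 := by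
  have h5 := hG.five_le
  have h3 : q ^ 2 % 4 = 1 := by rw [Nat.pow_mod, h5.2.2]
  omega

theorem X5.no_four {r t : ℕ} (hr : r.Prime) (ht : t.Prime) (hra : r ∣ ap q * am q) (hta : t ∣ (q ^ 2 + 1) / 2) :
    r ≠ t ∧ ¬ ∃ g : G, orderOf g = r * t := by
  have h5 := hG.five_le
  have hsq := hG.sq_odd
  have ht2 : t ≠ 2 := by
    rintro rfl
    omega
  have ht1 : t ∣ q ^ 2 + 1 := hta.trans (Nat.div_dvd_of_dvd hsq.2)
  have h30 : 2 ∣ q ^ 3 - 1 ∧ 2 ∣ q ^ 3 + 1 := by
    have : q ^ 3 % 2 = 1 := by rw [Nat.pow_mod, show q % 2 = 1 by omega]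
    omega
  refine ⟨?_, ?_⟩
  · rintro rfl
    rcases hr.dvd_mul.1 hra with h | h
    · exact ap_prime (by omega) hr h (ht1.trans (sq_pm_dvd q).1)
    · exact am_prime (by omega) hr h (ht1.trans (sq_pm_dvd q).1)
  · rintro ⟨g, hg⟩
    apply ht2
    rcases hr.dvd_mul.1 hra with h | h
    · have h1 := hG.ub_ap hr h g (by rw [hg]; exact dvd_mul_right _ _)
      rw [hg] at h1
      exact sq_cube (by omega) ht ht1 (Or.inl (((dvd_mul_left _ _).trans h1).trans (Nat.div_dvd_of_dvd h30.1)))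
    · have h1 := hG.ub_am hr h g (by rw [hg]; exact dvd_mul_right _ _)
      rw [hg] at h1
      exact sq_cube (by omega) ht ht1 (Or.inr (((dvd_mul_left _ _).trans h1).trans (Nat.div_dvd_of_dvd h30.2)))

theorem X5.coq {r s : ℕ} (hr : r.Prime) (hs : s.Prime) (hra : r ∣ ap q) (hsa : s ∣ am q) :
    IsCoq G {5, r, s} ∧ ({5, r, s} : Finset ℕ).card = 3 := by
  have h1 := hG.no_pm hr hs hra hsa
  have h2 := hG.no_five_ap hr hra
  have h3 := hG.no_five_am hs hsa
  refine ⟨⟨?_, ?_, ?_⟩, ?_⟩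
  · intro x hx
    simp only [Finset.mem_insert, Finset.mem_singleton] at hx
    rcases hx with rfl | rfl | rfl
    exacts [by norm_num, hr, hs]
  · intro x hx
    simp only [Finset.mem_insert, Finset.mem_singleton] at hx
    rcases hx with rfl | rfl | rfl
    exacts [dvd_card_of_order hG.d (by norm_num), hG.dvd_ap hra, hG.dvd_am hsa]
  · intro x hx y hy hxy
    simp only [Finset.mem_insert, Finset.mem_singleton] at hx hy
    rcases hx with rfl | rfl | rfl <;> rcases hy with rfl | rfl | rfl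
    · exact absurd rfl hxy
    · exact h2.2
    · exact h3.2
    · rw [mul_comm]; exact h2.2
    · exact absurd rfl hxy
    · exact h1.2
    · rw [mul_comm]; exact h3.2
    · rw [mul_comm]; exact h1.2
    · exact absurd rfl hxy
  · rw [Finset.card_insert_of_notMem (by simp [h2.1, h3.1]), Finset.card_insert_of_notMem (by simp [h1.1]),
      Finset.card_singleton]

theorem X5.coq' {r s t : ℕ} (hr : r.Prime) (hs : s.Prime) (ht : t.Prime) (hra : r ∣ ap q) (hsa : s ∣ am q)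
    (hta : t ∣ (q ^ 2 + 1) / 2) : IsCoq G {t, r, s} ∧ ({t, r, s} : Finset ℕ).card = 3 := by
  have h1 := hG.no_pm hr hs hra hsa
  have h2 := hG.no_four hr ht (hra.mul_right _) hta
  have h3 := hG.no_four hs ht (hsa.mul_left _) hta
  refine ⟨⟨?_, ?_, ?_⟩, ?_⟩
  · intro x hx
    simp only [Finset.mem_insert, Finset.mem_singleton] at hx
    rcases hx with rfl | rfl | rfl
    exacts [ht, hr, hs]
  · intro x hx
    simp only [Finset.mem_insert, Finset.mem_singleton] at hx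
    rcases hx with rfl | rfl | rfl
    exacts [dvd_card_of_order hG.c hta, hG.dvd_ap hra, hG.dvd_am hsa]
  · intro x hx y hy hxy
    simp only [Finset.mem_insert, Finset.mem_singleton] at hx hy
    rcases hx with rfl | rfl | rfl <;> rcases hy with rfl | rfl | rfl
    · exact absurd rfl hxy
    · rw [mul_comm]; exact h2.2
    · rw [mul_comm]; exact h3.2
    · exact h2.2
    · exact absurd rfl hxy
    · exact h1.2
    · exact h3.2
    · rw [mul_comm]; exact h1.2
    · exact absurd rfl hxy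
  · rw [Finset.card_insert_of_notMem (by simp [h2.1.symm, h3.1.symm]), Finset.card_insert_of_notMem (by simp [h1.1]),
      Finset.card_singleton]

/-- existence of the reduction -/
theorem X5.exists_red [Finite G] :
    ∃ (K : Subgroup G) (_ : K.Normal) (S : Subgroup (G ⧸ K)) (_ : S.Normal), Red G K S := by
  have h5 := hG.five_le
  obtain ⟨r, hr, hra⟩ := exists_ap (q := q) (by omega)
  obtain ⟨s, hs, hsa⟩ := exists_am (q := q) (by omega)
  obtain ⟨h1, h2⟩ := hG.coq hr hs hra hsa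
  exact Cfsg.Agent.H420.QR.exists_red h1 h2.ge ⟨s, hs, (am_ne (by omega) hs hsa).1, hG.dvd_am hsa, hG.no_two_am hs hsa⟩

/-- **The facts about `S`, `q = 5 ^ m`.** -/
theorem e5_of_red [Finite G] {K : Subgroup G} [K.Normal] {S : Subgroup (G ⧸ K)} [S.Normal] (h : Red G K S) :
    E5 q ↥S := by
  have h5 := hG.five_le
  have hcardG := card_eq_mul (K := K) (S := S)
  have hout := index_dvd_out S h.cent
  obtain ⟨r, hr, hra⟩ := exists_ap (q := q) (by omega)
  obtain ⟨s, hs, hsa⟩ := exists_am (q := q) (by omega)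
  -- if `c ∣ |K| |G/K : S|`, then the prime divisors of `ap q`, `am q` do not divide it
  have key : ∀ c : ℕ, c.Prime → c ∣ Nat.card ↥K * S.index → (c = 5 ∨ c ∣ (q ^ 2 + 1) / 2) →
      ∀ x : ℕ, x.Prime → x ∣ ap q * am q → ¬ x ∣ Nat.card ↥K * S.index ∧ ¬ ∃ g : G, orderOf g = c * x := by
    intro c hc hcK hc' x hx hxa
    -- general: `{c, r, s}` coclique
    have hco : ∀ y z : ℕ, y.Prime → z.Prime → y ∣ ap q → z ∣ am q →
        IsCoq G {c, y, z} ∧ ({c, y, z} : Finset ℕ).card = 3 := by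
      intro y z hy hz hya hza
      rcases hc' with rfl | hc'
      · exact hG.coq hy hz hya hza
      · exact hG.coq' hy hz hc hya hza hc'
    rcases hx.dvd_mul.1 hxa with hxa | hxa
    · obtain ⟨h1, h2⟩ := hco x s hx hs hxa hsa
      have hne : c ≠ x := by
        rintro rfl
        simp only [Finset.mem_insert, Finset.mem_singleton, true_or, or_true, Finset.insert_eq_of_mem] at h2
        have := Finset.card_le_two (a := c) (b := s)
        omega
      refine ⟨fun hd => hne ?_, h1.nadj c (by simp) x (by simp) hne⟩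
      exact h.coc' _ h1 h2.ge c (by simp) x (by simp) hcK hd
    · obtain ⟨h1, h2⟩ := hco r x hr hx hra hxa
      have hne : c ≠ x := by
        rintro rfl
        rw [show ({c, r, c} : Finset ℕ) = {c, r} by ext y; simp; (clear * -; tauto)] at h2
        have := Finset.card_le_two (a := c) (b := r)
        omega
      refine ⟨fun hd => hne ?_, h1.nadj c (by simp) x (by simp) hne⟩
      exact h.coc' _ h1 h2.ge c (by simp) x (by simp) hcK hd
  have hord : ∀ c : ℕ, c.Prime → c ∣ Nat.card ↥K * S.index → (c = 5 ∨ c ∣ (q ^ 2 + 1) / 2) →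
      (∃ x : ↥S, orderOf x = ap q) ∧ (∃ x : ↥S, orderOf x = am q) := by
    intro c hc hcK hc'
    have hk := key c hc hcK hc'
    refine ⟨order_of_coprime ?_ ?_, order_of_coprime ?_ ?_⟩
    · exact order_of_dvd hG.a (ap_dvd_half (q := q) (by omega) (by omega))
    · apply Nat.coprime_of_dvd
      intro x hx h1 h2
      exact (hk x hx (h1.mul_right _)).1 h2
    · exact order_of_dvd hG.b (am_dvd_half (q := q) (by omega) (by omega))
    · apply Nat.coprime_of_dvd
      intro x hx h1 h2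
      exact (hk x hx (h1.mul_left _)).1 h2
  have hno : ∀ c : ℕ, c.Prime → c ∣ Nat.card ↥K → (c = 5 ∨ c ∣ (q ^ 2 + 1) / 2) → NoFrob c q ↥S := by
    intro c hc hcK hc'
    refine noFrob_of h.solv h.simple (by omega) hc hcK fun x hx hxa => ?_
    have h1 := key c hc (hcK.mul_right _) hc' x hx hxa
    exact ⟨fun h2 => h1.1 (h2.mul_right _), h1.2⟩
  -- a prime dividing the order of `G` and not that of `S`
  have hdvd : ∀ c : ℕ, c.Prime → c ∣ Nat.card G → ¬ c ∣ Nat.card ↥S → c ∣ Nat.card ↥K * S.index := by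
    intro c hc h1 h2
    rw [hcardG] at h1
    exact (hc.dvd_mul.1 h1).resolve_left h2
  refine ⟨hG.pow, ?_, ?_, ?_, ?_, ?_, ?_, ?_⟩
  · intro x
    obtain ⟨g, hg⟩ := order_lift (K := K) (S := S) x
    rcases hG.ub g with h1 | h1 | h1 | h1 | h1 | h1
    · exact Or.inl (hg.trans h1)
    · exact Or.inr (Or.inl (hg.trans h1))
    · exact Or.inr (Or.inr (Or.inl (hg.trans h1)))
    · exact Or.inr (Or.inr (Or.inr (Or.inl (hg.trans h1))))
    · exact Or.inr (Or.inr (Or.inr (Or.inr (Or.inl (hg.trans h1)))))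
    · exact Or.inr (Or.inr (Or.inr (Or.inr (Or.inr (hg.trans h1)))))
  · rcases h.two with h1 | h1
    · exact Or.inl h1
    · right
      refine order_of_coprime (order_of_dvd hG.b (am_dvd_half (q := q) (by omega) (by omega))) ?_
      apply Nat.coprime_of_dvd
      intro x hx h2 h3
      obtain ⟨h4, h6, h7⟩ := h1 x hx (am_ne (by omega) hx h2).1 (hG.dvd_am h2) (hG.no_two_am hx h2)
      rcases hx.dvd_mul.1 h3 with h8 | h8
      · exact h6 h8
      · exact h7 h8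
  · by_cases h1 : 5 ∣ Nat.card ↥K * S.index
    · left
      obtain ⟨h2, h3⟩ := hord 5 (by norm_num) h1 (Or.inl rfl)
      refine ⟨h2, h3, ?_⟩
      by_cases h4 : 5 ∣ Nat.card ↥K
      · exact Or.inl (hno 5 (by norm_num) h4 (Or.inl rfl))
      · exact Or.inr (((Nat.Prime.dvd_mul (by norm_num)).1 h1).resolve_left h4 |>.trans hout)
    · right
      refine order_of_coprime hG.d ?_
      have h2 := (Nat.Prime.coprime_iff_not_dvd (by norm_num : Nat.Prime 5)).2 h1
      exact Nat.Coprime.pow_left 2 h2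
  · intro x y hx hy hxa hya
    obtain ⟨h1, h2⟩ := hG.coq hx hy hxa hya
    by_contra hcon
    push Not at hcon
    have := h.coc h1 h2.ge (r := x) (s := y) (by simp) (by simp) hcon.1 hcon.2
    exact (hG.no_pm hx hy hxa hya).1 this
  · intro x y hx hy hxa hya
    obtain ⟨h1, h2⟩ := hG.coq' hx hs hy hxa hsa hya
    by_contra hcon
    push Not at hcon
    have := h.coc h1 h2.ge (r := x) (s := y) (by simp) (by simp) hcon.1 hcon.2
    exact (hG.no_four hx hy (hxa.mul_right _) hya).1 this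
  · intro x y hx hy hxa hya
    obtain ⟨h1, h2⟩ := hG.coq' hr hx hy hra hxa hya
    by_contra hcon
    push Not at hcon
    have := h.coc h1 h2.ge (r := x) (s := y) (by simp) (by simp) hcon.1 hcon.2
    exact (hG.no_four hx hy (hxa.mul_left _) hya).1 this
  · intro t ht hta htS htO
    have h1 := hdvd t ht (dvd_card_of_order hG.c hta) htS
    have h2 : t ∣ Nat.card ↥K := (ht.dvd_mul.1 h1).resolve_right fun h3 => htO (h3.trans hout)
    obtain ⟨h3, h4⟩ := hord t ht h1 (Or.inr hta)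
    exact ⟨h3, h4, hno t ht h2 (Or.inr hta)⟩

end five

section two

variable {q : ℕ} {G : Type u} [Group G] (hG : X2 q G)

include hG

theorem X2.dvd_ap {r : ℕ} (hr : r ∣ ap q) : r ∣ Nat.card G :=
  dvd_card_of_order hG.a (hr.trans (ap_dvd_cube (by have := hG.four_le; omega)))

theorem X2.dvd_am {r : ℕ} (hr : r ∣ am q) : r ∣ Nat.card G :=
  dvd_card_of_order hG.b (hr.trans (am_dvd_cube (by have := hG.four_le; omega)))

theorem X2.no_pm {r s : ℕ} (hr : r.Prime) (hs : s.Prime) (hra : r ∣ ap q) (hsa : s ∣ am q) :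
    r ≠ s ∧ ¬ ∃ g : G, orderOf g = r * s := by
  have h5 := hG.four_le
  have key : r ∣ q ^ 3 - 1 ∧ ¬ s ∣ q ^ 3 - 1 := by
    refine ⟨hra.trans (ap_dvd_cube (by omega)), fun h => ?_⟩
    have h1 := Nat.dvd_gcd h (hsa.trans (am_dvd_cube (by omega)))
    rw [coprime_cube (by omega) (by omega)] at h1
    exact hs.one_lt.ne' (Nat.dvd_one.1 h1)
  refine ⟨?_, ?_⟩
  · rintro rfl
    exact key.2 key.1
  · rintro ⟨g, hg⟩
    have h1 := hG.ub_ap hr hra g (by rw [hg]; exact dvd_mul_right _ _)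
    rw [hg] at h1
    exact key.2 ((dvd_mul_left _ _).trans h1)

theorem X2.cube_odd : q ^ 3 % 2 = 0 ∧ 1 ≤ q ^ 3 := by
  have h5 := hG.four_le
  exact ⟨by rw [Nat.pow_mod, show q % 2 = 0 by omega], Nat.one_le_pow _ _ (by omega)⟩

theorem X2.no_two {r : ℕ} (hr : r.Prime) (hra : r ∣ ap q * am q) : 2 ≠ r ∧ ¬ ∃ g : G, orderOf g = 2 * r := by
  have h5 := hG.four_le
  have h3 := hG.cube_odd
  rcases hr.dvd_mul.1 hra with hra | hra
  · refine ⟨(ap_ne (by omega) hr hra).1.symm, ?_⟩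
    rintro ⟨g, hg⟩
    have h1 := hG.ub_ap hr hra g (by rw [hg]; exact dvd_mul_left _ _)
    rw [hg] at h1
    have h2 : 2 ∣ q ^ 3 - 1 := (dvd_mul_right 2 r).trans h1
    omega
  · refine ⟨(am_ne (by omega) hr hra).1.symm, ?_⟩
    rintro ⟨g, hg⟩
    have h1 := hG.ub_am hr hra g (by rw [hg]; exact dvd_mul_left _ _)
    rw [hg] at h1
    have h2 : 2 ∣ q ^ 3 + 1 := (dvd_mul_right 2 r).trans h1
    omega

theorem X2.no_four {r t : ℕ} (hr : r.Prime) (ht : t.Prime) (hra : r ∣ ap q * am q) (hta : t ∣ q ^ 2 + 1) :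
    r ≠ t ∧ ¬ ∃ g : G, orderOf g = r * t := by
  have h5 := hG.four_le
  have ht2 : t ≠ 2 := by
    rintro rfl
    have : q ^ 2 % 2 = 0 := by rw [Nat.pow_mod, show q % 2 = 0 by omega]
    omega
  refine ⟨?_, ?_⟩
  · rintro rfl
    rcases hr.dvd_mul.1 hra with h | h
    · exact ap_prime (by omega) hr h (hta.trans (sq_pm_dvd q).1)
    · exact am_prime (by omega) hr h (hta.trans (sq_pm_dvd q).1)
  · rintro ⟨g, hg⟩
    apply ht2
    rcases hr.dvd_mul.1 hra with h | h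
    · have h1 := hG.ub_ap hr h g (by rw [hg]; exact dvd_mul_right _ _)
      rw [hg] at h1
      exact sq_cube (by omega) ht hta (Or.inl ((dvd_mul_left _ _).trans h1))
    · have h1 := hG.ub_am hr h g (by rw [hg]; exact dvd_mul_right _ _)
      rw [hg] at h1
      exact sq_cube (by omega) ht hta (Or.inr ((dvd_mul_left _ _).trans h1))

/-- the cocliques `{c, r, s}`, `c = 2` or `c ∣ q² + 1` -/
theorem X2.coq {c r s : ℕ} (hc : c.Prime) (hc' : c = 2 ∨ c ∣ q ^ 2 + 1) (hr : r.Prime) (hs : s.Prime)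
    (hra : r ∣ ap q) (hsa : s ∣ am q) :
    IsCoq G {c, r, s} ∧ ({c, r, s} : Finset ℕ).card = 3 := by
  have h1 := hG.no_pm hr hs hra hsa
  have h2 : c ≠ r ∧ ¬ ∃ g : G, orderOf g = c * r := by
    rcases hc' with rfl | hc'
    · exact hG.no_two hr (hra.mul_right _)
    · have := hG.no_four hr hc (hra.mul_right _) hc'
      exact ⟨this.1.symm, by rw [mul_comm]; exact this.2⟩
  have h3 : c ≠ s ∧ ¬ ∃ g : G, orderOf g = c * s := by
    rcases hc' with rfl | hc'
    · exact hG.no_two hs (hsa.mul_left _)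
    · have := hG.no_four hs hc (hsa.mul_left _) hc'
      exact ⟨this.1.symm, by rw [mul_comm]; exact this.2⟩
  have h4 : c ∣ Nat.card G := by
    rcases hc' with rfl | hc'
    · exact dvd_card_of_order hG.d (by norm_num)
    · exact dvd_card_of_order hG.c hc'
  refine ⟨⟨?_, ?_, ?_⟩, ?_⟩
  · intro x hx
    simp only [Finset.mem_insert, Finset.mem_singleton] at hx
    rcases hx with rfl | rfl | rfl
    exacts [hc, hr, hs]
  · intro x hx
    simp only [Finset.mem_insert, Finset.mem_singleton] at hx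
    rcases hx with rfl | rfl | rfl
    exacts [h4, hG.dvd_ap hra, hG.dvd_am hsa]
  · intro x hx y hy hxy
    simp only [Finset.mem_insert, Finset.mem_singleton] at hx hy
    rcases hx with rfl | rfl | rfl <;> rcases hy with rfl | rfl | rfl
    · exact absurd rfl hxy
    · exact h2.2
    · exact h3.2
    · rw [mul_comm]; exact h2.2
    · exact absurd rfl hxy
    · exact h1.2
    · rw [mul_comm]; exact h3.2
    · rw [mul_comm]; exact h1.2
    · exact absurd rfl hxy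
  · rw [Finset.card_insert_of_notMem (by simp [h2.1, h3.1]), Finset.card_insert_of_notMem (by simp [h1.1]),
      Finset.card_singleton]

/-- existence of the reduction -/
theorem X2.exists_red [Finite G] :
    ∃ (K : Subgroup G) (_ : K.Normal) (S : Subgroup (G ⧸ K)) (_ : S.Normal), Red G K S := by
  have h5 := hG.four_le
  obtain ⟨r, hr, hra⟩ := exists_ap (q := q) (by omega)
  obtain ⟨s, hs, hsa⟩ := exists_am (q := q) (by omega)
  obtain ⟨h1, h2⟩ := hG.coq Nat.prime_two (Or.inl rfl) hr hs hra hsa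
  exact Cfsg.Agent.H420.QR.exists_red h1 h2.ge
    ⟨s, hs, (am_ne (by omega) hs hsa).1, hG.dvd_am hsa, (hG.no_two hs (hsa.mul_left _)).2⟩

/-- **The facts about `S`, `q = 2 ^ m`.** -/
theorem e2_of_red [Finite G] {K : Subgroup G} [K.Normal] {S : Subgroup (G ⧸ K)} [S.Normal] (h : Red G K S) :
    E2 q ↥S := by
  have h5 := hG.four_le
  have hcardG := card_eq_mul (K := K) (S := S)
  have hout := index_dvd_out S h.cent
  obtain ⟨r, hr, hra⟩ := exists_ap (q := q) (by omega)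
  obtain ⟨s, hs, hsa⟩ := exists_am (q := q) (by omega)
  have key : ∀ c : ℕ, c.Prime → c ∣ Nat.card ↥K * S.index → (c = 2 ∨ c ∣ q ^ 2 + 1) →
      ∀ x : ℕ, x.Prime → x ∣ ap q * am q → ¬ x ∣ Nat.card ↥K * S.index ∧ ¬ ∃ g : G, orderOf g = c * x := by
    intro c hc hcK hc' x hx hxa
    have hco : ∀ y z : ℕ, y.Prime → z.Prime → y ∣ ap q → z ∣ am q →
        IsCoq G {c, y, z} ∧ ({c, y, z} : Finset ℕ).card = 3 :=
      fun y z hy hz hya hza => hG.coq hc hc' hy hz hya hza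
    rcases hx.dvd_mul.1 hxa with hxa | hxa
    · obtain ⟨h1, h2⟩ := hco x s hx hs hxa hsa
      have hne : c ≠ x := by
        rintro rfl
        simp only [Finset.mem_insert, Finset.mem_singleton, true_or, or_true, Finset.insert_eq_of_mem] at h2
        have := Finset.card_le_two (a := c) (b := s)
        omega
      refine ⟨fun hd => hne ?_, h1.nadj c (by simp) x (by simp) hne⟩
      exact h.coc' _ h1 h2.ge c (by simp) x (by simp) hcK hd
    · obtain ⟨h1, h2⟩ := hco r x hr hx hra hxa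
      have hne : c ≠ x := by
        rintro rfl
        rw [show ({c, r, c} : Finset ℕ) = {c, r} by ext y; simp; (clear * -; tauto)] at h2
        have := Finset.card_le_two (a := c) (b := r)
        omega
      refine ⟨fun hd => hne ?_, h1.nadj c (by simp) x (by simp) hne⟩
      exact h.coc' _ h1 h2.ge c (by simp) x (by simp) hcK hd
  have hord' : (∀ x : ℕ, x.Prime → x ∣ ap q * am q → ¬ x ∣ Nat.card ↥K * S.index) →
      (∃ x : ↥S, orderOf x = ap q) ∧ (∃ x : ↥S, orderOf x = am q) := by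
    intro hk
    refine ⟨order_of_coprime ?_ ?_, order_of_coprime ?_ ?_⟩
    · exact order_of_dvd hG.a (ap_dvd_cube (q := q) (by omega))
    · apply Nat.coprime_of_dvd
      intro x hx h1 h2
      exact (hk x hx (h1.mul_right _)) h2
    · exact order_of_dvd hG.b (am_dvd_cube (q := q) (by omega))
    · apply Nat.coprime_of_dvd
      intro x hx h1 h2
      exact (hk x hx (h1.mul_left _)) h2
  have hord : ∀ c : ℕ, c.Prime → c ∣ Nat.card ↥K * S.index → (c = 2 ∨ c ∣ q ^ 2 + 1) →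
      (∃ x : ↥S, orderOf x = ap q) ∧ (∃ x : ↥S, orderOf x = am q) := by
    intro c hc hcK hc'
    exact hord' fun x hx hxa => (key c hc hcK hc' x hx hxa).1
  have hno' : ∀ c : ℕ, c.Prime → c ∣ Nat.card ↥K →
      (∀ x : ℕ, x.Prime → x ∣ ap q * am q → ¬ x ∣ Nat.card ↥K ∧ ¬ ∃ g : G, orderOf g = c * x) → NoFrob c q ↥S := by
    intro c hc hcK hk
    exact noFrob_of h.solv h.simple (by omega) hc hcK hk
  have hno : ∀ c : ℕ, c.Prime → c ∣ Nat.card ↥K → (c = 2 ∨ c ∣ q ^ 2 + 1) → NoFrob c q ↥S := by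
    intro c hc hcK hc'
    refine hno' c hc hcK fun x hx hxa => ?_
    have h1 := key c hc (hcK.mul_right _) hc' x hx hxa
    exact ⟨fun h2 => h1.1 (h2.mul_right _), h1.2⟩
  have hdvd : ∀ c : ℕ, c.Prime → c ∣ Nat.card G → ¬ c ∣ Nat.card ↥S → c ∣ Nat.card ↥K * S.index := by
    intro c hc h1 h2
    rw [hcardG] at h1
    exact (hc.dvd_mul.1 h1).resolve_left h2
  have h8 : ¬ 2 ∣ Nat.card ↥K * S.index → ∃ x : ↥S, orderOf x = 8 := by
    intro h1
    refine order_of_coprime hG.d ?_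
    have h2 := (Nat.Prime.coprime_iff_not_dvd (by norm_num : Nat.Prime 2)).2 h1
    exact Nat.Coprime.pow_left 3 h2
  refine ⟨hG.pow, ?_, ?_, ?_, ?_, ?_, ?_, ?_⟩
  · intro x
    obtain ⟨g, hg⟩ := order_lift (K := K) (S := S) x
    rcases hG.ub g with h1 | h1 | h1 | h1 | h1 | h1 | h1 | h1
    · exact Or.inl (hg.trans h1)
    · exact Or.inr (Or.inl (hg.trans h1))
    · exact Or.inr (Or.inr (Or.inl (hg.trans h1)))
    · exact Or.inr (Or.inr (Or.inr (Or.inl (hg.trans h1))))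
    · exact Or.inr (Or.inr (Or.inr (Or.inr (Or.inl (hg.trans h1)))))
    · exact Or.inr (Or.inr (Or.inr (Or.inr (Or.inr (Or.inl (hg.trans h1))))))
    · exact Or.inr (Or.inr (Or.inr (Or.inr (Or.inr (Or.inr (Or.inl (hg.trans h1)))))))
    · exact Or.inr (Or.inr (Or.inr (Or.inr (Or.inr (Or.inr (Or.inr (hg.trans h1)))))))
  · rcases h.two with h1 | h1
    · exact Or.inl h1
    · right
      have hk : ∀ x : ℕ, x.Prime → x ∣ ap q * am q → ¬ x ∣ Nat.card ↥K ∧ ¬ x ∣ S.index := by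
        intro x hx hxa
        have hxG : x ∣ Nat.card G := by
          rcases hx.dvd_mul.1 hxa with h2 | h2
          · exact hG.dvd_ap h2
          · exact hG.dvd_am h2
        exact (h1 x hx (hG.no_two hx hxa).1.symm hxG (hG.no_two hx hxa).2).2
      obtain ⟨h2, h3⟩ := hord' fun x hx hxa h4 => by
        rcases hx.dvd_mul.1 h4 with h6 | h6
        · exact (hk x hx hxa).1 h6
        · exact (hk x hx hxa).2 h6
      refine ⟨h2, h3, ?_⟩
      by_cases h4 : 2 ∣ Nat.card ↥K * S.index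
      · rcases Nat.prime_two.dvd_mul.1 h4 with h6 | h6
        · exact Or.inl (hno' 2 Nat.prime_two h6 fun x hx hxa => ⟨(hk x hx hxa).1, (hG.no_two hx hxa).2⟩)
        · exact Or.inr (Or.inl (h6.trans hout))
      · exact Or.inr (Or.inr (h8 h4))
  · by_cases h1 : 2 ∣ Nat.card ↥K * S.index
    · exact Or.inl (hord 2 Nat.prime_two h1 (Or.inl rfl))
    · exact Or.inr (h8 h1)
  · intro x y hx hy hxa hya
    obtain ⟨h1, h2⟩ := hG.coq Nat.prime_two (Or.inl rfl) hx hy hxa hya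
    by_contra hcon
    push Not at hcon
    have := h.coc h1 h2.ge (r := x) (s := y) (by simp) (by simp) hcon.1 hcon.2
    exact (hG.no_pm hx hy hxa hya).1 this
  · intro x y hx hy hxa hya
    obtain ⟨h1, h2⟩ := hG.coq hy (Or.inr hya) hx hs hxa hsa
    by_contra hcon
    push Not at hcon
    have := h.coc h1 h2.ge (r := x) (s := y) (by simp) (by simp) hcon.1 hcon.2
    exact (hG.no_four hx hy (hxa.mul_right _) hya).1 this
  · intro x y hx hy hxa hya
    obtain ⟨h1, h2⟩ := hG.coq hy (Or.inr hya) hr hx hra hxa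
    by_contra hcon
    push Not at hcon
    have := h.coc h1 h2.ge (r := x) (s := y) (by simp) (by simp) hcon.1 hcon.2
    exact (hG.no_four hx hy (hxa.mul_left _) hya).1 this
  · intro t ht hta htS htO
    have h1 := hdvd t ht (dvd_card_of_order hG.c hta) htS
    have h2 : t ∣ Nat.card ↥K := (ht.dvd_mul.1 h1).resolve_right fun h3 => htO (h3.trans hout)
    obtain ⟨h3, h4⟩ := hord t ht h1 (Or.inr hta)
    exact ⟨h3, h4, hno t ht h2 (Or.inr hta)⟩

end two

end Cfsg.Agent.H376.Six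
end
end

-- part: H376/Six/Glue
section
set_option linter.all false
open scoped Cfsg.Agent.FastGrp

-- part: H376/Six/Own
section
/-!
# Own characteristic (helper376)

* `own` : `V` an abelian normal subgroup of prime exponent `p` of `H`, `H / V ≃ L`; if every `L`-module of
  characteristic `p` has an `x` with nonzero norm and `p |x|` not allowed, then this is a contradiction.
-/

set_option autoImplicit false

namespace Cfsg.Agent.H376.Six

open Finset Cfsg.Agent.H371.Frob Cfsg.Agent.H373.Recog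

universe u v w

/-- every `L`-module of characteristic `p` has an element `x` with nonzero norm and `p |x|` is not in `B` -/
def OwnCov (p : ℕ) (B : ℕ → Prop) (L : Type v) [Group L] : Prop :=
  ∀ (V : Type w) [AddCommGroup V] [Finite V] [Nontrivial V], (∀ v : V, p • v = 0) →
    ∀ φ : L →* AddMonoid.End V, ∃ (x : L) (v : V), ∑ i ∈ range (orderOf x), φ (x ^ i) v ≠ 0 ∧ ¬ B (p * orderOf x)

/-- **An element of order `p * orderOf x`.** -/
theorem exists_of_ownCov {H : Type u} [Group H] [Finite H] (V : Subgroup H) [V.Normal]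
    (hVc : ∀ x ∈ V, ∀ y ∈ V, x * y = y * x) {p : ℕ} (hp : p.Prime) (hVp : ∀ x ∈ V, x ^ p = 1) (hne : V ≠ ⊥)
    {L : Type v} [Group L] (f : L ≃* H ⧸ V) {B : ℕ → Prop} (hcov : OwnCov.{v, u} p B L) :
    ∃ h : H, ¬ B (orderOf h) := by
  have hV : IsMulCommutative V := ⟨⟨fun a b => Subtype.ext (hVc a a.2 b b.2)⟩⟩
  let _ : CommGroup V := { (inferInstance : Group V) with mul_comm := fun a b => Subtype.ext (hVc a a.2 b b.2) }
  have hnt : Nontrivial (Additive V) := by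
    have : Nontrivial V := (Subgroup.nontrivial_iff_ne_bot V).2 hne
    exact inferInstanceAs (Nontrivial V)
  have hfinV : Finite (Additive V) := inferInstanceAs (Finite V)
  let φ : L →* AddMonoid.End (Additive V) := act V hV f.toMonoidHom (fun a b => rfl)
  have hφ : ∀ (l : L) (g : H), (g : H ⧸ V) = f l → ∀ v : V, (((φ l (Additive.ofMul v)).toMul : V) : H) = g * v * g⁻¹ := by
    intro l g hg v
    show ((quotAct V hV (f l) v : V) : H) = _
    rw [← hg]
    exact quotAct_mk V hV g v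
  obtain ⟨x, v, hsum, hno⟩ := hcov (Additive V) (fun v => by
    show Additive.ofMul (v.toMul ^ p) = 0
    have h1 : v.toMul ^ p = 1 := Subtype.ext (hVp _ v.toMul.2)
    rw [h1]; rfl) φ
  obtain ⟨g, hg⟩ := QuotientGroup.mk_surjective (f x)
  set m := orderOf x with hm
  -- powers
  have hpow : ∀ (z : V) (k : ℕ), ((z : H) * g) ^ k =
      (((∑ i ∈ range k, φ (x ^ i) (Additive.ofMul z)).toMul : V) : H) * g ^ k := by
    intro z k
    induction k with
    | zero => rw [pow_zero, pow_zero, range_zero, sum_empty, mul_one]; rfl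
    | succ k ih =>
      rw [pow_succ, ih, sum_range_succ]
      have h1 : ((g ^ k : H) : H ⧸ V) = f (x ^ k) := by rw [QuotientGroup.mk_pow, hg, map_pow]
      have h2 := hφ (x ^ k) (g ^ k) h1 z
      show _ = ((((∑ i ∈ range k, φ (x ^ i) (Additive.ofMul z)).toMul * (φ (x ^ k) (Additive.ofMul z)).toMul : V)) : H) * g ^ (k + 1)
      rw [Subgroup.coe_mul, h2, pow_succ]
      group
  have hordf : orderOf (f x) = m := MulEquiv.orderOf_eq f x
  have hgm : g ^ m ∈ V := by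
    rw [← QuotientGroup.eq_one_iff, QuotientGroup.mk_pow, hg, ← hordf, pow_orderOf_eq_one]
  -- the element
  obtain ⟨h, hh, hhm⟩ : ∃ h : H, (h : H ⧸ V) = f x ∧ h ^ m ≠ 1 := by
    by_cases h1 : g ^ m = 1
    · refine ⟨((v.toMul : V) : H) * g, ?_, ?_⟩
      · rw [QuotientGroup.mk_mul, hg, (QuotientGroup.eq_one_iff _).2 v.toMul.2, one_mul]
      · rw [hpow, h1, mul_one]
        intro h2
        apply hsum
        have h3 : (∑ i ∈ range m, φ (x ^ i) v).toMul = (1 : V) := Subtype.ext h2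
        exact congrArg Additive.ofMul h3
    · exact ⟨g, hg, h1⟩
  have hhV : h ^ m ∈ V := by
    rw [← QuotientGroup.eq_one_iff, QuotientGroup.mk_pow, hh, ← hordf, pow_orderOf_eq_one]
  refine ⟨h, ?_⟩
  have h1 : m ∣ orderOf h := by
    rw [← hordf, ← hh]
    exact orderOf_map_dvd (QuotientGroup.mk' V) h
  have h2 : orderOf h ∣ m * p := by
    apply orderOf_dvd_of_pow_eq_one
    rw [pow_mul, hVp _ hhV]
  obtain ⟨j, hj⟩ := h1
  have hmpos : 0 < m := by
    rcases Nat.eq_zero_or_pos m with h0 | h0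
    · rw [h0, zero_mul] at hj
      have := orderOf_pos h
      omega
    · exact h0
  rw [hj] at h2
  rcases (Nat.dvd_prime hp).1 (Nat.dvd_of_mul_dvd_mul_left hmpos h2) with h3 | h3
  · exfalso
    apply hhm
    rw [h3, mul_one] at hj
    rw [← hj, pow_orderOf_eq_one]
  · rw [hj, h3, mul_comm]
    exact hno

/-- **Own characteristic.** -/
theorem own {H : Type u} [Group H] [Finite H] {V : Subgroup H} [V.Normal] {p : ℕ} (hV : Cov p H V) {L : Type v}
    [Group L] (e : H ⧸ V ≃* L) {B : ℕ → Prop} (hcov : OwnCov.{v, u} p B L) (hub : ∀ x : H, B (orderOf x)) : False := by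
  obtain ⟨h, hh⟩ := exists_of_ownCov V hV.comm hV.prime hV.pow (by
    rintro rfl
    obtain ⟨v, hv, g, hg⟩ := hV.nc
    rw [Subgroup.mem_bot] at hv
    exact hg (by rw [hv, mul_one, one_mul])) e.symm hcov
  exact hh (hub h)

end Cfsg.Agent.H376.Six
end

-- part: H376/Six/Glue
section
/-!
# The glue (helper376)

* `finish_five`, `finish_two` : `S ≃ L'` (one of `C₃(q)`, `B₃(q)`, `D₄(q)`) with the covers and the outer part : `G ≃ L'`.
-/

set_option autoImplicit false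

namespace Cfsg.Agent.H376.Six

open Cfsg.Agent.H420.QR

universe u v

variable {G : Type u} [Group G] [Finite G] {K : Subgroup G} [K.Normal] {S : Subgroup (G ⧸ K)} [S.Normal]

theorem exists_prime_order {L : Type v} [Group L] {n A : ℕ} (h : ∃ x : L, orderOf x = A) (hn : n ∣ A)
    (h1 : ∃ r, r.Prime ∧ r ∣ n) : ∃ x : L, ∃ r, r.Prime ∧ r ∣ n ∧ r ∣ orderOf x := by
  obtain ⟨x, hx⟩ := h
  obtain ⟨r, hr, hrn⟩ := h1
  exact ⟨x, r, hr, hrn, hx ▸ hrn.trans hn⟩

omit [Finite G] in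
/-- the orders of `G / K` -/
theorem order_quot {B : ℕ → Prop} (hmono : ∀ {n k : ℕ}, B n → k ∣ n → B k) (hub : ∀ g : G, B (orderOf g)) (x : G ⧸ K) :
    B (orderOf x) := by
  obtain ⟨g, rfl⟩ := QuotientGroup.mk'_surjective K x
  exact hmono (hub g) (orderOf_map_dvd _ g)

/-- **The end**, `q = 5 ^ m`. -/
theorem finish_five {q : ℕ} (hX : X5 q G) (hR : Red G K S) {L : Type v} [Group L] (e : ↥S ≃* L)
    (hA : ∃ x : L, orderOf x = (q ^ 3 - 1) / 2) (hB : ∃ x : L, orderOf x = (q ^ 3 + 1) / 2)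
    (nc : ∀ {H : Type u} [Group H] [Finite H] (V : Subgroup H) [V.Normal] {t : ℕ}, t ≠ 5 → Cov t H V →
      (H ⧸ V ≃* L) → (∀ x : H, UB5 q (orderOf x)) → False)
    (ow : OwnCov.{v, u} 5 (UB5 q) L)
    (out : ∀ {X : Type u} [Group X] [Finite X] (T : Subgroup X) [T.Normal], Subgroup.centralizer (T : Set X) = ⊥ →
      (↥T ≃* L) → (∀ x : X, UB5 q (orderOf x)) → T = ⊤) : Nonempty (G ≃* L) := by
  obtain ⟨h5, h4⟩ := odd_of_pow_five hX.pow
  have h2 : 2 ≤ q := by omega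
  have hK : K = ⊥ := by
    by_contra hK
    obtain ⟨x, r, hr, hra, hrx⟩ := exists_prime_order hA (ap_dvd_half h2 (by omega)) (exists_prime_ap h2)
    obtain ⟨y, s, hs, hsa, hsy⟩ := exists_prime_order hB (am_dvd_half h2 (by omega)) (exists_prime_am (by omega))
    obtain ⟨H, _, _, V, _, t, hV, ⟨e'⟩, hub⟩ := exists_cov_five hX.pow hX.ub K hR.solv hK S
      ⟨e.symm x, r, hr, hra, by rwa [MulEquiv.orderOf_eq]⟩ ⟨e.symm y, s, hs, hsa, by rwa [MulEquiv.orderOf_eq]⟩
    by_cases ht : t = 5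
    · subst ht
      exact own hV (e'.trans e) ow hub
    · exact nc V ht hV (e'.trans e) hub
  have hS : S = ⊤ := out S hR.cent e (order_quot (fun h hk => UB5.mono h hk) hX.ub)
  subst hK
  exact ⟨(QuotientGroup.quotientBot (G := G)).symm.trans ((Subgroup.topEquiv.symm.trans
    (MulEquiv.subgroupCongr hS.symm)).trans e)⟩

/-- **The end**, `q = 2 ^ m`. -/
theorem finish_two {q : ℕ} (hX : X2 q G) (hR : Red G K S) {L : Type v} [Group L] (e : ↥S ≃* L)
    (hA : ∃ x : L, orderOf x = q ^ 3 - 1) (hB : ∃ x : L, orderOf x = q ^ 3 + 1)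
    (nc : ∀ {H : Type u} [Group H] [Finite H] (V : Subgroup H) [V.Normal] {t : ℕ}, t ≠ 2 → Cov t H V →
      (H ⧸ V ≃* L) → (∀ x : H, UB2 q (orderOf x)) → False)
    (ow : OwnCov.{v, u} 2 (UB2 q) L)
    (out : ∀ {X : Type u} [Group X] [Finite X] (T : Subgroup X) [T.Normal], Subgroup.centralizer (T : Set X) = ⊥ →
      (↥T ≃* L) → (∀ x : X, UB2 q (orderOf x)) → T = ⊤) : Nonempty (G ≃* L) := by
  have h4 : 4 ≤ q := by
    obtain ⟨m, hm, rfl⟩ := hX.pow
    calc 4 = 2 ^ 2 := by norm_num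
      _ ≤ 2 ^ m := Nat.pow_le_pow_right (by norm_num) hm
  have h2 : 2 ≤ q := by omega
  have hK : K = ⊥ := by
    by_contra hK
    obtain ⟨x, r, hr, hra, hrx⟩ := exists_prime_order hA (ap_dvd_cube h2) (exists_prime_ap h2)
    obtain ⟨y, s, hs, hsa, hsy⟩ := exists_prime_order hB (am_dvd_cube h2) (exists_prime_am (by omega))
    obtain ⟨H, _, _, V, _, t, hV, ⟨e'⟩, hub⟩ := exists_cov_two hX.pow hX.ub K hR.solv hK S
      ⟨e.symm x, r, hr, hra, by rwa [MulEquiv.orderOf_eq]⟩ ⟨e.symm y, s, hs, hsa, by rwa [MulEquiv.orderOf_eq]⟩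
    by_cases ht : t = 2
    · subst ht
      exact own hV (e'.trans e) ow hub
    · exact nc V ht hV (e'.trans e) hub
  have hS : S = ⊤ := out S hR.cent e (order_quot (fun h hk => UB2.mono h hk) hX.ub)
  subst hK
  exact ⟨(QuotientGroup.quotientBot (G := G)).symm.trans ((Subgroup.topEquiv.symm.trans
    (MulEquiv.subgroupCongr hS.symm)).trans e)⟩

end Cfsg.Agent.H376.Six
end
end

-- part: H382/Own5B
section
prune_inst 0xc1607604356210000000009653001c06ea000090000b800008000a440f810e2200002e20a6a01106928200042035005811000110424000000e000400011901a0808050047391a10c240007800084000000000000020000000000000000000004000000000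
set_option linter.all false
open scoped Cfsg.Agent.FastGrp

/-!
# Own characteristic covers relative to a set of orders, `q = 5^m` (helper382)

* `own5'` : as `own5`, the element has order 10 or `r`;
* `ownCov_sp`, `ownCov_odd`, `ownCov_plus` : `OwnCov 5 (UB5 q) L` for `L = PSp₆(q), Ω₇(q), PΩ₈⁺(q)`, `q = 5^m`.
-/

set_option autoImplicit false

universe u w

namespace Cfsg.Agent.H382.Own5

open Finset

/-- **Elements of order 10.** -/
theorem ten' {G V : Type*} [Group G] [AddCommGroup V] (hV : ∀ v : V, 5 • v = 0) (φ : G →* AddMonoid.End V)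
    {z u : G} (hz : z * z = 1) (hz1 : z ≠ 1) (hu : u ^ 5 = 1) (hc : Commute z u)
    (hne : (∑ i ∈ range 5, φ u ^ i) * (1 + φ z) ≠ 0) :
    ∃ (x : G) (v : V), ∑ i ∈ range (orderOf x), φ (x ^ i) v ≠ 0 ∧ orderOf x = 10 := by
  have h5 : (5 : AddMonoid.End V) = 0 := by
    ext v
    have h := hV v
    rw [← AddMonoid.End.natCast_apply] at h
    exact h
  have hx10 : (z * u) ^ 10 = 1 := by
    rw [hc.mul_pow, show 10 = 2 * 5 by norm_num, pow_mul, pow_two, hz, one_pow, one_mul, mul_comm 2 5, pow_mul, hu, one_pow]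
  have hord : orderOf (z * u) = 10 := by
    refine orderOf_eq_of_pow_and_pow_div_prime (by norm_num) hx10 ?_
    intro p hp hpd
    have hp2 : p = 2 ∨ p = 5 := by
      have h1 : p ∣ 2 * 5 := by simpa using hpd
      rcases hp.dvd_mul.1 h1 with h | h
      · exact Or.inl ((Nat.prime_dvd_prime_iff_eq hp Nat.prime_two).1 h)
      · exact Or.inr ((Nat.prime_dvd_prime_iff_eq hp Nat.prime_five).1 h)
    rcases hp2 with rfl | rfl
    · intro h
      apply hz1
      have hz2 : z ^ 2 = 1 := by rw [pow_two, hz]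
      rw [show 10 / 2 = 5 by norm_num, hc.mul_pow, hu, mul_one, show 5 = 2 * 2 + 1 by norm_num, pow_succ, pow_mul,
        hz2, one_pow, one_mul] at h
      exact h
    · intro h
      rw [show 10 / 5 = 2 by norm_num, hc.mul_pow, pow_two, hz, one_mul] at h
      have hu1 : u = 1 := by
        have : u ^ 5 = u := by rw [show 5 = 2 * 2 + 1 by norm_num, pow_succ, pow_mul, h, one_pow, one_mul]
        rw [← this, hu]
      apply hne
      rw [hu1, map_one]
      simp [h5]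
  have hsum : ∑ i ∈ range 10, φ ((z * u) ^ i) = (∑ i ∈ range 5, φ u ^ i) * (1 + φ z) := by
    have hcZ : φ z * φ u = φ u * φ z := by rw [← map_mul, ← map_mul, hc.eq]
    have hZ : φ z * φ z = 1 := by rw [← map_mul, hz, map_one]
    have hU : φ u ^ 5 = 1 := by rw [← map_pow, hu, map_one]
    have hpow : ∀ i, φ ((z * u) ^ i) = φ u ^ i * φ z ^ i := by
      intro i
      rw [hc.mul_pow, map_mul, map_pow, map_pow]
      exact ((show Commute (φ z) (φ u) from hcZ).pow_pow i i).eq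
    rw [sum_congr rfl fun i _ => hpow i]
    generalize φ z = Z at *
    generalize φ u = U at *
    have hZ2 : Z ^ 2 = 1 := by rw [pow_two, hZ]
    have hZe : ∀ k, Z ^ (2 * k) = 1 := fun k => by rw [pow_mul, hZ2, one_pow]
    have hZo : ∀ k, Z ^ (2 * k + 1) = Z := fun k => by rw [pow_succ, hZe, one_mul]
    have hUr : ∀ k, U ^ (5 + k) = U ^ k := fun k => by rw [pow_add, hU, one_mul]
    simp only [sum_range_succ, sum_range_zero]
    rw [show U ^ 6 = U ^ 1 from hUr 1, show U ^ 7 = U ^ 2 from hUr 2, show U ^ 8 = U ^ 3 from hUr 3,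
      show U ^ 9 = U ^ 4 from hUr 4, hU, show Z ^ 3 = Z from hZo 1, show Z ^ 5 = Z from hZo 2,
      show Z ^ 7 = Z from hZo 3, show Z ^ 9 = Z from hZo 4, hZ2, show Z ^ 4 = 1 from hZe 2,
      show Z ^ 6 = 1 from hZe 3, show Z ^ 8 = 1 from hZe 4]
    noncomm_ring
  obtain ⟨v, hv⟩ : ∃ v, ((∑ i ∈ range 5, φ u ^ i) * (1 + φ z)) v ≠ 0 := by
    by_contra h
    push Not at h
    exact hne (AddMonoidHom.ext h)
  refine ⟨z * u, v, ?_, ?_⟩
  · rw [hord]
    rw [← hsum] at hv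
    have h1 : (∑ i ∈ range 10, φ ((z * u) ^ i)) v = ∑ i ∈ range 10, φ ((z * u) ^ i) v :=
      AddMonoidHom.finsetSum_apply _ _ _
    rwa [h1] at hv
  · exact hord

/-- **The main argument.** -/
theorem own5' {G : Type*} [Group G] [Finite G] [IsSimpleGroup G] {z z' u s : G} {e : A → G} (H : Cfg z z' u s e)
    {r : ℕ} (hr : r.Prime) (hr5 : r ≠ 5) (hrG : r ∣ Nat.card G)
    {V : Type*} [AddCommGroup V] [Nontrivial V]
    (hV : ∀ v : V, 5 • v = 0) (φ : G →* AddMonoid.End V) :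
    ∃ (x : G) (v : V), ∑ i ∈ range (orderOf x), φ (x ^ i) v ≠ 0 ∧ (orderOf x = 10 ∨ orderOf x = r) := by
  by_cases hN : (∑ i ∈ range 5, φ u ^ i) * (1 + φ z) = 0
  swap
  · obtain ⟨x, v, h1, h2⟩ := ten' hV φ H.z2 H.z1 H.u5 H.zu hN
    exact ⟨x, v, h1, Or.inl h2⟩
  have h5 : (5 : AddMonoid.End V) = 0 := by
    ext v
    have h := hV v
    rw [← AddMonoid.End.natCast_apply] at h
    exact h
  have hZ : φ z * (1 + φ z) = 1 + φ z := by
    rw [mul_add, mul_one, ← map_mul, H.z2, map_one, add_comm]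
  have hZ' : φ z' * (1 + φ z) = 1 + φ z := by
    obtain ⟨a, ha⟩ := H.mem
    rw [← ha]
    refine block h5 (fun a => φ (e a)) (φ u) (1 + φ z) ?_ ?_ ?_ ?_ ?_ hN a
    · show φ (e 1) * _ = _
      rw [H.one, map_one, one_mul]
    · intro a b
      show φ (e a) * φ (e b) * _ = φ (e (a * b)) * _
      rw [← map_mul]
      rcases H.mul a b with h | h
      · rw [h]
      · rw [h, map_mul, mul_assoc, hZ]
    · intro a
      show φ u * φ (e a) * _ = φ (e (T a)) * φ u * _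
      rw [← map_mul, ← map_mul]
      rcases H.conj a with h | h
      · rw [h]
      · rw [h, map_mul, mul_assoc, hZ]
    · intro a
      show _ * φ (e a) = φ (e a) * _
      rw [add_mul, mul_add, ← map_mul, ← map_mul, H.ze, one_mul, mul_one]
    · rw [add_mul, mul_add, ← map_mul, ← map_mul, H.zu, one_mul, mul_one]
  have hs : φ s * φ s⁻¹ = 1 := by rw [← map_mul, mul_inv_cancel, map_one]
  have hsz : φ s * φ z * φ s⁻¹ = φ z' := by
    rw [← map_mul, H.s1, map_mul, mul_assoc, hs, mul_one]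
  have hsz' : φ s * φ z' * φ s⁻¹ = φ z := by
    rw [← map_mul, H.s2, map_mul, mul_assoc, hs, mul_one]
  have hs' : φ s⁻¹ * φ s = 1 := by rw [← map_mul, inv_mul_cancel, map_one]
  have hZ'' : φ z * (1 + φ z') = 1 + φ z' := by
    have h1 : φ s * (φ z' * (1 + φ z)) * φ s⁻¹ = φ s * (1 + φ z) * φ s⁻¹ := by rw [hZ']
    have h2 : φ s * (1 + φ z) * φ s⁻¹ = 1 + φ z' := by
      rw [mul_add, add_mul, hsz, mul_one, hs]
    have h3 : φ s * (φ z' * (1 + φ z)) * φ s⁻¹ = (φ s * φ z' * φ s⁻¹) * (φ s * (1 + φ z) * φ s⁻¹) := by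
      have : φ s * φ z' * φ s⁻¹ * (φ s * (1 + φ z) * φ s⁻¹) =
        φ s * φ z' * (φ s⁻¹ * φ s) * (1 + φ z) * φ s⁻¹ := by noncomm_ring
      rw [this, hs']
      noncomm_ring
    rw [h3, h2, hsz'] at h1
    exact h1
  have hcomm : φ z' * φ z = φ z * φ z' := by
    obtain ⟨a, ha⟩ := H.mem
    rw [← ha, ← map_mul, ← map_mul, H.ze]
  have hab : φ z' = φ z := by
    have h1 : φ z' + φ z' * φ z = 1 + φ z := by rw [← hZ', mul_add, mul_one]
    have h2 : φ z + φ z * φ z' = 1 + φ z' := by rw [← hZ'', mul_add, mul_one]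
    have h3 : (2 : AddMonoid.End V) * (φ z' - φ z) = 0 := by
      have h4 : φ z' - φ z = φ z - φ z' := by
        calc φ z' - φ z = (φ z' + φ z' * φ z) - (φ z + φ z * φ z') := by rw [hcomm]; abel
          _ = (1 + φ z) - (1 + φ z') := by rw [h1, h2]
          _ = _ := by abel
      calc (2 : AddMonoid.End V) * (φ z' - φ z) = (φ z' - φ z) + (φ z' - φ z) := by rw [two_mul]
        _ = (φ z' - φ z) + (φ z - φ z') := by rw [h4]
        _ = 0 := by abel
    have h4 : φ z' - φ z = 0 := by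
      have h6 : (5 : AddMonoid.End V) * (φ z' - φ z) = 0 := by rw [h5, zero_mul]
      have h7 : (5 : AddMonoid.End V) = 2 * 2 + 1 := by norm_num
      rw [h7, add_mul, one_mul, mul_assoc, h3, mul_zero, zero_add] at h6
      exact h6
    exact sub_eq_zero.1 h4
  have hker : φ (z * z') = 1 := by rw [map_mul, hab, ← map_mul, H.z2, map_one]
  have htop : φ.ker = ⊤ := by
    rcases IsSimpleGroup.eq_bot_or_eq_top_of_normal φ.ker inferInstance with h | h
    · exfalso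
      apply H.ne
      have : z * z' ∈ φ.ker := hker
      rwa [h, Subgroup.mem_bot] at this
    · exact h
  have htriv : ∀ g, φ g = 1 := fun g => by
    have : g ∈ φ.ker := by rw [htop]; trivial
    exact this
  have := Fact.mk hr
  obtain ⟨x, hx⟩ := exists_prime_orderOf_dvd_card' r hrG
  obtain ⟨v, hv⟩ := exists_ne (0 : V)
  refine ⟨x, v, ?_, ?_⟩
  · rw [sum_congr rfl fun i _ => by rw [htriv]]
    show ∑ i ∈ range (orderOf x), v ≠ 0
    rw [sum_const, card_range, hx]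
    intro h2
    apply hv
    have h3 : IsCoprime (r : ℤ) (5 : ℤ) := by
      have := (Nat.coprime_primes hr Nat.prime_five).2 hr5
      exact_mod_cast Nat.isCoprime_iff_coprime.2 this
    obtain ⟨a, b, hab⟩ := h3
    have h4 : (a * (r : ℤ) + b * 5) • v = 0 := by
      rw [add_smul, mul_smul, mul_smul, natCast_zsmul, h2, smul_zero, zero_add]
      have : (5 : ℤ) • v = 5 • v := by rw [← natCast_zsmul]; rfl
      rw [this, hV, smul_zero]
    rwa [hab, one_smul] at h4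
  · exact Or.inr hx


open Matrix Cfsg Module QuadraticMap Cfsg.Agent.H376.Six
open Cfsg.Agent.LieClassical.OrthCount Cfsg.Agent.LieClassical.OmegaReindex Cfsg.Agent.LieClassical


theorem five_pow {F : Type*} [Field F] [Fintype F] [CharP F 5] : ∃ n : ℕ, 1 ≤ n ∧ Fintype.card F = 5 ^ n := by
  obtain ⟨n, -, hn⟩ := FiniteField.card F 5
  exact ⟨n, n.2, hn⟩

theorem not_ub {q N : ℕ} (hq : 5 ∣ q) (hq4 : q % 4 = 1) (hN : ¬ N ∣ q ^ 2 + 1) (hN' : ¬ N ∣ q ^ 2 - 1) (hN5 : ¬ N ∣ 5) :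
    ¬ UB5 q (5 * N) := by
  have hq0 : 0 < q := by omega
  have h1 : ∀ k, 1 ≤ k → 5 ∣ q ^ k := fun k hk => dvd_pow hq (by omega)
  have h2 : ∀ k, 1 ≤ q ^ k := fun k => Nat.one_le_pow _ _ hq0
  have hsub : ∀ k, 1 ≤ k → ¬ 5 ∣ q ^ k - 1 := by
    intro k hk h
    have h3 := (Nat.dvd_sub (h1 k hk) h)
    have h4 := h2 k
    rw [show q ^ k - (q ^ k - 1) = 1 by (clear * - h h3 h4; omega)] at h3
    omega
  have hadd : ∀ k, 1 ≤ k → ¬ 5 ∣ q ^ k + 1 := by
    intro k hk h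
    have h3 := (Nat.dvd_sub h (h1 k hk))
    rw [show q ^ k + 1 - q ^ k = 1 by omega] at h3
    omega
  have hdiv : ∀ a b : ℕ, b ∣ a → 5 * N ∣ a / b → 5 ∣ a := by
    intro a b hb h
    obtain ⟨c, rfl⟩ := hb
    rcases Nat.eq_zero_or_pos b with rfl | hb0
    · simp
    · rw [Nat.mul_div_cancel_left _ hb0] at h
      exact ((Dvd.intro _ rfl : 5 ∣ 5 * N).trans h).mul_left _
  have h4 : ∀ k, q ^ k % 4 = 1 := by
    intro k
    rw [Nat.pow_mod, hq4, one_pow]
    rfl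
  have h43 := h4 3
  have h44 := h4 4
  rintro (h | h | h | h | h | h)
  · exact hsub 3 (by norm_num) (hdiv _ 2 (by omega) h)
  · exact hadd 3 (by norm_num) (hdiv _ 2 (by omega) h)
  · exact hsub 4 (by norm_num) (hdiv _ 4 (by omega) h)
  · exact hN (Nat.dvd_of_mul_dvd_mul_left (by norm_num) h)
  · exact hN' (Nat.dvd_of_mul_dvd_mul_left (by norm_num) h)
  · exact hN5 (Nat.dvd_of_mul_dvd_mul_left (k := 5) (by norm_num) (by simpa only [_root_.Nat.reduceMul] using h))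

theorem card_mod {F : Type*} [Field F] [Fintype F] [CharP F 5] : 5 ∣ Fintype.card F ∧ Fintype.card F % 4 = 1 := by
  obtain ⟨n, hn, h⟩ := five_pow (F := F)
  rw [h]
  exact ⟨dvd_pow_self _ (by omega), by rw [Nat.pow_mod]; norm_num⟩

theorem not_ub_ten {F : Type*} [Field F] [Fintype F] [CharP F 5] : ¬ UB5 (Fintype.card F) (5 * 10) := by
  obtain ⟨h5, h4⟩ := card_mod (F := F)
  have h1 : 5 ∣ Fintype.card F ^ 2 := dvd_pow h5 (by norm_num)
  have h2 : 1 ≤ Fintype.card F ^ 2 := Nat.one_le_pow _ _ Fintype.card_pos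
  refine not_ub h5 h4 ?_ ?_ (by norm_num)
  · intro h
    have h3 : 5 ∣ Fintype.card F ^ 2 + 1 := (by norm_num : 5 ∣ 10).trans h
    omega
  · intro h
    have h3 : 5 ∣ Fintype.card F ^ 2 - 1 := (by norm_num : 5 ∣ 10).trans h
    omega

/-- the prime `r` -/
theorem exists_r' {F : Type*} [Field F] [Fintype F] [CharP F 5] {L : Type*} [Group L] (h : H424.SpecL.LF F 5 L) :
    ∃ r : ℕ, r.Prime ∧ r ≠ 5 ∧ r ∣ Nat.card L ∧ ¬ UB5 (Fintype.card F) (5 * r) := by
  obtain ⟨h5, h4⟩ := card_mod (F := F)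
  have hq : 3 ≤ Nat.card F := by
    have := Nat.le_of_dvd Fintype.card_pos h5
    rw [Nat.card_eq_fintype_card]
    omega
  obtain ⟨r, hr⟩ := H424.Zs.exists_pr (F := F) hq (e := 6) (by norm_num)
  have hno : ∀ k, 1 ≤ k → k < 6 → ¬ r ∣ Fintype.card F ^ k - 1 := by
    intro k hk hk6 hd
    have h1 : ((Nat.card F : ℕ) : ZMod r) ^ k = 1 := by
      have h2 : ((Fintype.card F ^ k : ℕ) : ZMod r) = ((1 : ℕ) : ZMod r) :=
        ((ZMod.natCast_eq_natCast_iff _ _ _).2
          ((Nat.modEq_iff_dvd' (Nat.one_le_pow _ _ Fintype.card_pos)).2 hd)).symm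
      rw [Nat.card_eq_fintype_card]
      exact_mod_cast h2
    have h3 := orderOf_dvd_of_pow_eq_one h1
    rw [hr.ord] at h3
    have := Nat.le_of_dvd (by omega) h3
    omega
  refine ⟨r, hr.prime, hr.ne_char 5, h.dvd r 6 hr (Or.inr (Or.inr rfl)), not_ub h5 h4 ?_ (hno 2 (by norm_num) (by norm_num)) ?_⟩
  · intro hd
    apply hno 4 (by norm_num) (by norm_num)
    have h1 : Fintype.card F ^ 4 - 1 = (Fintype.card F ^ 2 + 1) * (Fintype.card F ^ 2 - 1) := by
      rw [← Nat.sq_sub_sq, ← pow_mul, one_pow]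
    rw [h1]
    exact hd.mul_right _
  · intro hd
    exact hr.ne_char 5 ((Nat.prime_dvd_prime_iff_eq hr.prime Nat.prime_five).1 hd)

theorem ownCov_sp {F : Type*} [Field F] [Fintype F] [CharP F 5] :
    OwnCov.{_, w} 5 (UB5 (Fintype.card F)) (PSp 3 F) := by
  intro V _ _ _ hV φ
  have : IsSimpleGroup (PSp 3 F) := Cfsg.Agent.S0270.result 3 (by norm_num) (by norm_num)
  obtain ⟨r, hr, hr5, hd, hno⟩ := exists_r' (H424.SpecL.lf_psp (F := F) 5)
  obtain ⟨x, v, h1, h2⟩ := own5' cfg_sp hr hr5 hd hV φ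
  refine ⟨x, v, h1, ?_⟩
  rcases h2 with h2 | h2 <;> rw [h2]
  · exact not_ub_ten
  · exact hno

seal _root_.Finset.sum _root_.dotProduct in
theorem ownCov_odd {F : Type*} [Field F] [Fintype F] [CharP F 5] :
    OwnCov.{_, w} 5 (UB5 (Fintype.card F)) (POmega F (quadFormOdd 3 F)) := by
  intro V _ _ _ hV φ
  have h2 := two_ne F
  have ho : Odd (Fintype.card F) := by
    rw [Nat.odd_iff]
    have := (card_mod (F := F)).2
    omega
  have : IsSimpleGroup (POmega F (quadFormOdd 3 F)) := Cfsg.Agent.S0295.result ho 3 (by norm_num)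
  obtain ⟨r, hr, hr5, hd, hno⟩ := exists_r' (H424.SpecL.lf_odd (F := F) 5 ho)
  have hnd : H150.ND (sq F (Fin 7)) := by
    intro u hu
    funext i
    have h1 := hu (Pi.single i 1)
    rw [polar_sq] at h1
    exact (mul_eq_zero.1 h1).resolve_left h2
  obtain ⟨f⟩ := H150.nonempty_pomega h2 (sq F (Fin 7)) hnd (n := 3) (by norm_num) (by simp)
  have hC := cfg_om F (Fin 7) (Function.Embedding.refl _) h2 (by exact f.toMonoidHom) (by
    intro x hx
    have : x = 1 := f.injective (by rw [map_one]; exact hx)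
    rw [this]
    exact Subgroup.one_mem _)
  obtain ⟨x, v, h1, h3⟩ := own5' hC hr hr5 hd hV φ
  refine ⟨x, v, h1, ?_⟩
  rcases h3 with h3 | h3 <;> rw [h3]
  · exact not_ub_ten
  · exact hno

seal _root_.Finset.sum _root_.dotProduct in
theorem ownCov_plus {F : Type*} [Field F] [Fintype F] [CharP F 5] :
    OwnCov.{_, w} 5 (UB5 (Fintype.card F)) (POmega F (quadFormPlus 4 F)) := by
  have h2 := two_ne F
  have hsimple : IsSimpleGroup (POmega F (quadFormPlus 4 F)) := Cfsg.Agent.S0296.result 4 (by norm_num)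
  have hr := exists_r' (H424.SpecL.lf_plus (F := F) 5)
  rw [← coe_quadPlus] at hsimple hr ⊢
  intro V _ _ _ hV φ
  obtain ⟨r, hr, hr5, hd, hno⟩ := hr
  obtain ⟨f⟩ := Cfsg.Agent.ClassicalGeometry.OddInvolutions.commutator_quot_center_congr
    ((OGcongr (chg F) (quadPlus_chg F)).trans (isometryGroupEquiv (quadPlus 4 F)).symm)
  let j : Fin 7 ↪ Fin 4 ⊕ Fin 4 := (Fin.castLEEmb (by norm_num : 7 ≤ 4 + 4)).trans finSumFinEquiv.symm.toEmbedding
  have hC := cfg_om F (Fin 4 ⊕ Fin 4) j h2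
    (f.toMonoidHom.comp ((by exact QuotientGroup.mk' (Subgroup.center (commutator (OG (sq F (Fin 4 ⊕ Fin 4)))))))) (by
    intro x hx
    have h1 : f (QuotientGroup.mk x) = 1 := hx
    have h3 : (QuotientGroup.mk x : commutator (OG (sq F (Fin 4 ⊕ Fin 4))) ⧸ Subgroup.center _) = 1 :=
      f.injective (by simp only [map_one]; exact h1)
    exact (QuotientGroup.eq_one_iff _).1 h3)
  obtain ⟨x, v, h1, h3⟩ := own5' hC hr hr5 hd hV φ
  refine ⟨x, v, h1, ?_⟩
  rcases h3 with h3 | h3 <;> rw [h3]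
  · exact not_ub_ten
  · exact hno

end Cfsg.Agent.H382.Own5
end

-- part: H376/Six/Gtwo
section
prune_inst 0xc14026440862000000000096d1001a06ca000090002000000800094600800f200000a9000c801106020202000031005811000050424000000e00040000010000908050062340010c240001000084000000000000020000000000000000000004000000000
set_option linter.all false
open scoped Cfsg.Agent.FastGrp

-- part: H376/Six/Prime
section
/-!
# A prime of `q² + 1` in the radical (helper376)

* `exists_cov_prime_five`, `exists_cov_prime_two` : `t ∣ q² + 1` an odd prime, `t ∤ |S|`, `t ∤ |G / K : S|` : then there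
  is an extension of an elementary abelian `t`-group by `S` (a section of `G`).
-/

set_option autoImplicit false

namespace Cfsg.Agent.H376.Six

open Cfsg.Agent.H420.QR

universe u

theorem three_dvd_of_ap {q r : ℕ} (hq : 2 ≤ q) (hr : r.Prime) (h : r ∣ Six.ap q) : 3 ∣ r - 1 := by
  have := Fact.mk hr
  obtain ⟨-, hr3, hrq⟩ := ap_ne hq hr h
  have h1 := ap_dvd_int hq h
  have h2 : ((q : ZMod r)) ^ 2 + q + 1 = 0 := by
    have := (ZMod.intCast_zmod_eq_zero_iff_dvd ((q : ℤ) ^ 2 + q + 1) r).2 h1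
    push_cast at this
    exact this
  have h3 : (q : ZMod r) ^ 3 = 1 := by linear_combination ((q : ZMod r) - 1) * h2
  have h4 : (q : ZMod r) ≠ 1 := by
    intro h5
    rw [h5] at h2
    have h6 : ((3 : ℕ) : ZMod r) = 0 := by push_cast; linear_combination h2
    rw [ZMod.natCast_eq_zero_iff] at h6
    exact hr3 ((Nat.prime_dvd_prime_iff_eq hr Nat.prime_three).1 h6)
  have h5 : orderOf (q : ZMod r) = 3 := orderOf_eq_prime h3 h4
  have h6 : (q : ZMod r) ≠ 0 := by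
    intro h0
    exact hrq ((ZMod.natCast_eq_zero_iff q r).1 h0)
  rw [← h5]
  exact ZMod.orderOf_dvd_card_sub_one h6

theorem three_dvd_of_am {q r : ℕ} (hq : 2 ≤ q) (hr : r.Prime) (h : r ∣ Six.am q) : 3 ∣ r - 1 := by
  have := Fact.mk hr
  obtain ⟨-, hr3, hrq⟩ := am_ne hq hr h
  have h1 := am_dvd_int hq h
  have h2 : ((q : ZMod r)) ^ 2 - q + 1 = 0 := by
    have := (ZMod.intCast_zmod_eq_zero_iff_dvd ((q : ℤ) ^ 2 - q + 1) r).2 h1
    push_cast at this
    exact this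
  have h3 : (-(q : ZMod r)) ^ 3 = 1 := by linear_combination (-(q : ZMod r) - 1) * h2
  have h4 : (-(q : ZMod r)) ≠ 1 := by
    intro h5
    have h7 : (q : ZMod r) = -1 := by rw [← h5, neg_neg]
    rw [h7] at h2
    have h6 : ((3 : ℕ) : ZMod r) = 0 := by push_cast; linear_combination h2
    rw [ZMod.natCast_eq_zero_iff] at h6
    exact hr3 ((Nat.prime_dvd_prime_iff_eq hr Nat.prime_three).1 h6)
  have h5 : orderOf (-(q : ZMod r)) = 3 := orderOf_eq_prime h3 h4
  have h6 : -(q : ZMod r) ≠ 0 := by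
    intro h0
    exact hrq ((ZMod.natCast_eq_zero_iff q r).1 (neg_eq_zero.1 h0))
  rw [← h5]
  exact ZMod.orderOf_dvd_card_sub_one h6

/-- an odd prime divisor of `q² + 1` does not divide `q³ ± 1` -/
theorem sq_add_one_prime {q t : ℕ} (hq : 2 ≤ q) (ht : t.Prime) (ht2 : t ≠ 2) (h : t ∣ q ^ 2 + 1) :
    ¬ t ∣ q ^ 3 - 1 ∧ ¬ t ∣ q ^ 3 + 1 := by
  have h1 : (t : ℤ) ∣ (q : ℤ) ^ 2 + 1 := by exact_mod_cast h
  have key : ∀ s : ℤ, s ^ 2 = 1 → (t : ℤ) ∣ (q : ℤ) ^ 3 - s → False := by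
    intro s hs h2
    have h3 : (t : ℤ) ∣ q + s := by
      have h4 := dvd_sub (h1.mul_left (q : ℤ)) h2
      rwa [show (q : ℤ) * ((q : ℤ) ^ 2 + 1) - ((q : ℤ) ^ 3 - s) = q + s by ring] at h4
    have h4 : (t : ℤ) ∣ 2 := by
      have h5 := dvd_sub h1 (h3.mul_left ((q : ℤ) - s))
      rwa [show (q : ℤ) ^ 2 + 1 - (q - s) * (q + s) = 2 by linear_combination hs] at h5
    have h5 : t ∣ 2 := by exact_mod_cast h4
    exact ht2 ((Nat.prime_dvd_prime_iff_eq ht Nat.prime_two).1 h5)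
  have p3 : 1 ≤ q ^ 3 := Nat.one_le_pow _ _ (by omega)
  constructor
  · intro h2
    refine key 1 (by norm_num) ?_
    have h3 : (t : ℤ) ∣ ((q ^ 3 - 1 : ℕ) : ℤ) := by exact_mod_cast h2
    rwa [Nat.cast_sub p3, Nat.cast_pow, Nat.cast_one] at h3
  · intro h2
    refine key (-1) (by norm_num) ?_
    have h3 : (t : ℤ) ∣ ((q ^ 3 + 1 : ℕ) : ℤ) := by exact_mod_cast h2
    rwa [Nat.cast_add, Nat.cast_pow, Nat.cast_one, ← sub_neg_eq_add] at h3

variable {G : Type u} [Group G] [Finite G] {K : Subgroup G} [K.Normal] {S : Subgroup (G ⧸ K)} [S.Normal]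

/-- every prime divisor `t` of `|K|` occurs at the top of `K` (task 2693, helper552) -/
def TopPrime : Prop := ∀ {G : Type u} [Group G] [Finite G] (K : Subgroup G) [K.Normal], Group.IsSolvable ↥K →
  ∀ (S : Subgroup (G ⧸ K)) [S.Normal], IsSimpleGroup ↥S → ¬ IsMulCommutative ↥S → ∀ {a b : ℕ}, a.Prime → b.Prime →
  3 ∣ a - 1 → 3 ∣ b - 1 → a ∣ Nat.card ↥S → b ∣ Nat.card ↥S → ¬ a ∣ Nat.card ↥K → ¬ b ∣ Nat.card ↥K →
  (∀ t : ℕ, t.Prime → t ∣ Nat.card ↥K → ¬ ((∃ g : G, orderOf g = t * a) ∧ ∃ g : G, orderOf g = t * b)) →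
  ∀ {t : ℕ}, t.Prime → t ∣ Nat.card ↥K → ∃ (K₁ : Subgroup G) (_ : K₁.Normal), K₁ < K ∧ (∀ x ∈ K, x ^ t ∈ K₁) ∧
    (∀ x ∈ K, ∀ y ∈ K, x * y * x⁻¹ * y⁻¹ ∈ K₁)

/-- the common part -/
theorem exists_cov_prime (htop : TopPrime.{u}) {G : Type u} [Group G] [Finite G] {K : Subgroup G} [K.Normal] {S : Subgroup (G ⧸ K)} [S.Normal]
    (hR : Red G K S) {a b t A B : ℕ} (ha : a.Prime) (hb : b.Prime) (ht : t.Prime) (ha3 : 3 ∣ a - 1) (hb3 : 3 ∣ b - 1)
    (hta : t ≠ a) (htb : t ≠ b) (hab : a ≠ b) (haG : a ∣ Nat.card G) (hbG : b ∣ Nat.card G) (htG : t ∣ Nat.card G)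
    (hA : ∀ g : G, a ∣ orderOf g → orderOf g ∣ A) (hB : ∀ g : G, b ∣ orderOf g → orderOf g ∣ B)
    (htA : ¬ t ∣ A) (htB : ¬ t ∣ B) (hAB : ∀ p : ℕ, p.Prime → p ∣ A → p ∣ B → False) (haA : a ∣ A) (hbB : b ∣ B)
    (htS : ¬ t ∣ Nat.card ↥S) (hti : ¬ t ∣ S.index) :
    a ∣ Nat.card ↥S ∧ b ∣ Nat.card ↥S ∧ ∃ (H : Type u) (_ : Group H) (_ : Finite H) (V : Subgroup H) (_ : V.Normal),
      (∀ x ∈ V, ∀ y ∈ V, x * y = y * x) ∧ (∀ x ∈ V, x ^ t = 1) ∧ V ≠ ⊥ ∧ Nonempty (H ⧸ V ≃* ↥S) ∧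
      ∀ x : H, ∃ g : G, orderOf x ∣ orderOf g := by
  have hcoq : IsCoq G {a, b, t} := by
    refine ⟨?_, ?_, ?_⟩
    · intro r hr
      simp only [Finset.mem_insert, Finset.mem_singleton] at hr
      rcases hr with rfl | rfl | rfl <;> assumption
    · intro r hr
      simp only [Finset.mem_insert, Finset.mem_singleton] at hr
      rcases hr with rfl | rfl | rfl <;> assumption
    · have e1 : ∀ g : G, ¬ (a ∣ orderOf g ∧ b ∣ orderOf g) := fun g hg =>
        hAB a ha haA (hg.1.trans (hB g hg.2))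
      have e2 : ∀ g : G, ¬ (a ∣ orderOf g ∧ t ∣ orderOf g) := fun g hg => htA (hg.2.trans (hA g hg.1))
      have e3 : ∀ g : G, ¬ (b ∣ orderOf g ∧ t ∣ orderOf g) := fun g hg => htB (hg.2.trans (hB g hg.1))
      rintro r hr s hs hrs ⟨x, hx⟩
      have h1 : r ∣ orderOf x := hx ▸ Dvd.intro s rfl
      have h2 : s ∣ orderOf x := hx ▸ Dvd.intro_left r rfl
      simp only [Finset.mem_insert, Finset.mem_singleton] at hr hs
      rcases hr with rfl | rfl | rfl <;> rcases hs with rfl | rfl | rfl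
      · exact hrs rfl
      · exact e1 x ⟨h1, h2⟩
      · exact e2 x ⟨h1, h2⟩
      · exact e1 x ⟨h2, h1⟩
      · exact hrs rfl
      · exact e3 x ⟨h1, h2⟩
      · exact e2 x ⟨h2, h1⟩
      · exact e3 x ⟨h2, h1⟩
      · exact hrs rfl
  have hcard : 3 ≤ ({a, b, t} : Finset ℕ).card := by
    rw [Finset.card_insert_of_notMem (by simp [hab, Ne.symm hta]), Finset.card_insert_of_notMem (by simp [Ne.symm htb]),
      Finset.card_singleton]
  have hm : a ∈ ({a, b, t} : Finset ℕ) ∧ b ∈ ({a, b, t} : Finset ℕ) ∧ t ∈ ({a, b, t} : Finset ℕ) := by simp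
  -- `t` divides `|K|`
  have htKi : t ∣ Nat.card ↥K * S.index := by
    have h1 := htG
    rw [card_eq_mul (K := K) (S := S)] at h1
    exact (ht.dvd_mul.1 h1).resolve_left htS
  have htK : t ∣ Nat.card ↥K := (ht.dvd_mul.1 htKi).resolve_right hti
  have haKi : ¬ a ∣ Nat.card ↥K * S.index := fun h =>
    hta (hR.coc' _ hcoq hcard t hm.2.2 a hm.1 htKi h)
  have hbKi : ¬ b ∣ Nat.card ↥K * S.index := fun h =>
    htb (hR.coc' _ hcoq hcard t hm.2.2 b hm.2.1 htKi h)
  have haS : a ∣ Nat.card ↥S := by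
    have h1 := haG
    rw [card_eq_mul (K := K) (S := S)] at h1
    exact (ha.dvd_mul.1 h1).resolve_right haKi
  have hbS : b ∣ Nat.card ↥S := by
    have h1 := hbG
    rw [card_eq_mul (K := K) (S := S)] at h1
    exact (hb.dvd_mul.1 h1).resolve_right hbKi
  refine ⟨haS, hbS, ?_⟩
  obtain ⟨K₁, hn, hlt, hpow, hcomm⟩ := htop K hR.solv S hR.simple hR.nonab ha hb ha3 hb3 haS hbS
    (fun h => haKi (h.mul_right _)) (fun h => hbKi (h.mul_right _)) (by
      rintro p hp - ⟨⟨g, hg⟩, ⟨k, hk⟩⟩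
      have h1 := hA g (hg ▸ Dvd.intro_left p rfl)
      have h2 := hB k (hk ▸ Dvd.intro_left p rfl)
      rw [hg] at h1
      rw [hk] at h2
      exact hAB p hp ((Dvd.intro a rfl).trans h1) ((Dvd.intro b rfl).trans h2)) ht htK
  exact exists_ext K S K₁ hlt hpow hcomm

/-- **A prime of `(q² + 1) / 2` in the radical**, `q = 5 ^ m`. -/
theorem exists_cov_prime_five (htop : TopPrime.{u}) {q : ℕ} (hX : X5 q G) (hR : Red G K S) {t : ℕ} (ht : t.Prime)
    (htq : t ∣ (q ^ 2 + 1) / 2) (htS : ¬ t ∣ Nat.card ↥S) (hti : ¬ t ∣ S.index) :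
    ∃ (H : Type u) (_ : Group H) (_ : Finite H) (V : Subgroup H) (_ : V.Normal), Cov t H V ∧
      Nonempty (H ⧸ V ≃* ↥S) ∧ ∀ x : H, UB5 q (orderOf x) := by
  obtain ⟨h5, h4⟩ := odd_of_pow_five hX.pow
  have h2 : 2 ≤ q := by omega
  obtain ⟨a, ha, haq⟩ := exists_prime_ap h2
  obtain ⟨b, hb, hbq⟩ := exists_prime_am (q := q) (by omega)
  have haA := haq.trans (ap_dvd_half h2 (by omega))
  have hbB := hbq.trans (am_dvd_half h2 (by omega))
  have hcop := coprime_half (show q % 2 = 1 by omega)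
  have hq2 : q ^ 2 % 4 = 1 := by rw [Nat.pow_mod, h4]
  have ht2 : t ≠ 2 := by
    rintro rfl
    omega
  have htq' : t ∣ q ^ 2 + 1 := htq.trans (Nat.div_dvd_of_dvd (by omega))
  obtain ⟨hm, hp⟩ := sq_add_one_prime h2 ht ht2 htq'
  have p3 : q ^ 3 % 2 = 1 := by rw [Nat.pow_mod, show q % 2 = 1 by omega]
  have htA : ¬ t ∣ (q ^ 3 - 1) / 2 := fun h => hm (h.trans (Nat.div_dvd_of_dvd (by omega)))
  have htB : ¬ t ∣ (q ^ 3 + 1) / 2 := fun h => hp (h.trans (Nat.div_dvd_of_dvd (by omega)))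
  have hAB : ∀ p : ℕ, p.Prime → p ∣ (q ^ 3 - 1) / 2 → p ∣ (q ^ 3 + 1) / 2 → False := by
    intro p hp h1 h2
    have := Nat.dvd_gcd h1 h2
    rw [hcop] at this
    exact hp.one_lt.ne' (Nat.dvd_one.1 this)
  obtain ⟨g₁, hg₁⟩ := hX.a
  obtain ⟨g₂, hg₂⟩ := hX.b
  obtain ⟨g₃, hg₃⟩ := hX.c
  obtain ⟨haS, hbS, H, hg, hfin, V, hVn, hc, hpw, hV, ⟨e⟩, ho⟩ := exists_cov_prime htop hR (A := (q ^ 3 - 1) / 2)
    (B := (q ^ 3 + 1) / 2) ha hb ht (three_dvd_of_ap h2 ha haq)
    (three_dvd_of_am h2 hb hbq) (fun h => htA (h ▸ haA)) (fun h => htB (h ▸ hbB))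
    (fun h => hAB a ha haA (h ▸ hbB)) (haA.trans (hg₁ ▸ orderOf_dvd_natCard g₁))
    (hbB.trans (hg₂ ▸ orderOf_dvd_natCard g₂)) (htq.trans (hg₃ ▸ orderOf_dvd_natCard g₃))
    (fun g hg => UB5.ap hX.pow (hX.ub g) ha haq hg) (fun g hg => UB5.am hX.pow (hX.ub g) hb hbq hg)
    htA htB hAB haA hbB htS hti
  have hub' : ∀ x : H, UB5 q (orderOf x) := fun x => by
    obtain ⟨g, hgx⟩ := ho x
    exact UB5.mono (hX.ub g) hgx
  have := Fact.mk ha
  have := Fact.mk hb
  obtain ⟨x, hx⟩ := exists_prime_orderOf_dvd_card' (G := ↥S) a haS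
  obtain ⟨y, hy⟩ := exists_prime_orderOf_dvd_card' (G := ↥S) b hbS
  refine ⟨H, hg, hfin, V, hVn, ⟨ht, hc, hpw, noncentral_five hX.pow V ht hpw hV ⟨e.symm x, a, ha, haq, ?_⟩
    ⟨e.symm y, b, hb, hbq, ?_⟩ hub'⟩, ⟨e⟩, hub'⟩
  · rw [MulEquiv.orderOf_eq, hx]
  · rw [MulEquiv.orderOf_eq, hy]

/-- **A prime of `q² + 1` in the radical**, `q = 2 ^ m`. -/
theorem exists_cov_prime_two (htop : TopPrime.{u}) {q : ℕ} (hX : X2 q G) (hR : Red G K S) {t : ℕ} (ht : t.Prime)
    (htq : t ∣ q ^ 2 + 1) (htS : ¬ t ∣ Nat.card ↥S) (hti : ¬ t ∣ S.index) :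
    ∃ (H : Type u) (_ : Group H) (_ : Finite H) (V : Subgroup H) (_ : V.Normal), Cov t H V ∧
      Nonempty (H ⧸ V ≃* ↥S) ∧ ∀ x : H, UB2 q (orderOf x) := by
  obtain ⟨hq4, he⟩ : 4 ≤ q ∧ q % 2 = 0 := by
    obtain ⟨m, hm, rfl⟩ := hX.pow
    constructor
    · calc 4 = 2 ^ 2 := by norm_num
        _ ≤ 2 ^ m := Nat.pow_le_pow_right (by norm_num) hm
    · exact Nat.mod_eq_zero_of_dvd (dvd_pow_self 2 (by omega))
  have h2 : 2 ≤ q := by omega
  obtain ⟨a, ha, haq⟩ := exists_prime_ap h2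
  obtain ⟨b, hb, hbq⟩ := exists_prime_am (q := q) (by omega)
  have haA := haq.trans (ap_dvd_cube h2)
  have hbB := hbq.trans (am_dvd_cube h2)
  have hq2 : q ^ 2 % 2 = 0 := by rw [Nat.pow_mod, he]
  have ht2 : t ≠ 2 := by
    rintro rfl
    omega
  obtain ⟨htA, htB⟩ := sq_add_one_prime h2 ht ht2 htq
  have p3 : q ^ 3 % 2 = 0 := by rw [Nat.pow_mod, he]
  have p3' : 1 ≤ q ^ 3 := Nat.one_le_pow _ _ (by omega)
  have hAB : ∀ p : ℕ, p.Prime → p ∣ q ^ 3 - 1 → p ∣ q ^ 3 + 1 → False := by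
    intro p hp h1 h2
    have h3 := Nat.dvd_sub h2 h1
    rw [show q ^ 3 + 1 - (q ^ 3 - 1) = 2 by (clear * - p3'; omega)] at h3
    rw [(Nat.prime_dvd_prime_iff_eq hp Nat.prime_two).1 h3] at h1
    omega
  obtain ⟨g₁, hg₁⟩ := hX.a
  obtain ⟨g₂, hg₂⟩ := hX.b
  obtain ⟨g₃, hg₃⟩ := hX.c
  obtain ⟨haS, hbS, H, hg, hfin, V, hVn, hc, hpw, hV, ⟨e⟩, ho⟩ := exists_cov_prime htop hR (A := q ^ 3 - 1)
    (B := q ^ 3 + 1) ha hb ht (three_dvd_of_ap h2 ha haq)
    (three_dvd_of_am h2 hb hbq) (fun h => htA (h ▸ haA)) (fun h => htB (h ▸ hbB))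
    (fun h => hAB a ha haA (h ▸ hbB)) (haA.trans (hg₁ ▸ orderOf_dvd_natCard g₁))
    (hbB.trans (hg₂ ▸ orderOf_dvd_natCard g₂)) (htq.trans (hg₃ ▸ orderOf_dvd_natCard g₃))
    (fun g hg => UB2.ap h2 (hX.ub g) ha haq hg) (fun g hg => UB2.am h2 (hX.ub g) hb hbq hg)
    htA htB hAB haA hbB htS hti
  have hub' : ∀ x : H, UB2 q (orderOf x) := fun x => by
    obtain ⟨g, hgx⟩ := ho x
    exact UB2.mono (hX.ub g) hgx
  have := Fact.mk ha
  have := Fact.mk hb
  obtain ⟨x, hx⟩ := exists_prime_orderOf_dvd_card' (G := ↥S) a haS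
  obtain ⟨y, hy⟩ := exists_prime_orderOf_dvd_card' (G := ↥S) b hbS
  refine ⟨H, hg, hfin, V, hVn, ⟨ht, hc, hpw, noncentral_two hX.pow V ht hpw hV ⟨e.symm x, a, ha, haq, ?_⟩
    ⟨e.symm y, b, hb, hbq, ?_⟩ hub'⟩, ⟨e⟩, hub'⟩
  · rw [MulEquiv.orderOf_eq, hx]
  · rw [MulEquiv.orderOf_eq, hy]

end Cfsg.Agent.H376.Six
end

-- part: H876/Six/SlFive
section
/-!
# `SL₃(5)` in a quotient `H / V`, `V` abelian of prime exponent `t ≠ 2, 5`: an element of order `20 t` (helper876)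

`z = 1 + e₀₂`, `h = diag (2, 4, 2)`, `E = {1 + a e₀₂ + b e₁₂}`. If no element has order `20 t` then the norm of `h` vanishes
on `C_V(z)`, so `E` is trivial on `C_V(z)` (Frobenius group `5 : 4`), hence on `C_V(e)` for all `e ∈ E`, hence on `V`.
-/

set_option autoImplicit false

namespace Cfsg.Agent.H876.Six

open Finset Matrix
open Cfsg.Agent.H371.Frob Cfsg.Agent.H376.Six

/-- `SL₃(5)` -/
abbrev S5 : Type := Matrix.SpecialLinearGroup (Fin 3) (ZMod 5)

/-- the unipotent radical of the stabilizer of a plane -/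
def uu (a b : ZMod 5) : S5 := ⟨!![1, 0, a; 0, 1, b; 0, 0, 1], by rw [det_fin_three]; simp⟩

/-- the Levi factor -/
def gg (k : ZMod 5) : S5 := ⟨!![k, -1, 0; 1, 0, 0; 0, 0, 1], by rw [det_fin_three]; simp⟩

/-- the torus element -/
def hh : S5 := ⟨!![2, 0, 0; 0, 4, 0; 0, 0, 2], by decide +kernel⟩

theorem uu_mul (a b c d : ZMod 5) : uu a b * uu c d = uu (a + c) (b + d) := by
  apply Subtype.ext
  rw [Matrix.SpecialLinearGroup.coe_mul]
  change !![1, 0, a; 0, 1, b; 0, 0, 1] * !![1, 0, c; 0, 1, d; 0, 0, 1] = !![1, 0, a + c; 0, 1, b + d; 0, 0, 1]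
  ext i j
  fin_cases i <;> fin_cases j <;> simp [Matrix.mul_apply, Fin.sum_univ_succ, add_comm]

theorem gg_uu (k s : ZMod 5) : gg k * uu s 0 = uu (s * k) s * gg k := by
  apply Subtype.ext
  rw [Matrix.SpecialLinearGroup.coe_mul, Matrix.SpecialLinearGroup.coe_mul]
  change !![k, -1, 0; 1, 0, 0; 0, 0, 1] * !![1, 0, s; 0, 1, 0; 0, 0, 1] =
    !![1, 0, s * k; 0, 1, s; 0, 0, 1] * !![k, -1, 0; 1, 0, 0; 0, 0, 1]
  ext i j
  fin_cases i <;> fin_cases j <;> simp [Matrix.mul_apply, Fin.sum_univ_succ, mul_comm]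

theorem gg_uu' (k s : ZMod 5) : gg k * uu 0 s = uu (-s) 0 * gg k := by
  apply Subtype.ext
  rw [Matrix.SpecialLinearGroup.coe_mul, Matrix.SpecialLinearGroup.coe_mul]
  change !![k, -1, 0; 1, 0, 0; 0, 0, 1] * !![1, 0, 0; 0, 1, s; 0, 0, 1] =
    !![1, 0, -s; 0, 1, 0; 0, 0, 1] * !![k, -1, 0; 1, 0, 0; 0, 0, 1]
  ext i j
  (revert i j; simp only [Matrix.mul_apply, Fin.sum_univ_succ, _root_.Fin.forall_fin_succ, _root_.Matrix.of_apply, _root_.Matrix.cons_val', _root_.Matrix.cons_val_fin_one, Fin.isValue, _root_.Matrix.cons_val_zero, _root_.Matrix.cons_val_succ, _root_.Finset.univ_unique, _root_.Fin.default_eq_zero, _root_.Finset.sum_const, _root_.Finset.card_singleton, _root_.one_smul, _root_.mul_one, _root_.MulZeroClass.mul_zero, _root_.add_zero, _root_.zero_add, _root_.mul_neg, _root_.forall_const, _root_.one_mul, _root_.neg_mul, _root_.and_self, _root_.right_eq_add, _root_.mul_eq_zero, _root_.add_eq_right, _root_.true_or,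 _root_.neg_zero, _root_.implies_true])

theorem hh_z : hh * uu 1 0 = uu 1 0 * hh := by decide +kernel

theorem hh_uu : ∀ s : ZMod 5, hh * uu 0 s * hh⁻¹ = uu 0 (2 * s) := by decide +kernel

theorem order_c : orderOf (hh * uu 1 0) = 20 := by
  apply orderOf_eq_of_pow_and_pow_div_prime (by norm_num)
  · decide +kernel
  · intro p hp hd
    have h1 : p = 2 ∨ p = 5 := by
      have : p ∣ 2 ^ 2 * 5 := hd
      rcases (hp.dvd_mul.1 this) with h | h
      · exact Or.inl ((Nat.prime_dvd_prime_iff_eq hp Nat.prime_two).1 (hp.dvd_of_dvd_pow h))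
      · exact Or.inr ((Nat.prime_dvd_prime_iff_eq hp Nat.prime_five).1 h)
    rcases h1 with rfl | rfl
    · decide +kernel
    · decide +kernel


theorem uu_inv (a b : ZMod 5) : (uu a b)⁻¹ = uu (-a) (-b) := by
  rw [inv_eq_iff_mul_eq_one, uu_mul, add_neg_cancel, add_neg_cancel]
  decide +kernel

theorem uu_comm (a b c d : ZMod 5) : uu a b * uu c d = uu c d * uu a b := by
  rw [uu_mul, uu_mul, add_comm a, add_comm b]

theorem uu_zero : uu 0 0 = 1 := by decide +kernel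

theorem uu_inj (s : ZMod 5) (h : uu 0 s = 1) : s = 0 := by
  have h1 : ((uu 0 s : S5) : Matrix (Fin 3) (Fin 3) (ZMod 5)) 1 2 = (1 : Matrix (Fin 3) (Fin 3) (ZMod 5)) 1 2 := by rw [h]; rfl
  exact h1

section act

variable {V : Type*} [CommGroup V] (τ : S5 →* MulAut V)

/-- the centralizer of `z` -/
abbrev CC : Subgroup S5 := Subgroup.centralizer ({uu 1 0} : Set S5)

/-- the fixed points of `z` -/
def WW : Subgroup V where
  carrier := {v | τ (uu 1 0) v = v}
  one_mem' := map_one _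
  mul_mem' := by
    intro a b ha hb
    change τ (uu 1 0) (a * b) = a * b
    rw [map_mul]
    exact congrArg₂ (· * ·) ha hb
  inv_mem' := by
    intro a ha
    change τ (uu 1 0) (a⁻¹) = a⁻¹
    rw [map_inv]
    exact congrArg (·⁻¹) ha

theorem mem_CC {g : S5} : g ∈ CC ↔ uu 1 0 * g = g * uu 1 0 := by
  rw [Subgroup.mem_centralizer_singleton_iff]
  exact ⟨Eq.symm, Eq.symm⟩

theorem WW_stable (g : CC) (w : WW τ) : τ g (w : V) ∈ WW τ := by
  change τ (uu 1 0) (τ (g : S5) (w : V)) = τ (g : S5) (w : V)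
  rw [← MulAut.mul_apply, ← map_mul, mem_CC.1 g.2, map_mul, MulAut.mul_apply]
  exact congrArg (τ (g : S5)) w.2

/-- the action of the centralizer of `z` on the fixed points of `z` -/
def rho : CC →* MulAut (WW τ) where
  toFun g :=
    { toFun := fun w => ⟨τ g (w : V), WW_stable τ g w⟩
      invFun := fun w => ⟨τ ((g⁻¹ : CC) : S5) (w : V), WW_stable τ g⁻¹ w⟩
      left_inv := by
        intro w
        apply Subtype.ext
        change τ ((g⁻¹ : CC) : S5) (τ (g : S5) (w : V)) = w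
        rw [← MulAut.mul_apply, ← map_mul, ← Subgroup.coe_mul, inv_mul_cancel, Subgroup.coe_one, map_one, MulAut.one_apply]
      right_inv := by
        intro w
        apply Subtype.ext
        change τ (g : S5) (τ ((g⁻¹ : CC) : S5) (w : V)) = w
        rw [← MulAut.mul_apply, ← map_mul, ← Subgroup.coe_mul, mul_inv_cancel, Subgroup.coe_one, map_one, MulAut.one_apply]
      map_mul' := by
        intro a b
        apply Subtype.ext
        exact map_mul (τ (g : S5)) (a : V) (b : V) }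
  map_one' := by
    apply MulEquiv.ext
    intro w
    apply Subtype.ext
    change τ ((1 : CC) : S5) (w : V) = w
    rw [Subgroup.coe_one, map_one, MulAut.one_apply]
  map_mul' := by
    intro a b
    apply MulEquiv.ext
    intro w
    apply Subtype.ext
    change τ ((a * b : CC) : S5) (w : V) = τ (a : S5) (τ (b : S5) (w : V))
    rw [Subgroup.coe_mul, map_mul, MulAut.mul_apply]

/-- the group of order five -/
def UU : Subgroup CC where
  carrier := {g | ∃ s, (g : S5) = uu 0 s}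
  one_mem' := ⟨0, by rw [uu_zero]; rfl⟩
  mul_mem' := by
    rintro a b ⟨s, hs⟩ ⟨s', hs'⟩
    exact ⟨s + s', by rw [Subgroup.coe_mul, hs, hs', uu_mul, add_zero]⟩
  inv_mem' := by
    rintro a ⟨s, hs⟩
    exact ⟨-s, by rw [Subgroup.coe_inv, hs, uu_inv, neg_zero]⟩

theorem uu_mem_CC (a b : ZMod 5) : uu a b ∈ CC := mem_CC.2 (uu_comm _ _ _ _)

theorem card_UU : Nat.card UU = 5 := by
  have h1 : Function.Bijective (fun s : ZMod 5 => (⟨⟨uu 0 s, uu_mem_CC 0 s⟩, s, rfl⟩ : UU)) := by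
    constructor
    · intro a b h
      have h2 : uu 0 a = uu 0 b := congrArg (fun x : UU => ((x : CC) : S5)) h
      have h3 : ((uu 0 a : S5) : Matrix (Fin 3) (Fin 3) (ZMod 5)) 1 2 = ((uu 0 b : S5) : Matrix (Fin 3) (Fin 3) (ZMod 5)) 1 2 := by
        rw [h2]
      exact h3
    · rintro ⟨⟨g, hg⟩, s, hs⟩
      refine ⟨s, ?_⟩
      apply Subtype.ext
      apply Subtype.ext
      exact hs.symm
  rw [← Nat.card_congr (Equiv.ofBijective _ h1), Nat.card_zmod]

/-- `h` as an element of the centralizer -/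
def hC : CC := ⟨hh, mem_CC.2 hh_z.symm⟩

theorem hh_fix : ∀ i : Fin 4, 0 < (i : ℕ) → ∀ s : ZMod 5, hh ^ (i : ℕ) * uu 0 s = uu 0 s * hh ^ (i : ℕ) → s = 0 := by
  decide +kernel

/-- **`E` is trivial on `C_V(z)`** -/
theorem triv_W {t : ℕ} (he : ∀ v : V, v ^ t = 1) (h5 : (5 : ℕ).Coprime t)
    (hN : ∀ w, τ (uu 1 0) w = w → ∏ i ∈ range 4, τ (hh ^ i) w = 1) :
    ∀ w, τ (uu 1 0) w = w → ∀ s, τ (uu 0 s) w = w := by
  intro w hw s
  have hn1 : ∀ a ∈ UU, (hC)⁻¹ * a * hC ∈ UU := by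
    rintro a ⟨r, hr⟩
    refine ⟨3 * r, ?_⟩
    have h1 := hh_uu (3 * r)
    have h2 : (2 : ZMod 5) * (3 * r) = r := by
      rw [← mul_assoc]
      have : (2 : ZMod 5) * 3 = 1 := by decide
      rw [this, one_mul]
    rw [h2] at h1
    change (hh)⁻¹ * (a : S5) * hh = uu 0 (3 * r)
    rw [hr, ← h1]
    group
  have hn : ∀ a ∈ UU, ∀ i : ℕ, (hC ^ i)⁻¹ * a * hC ^ i ∈ UU := by
    intro a ha i
    induction i with
    | zero => simpa only [_root_.pow_zero, _root_.inv_one, _root_.one_mul, _root_.mul_one] using ha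
    | succ i ih =>
      have h1 := hn1 _ ih
      convert h1 using 1
      rw [pow_succ]; group
  have h1 := trivial_of_norm (rho τ) UU (c := hC) (m := 4) (e := t) (by norm_num) hn (by
    rintro i hi hi4 a ⟨r, hr⟩ hc
    have h2 : hh ^ i * uu 0 r = uu 0 r * hh ^ i := by
      have := congrArg (fun x : CC => (x : S5)) hc
      rw [← hr]
      exact this
    have h3 := hh_fix ⟨i, hi4⟩ hi r h2
    apply Subtype.ext
    rw [hr, h3, uu_zero]; rfl) (fun v => Subtype.ext (he v)) (by rw [card_UU]; exact h5) (by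
    intro v
    apply Subtype.ext
    have h2 := hN v v.2
    rw [Subgroup.coe_one, ← h2]
    rw [Subgroup.val_finsetProd]
    rfl) ⟨uu 0 s, uu_mem_CC 0 s⟩ ⟨s, rfl⟩ ⟨w, hw⟩
  exact congrArg Subtype.val h1

/-- the norm of `z` -/
noncomputable def NN (v : V) : V := ∏ s : ZMod 5, τ (uu s 0) v

theorem NN_fix (v : V) (a : ZMod 5) : τ (uu a 0) (NN τ v) = NN τ v := by
  rw [NN, map_prod]
  have h1 : ∀ s : ZMod 5, τ (uu a 0) (τ (uu s 0) v) = τ (uu (a + s) 0) v := by
    intro s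
    rw [← MulAut.mul_apply, ← map_mul, uu_mul, add_zero]
  simp only [h1]
  exact Equiv.prod_comp (Equiv.addLeft a) (fun s => τ (uu s 0) v)

/-- **`E` is trivial on `V`** -/
theorem triv_V {t : ℕ} (he : ∀ v : V, v ^ t = 1) (h5 : (5 : ℕ).Coprime t)
    (hN : ∀ w, τ (uu 1 0) w = w → ∏ i ∈ range 4, τ (hh ^ i) w = 1) (v : V) (a b : ZMod 5) : τ (uu a b) v = v := by
  have hW := triv_W τ he h5 hN
  have hsp : ∀ a b, uu a b = uu 0 b * uu a 0 := by
    intro a b
    rw [uu_mul, add_zero, zero_add]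
  -- the norm of `z` is fixed by everything
  have h1 : ∀ v a b, τ (uu a b) (NN τ v) = NN τ v := by
    intro v a b
    rw [hsp, map_mul, MulAut.mul_apply, NN_fix]
    exact hW _ (NN_fix τ v 1) b
  -- the norm of `z'`
  have h2 : ∀ (v : V) (k a b : ZMod 5), τ (uu a b) (∏ s : ZMod 5, τ (uu (s * k) s) v) = ∏ s : ZMod 5, τ (uu (s * k) s) v := by
    intro v k a b
    have h3 : ∏ s : ZMod 5, τ (uu (s * k) s) v = τ (gg k) (NN τ (τ (gg k)⁻¹ v)) := by
      rw [NN, map_prod]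
      refine Finset.prod_congr rfl fun s _ => ?_
      rw [← MulAut.mul_apply, ← MulAut.mul_apply, ← map_mul, ← map_mul, gg_uu, mul_inv_cancel_right]
    rw [h3]
    obtain ⟨c, d, hcd⟩ : ∃ c d, uu a b * gg k = gg k * uu c d := by
      refine ⟨b, -(a - b * k), ?_⟩
      have h4 : uu b (-(a - b * k)) = uu 0 (-(a - b * k)) * uu b 0 := hsp _ _
      rw [h4, ← mul_assoc, gg_uu', mul_assoc, gg_uu, ← mul_assoc, uu_mul, neg_neg, sub_add_cancel, zero_add]
    rw [← MulAut.mul_apply, ← map_mul, hcd, map_mul, MulAut.mul_apply, h1]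
  -- the sum
  have h3 : ∏ k : ZMod 5, ∏ s : ZMod 5, τ (uu (s * k) s) v = v ^ 5 * (NN τ v)⁻¹ * ∏ s : ZMod 5, ∏ k : ZMod 5, τ (uu k s) v := by
    rw [Finset.prod_comm]
    rw [← Finset.mul_prod_erase univ (fun s : ZMod 5 => ∏ k : ZMod 5, τ (uu (s * k) s) v) (Finset.mem_univ 0),
      ← Finset.mul_prod_erase univ (fun s : ZMod 5 => ∏ k : ZMod 5, τ (uu k s) v) (Finset.mem_univ 0)]
    have h4 : ∏ k : ZMod 5, τ (uu (0 * k) 0) v = v ^ 5 := by
      simp only [zero_mul, uu_zero, map_one, MulAut.one_apply, Finset.prod_const, Finset.card_univ, ZMod.card]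
    have h5 : ∏ s ∈ univ.erase (0 : ZMod 5), ∏ k : ZMod 5, τ (uu (s * k) s) v =
        ∏ s ∈ univ.erase (0 : ZMod 5), ∏ k : ZMod 5, τ (uu k s) v := by
      refine Finset.prod_congr rfl fun s hs => ?_
      have hs0 : s ≠ 0 := (Finset.mem_erase.1 hs).1
      have : Fact (Nat.Prime 5) := ⟨Nat.prime_five⟩
      exact Equiv.prod_comp (Equiv.mulLeft₀ s hs0) (fun k => τ (uu k s) v)
    rw [h4, h5]
    change _ = v ^ 5 * (NN τ v)⁻¹ * (NN τ v * _)
    rw [mul_assoc, inv_mul_cancel_left]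
  have h4 : v ^ 5 = (∏ k : ZMod 5, ∏ s : ZMod 5, τ (uu (s * k) s) v) * NN τ v *
      (∏ s : ZMod 5, ∏ k : ZMod 5, τ (uu k s) v)⁻¹ := by
    rw [h3, eq_mul_inv_iff_mul_eq, mul_right_comm, inv_mul_cancel_right]
  have h5' : τ (uu a b) (∏ s : ZMod 5, ∏ k : ZMod 5, τ (uu k s) v) = ∏ s : ZMod 5, ∏ k : ZMod 5, τ (uu k s) v := by
    rw [map_prod]
    have h6 : ∀ s : ZMod 5, τ (uu a b) (∏ k : ZMod 5, τ (uu k s) v) = ∏ k : ZMod 5, τ (uu k (b + s)) v := by
      intro s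
      rw [map_prod]
      have h7 : ∀ k : ZMod 5, τ (uu a b) (τ (uu k s) v) = τ (uu (a + k) (b + s)) v := by
        intro k
        rw [← MulAut.mul_apply, ← map_mul, uu_mul]
      simp only [h7]
      exact Equiv.prod_comp (Equiv.addLeft a) (fun k => τ (uu k (b + s)) v)
    simp only [h6]
    exact Equiv.prod_comp (Equiv.addLeft b) (fun s => ∏ k : ZMod 5, τ (uu k s) v)
  have h6 : τ (uu a b) (v ^ 5) = v ^ 5 := by
    rw [h4, map_mul, map_mul, map_inv, h1, h5', map_prod]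
    simp only [h2]
  have h7 : (τ (uu a b) v * v⁻¹) ^ 5 = 1 := by
    rw [mul_pow, inv_pow, ← map_pow, h6, mul_inv_cancel]
  have h8 := pow_gcd_eq_one.2 ⟨h7, he _⟩
  rw [h5, pow_one] at h8
  exact mul_inv_eq_one.1 h8

end act

section group

variable {H : Type*} [Group H]

/-- **An element of order `20 t`** -/
theorem exists_twenty (V : Subgroup H) [V.Normal] {t : ℕ} (hV : Cov t H V) (h2 : t ≠ 2) (h5 : t ≠ 5) (σ : S5 →* H ⧸ V)
    (hσ : Function.Injective σ) (hf : ∃ g : H, (g : H ⧸ V) = σ (uu 0 1) ∧ ∃ v ∈ V, g * v ≠ v * g) :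
    ∃ y : H, orderOf y = 20 * t := by
  by_contra hno
  push Not at hno
  have hVc : IsMulCommutative V := ⟨⟨fun a b => Subtype.ext (hV.comm a a.2 b b.2)⟩⟩
  let _ : CommGroup V := { (inferInstance : Group V) with mul_comm := hVc.is_comm.comm }
  let τ : S5 →* MulAut V := (quotAct V hVc).comp σ
  have h5' : (5 : ℕ).Coprime t := (Nat.coprime_primes Nat.prime_five hV.prime).2 (Ne.symm h5)
  have h2' : (2 : ℕ).Coprime t := (Nat.coprime_primes Nat.prime_two hV.prime).2 (Ne.symm h2)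
  have h20 : (20 : ℕ).Coprime t := by
    have h1 : (20 : ℕ) = 2 * 2 * 5 := rfl
    rw [h1]
    exact (h2'.mul_left h2').mul_left h5'
  obtain ⟨y, hy⟩ := QuotientGroup.mk_surjective (σ (hh * uu 1 0))
  have hy20 : orderOf (y : H ⧸ V) = 20 := by
    rw [hy, orderOf_injective σ hσ, order_c]
  -- elements over `hz` have order twenty
  have hord : ∀ x : H, (x : H ⧸ V) = σ (hh * uu 1 0) → x ^ 20 = 1 := by
    intro x hx
    by_contra hx20
    apply hno x
    have h1 : x ^ 20 ∈ V := by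
      rw [← QuotientGroup.eq_one_iff, QuotientGroup.mk_pow, hx, ← hy, ← hy20, pow_orderOf_eq_one]
    have h3 : orderOf (x ^ 20) = t := by
      have := Fact.mk hV.prime
      exact orderOf_eq_prime (hV.pow _ h1) hx20
    have h4 : 20 ∣ orderOf x := by
      rw [← hy20, hy, ← hx]
      exact orderOf_map_dvd (QuotientGroup.mk' V) x
    rw [orderOf_pow_of_dvd (by norm_num) h4] at h3
    rw [← h3, Nat.mul_div_cancel' h4]
  have hN : ∀ w : V, τ (uu 1 0) w = w → ∏ i ∈ range 4, τ (hh ^ i) w = 1 := by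
    intro w hw
    set w' := ∏ i ∈ range 4, τ (hh ^ i) w with hw'
    have h1 : τ (uu 1 0) w' = w' := by
      rw [hw', map_prod]
      refine Finset.prod_congr rfl fun i _ => ?_
      have hc : uu 1 0 * hh ^ i = hh ^ i * uu 1 0 := (Commute.pow_left hh_z i).symm
      rw [← MulAut.mul_apply, ← map_mul, hc, map_mul, MulAut.mul_apply, hw]
    have h3 : τ hh w' = w' := by
      rw [hw', map_prod]
      have h4 : ∀ i ∈ range 4, τ hh (τ (hh ^ i) w) = τ (hh ^ (i + 1)) w := by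
        intro i _
        rw [← MulAut.mul_apply, ← map_mul, ← pow_succ']
      rw [Finset.prod_congr rfl h4, Finset.prod_range_succ, Finset.prod_range_succ' _ 3]
      have h6 : hh ^ (3 + 1) = 1 := by decide +kernel
      rw [h6, pow_zero]
    have h4 : τ (hh * uu 1 0) w' = w' := by rw [map_mul, MulAut.mul_apply, h1, h3]
    have h5 : y * (w' : H) * y⁻¹ = w' := by
      have h6 := congrArg Subtype.val h4
      change ((quotAct V hVc (σ (hh * uu 1 0)) w' : V) : H) = w' at h6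
      rw [← hy, quotAct_mk] at h6
      exact h6
    have h6 : Commute y (w' : H) := mul_inv_eq_iff_eq_mul.1 h5
    have h7 : (y * (w' : H)) ^ 20 = 1 := by
      apply hord
      rw [QuotientGroup.mk_mul, (QuotientGroup.eq_one_iff _).2 w'.2, mul_one, hy]
    rw [h6.mul_pow, hord y hy, one_mul] at h7
    have h8 : (w' : H) ^ Nat.gcd 20 t = 1 := pow_gcd_eq_one.2 ⟨h7, hV.pow _ w'.2⟩
    rw [h20, pow_one] at h8
    exact Subtype.ext h8
  obtain ⟨g, hg, v, hv, hne⟩ := hf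
  have h1 := triv_V τ (fun v => Subtype.ext (hV.pow v v.2)) h5' hN ⟨v, hv⟩ 0 1
  have h3 := congrArg Subtype.val h1
  change ((quotAct V hVc (σ (uu 0 1)) ⟨v, hv⟩ : V) : H) = v at h3
  rw [← hg, quotAct_mk] at h3
  exact hne (mul_inv_eq_iff_eq_mul.1 h3)

end group

end Cfsg.Agent.H876.Six
end

-- part: H876/Six/NcG2
section
/-!
# No cover of `G₂(q)`, `q = 5^m`, with the element orders of BLOCK 6 (helper876)
-/

set_option autoImplicit false

namespace Cfsg.Agent.H876.Six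

open Cfsg.Lie
open Cfsg.Agent.H376.Six Cfsg.Agent.H161.Oct

/-- faithful action of a simple quotient on a noncentral normal subgroup -/
theorem faithful {H : Type*} [Group H] (V : Subgroup H) [V.Normal] {t : ℕ} (hV : Cov t H V)
    (hs : IsSimpleGroup (H ⧸ V)) {g : H} (hg : g ∉ V) : ∃ v ∈ V, g * v ≠ v * g := by
  by_contra hno
  push Not at hno
  have hn : (Subgroup.centralizer (V : Set H)).Normal := by
    constructor
    intro x hx y
    rw [Subgroup.mem_centralizer_iff] at hx ⊢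
    intro v hv
    have h1 : y⁻¹ * v * y ∈ V := by
      have := ‹V.Normal›.conj_mem v hv y⁻¹
      rwa [inv_inv] at this
    have h2 := hx _ h1
    calc v * (y * x * y⁻¹) = y * ((y⁻¹ * v * y) * x) * y⁻¹ := by group
      _ = y * (x * (y⁻¹ * v * y)) * y⁻¹ := by rw [h2]
      _ = _ := by group
  have hm : ((Subgroup.centralizer (V : Set H)).map (QuotientGroup.mk' V)).Normal :=
    Subgroup.Normal.map hn _ (QuotientGroup.mk'_surjective V)
  rcases hm.eq_bot_or_eq_top with h | h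
  · have h1 : g ∈ Subgroup.centralizer (V : Set H) := by
      rw [Subgroup.mem_centralizer_iff]
      exact fun v hv => (hno v hv).symm
    have h2 : QuotientGroup.mk' V g ∈ (Subgroup.centralizer (V : Set H)).map (QuotientGroup.mk' V) :=
      Subgroup.mem_map_of_mem _ h1
    rw [h, Subgroup.mem_bot] at h2
    exact hg ((QuotientGroup.eq_one_iff g).1 h2)
  · obtain ⟨v, hv, x, hx⟩ := hV.nc
    have h2 : QuotientGroup.mk' V x ∈ (Subgroup.centralizer (V : Set H)).map (QuotientGroup.mk' V) := by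
      rw [h]; exact Subgroup.mem_top _
    obtain ⟨c, hc, hcx⟩ := h2
    have h3 : c⁻¹ * x ∈ V := QuotientGroup.eq.1 hcx
    have h4 : x = c * (c⁻¹ * x) := by group
    apply hx
    have h5 : v * c = c * v := (Subgroup.mem_centralizer_iff.1 hc) v hv
    have h6 := hV.comm v hv _ h3
    calc x * v = c * ((c⁻¹ * x) * v) := by group
      _ = c * (v * (c⁻¹ * x)) := by rw [h6]
      _ = (c * v) * (c⁻¹ * x) := by group
      _ = v * c * (c⁻¹ * x) := by rw [h5]
      _ = v * x := by group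

/-- the arithmetic -/
theorem not_UB5 {q m t : ℕ} (hm : 1 ≤ m) (hq : q = 5 ^ m) (htp : t.Prime) (ht : t ∣ (q ^ 2 + 1) / 2) :
    t ≠ 2 ∧ t ≠ 5 ∧ ¬ UB5 q (20 * t) := by
  obtain ⟨j, hj⟩ : ∃ j, q = 20 * j + 5 := by
    subst hq
    clear ht
    induction m, hm using Nat.le_induction with
    | base => exact ⟨0, rfl⟩
    | succ n hn ih =>
      obtain ⟨j, hj⟩ := ih
      refine ⟨5 * j + 1, ?_⟩
      rw [pow_succ, hj]; ring
  clear hq
  subst hj
  have e2 : ((20 * j + 5) ^ 2 + 1) / 2 = 2 * (100 * j ^ 2 + 50 * j + 6) + 1 := by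
    have : (20 * j + 5) ^ 2 + 1 = 2 * (2 * (100 * j ^ 2 + 50 * j + 6) + 1) := by ring
    rw [this]; omega
  rw [e2] at ht
  have ht2 : t ≠ 2 := by
    rintro rfl
    omega
  have ht5 : t ≠ 5 := by
    rintro rfl
    have h1 : 2 * (100 * j ^ 2 + 50 * j + 6) + 1 = 5 * (40 * j ^ 2 + 20 * j + 2) + 3 := by ring
    rw [h1] at ht
    omega
  refine ⟨ht2, ht5, ?_⟩
  have e3 : (20 * j + 5) ^ 3 = 2 * (4000 * j ^ 3 + 3000 * j ^ 2 + 750 * j + 62) + 1 := by ring
  have e4 : (20 * j + 5) ^ 4 = 4 * (40000 * j ^ 4 + 40000 * j ^ 3 + 15000 * j ^ 2 + 2500 * j + 156) + 1 := by ring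
  have h5 : ∀ n, 20 * t ∣ n → 5 ∣ n := fun n h => (Dvd.intro (4 * t) (by ring)).trans h
  rintro (h | h | h | h | h | h)
  · rw [e3] at h
    have h1 : (2 * (4000 * j ^ 3 + 3000 * j ^ 2 + 750 * j + 62) + 1 - 1) / 2 =
      5 * (800 * j ^ 3 + 600 * j ^ 2 + 150 * j + 12) + 2 := by omega
    rw [h1] at h
    have := h5 _ h
    omega
  · rw [e3] at h
    have h1 : (2 * (4000 * j ^ 3 + 3000 * j ^ 2 + 750 * j + 62) + 1 + 1) / 2 =
      5 * (800 * j ^ 3 + 600 * j ^ 2 + 150 * j + 12) + 3 := by omega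
    rw [h1] at h
    have := h5 _ h
    omega
  · rw [e4] at h
    have h1 : (4 * (40000 * j ^ 4 + 40000 * j ^ 3 + 15000 * j ^ 2 + 2500 * j + 156) + 1 - 1) / 4 =
      5 * (8000 * j ^ 4 + 8000 * j ^ 3 + 3000 * j ^ 2 + 500 * j + 31) + 1 := by omega
    rw [h1] at h
    have := h5 _ h
    omega
  · have h1 : 4 * t ∣ (20 * j + 5) ^ 2 + 1 := by
      have : 5 * (4 * t) ∣ 5 * ((20 * j + 5) ^ 2 + 1) := by
        have e : 5 * (4 * t) = 20 * t := by ring
        rw [e]; exact h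
      exact Nat.dvd_of_mul_dvd_mul_left (by norm_num) this
    have h2 : 4 ∣ (20 * j + 5) ^ 2 + 1 := (Dvd.intro t rfl).trans h1
    have h3 : (20 * j + 5) ^ 2 + 1 = 4 * (100 * j ^ 2 + 50 * j + 6) + 2 := by ring
    rw [h3] at h2
    omega
  · have h1 : 4 * t ∣ (20 * j + 5) ^ 2 - 1 := by
      have : 5 * (4 * t) ∣ 5 * ((20 * j + 5) ^ 2 - 1) := by
        have e : 5 * (4 * t) = 20 * t := by ring
        rw [e]; exact h
      exact Nat.dvd_of_mul_dvd_mul_left (by norm_num) this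
    have h2 : t ∣ (20 * j + 5) ^ 2 - 1 := (Dvd.intro_left 4 rfl).trans h1
    have h3 : (20 * j + 5) ^ 2 - 1 = 4 * (100 * j ^ 2 + 50 * j + 6) := by
      have : (20 * j + 5) ^ 2 = 4 * (100 * j ^ 2 + 50 * j + 6) + 1 := by ring
      omega
    rw [h3] at h2
    have h4 : t ∣ 2 * (2 * (100 * j ^ 2 + 50 * j + 6) + 1) - 4 * (100 * j ^ 2 + 50 * j + 6) :=
      Nat.dvd_sub (Dvd.dvd.mul_left ht 2) h2
    have h5 : 2 * (2 * (100 * j ^ 2 + 50 * j + 6) + 1) - 4 * (100 * j ^ 2 + 50 * j + 6) = 2 := by omega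
    rw [h5] at h4
    exact ht2 ((Nat.prime_dvd_prime_iff_eq htp Nat.prime_two).1 h4)
  · have h1 : 4 ∣ 25 := (Dvd.intro (5 * t) (by ring)).trans h
    omega

/-- **`SL₃(5)` in `G₂(5^m)`** -/
theorem exists_s5 {F : Type*} [Field F] [Finite F] [CharP F 5] :
    ∃ σ : S5 →* ↥(chevG2.group F), Function.Injective σ := by
  obtain ⟨e⟩ := Cfsg.Agent.H148.Oct.nonempty_equiv F
  have hinj : Function.Injective (ZMod.castHom (dvd_refl 5) F) := by
    have : Fact (Nat.Prime 5) := ⟨Nat.prime_five⟩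
    exact (ZMod.castHom (dvd_refl 5) F).injective
  refine ⟨(e.toMonoidHom.comp ((slM F).codRestrict (AutO F) slM_mem)).comp
    (Matrix.SpecialLinearGroup.map (ZMod.castHom (dvd_refl 5) F)), ?_⟩
  refine (e.injective.comp ?_).comp ?_
  · intro a b hab
    exact slM_inj (congrArg Subtype.val hab)
  · intro a b hab
    apply Subtype.ext
    ext i j
    apply hinj
    have h1 : ((Matrix.SpecialLinearGroup.map (ZMod.castHom (dvd_refl 5) F) a :
        Matrix.SpecialLinearGroup (Fin 3) F) : Matrix (Fin 3) (Fin 3) F) i j =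
      ((Matrix.SpecialLinearGroup.map (ZMod.castHom (dvd_refl 5) F) b :
        Matrix.SpecialLinearGroup (Fin 3) F) : Matrix (Fin 3) (Fin 3) F) i j := by rw [hab]
    exact h1

/-- **no cover of `G₂(5^m)`** -/
theorem nc_g2 {F : Type*} [Field F] [Fintype F] {m : ℕ} (hm : 1 ≤ m) (hF : Fintype.card F = 5 ^ m)
    {H : Type*} [Group H] [Finite H] (V : Subgroup H) [V.Normal] {t : ℕ} (ht : t ∣ (Fintype.card F ^ 2 + 1) / 2)
    (hV : Cov t H V) (e : H ⧸ V ≃* ↥(Cfsg.Lie.chevG2.group F)) (hub : ∀ x : H, UB5 (Fintype.card F) (orderOf x)) :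
    False := by
  obtain ⟨ht2, ht5, hno⟩ := not_UB5 hm hF hV.prime ht
  have hc : CharP F 5 := by
    obtain ⟨p, hp⟩ := CharP.exists F
    have h1 := FiniteField.card F p
    obtain ⟨n, hpp, hn⟩ := h1
    rw [hF] at hn
    have h2 : p ∣ 5 ^ m := by rw [hn]; exact dvd_pow_self p n.ne_zero
    have h3 : p = 5 := (Nat.prime_dvd_prime_iff_eq hpp Nat.prime_five).1 (hpp.dvd_of_dvd_pow h2)
    rw [← h3]; exact hp
  obtain ⟨σ, hσ⟩ := exists_s5 (F := F)
  have hcard : 3 ≤ Fintype.card F := by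
    rw [hF]
    calc 3 ≤ 5 ^ 1 := by norm_num
      _ ≤ 5 ^ m := Nat.pow_le_pow_right (by norm_num) hm
  have hsim : IsSimpleGroup (H ⧸ V) := by
    have h1 := (S1055.result (Cfsg.Agent.H148.Oct.exists_of_card hcard)).1
    have : Nontrivial (H ⧸ V) := e.toEquiv.nontrivial
    exact IsSimpleGroup.isSimpleGroup_of_surjective e.symm.toMonoidHom e.symm.surjective
  let σ' : S5 →* H ⧸ V := e.symm.toMonoidHom.comp σ
  have hσ' : Function.Injective σ' := e.symm.injective.comp hσ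
  obtain ⟨g, hg⟩ := QuotientGroup.mk_surjective (σ' (uu 0 1))
  have hgV : g ∉ V := by
    intro h
    rw [(QuotientGroup.eq_one_iff g).2 h] at hg
    have h1 : uu 0 1 = 1 := hσ' (by rw [← hg, map_one])
    exact absurd (uu_inj 1 h1) (by decide)
  obtain ⟨y, hy⟩ := exists_twenty V hV ht2 ht5 σ' hσ' ⟨g, hg, faithful V hV hsim hgV⟩
  have := hub y
  rw [hy] at this
  exact hno this

end Cfsg.Agent.H876.Six
end

-- part: H876/Six/NcG2Three
section
/-!
# No cover of `G₂(3)` with the element orders of BLOCK 6, `q = 4` (helper876)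

`3² : 4` in `SL₃(3)`: an element of order `4 · 17`.
-/

set_option autoImplicit false

namespace Cfsg.Agent.H876.Six

open Cfsg.Lie Matrix
open Cfsg.Agent.H376.Six Cfsg.Agent.H161.Oct Cfsg.Agent.H371.Frob

/-- `SL₃(3)` -/
abbrev S3 : Type := Matrix.SpecialLinearGroup (Fin 3) (ZMod 3)

/-- the unipotent radical of the stabilizer of a plane -/
def vv (a b : ZMod 3) : S3 := ⟨!![1, 0, a; 0, 1, b; 0, 0, 1], by rw [det_fin_three]; simp⟩

/-- an element of order four of the Levi factor -/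
def cc : S3 := ⟨!![0, -1, 0; 1, 0, 0; 0, 0, 1], by decide +kernel⟩

theorem vv_mul (a b c d : ZMod 3) : vv a b * vv c d = vv (a + c) (b + d) := by
  apply Subtype.ext
  rw [Matrix.SpecialLinearGroup.coe_mul]
  change !![1, 0, a; 0, 1, b; 0, 0, 1] * !![1, 0, c; 0, 1, d; 0, 0, 1] = !![1, 0, a + c; 0, 1, b + d; 0, 0, 1]
  ext i j
  fin_cases i <;> fin_cases j <;> simp [Matrix.mul_apply, Fin.sum_univ_succ, add_comm]

theorem vv_zero : vv 0 0 = 1 := by decide +kernel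

theorem vv_inv (a b : ZMod 3) : (vv a b)⁻¹ = vv (-a) (-b) := by
  rw [inv_eq_iff_mul_eq_one, vv_mul, add_neg_cancel, add_neg_cancel, vv_zero]

theorem cc_vv : ∀ a b : ZMod 3, cc * vv a b * cc⁻¹ = vv (-b) a := by decide +kernel

theorem order_cc : orderOf cc = 4 := by
  apply orderOf_eq_of_pow_and_pow_div_prime (by norm_num)
  · decide +kernel
  · intro p hp hd
    have h1 : p = 2 := by
      have : p ∣ 2 ^ 2 := hd
      exact (Nat.prime_dvd_prime_iff_eq hp Nat.prime_two).1 (hp.dvd_of_dvd_pow this)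
    subst h1
    decide +kernel

theorem cc_fix : ∀ i : Fin 4, 0 < (i : ℕ) → ∀ a b : ZMod 3, cc ^ (i : ℕ) * vv a b = vv a b * cc ^ (i : ℕ) → a = 0 ∧ b = 0 := by
  decide +kernel

/-- the subgroup of order nine -/
def VV : Subgroup S3 where
  carrier := {g | ∃ a b, g = vv a b}
  one_mem' := ⟨0, 0, vv_zero.symm⟩
  mul_mem' := by
    rintro x y ⟨a, b, rfl⟩ ⟨c, d, rfl⟩
    exact ⟨a + c, b + d, vv_mul _ _ _ _⟩
  inv_mem' := by
    rintro x ⟨a, b, rfl⟩
    exact ⟨-a, -b, vv_inv _ _⟩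

theorem VV_pow : ∀ g ∈ VV, g ^ 3 = 1 := by
  rintro g ⟨a, b, rfl⟩
  have : ∀ a b : ZMod 3, vv a b ^ 3 = 1 := by decide +kernel
  exact this a b

theorem card_VV : ∃ n, Nat.card VV = 3 ^ n := by
  have : Fact (Nat.Prime 3) := ⟨Nat.prime_three⟩
  refine IsPGroup.iff_card.1 fun g => ⟨1, ?_⟩
  apply Subtype.ext
  exact VV_pow g.1 g.2

/-- **an element of order `4 t`** -/
theorem exists_four {H : Type*} [Group H] [Finite H] (V : Subgroup H) [V.Normal] {t : ℕ} (hV : Cov t H V) (h3 : t ≠ 3)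
    (σ : S3 →* H ⧸ V) (hσ : Function.Injective σ) (hf : ∃ g : H, (g : H ⧸ V) = σ (vv 0 1) ∧ ∃ v ∈ V, g * v ≠ v * g) :
    ∃ y : H, orderOf y = 4 * t := by
  have hVc : IsMulCommutative V := ⟨⟨fun a b => Subtype.ext (hV.comm a a.2 b b.2)⟩⟩
  have ho : orderOf (σ cc) = 4 := by rw [orderOf_injective σ hσ, order_cc]
  rw [← ho]
  refine _root_.Cfsg.Agent.H371.Frob.exists_orderOf V hVc hV.prime hV.pow (VV.map σ) (c := σ cc) ?_ ?_ ?_ ?_
  · rintro _ ⟨x, ⟨a, b, rfl⟩, rfl⟩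
    refine ⟨vv (-b) a, ⟨_, _, rfl⟩, ?_⟩
    rw [← map_inv, ← map_mul, ← map_mul, cc_vv]
  · rintro i hi hi4 _ ⟨x, ⟨a, b, rfl⟩, rfl⟩ hc
    rw [ho] at hi4
    rw [← map_pow, ← map_mul, ← map_mul] at hc
    obtain ⟨rfl, rfl⟩ := cc_fix ⟨i, hi4⟩ hi a b (hσ hc)
    rw [vv_zero, map_one]
  · rw [Subgroup.card_map_of_injective hσ]
    obtain ⟨n, hn⟩ := card_VV
    rw [hn]
    exact Nat.Coprime.pow_left n ((Nat.coprime_primes Nat.prime_three hV.prime).2 (Ne.symm h3))
  · obtain ⟨g, hg, hgv⟩ := hf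
    exact ⟨g, ⟨vv 0 1, ⟨0, 1, rfl⟩, hg.symm⟩, hgv⟩

/-- **`SL₃(3)` in `G₂(3)`** -/
theorem exists_s3 {F : Type*} [Field F] [Finite F] [CharP F 3] :
    ∃ σ : S3 →* ↥(chevG2.group F), Function.Injective σ := by
  obtain ⟨e⟩ := Cfsg.Agent.H148.Oct.nonempty_equiv F
  have hinj : Function.Injective (ZMod.castHom (dvd_refl 3) F) := by
    have : Fact (Nat.Prime 3) := ⟨Nat.prime_three⟩
    exact (ZMod.castHom (dvd_refl 3) F).injective
  refine ⟨(e.toMonoidHom.comp ((slM F).codRestrict (AutO F) slM_mem)).comp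
    (Matrix.SpecialLinearGroup.map (ZMod.castHom (dvd_refl 3) F)), ?_⟩
  refine (e.injective.comp ?_).comp ?_
  · intro a b hab
    exact slM_inj (congrArg Subtype.val hab)
  · intro a b hab
    apply Subtype.ext
    ext i j
    apply hinj
    have h1 : ((Matrix.SpecialLinearGroup.map (ZMod.castHom (dvd_refl 3) F) a :
        Matrix.SpecialLinearGroup (Fin 3) F) : Matrix (Fin 3) (Fin 3) F) i j =
      ((Matrix.SpecialLinearGroup.map (ZMod.castHom (dvd_refl 3) F) b :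
        Matrix.SpecialLinearGroup (Fin 3) F) : Matrix (Fin 3) (Fin 3) F) i j := by rw [hab]
    exact h1

/-- the characteristic -/
theorem charP_of_card {F : Type*} [Field F] [Fintype F] {p m : ℕ} (hp : p.Prime) (hF : Fintype.card F = p ^ m) :
    CharP F p := by
  obtain ⟨r, hr⟩ := CharP.exists F
  obtain ⟨n, hpp, hn⟩ := FiniteField.card F r
  rw [hF] at hn
  have h2 : r ∣ p ^ m := by rw [hn]; exact dvd_pow_self r n.ne_zero
  have h3 : r = p := (Nat.prime_dvd_prime_iff_eq hpp hp).1 (hpp.dvd_of_dvd_pow h2)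
  rw [← h3]; exact hr

/-- simplicity of the quotient -/
theorem simple_of_g2 {F : Type*} [Field F] [Fintype F] (hcard : 3 ≤ Fintype.card F) {H : Type*} [Group H]
    (V : Subgroup H) [V.Normal] (e : H ⧸ V ≃* ↥(chevG2.group F)) : IsSimpleGroup (H ⧸ V) := by
  have h1 := (S1055.result (Cfsg.Agent.H148.Oct.exists_of_card hcard)).1
  have : Nontrivial (H ⧸ V) := e.toEquiv.nontrivial
  exact IsSimpleGroup.isSimpleGroup_of_surjective e.symm.toMonoidHom e.symm.surjective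

/-- **no cover of `G₂(3)`** -/
theorem nc_g2_three {F : Type*} [Field F] [Fintype F] (hF : Fintype.card F = 3) {H : Type*} [Group H] [Finite H]
    (V : Subgroup H) [V.Normal] (hV : Cov 17 H V) (e : H ⧸ V ≃* ↥(Cfsg.Lie.chevG2.group F))
    (hub : ∀ x : H, UB2 4 (orderOf x)) : False := by
  have hc : CharP F 3 := charP_of_card (m := 1) Nat.prime_three (by rw [hF, pow_one])
  obtain ⟨σ, hσ⟩ := exists_s3 (F := F)
  have hsim := simple_of_g2 (by omega) V e
  let σ' : S3 →* H ⧸ V := e.symm.toMonoidHom.comp σ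
  have hσ' : Function.Injective σ' := e.symm.injective.comp hσ
  obtain ⟨g, hg⟩ := QuotientGroup.mk_surjective (σ' (vv 0 1))
  have hgV : g ∉ V := by
    intro h
    rw [(QuotientGroup.eq_one_iff g).2 h] at hg
    have h1 : vv 0 1 = 1 := hσ' (by rw [← hg, map_one])
    revert h1
    decide +kernel
  obtain ⟨y, hy⟩ := exists_four V hV (by norm_num) σ' hσ' ⟨g, hg, faithful V hV hsim hgV⟩
  have := hub y
  rw [hy] at this
  simp only [UB2] at this
  revert this
  decide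

end Cfsg.Agent.H876.Six
end

-- part: H876/Six/NcG2Two
section
/-!
# No cover of `G₂(q)`, `q = 2^m ≥ 4`, with the element orders of BLOCK 6 (helper876)

`7 : 6` in `G₂(2)`: an element of order `6 t`.
-/

set_option autoImplicit false

namespace Cfsg.Agent.H876.Six

open Cfsg.Lie Matrix
open Cfsg.Agent.H376.Six Cfsg.Agent.H161.Oct Cfsg.Agent.H371.Frob

section frob

/-- `7 : 6` in `H / V` -/
theorem exists_six {H : Type*} [Group H] [Finite H] (V : Subgroup H) [V.Normal] {t : ℕ} (hV : Cov t H V) (h7 : t ≠ 7)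
    (s c : H ⧸ V) (hs : orderOf s = 7) (hcs : c * s * c⁻¹ = s ^ 3) (hc : orderOf c = 6)
    (hf : ∃ g : H, (g : H ⧸ V) = s ∧ ∃ v ∈ V, g * v ≠ v * g) : ∃ y : H, orderOf y = 6 * t := by
  have hVc : IsMulCommutative V := ⟨⟨fun a b => Subtype.ext (hV.comm a a.2 b b.2)⟩⟩
  rw [← hc]
  have hpow : ∀ k : ℕ, c * s ^ k * c⁻¹ = s ^ (3 * k) := by
    intro k
    have h1 := (conj_pow (i := k) (a := c) (b := s)).symm
    rw [h1, hcs, ← pow_mul]
  have hpow2 : ∀ i k : ℕ, c ^ i * s ^ k = s ^ (3 ^ i * k) * c ^ i := by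
    intro i
    induction i with
    | zero => intro k; simp
    | succ i ih =>
      intro k
      have h1 := hpow k
      have h2 : c * s ^ k = s ^ (3 * k) * c := by rw [← h1]; group
      rw [pow_succ, mul_assoc, h2, ← mul_assoc, ih, mul_assoc]
      congr 2
      ring
  refine _root_.Cfsg.Agent.H371.Frob.exists_orderOf V hVc hV.prime hV.pow (Subgroup.zpowers s) (c := c) ?_ ?_ ?_ ?_
  · intro a ha
    obtain ⟨k, rfl⟩ := (mem_powers_iff_mem_zpowers.2 ha : a ∈ Submonoid.powers s)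
    change c * s ^ k * c⁻¹ ∈ _
    rw [hpow]
    exact Subgroup.pow_mem _ (Subgroup.mem_zpowers s) _
  · intro i hi hi6 a ha hca
    rw [hc] at hi6
    obtain ⟨k, rfl⟩ := (mem_powers_iff_mem_zpowers.2 ha : a ∈ Submonoid.powers s)
    change c ^ i * s ^ k = s ^ k * c ^ i at hca
    rw [hpow2] at hca
    have h1 : s ^ (3 ^ i * k) = s ^ k := mul_right_cancel hca
    rw [pow_inj_mod, hs] at h1
    change s ^ k = 1
    rw [← orderOf_dvd_iff_pow_eq_one, hs]
    have h2 : 3 ^ i * k % 7 = k % 7 := h1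
    have h3 : 3 ^ i % 7 * (k % 7) % 7 = k % 7 := by rw [← Nat.mul_mod]; exact h2
    apply Nat.dvd_of_mod_eq_zero
    have h4 : k % 7 < 7 := Nat.mod_lt _ (by norm_num)
    interval_cases i <;> revert h3 <;> generalize k % 7 = r at h4 ⊢ <;> interval_cases r <;> decide
  · rw [Nat.card_zpowers, hs]
    exact (Nat.coprime_primes (by norm_num) hV.prime).2 (Ne.symm h7)
  · obtain ⟨g, hg, hgv⟩ := hf
    exact ⟨g, by rw [hg]; exact Subgroup.mem_zpowers s, hgv⟩

end frob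

section model

variable {F : Type*} [Field F]

/-- the inverse transpose -/
def cof (P : _root_.Matrix.SpecialLinearGroup (Fin 3) F) : _root_.Matrix.SpecialLinearGroup (Fin 3) F :=
  ⟨(P⁻¹ : _root_.Matrix.SpecialLinearGroup (Fin 3) F).1.transpose, by
    rw [Matrix.det_transpose]; exact (P⁻¹).2⟩

theorem cof_apply (P : _root_.Matrix.SpecialLinearGroup (Fin 3) F) (i j : Fin 3) : (cof P).1 i j = (P.1.adjugate) j i := by
  change (P⁻¹ : _root_.Matrix.SpecialLinearGroup (Fin 3) F).1 j i = _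
  rw [Matrix.SpecialLinearGroup.coe_inv]

theorem swp_sl (P : _root_.Matrix.SpecialLinearGroup (Fin 3) F) : swp F * slM F P * swp F = slM F (cof P) := by
  apply LinearEquiv.ext
  intro x
  change swpF (slF P.1 (swpF x)) = slF (cof P).1 x
  have hP := P.2
  rw [det3] at hP
  apply ext8 <;>
    simp only [swpF0, swpF1, swpF2, swpF3, swpF4, swpF5, swpF6, swpF7, slF0, slF1, slF2, slF3, slF4, slF5, slF6, slF7,
      cof_apply, Matrix.adjugate_fin_three, Matrix.of_apply, Matrix.cons_val]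
  · ring
  · ring
  · ring
  · linear_combination (P.1 0 0 * x 4 + P.1 0 1 * x 5 + P.1 0 2 * x 6) * (-hP)
  · linear_combination (P.1 1 0 * x 4 + P.1 1 1 * x 5 + P.1 1 2 * x 6) * (-hP)
  · linear_combination (P.1 2 0 * x 4 + P.1 2 1 * x 5 + P.1 2 2 * x 6) * (-hP)

end model

section two

/-- `SL₃(2)` -/
abbrev S2 : Type := Matrix.SpecialLinearGroup (Fin 3) (ZMod 2)

def sm : S2 := ⟨!![0, 0, 1; 1, 0, 1; 0, 1, 0], by decide +kernel⟩
def fm : S2 := ⟨!![1, 0, 0; 0, 0, 1; 0, 1, 1], by decide +kernel⟩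
def wm : S2 := ⟨!![1, 0, 0; 0, 0, 1; 0, 1, 0], by decide +kernel⟩

theorem sm_pow : sm ^ 7 = 1 := by decide +kernel
theorem sm_ne : sm ≠ 1 := by decide +kernel
theorem fm_pow : fm ^ 3 = 1 := by decide +kernel
theorem fm_sm : fm * sm * fm⁻¹ = sm ^ 2 := by decide +kernel
/-- `7 : 6` from `7 : 3` and an involution -/
theorem seven_six {A : Type*} [Group A] {s f x : A} (hos : orderOf s = 7) (hf3 : f ^ 3 = 1) (hf1 : f ≠ 1)
    (hfs : f * s * f⁻¹ = s ^ 2) (hx : x * x = 1) (hs : x * s * x⁻¹ = s⁻¹) (hf : x * f * x⁻¹ = f) :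
    (x * f * f) * s * (x * f * f)⁻¹ = s ^ 3 ∧ orderOf (x * f * f) = 6 := by
  have hs7 : s ^ 7 = 1 := by rw [← hos, pow_orderOf_eq_one]
  have hxi : x⁻¹ = x := inv_eq_of_mul_eq_one_left hx
  have hxf : x * f = f * x := by
    have h1 : x * f = (x * f * x⁻¹) * x := by group
    rw [h1, hf]
  have h2 : f * (f * s * f⁻¹) * f⁻¹ = s ^ 4 := by
    rw [hfs, ← conj_pow, hfs, ← pow_mul]
  have hc1 : (x * f * f) * s * (x * f * f)⁻¹ = s ^ 3 := by
    calc (x * f * f) * s * (x * f * f)⁻¹ = x * (f * (f * s * f⁻¹) * f⁻¹) * x⁻¹ := by group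
      _ = x * s ^ 4 * x⁻¹ := by rw [h2]
      _ = (s⁻¹) ^ 4 := by rw [← conj_pow, hs]
      _ = s ^ 3 * (s ^ 7)⁻¹ := by group
      _ = _ := by rw [hs7, inv_one, mul_one]
  have hfff : f * f * f = 1 := by rw [← hf3, pow_succ, pow_two]
  have hc2 : (x * f * f) * (x * f * f) = f := by
    have h5 : f * f * x = x * (f * f) := by
      rw [mul_assoc, ← hxf, ← mul_assoc, ← hxf, mul_assoc]
    calc (x * f * f) * (x * f * f) = x * (f * f * x) * (f * f) := by group
      _ = (x * x) * (f * f * f) * f := by rw [h5]; group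
      _ = f := by rw [hx, hfff, one_mul, one_mul]
  refine ⟨hc1, ?_⟩
  have hc6 : (x * f * f) ^ 6 = 1 := by
    rw [show 6 = 2 * 3 from rfl, pow_mul, pow_two, hc2, hf3]
  apply orderOf_eq_of_pow_and_pow_div_prime (by norm_num) hc6
  intro p hp hd
  have hp' : p = 2 ∨ p = 3 := by
    have : p ∣ 2 * 3 := hd
    rcases (hp.dvd_mul.1 this) with h | h
    · exact Or.inl ((Nat.prime_dvd_prime_iff_eq hp Nat.prime_two).1 h)
    · exact Or.inr ((Nat.prime_dvd_prime_iff_eq hp Nat.prime_three).1 h)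
  rcases hp' with rfl | rfl
  · -- the cube is not trivial
    intro h3
    change (x * f * f) ^ 3 = 1 at h3
    rw [pow_succ, pow_two, hc2] at h3
    have h4 : x = 1 := by
      calc x = (f * f * f) * x := by rw [hfff, one_mul]
        _ = f * (f * (f * x)) := by simp only [mul_assoc]
        _ = f * (x * f * f) := by rw [← hxf, ← mul_assoc f x f, ← hxf]
        _ = 1 := h3
    rw [h4, one_mul, inv_one, mul_one] at hs
    have h5 : s ^ 2 = 1 := by
      rw [pow_two]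
      nth_rewrite 1 [hs]
      exact inv_mul_cancel s
    have h6 := orderOf_dvd_of_pow_eq_one h5
    rw [hos] at h6
    omega
  · intro h3
    change (x * f * f) ^ 2 = 1 at h3
    rw [pow_two, hc2] at h3
    exact hf1 h3

variable {F : Type*} [Field F] [CharP F 2]

/-- base change -/
noncomputable def mp (F : Type*) [Field F] [CharP F 2] : S2 →* _root_.Matrix.SpecialLinearGroup (Fin 3) F :=
  SpecialLinearGroup.map (ZMod.castHom (dvd_refl 2) F)

theorem mp_inj : Function.Injective (mp F) := by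
  have hinj : Function.Injective (ZMod.castHom (dvd_refl 2) F) := by
    have : Fact (Nat.Prime 2) := ⟨Nat.prime_two⟩
    exact (ZMod.castHom (dvd_refl 2) F).injective
  intro a b hab
  apply Subtype.ext
  ext i j
  apply hinj
  have h1 : ((mp F a : _root_.Matrix.SpecialLinearGroup (Fin 3) F) : Matrix (Fin 3) (Fin 3) F) i j =
    ((mp F b : _root_.Matrix.SpecialLinearGroup (Fin 3) F) : Matrix (Fin 3) (Fin 3) F) i j := by rw [hab]
  exact h1

theorem cof_mp (P : S2) : cof (mp F P) = mp F (cof P) := by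
  apply Subtype.ext
  change ((mp F P)⁻¹ : _root_.Matrix.SpecialLinearGroup (Fin 3) F).1.transpose = _
  rw [← map_inv]
  rfl

omit [CharP F 2] in
theorem cof_mul (P Q : _root_.Matrix.SpecialLinearGroup (Fin 3) F) : cof (P * Q) = cof P * cof Q := by
  apply Subtype.ext
  change ((P * Q)⁻¹ : _root_.Matrix.SpecialLinearGroup (Fin 3) F).1.transpose = P⁻¹.1.transpose * Q⁻¹.1.transpose
  rw [_root_.mul_inv_rev, ← Matrix.transpose_mul]
  rfl

seal _root_.Finset.card _root_.Finset.sum _root_.Function.update _root_.nsmulRec _root_.dotProduct _root_.Matrix.det _root_.zsmulRec _root_.Finset.prod _root_.Equiv.swap in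
/-- **`7 : 6` in `G₂(2^m)`** -/
theorem exists_seven_six [Finite F] : ∃ s c : ↥(chevG2.group F), orderOf s = 7 ∧ c * s * c⁻¹ = s ^ 3 ∧ orderOf c = 6 := by
  obtain ⟨e⟩ := Cfsg.Agent.H148.Oct.nonempty_equiv F
  let j : S2 →* ↥(AutO F) := ((slM F).codRestrict (AutO F) slM_mem).comp (mp F)
  have hj : Function.Injective j := by
    intro a b hab
    exact mp_inj (slM_inj (congrArg Subtype.val hab))
  let x : ↥(AutO F) := ⟨slM F (mp F wm) * swp F, (AutO F).mul_mem (slM_mem _) swp_mem⟩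
  have hconj : ∀ P : S2, x * j P * x = j (wm * cof P * cof wm) := by
    intro P
    apply Subtype.ext
    change slM F (mp F wm) * swp F * slM F (mp F P) * (slM F (mp F wm) * swp F) = slM F (mp F (wm * cof P * cof wm))
    calc slM F (mp F wm) * swp F * slM F (mp F P) * (slM F (mp F wm) * swp F) =
        slM F (mp F wm) * (swp F * slM F (mp F P * mp F wm) * swp F) := by
          rw [map_mul (slM F)]
          simp only [mul_assoc]
      _ = slM F (mp F wm * (cof (mp F P) * cof (mp F wm))) := by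
          rw [swp_sl, cof_mul, map_mul (slM F), map_mul (slM F), map_mul (slM F)]
      _ = _ := by
          rw [cof_mp, cof_mp, ← map_mul (mp F), ← map_mul (mp F), mul_assoc]
  have hx : x * x = 1 := by
    have h1 := hconj 1
    rw [map_one, mul_one] at h1
    rw [h1]
    have h2 : wm * cof (1 : S2) * cof wm = 1 := by decide +kernel
    rw [h2, map_one]
  have hxi : x⁻¹ = x := (inv_eq_of_mul_eq_one_left hx :)
  have hs : x * j sm * x⁻¹ = j sm⁻¹ := by
    rw [hxi, hconj]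
    congr 1
    decide +kernel
  have hf : x * j fm * x⁻¹ = j fm := by
    rw [hxi, hconj]
    congr 1
    decide +kernel
  have : Fact (Nat.Prime 7) := ⟨by norm_num⟩
  have h1 : orderOf (j sm) = 7 := by
    rw [orderOf_injective j hj]
    exact orderOf_eq_prime sm_pow sm_ne
  obtain ⟨h2, h3⟩ := seven_six (s := j sm) (f := j fm) h1 (by rw [← map_pow, fm_pow, map_one])
    (by
      intro h
      have h4 : fm = 1 := hj (by rw [h, map_one])
      revert h4
      decide +kernel) (by rw [← map_inv, ← map_mul, ← map_mul, fm_sm, map_pow]) hx (by rw [hs, map_inv]) hf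
  refine ⟨e (j sm), e (x * j fm * j fm), ?_, ?_, ?_⟩
  · rw [MulEquiv.orderOf_eq, h1]
  · rw [← map_inv, ← map_mul, ← map_mul, h2, map_pow]
  · rw [MulEquiv.orderOf_eq, h3]

end two

/-- the arithmetic -/
theorem not_UB2 {q m t : ℕ} (hm : 1 ≤ m) (hq : q = 2 ^ m) (htp : t.Prime) (ht : t ∣ q ^ 2 + 1) :
    t ≠ 7 ∧ ¬ UB2 q (6 * t) := by
  have hev : 2 ∣ q := by rw [hq]; exact dvd_pow_self 2 (by omega)
  have h3q : ¬ 3 ∣ q := by
    rw [hq]
    intro h
    have := (Nat.prime_dvd_prime_iff_eq Nat.prime_three Nat.prime_two).1 (Nat.prime_three.dvd_of_dvd_pow h)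
    omega
  have hq1 : 1 ≤ q := by rw [hq]; exact Nat.one_le_two_pow
  have h7 : t ≠ 7 := by
    rintro rfl
    have h1 : q % 7 = 0 ∨ q % 7 = 1 ∨ q % 7 = 2 ∨ q % 7 = 3 ∨ q % 7 = 4 ∨ q % 7 = 5 ∨ q % 7 = 6 := by (clear * -; omega)
    have h2 : (q ^ 2 + 1) % 7 = ((q % 7) ^ 2 + 1) % 7 := by
      rw [Nat.add_mod, Nat.pow_mod, Nat.add_mod ((q % 7) ^ 2)]
    have h3 : (q ^ 2 + 1) % 7 = 0 := Nat.mod_eq_zero_of_dvd ht
    rw [h2] at h3
    rcases h1 with h | h | h | h | h | h | h <;> rw [h] at h3 <;> omega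
  refine ⟨h7, ?_⟩
  have hev2 : 2 ∣ q ^ 2 := hev.trans (dvd_pow_self q (by norm_num))
  have hev3 : 2 ∣ q ^ 3 := hev.trans (dvd_pow_self q (by norm_num))
  have hev4 : 2 ∣ q ^ 4 := hev.trans (dvd_pow_self q (by norm_num))
  have hp2 : 1 ≤ q ^ 2 := Nat.one_le_pow _ _ hq1
  have hp3 : 1 ≤ q ^ 3 := Nat.one_le_pow _ _ hq1
  have hp4 : 1 ≤ q ^ 4 := Nat.one_le_pow _ _ hq1
  have ht2 : t ≠ 2 := by
    rintro rfl
    omega
  have h2dvd : ∀ n, 6 * t ∣ n → 2 ∣ n := fun n h => (Dvd.intro (3 * t) (by ring)).trans h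
  have hsq : t ∣ q ^ 2 - 1 → False := by
    intro h
    have h1 : t ∣ (q ^ 2 + 1) - (q ^ 2 - 1) := Nat.dvd_sub ht h
    have h2 : (q ^ 2 + 1) - (q ^ 2 - 1) = 2 := by omega
    rw [h2] at h1
    exact ht2 ((Nat.prime_dvd_prime_iff_eq htp Nat.prime_two).1 h1)
  have hfac : q ^ 2 - 1 = (q + 1) * (q - 1) := by
    have := Nat.sq_sub_sq q 1
    rwa [one_pow] at this
  have hodd : ∀ n, t ∣ 4 * n → t ∣ n := by
    intro n h
    rcases htp.dvd_mul.1 h with h1 | h1
    · have h2 : t ∣ 2 ^ 2 := h1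
      exact absurd ((Nat.prime_dvd_prime_iff_eq htp Nat.prime_two).1 (htp.dvd_of_dvd_pow h2)) ht2
    · exact h1
  rintro (h | h | h | h | h | h | h | h)
  · have := h2dvd _ h; omega
  · have := h2dvd _ h; omega
  · have := h2dvd _ h; omega
  · have h1 : 3 ∣ q ^ 2 + 1 := by
      have h2 : 2 * (3 * t) ∣ 2 * (q ^ 2 + 1) := by
        have e : 2 * (3 * t) = 6 * t := by ring
        rw [e]; exact h
      exact (Dvd.intro t rfl).trans (Nat.dvd_of_mul_dvd_mul_left (by norm_num) h2)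
    have h2 : (q ^ 2 + 1) % 3 = ((q % 3) ^ 2 + 1) % 3 := by
      rw [Nat.add_mod, Nat.pow_mod, Nat.add_mod ((q % 3) ^ 2)]
    have h3 : (q ^ 2 + 1) % 3 = 0 := Nat.mod_eq_zero_of_dvd h1
    rw [h2] at h3
    have h4 : q % 3 = 1 ∨ q % 3 = 2 := by (clear * - h3q; omega)
    rcases h4 with h | h <;> rw [h] at h3 <;> omega
  · apply hsq
    have h1 : t ∣ 2 * (q ^ 2 - 1) := (Dvd.intro_left 6 rfl).trans h
    rcases htp.dvd_mul.1 h1 with h2 | h2
    · exact absurd ((Nat.prime_dvd_prime_iff_eq htp Nat.prime_two).1 h2) ht2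
    · exact h2
  · apply hsq
    rw [hfac]
    exact Dvd.dvd.mul_right (hodd _ ((Dvd.intro_left 6 rfl).trans h)) _
  · apply hsq
    rw [hfac]
    exact Dvd.dvd.mul_left (hodd _ ((Dvd.intro_left 6 rfl).trans h)) _
  · have h1 : 3 ∣ 8 := (Dvd.intro (2 * t) (by ring)).trans h
    omega

/-- **no cover of `G₂(2^m)`** -/
theorem nc_g2_two {F : Type*} [Field F] [Fintype F] {m : ℕ} (hm : 2 ≤ m) (hF : Fintype.card F = 2 ^ m)
    {H : Type*} [Group H] [Finite H] (V : Subgroup H) [V.Normal] {t : ℕ} (ht : t ∣ Fintype.card F ^ 2 + 1)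
    (hV : Cov t H V) (e : H ⧸ V ≃* ↥(Cfsg.Lie.chevG2.group F)) (hub : ∀ x : H, UB2 (Fintype.card F) (orderOf x)) :
    False := by
  obtain ⟨h7, hno⟩ := not_UB2 (by omega) hF hV.prime ht
  have hc : CharP F 2 := charP_of_card Nat.prime_two hF
  obtain ⟨s, c, hs, hcs, hc6⟩ := exists_seven_six (F := F)
  have hcard : 3 ≤ Fintype.card F := by
    rw [hF]
    calc 3 ≤ 2 ^ 2 := by norm_num
      _ ≤ 2 ^ m := Nat.pow_le_pow_right (by norm_num) hm
  have hsim := simple_of_g2 hcard V e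
  obtain ⟨g, hg⟩ := QuotientGroup.mk_surjective (e.symm s)
  have hs' : orderOf (e.symm s) = 7 := by rw [MulEquiv.orderOf_eq, hs]
  have hgV : g ∉ V := by
    intro h
    rw [(QuotientGroup.eq_one_iff g).2 h] at hg
    rw [← hg, orderOf_one] at hs'
    omega
  obtain ⟨y, hy⟩ := exists_six V hV h7 (e.symm s) (e.symm c) hs'
    (by rw [← map_inv, ← map_mul, ← map_mul, hcs, map_pow]) (by rw [MulEquiv.orderOf_eq, hc6])
    ⟨g, hg, faithful V hV hsim hgV⟩
  have := hub y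
  rw [hy] at this
  exact hno this

end Cfsg.Agent.H876.Six
end

-- part: H376/Six/Gtwo
section
/-!
# The section is not `G₂(q)` (helper376)
-/

set_option autoImplicit false

namespace Cfsg.Agent.H376.Six

open Cfsg.Agent.H420.QR

universe u v

variable {G : Type u} [Group G] [Finite G] {K : Subgroup G} [K.Normal] {S : Subgroup (G ⧸ K)} [S.Normal]

theorem charP_of_card {F : Type*} [Field F] [Fintype F] {p m : ℕ} (hp : p.Prime) (hF : Fintype.card F = p ^ m) :
    CharP F p := by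
  obtain ⟨r, hr⟩ := CharP.exists F
  obtain ⟨n, hpr, hn⟩ := FiniteField.card F r
  have h1 : r ∣ p ^ m := by rw [← hF, hn]; exact dvd_pow_self r n.pos.ne'
  have h2 := (Nat.prime_dvd_prime_iff_eq hpr hp).1 (hpr.dvd_of_dvd_pow h1)
  rwa [h2] at hr

/-- a primitive prime divides neither `|G₂(q)|` nor `|G / K : S|` -/
theorem g2_prime {F : Type v} [Field F] [Fintype F] {p m : ℕ} (hp : p.Prime) (hp3 : p ≠ 3) (hm : 1 ≤ m)
    (h3 : 3 ≤ p ^ m) (hF : Fintype.card F = p ^ m) (hR : Red G K S) (e : ↥S ≃* ↥(Cfsg.Lie.chevG2.group F)) {t : ℕ}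
    (ht : t.Prime) (htp : ¬ t ∣ p) (hlt : 4 * m < t) (h6 : ¬ t ∣ p ^ (6 * m) - 1) :
    ¬ t ∣ Nat.card ↥S ∧ ¬ t ∣ S.index := by
  have := charP_of_card hp hF
  have := Fact.mk hp
  constructor
  · rw [Nat.card_congr e.toEquiv, Cfsg.Agent.S1059.result (F := F) rfl, hF]
    intro h
    have e6 : (p ^ m) ^ 6 - 1 = p ^ (6 * m) - 1 := by rw [← pow_mul, mul_comm]
    have h2 : (p ^ m) ^ 2 - 1 ∣ (p ^ m) ^ 6 - 1 := by
      have := Nat.sub_dvd_pow_sub_pow ((p ^ m) ^ 2) 1 3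
      rwa [one_pow, ← pow_mul (p ^ m) 2 3] at this
    simp only [ht.dvd_mul] at h
    rcases h with (h | h) | h
    · exact htp (ht.dvd_of_dvd_pow (ht.dvd_of_dvd_pow h))
    · exact h6 (e6 ▸ (h.trans h2))
    · exact h6 (e6 ▸ h)
  · intro h
    have h1 := h.trans (index_dvd_out S hR.cent)
    rw [Cfsg.Agent.H934.OutB.card_out_congr e, Cfsg.Agent.S2121.result (F := F) p m hF h3, if_neg hp3] at h1
    have := Nat.le_of_dvd (by omega) h1
    omega

/-- **The section is not `G₂(q)`**, `q = 5 ^ m`. -/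
theorem not_g2_five (htop : TopPrime.{u}) {F : Type v} [Field F] [Fintype F] (hX : X5 (Fintype.card F) G) (hR : Red G K S)
    (e : ↥S ≃* ↥(Cfsg.Lie.chevG2.group F)) : False := by
  obtain ⟨m, hm, hF⟩ := hX.pow
  obtain ⟨t, ht, ht2, htp, hd, hlt, h6, -⟩ := Cfsg.Agent.H772.Six.exists_prime (p := 5) (by norm_num) hm (fun h => by omega)
  have h5 : 5 ≤ 5 ^ m := by
    calc 5 = 5 ^ 1 := (pow_one 5).symm
      _ ≤ 5 ^ m := Nat.pow_le_pow_right (by norm_num) hm
  obtain ⟨h1, h2⟩ := g2_prime (F := F) (p := 5) (by norm_num) (by norm_num) hm (by omega) hF hR e ht htp hlt h6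
  rw [← hF] at hd
  have hd2 : t ∣ (Fintype.card F ^ 2 + 1) / 2 := by
    have h3 : Fintype.card F ^ 2 % 2 = 1 := by
      rw [hF, ← pow_mul, Nat.pow_mod]; norm_num
    have h4 : Fintype.card F ^ 2 + 1 = 2 * ((Fintype.card F ^ 2 + 1) / 2) := by omega
    rw [h4] at hd
    rcases ht.dvd_mul.1 hd with h | h
    · exact absurd ((Nat.prime_dvd_prime_iff_eq ht Nat.prime_two).1 h) ht2
    · exact h
  obtain ⟨H, _, _, V, _, hV, ⟨e'⟩, hub⟩ := exists_cov_prime_five htop hX hR ht hd2 h1 h2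
  exact Cfsg.Agent.H876.Six.nc_g2 hm hF V hd2 hV (e'.trans e) hub

/-- **The section is not `G₂(q)`**, `q = 2 ^ m`. -/
theorem not_g2_two (htop : TopPrime.{u}) {F : Type v} [Field F] [Fintype F] (hX : X2 (Fintype.card F) G) (hR : Red G K S)
    (e : ↥S ≃* ↥(Cfsg.Lie.chevG2.group F)) : False := by
  obtain ⟨m, hm, hF⟩ := hX.pow
  obtain ⟨t, ht, ht2, htp, hd, hlt, h6, -⟩ := Cfsg.Agent.H772.Six.exists_prime (p := 2) Nat.prime_two (by omega : 1 ≤ m)
    (fun _ => hm)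
  have h5 : 4 ≤ 2 ^ m := by
    calc 4 = 2 ^ 2 := by norm_num
      _ ≤ 2 ^ m := Nat.pow_le_pow_right (by norm_num) hm
  obtain ⟨h1, h2⟩ := g2_prime (F := F) Nat.prime_two (by norm_num) (by omega) (by omega) hF hR e ht htp hlt h6
  rw [← hF] at hd
  obtain ⟨H, _, _, V, _, hV, ⟨e'⟩, hub⟩ := exists_cov_prime_two htop hX hR ht hd h1 h2
  exact Cfsg.Agent.H876.Six.nc_g2_two hm hF V hd hV (e'.trans e) hub

end Cfsg.Agent.H376.Six
end

private theorem dce_3e32a4d8875e : _root_.True := by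
  try have : _root_.True := by simp only [_root_.Cfsg.Agent.H876.Six.mp.congr_simp]
  try have : _root_.True := by simp only [_root_.Cfsg.Agent.H876.Six.NN.eq_1]
  try have : _root_.True := by simp only [_root_.Cfsg.Agent.H376.Six.UB2.eq_1]
  exact _root_.True.intro
end

-- part: H390/B6/Dispatch
section
prune_inst 0xc16076443562100000000096d1003e06ea000190002b800169400b460f8187230000af20be90130603ceb2a4507d4058110000d9425000002e003600411b01a090ab5206f3d9ad0c340007801884000000000000020000000000000000000004000000000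
set_option linter.all false
open scoped Cfsg.Agent.FastGrp

/-!
# The simple section (helper390, block 6)

* `lie_of_par` : a named group with parameter divisible by `p` is of Lie type in characteristic `p`;
* `sporadic_of_named` : the sporadic names;
* `Rows5`, `Rows2` : the elimination rows;
* `sect_five`, `sect_two` : the simple section `S`.
-/

set_option autoImplicit false
set_option linter.unusedSectionVars false
set_option linter.unusedVariables false

namespace Cfsg.Agent.H376.Six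

open Subgroup Cfsg Cfsg.Agent.H420.QR Cfsg.Agent.OrdDiv Cfsg.Agent.H436

universe u v w

/-- the field parameter of a name (`1` : not a group of Lie type) -/
def par : Grp → ℕ
  | .psl _ q => q
  | .psp _ q => q
  | .psu _ q => q
  | .oodd _ q => q
  | .oplus _ q => q
  | .ominus _ q => q
  | .g2 q => q
  | .f4 q => q
  | .e6 q => q
  | .e7 q => q
  | .e8 q => q
  | .te6 q => q
  | .td4 q => q
  | .sz q => q
  | .ree q => q
  | .tf4 q => q
  | _ => 1

theorem charP_of_dvd_card {F : Type*} [Field F] [Fintype F] {p : ℕ} (hp : p.Prime) (h : p ∣ Fintype.card F) :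
    CharP F p := by
  obtain ⟨r, hr⟩ := CharP.exists F
  have hrp : r.Prime := CharP.char_is_prime F r
  obtain ⟨n, -, hn⟩ := FiniteField.card F r
  rw [hn] at h
  have := (Nat.prime_dvd_prime_iff_eq hp hrp).1 (hp.dvd_of_dvd_pow h)
  rw [this]
  exact hr

/-- **A named group with parameter divisible by `p` is of Lie type in characteristic `p`.** -/
theorem lie_of_par {p : ℕ} (hp : p.Prime) {g : Grp} {S : Type u} [Group S] (h : IsNamed g S) (hd : p ∣ par g) :
    IsLieTypeChar p S := by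
  have hno : ¬ p ∣ 1 := fun h1 => hp.one_lt.ne' (Nat.dvd_one.1 h1)
  have hc := h.cond
  have hr := h.real
  unfold IsLieTypeChar
  cases g with
  | psl n q =>
    obtain ⟨F, i1, i2, hF, e⟩ := hr
    have := charP_of_dvd_card hp (show p ∣ Fintype.card F by rw [hF]; exact hd)
    exact Or.inl ⟨F, i1, i2, this, n, hc.1, fun h1 => by rw [hF]; exact hc.2.1 h1, e⟩
  | psp n q =>
    obtain ⟨F, i1, i2, hF, e⟩ := hr
    have := charP_of_dvd_card hp (show p ∣ Fintype.card F by rw [hF]; exact hd)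
    exact Or.inr (Or.inl ⟨F, i1, i2, this, n, hc.1, fun h1 => by rw [hF]; exact hc.2.1 h1, e⟩)
  | psu n q =>
    obtain ⟨F, i1, i2, hF, e⟩ := hr
    have := charP_of_dvd_card hp (show p ∣ Fintype.card F by rw [hF]; exact dvd_pow hd (by norm_num))
    exact Or.inr (Or.inr (Or.inl ⟨F, i1, i2, this, n, q, hF, hc.1, hc.2.1, e⟩))
  | oodd n q =>
    obtain ⟨F, i1, i2, hF, e⟩ := hr
    have := charP_of_dvd_card hp (show p ∣ Fintype.card F by rw [hF]; exact hd)
    exact Or.inr (Or.inr (Or.inr (Or.inl ⟨F, i1, i2, this, n, hc.1, by rw [hF]; exact hc.2.1, e⟩)))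
  | oplus n q =>
    obtain ⟨F, i1, i2, hF, e⟩ := hr
    have := charP_of_dvd_card hp (show p ∣ Fintype.card F by rw [hF]; exact hd)
    exact Or.inr (Or.inr (Or.inr (Or.inr (Or.inl ⟨F, i1, i2, this, n, hc.1, e⟩))))
  | ominus n q =>
    obtain ⟨F, i1, i2, a, b, hF, hab, e⟩ := hr
    have := charP_of_dvd_card hp (show p ∣ Fintype.card F by rw [hF]; exact hd)
    exact Or.inr (Or.inr (Or.inr (Or.inr (Or.inr (Or.inl ⟨F, i1, i2, this, n, a, b, hc.1, hab, e⟩)))))
  | g2 q =>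
    obtain ⟨F, i1, i2, hF, e⟩ := hr
    have := charP_of_dvd_card hp (show p ∣ Fintype.card F by rw [hF]; exact hd)
    exact Or.inr (Or.inr (Or.inr (Or.inr (Or.inr (Or.inr (Or.inl
      ⟨F, i1, i2, this, Or.inl ⟨by rw [hF]; exact hc.1, e⟩⟩))))))
  | f4 q =>
    obtain ⟨F, i1, i2, hF, e⟩ := hr
    have := charP_of_dvd_card hp (show p ∣ Fintype.card F by rw [hF]; exact hd)
    exact Or.inr (Or.inr (Or.inr (Or.inr (Or.inr (Or.inr (Or.inl ⟨F, i1, i2, this, Or.inr (Or.inl e)⟩))))))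
  | e6 q =>
    obtain ⟨F, i1, i2, hF, e⟩ := hr
    have := charP_of_dvd_card hp (show p ∣ Fintype.card F by rw [hF]; exact hd)
    exact Or.inr (Or.inr (Or.inr (Or.inr (Or.inr (Or.inr (Or.inl ⟨F, i1, i2, this, Or.inr (Or.inr (Or.inl e))⟩))))))
  | e7 q =>
    obtain ⟨F, i1, i2, hF, e⟩ := hr
    have := charP_of_dvd_card hp (show p ∣ Fintype.card F by rw [hF]; exact hd)
    exact Or.inr (Or.inr (Or.inr (Or.inr (Or.inr (Or.inr (Or.inl
      ⟨F, i1, i2, this, Or.inr (Or.inr (Or.inr (Or.inl e)))⟩))))))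
  | e8 q =>
    obtain ⟨F, i1, i2, hF, e⟩ := hr
    have := charP_of_dvd_card hp (show p ∣ Fintype.card F by rw [hF]; exact hd)
    exact Or.inr (Or.inr (Or.inr (Or.inr (Or.inr (Or.inr (Or.inl
      ⟨F, i1, i2, this, Or.inr (Or.inr (Or.inr (Or.inr e)))⟩))))))
  | te6 q =>
    obtain ⟨F, i1, i2, hF, e⟩ := hr
    have := charP_of_dvd_card hp (show p ∣ Fintype.card F by rw [hF]; exact dvd_pow hd (by norm_num))
    exact Or.inr (Or.inr (Or.inr (Or.inr (Or.inr (Or.inr (Or.inr (Or.inl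
      ⟨F, i1, i2, this, q, hc, Or.inl ⟨hF, e⟩⟩)))))))
  | td4 q =>
    obtain ⟨F, i1, i2, hF, e⟩ := hr
    have := charP_of_dvd_card hp (show p ∣ Fintype.card F by rw [hF]; exact dvd_pow hd (by norm_num))
    exact Or.inr (Or.inr (Or.inr (Or.inr (Or.inr (Or.inr (Or.inr (Or.inl
      ⟨F, i1, i2, this, q, hc, Or.inr ⟨hF, e⟩⟩)))))))
  | sz q =>
    obtain ⟨F, i1, i2, m, hm, hF, hq, e⟩ := hr
    have hd' : p ∣ 2 ^ (2 * m + 1) := by rw [← hq]; exact hd
    have h2 := (Nat.prime_dvd_prime_iff_eq hp Nat.prime_two).1 (hp.dvd_of_dvd_pow hd')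
    exact Or.inr (Or.inr (Or.inr (Or.inr (Or.inr (Or.inr (Or.inr (Or.inr (Or.inl
      ⟨h2, F, i1, i2, m, hm, hF.trans hq, e⟩))))))))
  | tf4 q =>
    obtain ⟨F, i1, i2, m, hm, hF, hq, e⟩ := hr
    have hd' : p ∣ 2 ^ (2 * m + 1) := by rw [← hq]; exact hd
    have h2 := (Nat.prime_dvd_prime_iff_eq hp Nat.prime_two).1 (hp.dvd_of_dvd_pow hd')
    exact Or.inr (Or.inr (Or.inr (Or.inr (Or.inr (Or.inr (Or.inr (Or.inr (Or.inr (Or.inl
      ⟨h2, F, i1, i2, m, hm, hF.trans hq, e⟩)))))))))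
  | ree q =>
    obtain ⟨F, i1, i2, m, hm, hF, hq, e⟩ := hr
    have hd' : p ∣ 3 ^ (2 * m + 1) := by rw [← hq]; exact hd
    have h2 := (Nat.prime_dvd_prime_iff_eq hp Nat.prime_three).1 (hp.dvd_of_dvd_pow hd')
    exact Or.inr (Or.inr (Or.inr (Or.inr (Or.inr (Or.inr (Or.inr (Or.inr (Or.inr (Or.inr
      ⟨h2, F, i1, i2, m, hm, hF.trans hq, e⟩)))))))))
  | _ => exact absurd hd hno

/-- the sporadic names -/
theorem sporadic_of_named {g : Grp} {S : Type u} [Group S] (hs : IsSimpleGroup S) (h : IsNamed g S)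
    (hg : g ∈ [Grp.m11, .m12, .m22, .m23, .m24, .j1, .j2, .j3, .j4, .co1, .co2, .co3, .mcl, .hs, .suz, .he, .ru, .on,
      .ly, .fi22, .fi23, .fi24, .hn, .th, .b, .m]) : IsSporadic S := by
  have ho := h.ord
  unfold IsSporadic
  simp only [List.mem_cons, List.not_mem_nil, or_false] at hg
  rcases hg with rfl | rfl | rfl | rfl | rfl | rfl | rfl | rfl | rfl | rfl | rfl | rfl | rfl | rfl | rfl | rfl | rfl |
    rfl | rfl | rfl | rfl | rfl | rfl | rfl | rfl | rfl
  · have h1 : IsM11 S := ⟨hs, ho⟩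
    tauto
  · have h1 : IsM12 S := ⟨hs, ho⟩
    tauto
  · have h1 : IsM22 S := ⟨hs, ho⟩
    (solve | repeat (first | with_reducible assumption | exact Or.inl (by with_reducible assumption) | refine Or.inr ?_) | simp only [h1, true_or, or_true])
  · have h1 : IsM23 S := ⟨hs, ho⟩
    (solve | repeat (first | with_reducible assumption | exact Or.inl (by with_reducible assumption) | refine Or.inr ?_) | simp only [h1, true_or, or_true])
  · have h1 : IsM24 S := ⟨hs, ho⟩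
    (solve | repeat (first | with_reducible assumption | exact Or.inl (by with_reducible assumption) | refine Or.inr ?_) | simp only [h1, true_or, or_true])
  · have h1 : IsJ1 S := ⟨hs, ho⟩
    (solve | repeat (first | with_reducible assumption | exact Or.inl (by with_reducible assumption) | refine Or.inr ?_) | simp only [h1, true_or, or_true])
  · have h1 : IsJ2 S := ⟨hs, ho⟩
    (solve | repeat (first | with_reducible assumption | exact Or.inl (by with_reducible assumption) | refine Or.inr ?_) | simp only [h1, true_or, or_true])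
  · have h1 : IsJ3 S := ⟨hs, ho⟩
    (solve | repeat (first | with_reducible assumption | exact Or.inl (by with_reducible assumption) | refine Or.inr ?_) | simp only [h1, true_or, or_true])
  · have h1 : IsJ4 S := ⟨hs, ho⟩
    (solve | repeat (first | with_reducible assumption | exact Or.inl (by with_reducible assumption) | refine Or.inr ?_) | simp only [h1, true_or, or_true])
  · have h1 : IsCo1 S := ⟨hs, ho⟩
    (solve | repeat (first | with_reducible assumption | exact Or.inl (by with_reducible assumption) | refine Or.inr ?_) | simp only [h1, true_or, or_true])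
  · have h1 : IsCo2 S := ⟨hs, ho⟩
    (solve | repeat (first | with_reducible assumption | exact Or.inl (by with_reducible assumption) | refine Or.inr ?_) | simp only [h1, true_or, or_true])
  · have h1 : IsCo3 S := ⟨hs, ho⟩
    (solve | repeat (first | with_reducible assumption | exact Or.inl (by with_reducible assumption) | refine Or.inr ?_) | simp only [h1, true_or, or_true])
  · have h1 : IsMcL S := ⟨hs, ho⟩
    (solve | repeat (first | with_reducible assumption | exact Or.inl (by with_reducible assumption) | refine Or.inr ?_) | simp only [h1, true_or, or_true])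
  · have h1 : IsHS S := ⟨hs, ho⟩
    (solve | repeat (first | with_reducible assumption | exact Or.inl (by with_reducible assumption) | refine Or.inr ?_) | simp only [h1, true_or, or_true])
  · have h1 : IsSuz S := ⟨hs, ho⟩
    (solve | repeat (first | with_reducible assumption | exact Or.inl (by with_reducible assumption) | refine Or.inr ?_) | simp only [h1, true_or, or_true])
  · have h1 : IsHe S := ⟨hs, ho⟩
    (solve | repeat (first | with_reducible assumption | exact Or.inl (by with_reducible assumption) | refine Or.inr ?_) | simp only [h1, true_or, or_true])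
  · have h1 : IsRu S := ⟨hs, ho⟩
    (solve | repeat (first | with_reducible assumption | exact Or.inl (by with_reducible assumption) | refine Or.inr ?_) | simp only [h1, true_or, or_true])
  · have h1 : IsON S := ⟨hs, ho⟩
    (solve | repeat (first | with_reducible assumption | exact Or.inl (by with_reducible assumption) | refine Or.inr ?_) | simp only [h1, true_or, or_true])
  · have h1 : IsLy S := ⟨hs, ho⟩
    (solve | simp only [*, true_or, or_true, and_self, true_and, and_true, not_false_eq_true] | simp only [h1, true_or, or_true])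
  · have h1 : IsFi22 S := ⟨hs, ho⟩
    (solve | repeat (first | with_reducible assumption | exact Or.inl (by with_reducible assumption) | refine Or.inr ?_) | simp only [h1, true_or, or_true])
  · have h1 : IsFi23 S := ⟨hs, ho⟩
    (solve | repeat (first | with_reducible assumption | exact Or.inl (by with_reducible assumption) | refine Or.inr ?_) | simp only [h1, true_or, or_true])
  · have h1 : IsFi24' S := ⟨hs, ho⟩
    (solve | repeat (first | with_reducible assumption | exact Or.inl (by with_reducible assumption) | refine Or.inr ?_) | simp only [h1, true_or, or_true])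
  · have h1 : IsHN S := ⟨hs, ho⟩
    (solve | simp only [*, true_or, or_true, and_self, true_and, and_true, not_false_eq_true] | simp only [h1, true_or, or_true])
  · have h1 : IsTh S := ⟨hs, ho⟩
    (solve | simp only [*, true_or, or_true, and_self, true_and, and_true, not_false_eq_true] | simp only [h1, true_or, or_true])
  · have h1 : IsB S := ⟨hs, ho⟩
    (solve | repeat (first | with_reducible assumption | exact Or.inl (by with_reducible assumption) | refine Or.inr ?_) | simp only [h1, true_or, or_true])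
  · have h1 : IsM S := ⟨hs, ho⟩
    (solve | simp only [*, true_or, or_true, and_self, true_and, and_true, not_false_eq_true] | simp only [h1, true_or, or_true])

/-- the hypothesis on `L` -/
def LHyp (F : Type v) [Field F] [Fintype F] (L : Type w) [Group L] : Prop :=
  Nonempty (L ≃* PSp 3 F) ∨ (Odd (Fintype.card F) ∧ Nonempty (L ≃* POmega F (quadFormOdd 3 F))) ∨
    Nonempty (L ≃* POmega F (quadFormPlus 4 F))

/-- a model of a finite field in `Type` -/
theorem exists_type_field (F : Type v) [Field F] [Fintype F] :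
    ∃ (F' : Type) (_ : Field F') (_ : Fintype F'), Fintype.card F' = Fintype.card F ∧ Nonempty (F ≃+* F') := by
  obtain ⟨r, hr⟩ := CharP.exists F
  have hrp : r.Prime := CharP.char_is_prime F r
  have := Fact.mk hrp
  obtain ⟨n, -, hn⟩ := FiniteField.card F r
  have h1 : Nat.card (GaloisField r n) = r ^ (n : ℕ) := GaloisField.card r n n.2.ne'
  have hft : Finite (GaloisField r n) := Nat.finite_of_card_ne_zero (by
    rw [h1]; exact pow_ne_zero _ hrp.ne_zero)
  let i := Fintype.ofFinite (GaloisField r n)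
  have h2 : Fintype.card F = Fintype.card (GaloisField r n) := by
    rw [hn, ← Nat.card_eq_fintype_card, h1]
  exact ⟨GaloisField r n, inferInstance, i, h2.symm, ⟨FiniteField.ringEquivOfCardEq h2⟩⟩

/-- the hypothesis of S3534, S3535 -/
theorem LHyp.families {F : Type v} [Field F] [Fintype F] {L : Type w} [Group L] [Finite L] (h : LHyp F L)
    {r : ℕ} (hr : r.Prime) (hr7 : 7 ≤ r) (hrL : r ∣ Nat.card L) :
    (Cfsg.IsPSp L ∧ ∀ (F : Type) [Field F] [Fintype F], Fintype.card F = 3 → ¬ Nonempty (L ≃* Cfsg.PSp 2 F)) ∨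
      Cfsg.IsPOmegaOdd L ∨ Cfsg.IsPOmegaPlus L ∨ Cfsg.IsPOmegaMinus L := by
  obtain ⟨F', i1, i2, hF', ⟨σ⟩⟩ := exists_type_field F
  rcases h with ⟨⟨e⟩⟩ | ⟨ho, ⟨e⟩⟩ | ⟨⟨e⟩⟩
  · left
    refine ⟨⟨F', i1, i2, 3, by norm_num, by norm_num,
      ⟨e.trans (Cfsg.Agent.LieClassical.FieldTransfer.pspCongr 3 σ)⟩⟩, ?_⟩
    rintro E _ _ hE ⟨e'⟩
    have h1 := psp_eq (F := E) (m := 2) le_rfl
    rw [hE, ← Nat.card_congr e'.toEquiv] at h1
    have h2 : 2 * Nat.card L = 51840 := h1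
    have h3 : Nat.card L = 25920 := by omega
    rw [h3] at hrL
    have h4 : r ∣ 2 ^ 6 * (3 ^ 4 * 5) := hrL
    rcases hr.dvd_mul.1 h4 with h5 | h5
    · have := Nat.le_of_dvd (by norm_num) (hr.dvd_of_dvd_pow h5)
      omega
    · rcases hr.dvd_mul.1 h5 with h6 | h6
      · have := Nat.le_of_dvd (by norm_num) (hr.dvd_of_dvd_pow h6)
        omega
      · have := Nat.le_of_dvd (by norm_num) h6
        omega
  · obtain ⟨e'⟩ := Cfsg.Agent.UGT.U2.Rec.Congr.nonempty_POmegaOdd σ 3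
    exact Or.inr (Or.inl ⟨F', i1, i2, 3, le_rfl, by rw [hF']; exact ho, ⟨e.trans e'⟩⟩)
  · obtain ⟨e'⟩ := Cfsg.Agent.UGT.U2.Rec.Congr.nonempty_POmega σ (Cfsg.Agent.H902.Iso.plus_map σ 4)
    exact Or.inr (Or.inr (Or.inl ⟨F', i1, i2, 4, le_rfl, ⟨e.trans e'⟩⟩))

/-- the elimination rows, `q = 5 ^ m` -/
structure Rows5 : Prop where
  psl_two : ∀ {q : ℕ} {F : Type} [Field F] [Fintype F], ¬ 5 ∣ Fintype.card F → 4 ≤ Fintype.card F →
    E5 q (Matrix.ProjectiveSpecialLinearGroup (Fin 2) F) → False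
  psl_three : ∀ {q : ℕ} {F : Type} [Field F] [Fintype F], ¬ 5 ∣ Fintype.card F →
    E5 q (Matrix.ProjectiveSpecialLinearGroup (Fin 3) F) → False
  psl : ∀ {q n : ℕ} {F : Type} [Field F] [Fintype F], ¬ 5 ∣ Fintype.card F → 4 ≤ n →
    E5 q (Matrix.ProjectiveSpecialLinearGroup (Fin n) F) → False
  psp_two : ∀ {q : ℕ} {F : Type} [Field F] [Fintype F], ¬ 5 ∣ Fintype.card F → 3 ≤ Fintype.card F →
    E5 q (PSp 2 F) → False
  psp : ∀ {q n : ℕ} {F : Type} [Field F] [Fintype F], ¬ 5 ∣ Fintype.card F → 3 ≤ n → E5 q (PSp n F) → False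
  psu_three : ∀ {q w : ℕ} {F : Type} [Field F] [Fintype F], Fintype.card F = w ^ 2 → ¬ 5 ∣ w → 3 ≤ w →
    E5 q (PSU 3 F w) → False
  psu : ∀ {q w n : ℕ} {F : Type} [Field F] [Fintype F], Fintype.card F = w ^ 2 → ¬ 5 ∣ w → 4 ≤ n →
    E5 q (PSU n F w) → False
  oodd : ∀ {q n : ℕ} {F : Type} [Field F] [Fintype F], ¬ 5 ∣ Fintype.card F → Odd (Fintype.card F) → 3 ≤ n →
    E5 q (POmega F (quadFormOdd n F)) → False
  oplus : ∀ {q n : ℕ} {F : Type} [Field F] [Fintype F], ¬ 5 ∣ Fintype.card F → 4 ≤ n →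
    E5 q (POmega F (quadFormPlus n F)) → False
  ominus : ∀ {q n : ℕ} {F : Type} [Field F] [Fintype F], ¬ 5 ∣ Fintype.card F → 4 ≤ n → ∀ {a b : F},
    (∀ z₁ z₂ : F, z₁ ^ 2 + a * z₁ * z₂ + b * z₂ ^ 2 = 0 → z₁ = 0 ∧ z₂ = 0) →
    E5 q (POmega F (quadFormMinus (n - 1) F a b)) → False
  g2 : ∀ {q : ℕ} {F : Type} [Field F] [Fintype F], ¬ 5 ∣ Fintype.card F → 3 ≤ Fintype.card F →
    E5 q ↥(Cfsg.Lie.chevG2.group F) → False
  f4 : ∀ {q : ℕ} {F : Type} [Field F] [Fintype F], ¬ 5 ∣ Fintype.card F → E5 q ↥(Cfsg.Lie.chevF4.group F) → False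
  e6 : ∀ {q : ℕ} {F : Type} [Field F] [Fintype F], ¬ 5 ∣ Fintype.card F → E5 q ↥(Cfsg.Lie.chevE6.group F) → False
  e7 : ∀ {q : ℕ} {F : Type} [Field F] [Fintype F], ¬ 5 ∣ Fintype.card F → E5 q ↥(Cfsg.Lie.chevE7.group F) → False
  e8 : ∀ {q : ℕ} {F : Type} [Field F] [Fintype F], ¬ 5 ∣ Fintype.card F → E5 q ↥(Cfsg.Lie.chevE8.group F) → False
  te6 : ∀ {q w : ℕ} {S : Type u} [Group S], IsNamed (.te6 w) S → ¬ 5 ∣ w → E5 q S → False
  td4 : ∀ {q w : ℕ} {S : Type u} [Group S], IsNamed (.td4 w) S → ¬ 5 ∣ w → E5 q S → False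
  tf4 : ∀ {q w : ℕ} {S : Type u} [Group S], IsNamed (.tf4 w) S → E5 q S → False
  sz : ∀ {q w : ℕ} {S : Type u} [Group S], IsNamed (.sz w) S → E5 q S → False
  ree : ∀ {q w : ℕ} {S : Type u} [Group S], IsNamed (.ree w) S → E5 q S → False

/-- the elimination rows, `q = 2 ^ m` -/
structure Rows2 : Prop where
  psl_two : ∀ {q : ℕ} {F : Type} [Field F] [Fintype F], Odd (Fintype.card F) → 4 ≤ Fintype.card F →
    E2 q (Matrix.ProjectiveSpecialLinearGroup (Fin 2) F) → q = 4 ∧ Fintype.card F = 13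
  psl_three : ∀ {q : ℕ} {F : Type} [Field F] [Fintype F], Odd (Fintype.card F) →
    E2 q (Matrix.ProjectiveSpecialLinearGroup (Fin 3) F) → False
  psl : ∀ {q n : ℕ} {F : Type} [Field F] [Fintype F], Odd (Fintype.card F) → 4 ≤ n →
    E2 q (Matrix.ProjectiveSpecialLinearGroup (Fin n) F) → False
  psp_two : ∀ {q : ℕ} {F : Type} [Field F] [Fintype F], Odd (Fintype.card F) → 3 ≤ Fintype.card F →
    E2 q (PSp 2 F) → False
  psp : ∀ {q n : ℕ} {F : Type} [Field F] [Fintype F], Odd (Fintype.card F) → 3 ≤ n → E2 q (PSp n F) → False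
  psu_three : ∀ {q w : ℕ} {F : Type} [Field F] [Fintype F], Fintype.card F = w ^ 2 → Odd w → 3 ≤ w →
    E2 q (PSU 3 F w) → False
  psu : ∀ {q w n : ℕ} {F : Type} [Field F] [Fintype F], Fintype.card F = w ^ 2 → Odd w → 4 ≤ n →
    E2 q (PSU n F w) → False
  oodd : ∀ {q n : ℕ} {F : Type} [Field F] [Fintype F], Odd (Fintype.card F) → 3 ≤ n →
    E2 q (POmega F (quadFormOdd n F)) → False
  oplus : ∀ {q n : ℕ} {F : Type} [Field F] [Fintype F], Odd (Fintype.card F) → 4 ≤ n →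
    E2 q (POmega F (quadFormPlus n F)) → False
  ominus : ∀ {q n : ℕ} {F : Type} [Field F] [Fintype F], Odd (Fintype.card F) → 4 ≤ n → ∀ {a b : F},
    (∀ z₁ z₂ : F, z₁ ^ 2 + a * z₁ * z₂ + b * z₂ ^ 2 = 0 → z₁ = 0 ∧ z₂ = 0) →
    E2 q (POmega F (quadFormMinus (n - 1) F a b)) → False
  g2 : ∀ {q : ℕ} {F : Type} [Field F] [Fintype F], Odd (Fintype.card F) →
    E2 q ↥(Cfsg.Lie.chevG2.group F) → q = 4 ∧ Fintype.card F = 3
  f4 : ∀ {q : ℕ} {F : Type} [Field F] [Fintype F], Odd (Fintype.card F) → E2 q ↥(Cfsg.Lie.chevF4.group F) → False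
  e6 : ∀ {q : ℕ} {F : Type} [Field F] [Fintype F], Odd (Fintype.card F) → E2 q ↥(Cfsg.Lie.chevE6.group F) → False
  e7 : ∀ {q : ℕ} {F : Type} [Field F] [Fintype F], Odd (Fintype.card F) → E2 q ↥(Cfsg.Lie.chevE7.group F) → False
  e8 : ∀ {q : ℕ} {F : Type} [Field F] [Fintype F], Odd (Fintype.card F) → E2 q ↥(Cfsg.Lie.chevE8.group F) → False
  te6 : ∀ {q w : ℕ} {S : Type u} [Group S], IsNamed (.te6 w) S → Odd w → E2 q S → False
  td4 : ∀ {q w : ℕ} {S : Type u} [Group S], IsNamed (.td4 w) S → Odd w → E2 q S → False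
  ree : ∀ {q w : ℕ} {S : Type u} [Group S], IsNamed (.ree w) S → E2 q S → False

/-- a composition factor of `G` isomorphic to `S` -/
theorem exists_factor {G : Type u} [Group G] [Finite G] {K : Subgroup G} [K.Normal] {S : Subgroup (G ⧸ K)}
    [S.Normal] (R : Red G K S) :
    ∃ (H : Subgroup G) (_ : H.Normal) (N : Subgroup ↥H) (_ : N.Normal), Nonempty (↥H ⧸ N ≃* ↥S) := by
  obtain ⟨K', H, hK', hH, h1, h2, h3, h4⟩ := R.quasi (L := ↥S) ⟨MulEquiv.refl _⟩
  exact ⟨H, hH, K'.subgroupOf H, inferInstance, h4⟩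

/-- **The simple section, `q = 5 ^ m`.** -/
theorem sect_five (rows : Rows5.{u}) {F : Type v} [Field F] [Fintype F] [CharP F 5] {L : Type w} [Group L] [Finite L]
    (hL : LHyp F L) {G : Type u} [Group G] [Finite G]
    (h : Set.range (orderOf : G → ℕ) = Set.range (orderOf : L → ℕ)) (hX : X5 (Fintype.card F) G)
    {K : Subgroup G} [K.Normal] {S : Subgroup (G ⧸ K)} [S.Normal] (R : Red G K S) :
    Nonempty (↥S ≃* POmega F (quadFormOdd 3 F)) ∨ Nonempty (↥S ≃* PSp 3 F) ∨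
      Nonempty (↥S ≃* POmega F (quadFormPlus 4 F)) ∨ Nonempty (↥S ≃* ↥(Cfsg.Lie.chevG2.group F)) := by
  have hq5 := hX.five_le
  have hE := e5_of_red hX R
  obtain ⟨H, hH, N, hN, ⟨t⟩⟩ := exists_factor R
  have hS := R.simple
  have hT : IsSimpleGroup (↥H ⧸ N) := t.isSimpleGroup
  have hna : ¬ IsMulCommutative (↥H ⧸ N) := fun hc => R.nonab ⟨⟨fun x y => by
    obtain ⟨x, rfl⟩ := t.surjective x
    obtain ⟨y, rfl⟩ := t.surjective y
    rw [← map_mul, ← map_mul, hc.1.1]⟩⟩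
  have hET : E5 (Fintype.card F) (↥H ⧸ N) := hE.congr t.symm
  have hsub : H.IsSubnormal := Subgroup.Normal.isSubnormal hH
  -- the prime for S3534
  obtain ⟨r, hr, hra⟩ := exists_ap (q := Fintype.card F) (by omega)
  have hr7 : 7 ≤ r := by
    have h3 := three_dvd_sub_one (q := Fintype.card F) (by omega) hr (hra.mul_right _)
    have h2 := (ap_ne (by omega) hr hra).1
    have h6 := hr.two_le
    by_contra hcon
    have h8 : r = 4 := by omega
    rw [h8] at hr
    revert hr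
    norm_num
  have hrL : r ∣ Nat.card L := by
    obtain ⟨y, hy⟩ := exists_of_range h.symm (order_of_dvd hX.a (hra.trans (ap_dvd_half (by omega) (by omega))))
    rw [← hy]
    exact orderOf_dvd_natCard y
  have hfam := hL.families hr hr7 hrL
  have hspor := Cfsg.Agent.S3535.result hfam h H hsub N hT hna
  have halt := Cfsg.Agent.S3534.result hfam h H hsub N hT hna
  obtain ⟨g, hg⟩ := H436.name hna
  by_cases h5 : 5 ∣ par g
  · have hlie := lie_of_par (by norm_num) hg h5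
    have : Fact (Nat.Prime 5) := ⟨by norm_num⟩
    rcases Cfsg.Agent.S3671.result 5 hL h H hsub N hT hna hlie with ⟨E, i1, i2, hE3, ⟨e⟩⟩ | ⟨⟨e⟩⟩ | ⟨⟨e⟩⟩ | ⟨⟨e⟩⟩ | ⟨⟨e⟩⟩
    · exact (Cfsg.Agent.H772.Six.not_psl_five hE3 (hET.congr e)).elim
    · exact Or.inl ⟨t.symm.trans e⟩
    · exact Or.inr (Or.inl ⟨t.symm.trans e⟩)
    · exact Or.inr (Or.inr (Or.inl ⟨t.symm.trans e⟩))
    · exact Or.inr (Or.inr (Or.inr ⟨t.symm.trans e⟩))
  · exfalso
    have hc := hg.cond
    have hre := hg.real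
    cases g with
    | alt n => exact halt n hre
    | psl n w =>
      obtain ⟨E, i1, i2, hF, ⟨e⟩⟩ := hre
      have hEe := hET.congr e
      have h5' : ¬ 5 ∣ Fintype.card E := by rw [hF]; exact h5
      obtain ⟨hn2, hn24, -⟩ := hc
      rcases Nat.lt_or_ge n 4 with h4 | h4
      · have : n = 2 ∨ n = 3 := by omega
        rcases this with rfl | rfl
        · exact rows.psl_two h5' (by rw [hF]; exact hn24 rfl) hEe
        · exact rows.psl_three h5' hEe
      · exact rows.psl h5' h4 hEe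
    | psp n w =>
      obtain ⟨E, i1, i2, hF, ⟨e⟩⟩ := hre
      have hEe := hET.congr e
      have h5' : ¬ 5 ∣ Fintype.card E := by rw [hF]; exact h5
      obtain ⟨hn2, hn24, -⟩ := hc
      rcases Nat.lt_or_ge n 3 with h4 | h4
      · obtain rfl : n = 2 := by omega
        exact rows.psp_two h5' (by rw [hF]; exact hn24 rfl) hEe
      · exact rows.psp h5' h4 hEe
    | psu n w =>
      obtain ⟨E, i1, i2, hF, ⟨e⟩⟩ := hre
      have hEe := hET.congr e
      obtain ⟨hn2, hn24, hpp⟩ := hc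
      rcases Nat.lt_or_ge n 4 with h4 | h4
      · obtain rfl : n = 3 := by omega
        have h2 := hpp.two_le
        exact rows.psu_three hF h5 (by omega) hEe
      · exact rows.psu hF h5 h4 hEe
    | oodd n w =>
      obtain ⟨E, i1, i2, hF, ⟨e⟩⟩ := hre
      have hEe := hET.congr e
      exact rows.oodd (by rw [hF]; exact h5) (by rw [hF]; exact hc.2.1) hc.1 hEe
    | oplus n w =>
      obtain ⟨E, i1, i2, hF, ⟨e⟩⟩ := hre
      have hEe := hET.congr e
      exact rows.oplus (by rw [hF]; exact h5) hc.1 hEe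
    | ominus n w =>
      obtain ⟨E, i1, i2, a, b, hF, hab, ⟨e⟩⟩ := hre
      have hEe := hET.congr e
      exact rows.ominus (by rw [hF]; exact h5) hc.1 hab hEe
    | g2 w =>
      obtain ⟨E, i1, i2, hF, ⟨e⟩⟩ := hre
      exact rows.g2 (by rw [hF]; exact h5) (by rw [hF]; exact hc.1) (hET.congr e)
    | f4 w =>
      obtain ⟨E, i1, i2, hF, ⟨e⟩⟩ := hre
      exact rows.f4 (by rw [hF]; exact h5) (hET.congr e)
    | e6 w =>
      obtain ⟨E, i1, i2, hF, ⟨e⟩⟩ := hre
      exact rows.e6 (by rw [hF]; exact h5) (hET.congr e)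
    | e7 w =>
      obtain ⟨E, i1, i2, hF, ⟨e⟩⟩ := hre
      exact rows.e7 (by rw [hF]; exact h5) (hET.congr e)
    | e8 w =>
      obtain ⟨E, i1, i2, hF, ⟨e⟩⟩ := hre
      exact rows.e8 (by rw [hF]; exact h5) (hET.congr e)
    | te6 w => exact rows.te6 hg h5 hET
    | td4 w => exact rows.td4 hg h5 hET
    | tf4 w => exact rows.tf4 hg hET
    | sz w => exact rows.sz hg hET
    | ree w => exact rows.ree hg hET
    | tits => exact hspor.2 hre
    | _ => exact hspor.1 (sporadic_of_named hT hg (by decide))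

/-- **The simple section, `q = 2 ^ m`.** -/
theorem sect_two (rows : Rows2.{u}) {F : Type v} [Field F] [Fintype F] [CharP F 2] {L : Type w} [Group L] [Finite L]
    (hL : LHyp F L) {G : Type u} [Group G] [Finite G]
    (h : Set.range (orderOf : G → ℕ) = Set.range (orderOf : L → ℕ)) (hX : X2 (Fintype.card F) G)
    {K : Subgroup G} [K.Normal] {S : Subgroup (G ⧸ K)} [S.Normal] (R : Red G K S) :
    Nonempty (↥S ≃* PSp 3 F) ∨ Nonempty (↥S ≃* POmega F (quadFormPlus 4 F)) ∨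
      Nonempty (↥S ≃* ↥(Cfsg.Lie.chevG2.group F)) ∨
      (Fintype.card F = 4 ∧ ((∃ (E : Type) (_ : Field E) (_ : Fintype E), Fintype.card E = 13 ∧
          Nonempty (↥S ≃* Matrix.ProjectiveSpecialLinearGroup (Fin 2) E)) ∨
        ∃ (E : Type) (_ : Field E) (_ : Fintype E), Fintype.card E = 3 ∧
          Nonempty (↥S ≃* ↥(Cfsg.Lie.chevG2.group E)))) := by
  have hq5 := hX.four_le
  have hE := e2_of_red hX R
  obtain ⟨H, hH, N, hN, ⟨t⟩⟩ := exists_factor R
  have hS := R.simple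
  have hT : IsSimpleGroup (↥H ⧸ N) := t.isSimpleGroup
  have hna : ¬ IsMulCommutative (↥H ⧸ N) := fun hc => R.nonab ⟨⟨fun x y => by
    obtain ⟨x, rfl⟩ := t.surjective x
    obtain ⟨y, rfl⟩ := t.surjective y
    rw [← map_mul, ← map_mul, hc.1.1]⟩⟩
  have hET : E2 (Fintype.card F) (↥H ⧸ N) := hE.congr t.symm
  have hsub : H.IsSubnormal := Subgroup.Normal.isSubnormal hH
  -- the prime for S3534
  obtain ⟨r, hr, hra⟩ := exists_ap (q := Fintype.card F) (by omega)
  have hr7 : 7 ≤ r := by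
    have h3 := three_dvd_sub_one (q := Fintype.card F) (by omega) hr (hra.mul_right _)
    have h2 := (ap_ne (by omega) hr hra).1
    have h6 := hr.two_le
    by_contra hcon
    have h8 : r = 4 := by omega
    rw [h8] at hr
    revert hr
    norm_num
  have hrL : r ∣ Nat.card L := by
    obtain ⟨y, hy⟩ := exists_of_range h.symm (order_of_dvd hX.a (hra.trans (ap_dvd_cube (by omega))))
    rw [← hy]
    exact orderOf_dvd_natCard y
  have hfam := hL.families hr hr7 hrL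
  have hspor := Cfsg.Agent.S3535.result hfam h H hsub N hT hna
  have halt := Cfsg.Agent.S3534.result hfam h H hsub N hT hna
  obtain ⟨g, hg⟩ := H436.name hna
  by_cases h5 : 2 ∣ par g
  · have hlie := lie_of_par (by norm_num) hg h5
    have : Fact (Nat.Prime 2) := ⟨by norm_num⟩
    rcases Cfsg.Agent.S3671.result 2 hL h H hsub N hT hna hlie with ⟨E, i1, i2, hE3, ⟨e⟩⟩ | ⟨⟨e⟩⟩ | ⟨⟨e⟩⟩ | ⟨⟨e⟩⟩ | ⟨⟨e⟩⟩
    · exact (Cfsg.Agent.H772.Six.not_psl_two hE3 (hET.congr e)).elim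
    · obtain ⟨f⟩ := odd_equiv_psp_three (F := F)
      exact Or.inl ⟨(t.symm.trans e).trans f⟩
    · exact Or.inl ⟨t.symm.trans e⟩
    · exact Or.inr (Or.inl ⟨t.symm.trans e⟩)
    · exact Or.inr (Or.inr (Or.inl ⟨t.symm.trans e⟩))
  · have hodd : Odd (par g) := Nat.not_even_iff_odd.1 fun h => h5 h.two_dvd
    have hc := hg.cond
    have hre := hg.real
    cases g with
    | alt n => exact absurd hre (halt n)
    | psl n w =>
      obtain ⟨E, i1, i2, hF, ⟨e⟩⟩ := hre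
      have hEe := hET.congr e
      have h5' : Odd (Fintype.card E) := by rw [hF]; exact hodd
      obtain ⟨hn2, hn24, -⟩ := hc
      rcases Nat.lt_or_ge n 4 with h4 | h4
      · have : n = 2 ∨ n = 3 := by omega
        rcases this with rfl | rfl
        · obtain ⟨h6, h7⟩ := rows.psl_two h5' (by rw [hF]; exact hn24 rfl) hEe
          exact Or.inr (Or.inr (Or.inr ⟨h6, Or.inl ⟨E, i1, i2, h7, ⟨t.symm.trans e⟩⟩⟩))
        · exact (rows.psl_three h5' hEe).elim
      · exact (rows.psl h5' h4 hEe).elim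
    | psp n w =>
      obtain ⟨E, i1, i2, hF, ⟨e⟩⟩ := hre
      have hEe := hET.congr e
      have h5' : Odd (Fintype.card E) := by rw [hF]; exact hodd
      obtain ⟨hn2, hn24, -⟩ := hc
      rcases Nat.lt_or_ge n 3 with h4 | h4
      · obtain rfl : n = 2 := by omega
        exact (rows.psp_two h5' (by rw [hF]; exact hn24 rfl) hEe).elim
      · exact (rows.psp h5' h4 hEe).elim
    | psu n w =>
      obtain ⟨E, i1, i2, hF, ⟨e⟩⟩ := hre
      have hEe := hET.congr e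
      obtain ⟨hn2, hn24, hpp⟩ := hc
      rcases Nat.lt_or_ge n 4 with h4 | h4
      · obtain rfl : n = 3 := by omega
        have h2 := hpp.two_le
        exact (rows.psu_three hF hodd (by omega) hEe).elim
      · exact (rows.psu hF hodd h4 hEe).elim
    | oodd n w =>
      obtain ⟨E, i1, i2, hF, ⟨e⟩⟩ := hre
      have hEe := hET.congr e
      exact (rows.oodd (by rw [hF]; exact hodd) hc.1 hEe).elim
    | oplus n w =>
      obtain ⟨E, i1, i2, hF, ⟨e⟩⟩ := hre
      have hEe := hET.congr e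
      exact (rows.oplus (by rw [hF]; exact hodd) hc.1 hEe).elim
    | ominus n w =>
      obtain ⟨E, i1, i2, a, b, hF, hab, ⟨e⟩⟩ := hre
      have hEe := hET.congr e
      exact (rows.ominus (by rw [hF]; exact hodd) hc.1 hab hEe).elim
    | g2 w =>
      obtain ⟨E, i1, i2, hF, ⟨e⟩⟩ := hre
      obtain ⟨h6, h7⟩ := rows.g2 (by rw [hF]; exact hodd) (hET.congr e)
      exact Or.inr (Or.inr (Or.inr ⟨h6, Or.inr ⟨E, i1, i2, h7, ⟨t.symm.trans e⟩⟩⟩))
    | f4 w =>
      obtain ⟨E, i1, i2, hF, ⟨e⟩⟩ := hre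
      exact (rows.f4 (by rw [hF]; exact hodd) (hET.congr e)).elim
    | e6 w =>
      obtain ⟨E, i1, i2, hF, ⟨e⟩⟩ := hre
      exact (rows.e6 (by rw [hF]; exact hodd) (hET.congr e)).elim
    | e7 w =>
      obtain ⟨E, i1, i2, hF, ⟨e⟩⟩ := hre
      exact (rows.e7 (by rw [hF]; exact hodd) (hET.congr e)).elim
    | e8 w =>
      obtain ⟨E, i1, i2, hF, ⟨e⟩⟩ := hre
      exact (rows.e8 (by rw [hF]; exact hodd) (hET.congr e)).elim
    | te6 w => exact (rows.te6 hg hodd hET).elim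
    | td4 w => exact (rows.td4 hg hodd hET).elim
    | tf4 w =>
      exfalso
      obtain ⟨m, hm, rfl⟩ := hc
      exact h5 (dvd_pow_self 2 (by omega))
    | sz w =>
      exfalso
      obtain ⟨m, hm, rfl⟩ := hc
      exact h5 (dvd_pow_self 2 (by omega))
    | ree w => exact (rows.ree hg hET).elim
    | tits => exact absurd hre hspor.2
    | _ => exact absurd (sporadic_of_named hT hg (by decide)) hspor.1

end Cfsg.Agent.H376.Six
end

-- part: H376/Six/RowsFive
section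
prune_inst 0xc100460035221000000000129200020020000000000000002000010409010002800080000a000000100000800005001000000080400000000a000400000101001080000070810000000006000080000000000000020000000000000000000000000000000
set_option linter.all false
open scoped Cfsg.Agent.FastGrp

-- part: H60/SixLow
section
/-!
# BLOCK 6, `q = 5 ^ m`: the simple section is not `PSL₂(v)`, `PSp₄(v)`, `5 ∤ v` (helper60, task of helper376)
-/

set_option autoImplicit false

namespace Cfsg.Agent.H60.Six5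

open Cfsg.Agent.H376.Six Cfsg.Agent.H374.Quad

universe u

variable {q : ℕ}

theorem prime_eq_of_dvd_ap (h : Pow5 q) {u : ℕ} (hu : u.Prime) (h1 : ap q ∣ u) : ap q = u := by
  rcases (Nat.dvd_prime hu).1 h1 with h2 | h2
  · have := ap_ge h
    omega
  · exact h2

theorem prime_eq_of_dvd_am (h : Pow5 q) {u : ℕ} (hu : u.Prime) (h1 : am q ∣ u) : am q = u := by
  rcases (Nat.dvd_prime hu).1 h1 with h2 | h2
  · have := am_ge h
    omega
  · exact h2

/-- `ap q ≠ am q` -/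
theorem ap_ne_am (h : Pow5 q) : ap q ≠ am q := by
  intro h1
  obtain ⟨r, hr, h2⟩ := exists_ap h
  exact not_dvd_B_of h hr h2 ((h1 ▸ h2).trans (am_dvd_half (by have := h.le; omega) h.two))

/-- `c = ap` : `am` does not divide `(c ± 1) / 2` -/
theorem num_ap (h : Pow5 q) {c T : ℕ} (hc : c = ap q) (h1 : c = 2 * T + 1 ∨ 2 * T = c + 1) (h2 : am q ∣ T) : False := by
  obtain ⟨i, hi⟩ := h2
  have h5 := h.le
  have ha := ap_ge h
  have hi0 : 0 < i := by
    rcases Nat.eq_zero_or_pos i with h0 | h0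
    · rw [h0, mul_zero] at hi
      omega
    · exact h0
  have hqq : q * q = q ^ 2 := by ring
  have h5q : 5 * q ≤ q ^ 2 := by nlinarith only [h5]
  rcases ap_am_cases h with ⟨h3, h4⟩ | ⟨h25, h3, h4⟩
  · -- `ap - 1 = 3 am + (2 q - 1)`, `ap + 1 = 3 am + (2 q + 1)`
    rcases h1 with h1 | h1
    · have h6 : am q ∣ 2 * q - 1 := by
        have h7 : am q ∣ 3 * am q + (2 * q - 1) := by
          have h8 : 3 * am q + (2 * q - 1) = 2 * T := by (clear * - hc h5 h3 h4 h1; solve | lia | omega)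
          rw [h8, hi]
          exact Dvd.intro (2 * i) (by ring)
        exact (Nat.dvd_add_right (Dvd.intro_left _ rfl)).1 h7
      have h7 := Nat.le_of_dvd (by omega) h6
      have h8 : q < 8 := by
        by_contra hlt
        have : 8 * q ≤ q ^ 2 := by nlinarith only [hlt]
        (clear * - h4 h7 this; omega)
      rcases h.cases with rfl | h9
      · rw [show am 5 = 7 by decide] at h6
        omega
      · omega
    · have h6 : am q ∣ 2 * q + 1 := by
        have h7 : am q ∣ 3 * am q + (2 * q + 1) := by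
          have h8 : 3 * am q + (2 * q + 1) = 2 * T := by (clear * - hc h3 h4 h1; omega)
          rw [h8, hi]
          exact Dvd.intro (2 * i) (by ring)
        exact (Nat.dvd_add_right (Dvd.intro_left _ rfl)).1 h7
      have h7 := Nat.le_of_dvd (by omega) h6
      have h8 : q < 9 := by
        by_contra hlt
        have : 9 * q ≤ q ^ 2 := by nlinarith only [hlt]
        (clear * - ha h3 h4 h7 this; omega)
      rcases h.cases with rfl | h9
      · rw [show am 5 = 7 by decide] at h6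
        omega
      · omega
  · have h6 : am q ≤ T := by rw [hi]; exact Nat.le_mul_of_pos_right _ hi0
    have h7 : 25 * q ≤ q ^ 2 := by nlinarith only [h25]
    omega

/-- `c = am` : `ap` does not divide `(c ± 1) / 2` -/
theorem num_am (h : Pow5 q) {c T : ℕ} (hc : c = am q) (h1 : c = 2 * T + 1 ∨ 2 * T = c + 1) (h2 : ap q ∣ T) : False := by
  obtain ⟨i, hi⟩ := h2
  have h5 := h.le
  have ha := am_ge h
  have hi0 : 0 < i := by
    rcases Nat.eq_zero_or_pos i with h0 | h0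
    · rw [h0, mul_zero] at hi
      omega
    · exact h0
  have hqq : q * q = q ^ 2 := by ring
  have h5q : 5 * q ≤ q ^ 2 := by nlinarith only [h5]
  rcases ap_am_cases h with ⟨h3, h4⟩ | ⟨h25, h3, h4⟩
  · have h6 : ap q ≤ T := by rw [hi]; exact Nat.le_mul_of_pos_right _ hi0
    (clear * - hc h1 h3 h4 h6; omega)
  · have h25q : 25 * q ≤ q ^ 2 := by nlinarith only [h25]
    rcases h1 with h1 | h1
    · -- `am - 1 = 3 ap - (2 q + 1)`
      have h6 : ap q ∣ 2 * q + 1 := by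
        have h7 : ap q ∣ 2 * T + (2 * q + 1) := by
          have h8 : 2 * T + (2 * q + 1) = 3 * ap q := by (clear * - hc ha h3 h4 h1; omega)
          rw [h8]
          exact Dvd.intro_left _ rfl
        exact (Nat.dvd_add_right (by rw [hi]; exact Dvd.intro (2 * i) (by ring))).1 h7
      have h7 := Nat.le_of_dvd (by omega) h6
      (clear * - h25 h3 h25q h7; omega)
    · have h6 : ap q ∣ 2 * q - 1 := by
        have h7 : ap q ∣ 2 * T + (2 * q - 1) := by
          have h8 : 2 * T + (2 * q - 1) = 3 * ap q := by omega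
          rw [h8]
          exact Dvd.intro_left _ rfl
        exact (Nat.dvd_add_right (by rw [hi]; exact Dvd.intro (2 * i) (by ring))).1 h7
      have h7 := Nat.le_of_dvd (by omega) h6
      omega

/-- a power of `ap`, exponent at least two -/
theorem num_ap_sq (h : Pow5 q) {c T : ℕ} (hc : ap q ^ 2 ≤ c) (h1 : c ≤ 2 * T + 1)
    (h2 : T ∣ (q ^ 3 + 1) / 2) : False := by
  have hA := h.A
  have hB := h.B
  have h3 := Nat.le_of_dvd (by omega) h2
  have h4 : c ≤ q ^ 3 + 2 := by omega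
  rcases h.cases with rfl | h5
  · rw [show ap 5 = 31 by decide] at hc
    omega
  · have h6 := three_ap (q := q) (by omega)
    have h7 : (q ^ 2 + q + 1) ^ 2 ≤ 9 * (q ^ 3 + 2) := by
      calc (q ^ 2 + q + 1) ^ 2 ≤ (3 * ap q) ^ 2 := Nat.pow_le_pow_left h6 2
        _ = 9 * ap q ^ 2 := by ring
        _ ≤ 9 * (q ^ 3 + 2) := Nat.mul_le_mul_left _ (hc.trans h4)
    linarith only [h7, pow_pos (show 0 < q by omega) 3, Nat.mul_le_mul_right (q ^ 3) h5, _root_.sq_nonneg (↑q : ℤ), _root_.Nat.cast_nonneg (α := ℤ) (q)]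

/-- a power of `am`, exponent at least two -/
theorem num_am_sq (h : Pow5 q) {c T : ℕ} (h11 : am q ^ 2 ∣ c) (hc0 : 0 < c) (h1 : c = 2 * T + 1 ∨ 2 * T = c + 1)
    (hT2 : ap q ∣ T) (hT3 : T ∣ (q ^ 3 - 1) / 2) : False := by
  have h12 := Nat.le_of_dvd hc0 h11
  have h13 := Nat.le_of_dvd h.A_pos hT3
  have hA := h.A
  rcases h.cases with rfl | h14
  · rw [show am 5 = 7 by decide] at h11
    rw [show ap 5 = 31 by decide] at hT2
    norm_num at h13 h11
    (clear * - h1 hT2 h13 h11; solve | lia | omega)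
  · have h15 := three_am (q := q) (by omega)
    have h16 : (q ^ 2 - q + 1) ^ 2 ≤ 9 * q ^ 3 := by
      have h17 : am q ^ 2 ≤ q ^ 3 := h12.trans (by omega)
      calc (q ^ 2 - q + 1) ^ 2 ≤ (3 * am q) ^ 2 := Nat.pow_le_pow_left h15 2
        _ = 9 * am q ^ 2 := by ring
        _ ≤ 9 * q ^ 3 := Nat.mul_le_mul_left _ h17
    obtain ⟨w, hw⟩ : ∃ w, q = w + 25 := ⟨q - 25, by omega⟩
    have h17 : q ^ 2 - q + 1 = w ^ 2 + 49 * w + 601 := by
      rw [hw, show (w + 25) ^ 2 = (w ^ 2 + 49 * w + 600) + (w + 25) by ring, Nat.add_sub_cancel]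
    rw [h17, hw] at h16
    ring_nf at h16
    linarith only [h16, pow_nonneg (Nat.zero_le w) 3, pow_nonneg (Nat.zero_le w) 4, _root_.sq_nonneg (↑w : ℤ), _root_.Nat.cast_nonneg (α := ℤ) (w)]

set_option maxHeartbeats 800000 in
/-- `PSL₂(v)` -/
theorem psl_two {F : Type*} [Field F] [Fintype F] (h5 : ¬ 5 ∣ Fintype.card F) (h4 : 4 ≤ Fintype.card F)
    (h : E5 q (Matrix.ProjectiveSpecialLinearGroup (Fin 2) F)) : False := by
  have hP := pow5 h.pow
  have hq5 := hP.le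
  have hA := hP.A
  have hB := hP.B
  obtain ⟨l, hc⟩ := CharP.exists F
  obtain ⟨k, hp, hcard⟩ := FiniteField.card F l
  have := Fact.mk hp
  have hspec := Cfsg.Agent.S2475.result (F := F) l h4
  have hk : 0 < (k : ℕ) := k.pos
  have hl5 : l ≠ 5 := by
    rintro rfl
    exact h5 (hcard ▸ dvd_pow_self 5 hk.ne')
  have hcardS : ∀ r : ℕ, r.Prime → r ∣ Nat.card (Matrix.ProjectiveSpecialLinearGroup (Fin 2) F) →
      ∃ x : Matrix.ProjectiveSpecialLinearGroup (Fin 2) F, orderOf x = r := by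
    intro r hr hd
    have := Fact.mk hr
    exact exists_prime_orderOf_dvd_card' r hd
  set c := Fintype.card F with hcdef
  have key : ∀ m : ℕ, (∃ x : Matrix.ProjectiveSpecialLinearGroup (Fin 2) F, orderOf x = m) ↔
      (m ∣ l ∨ m ∣ (c - 1) / Nat.gcd 2 (c - 1) ∨ m ∣ (c + 1) / Nat.gcd 2 (c - 1)) := by
    intro m
    have h6 : m ∈ Set.range (orderOf : Matrix.ProjectiveSpecialLinearGroup (Fin 2) F → ℕ) ↔
        (m ∣ l ∨ m ∣ (c - 1) / Nat.gcd 2 (c - 1) ∨ m ∣ (c + 1) / Nat.gcd 2 (c - 1)) := by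
      rw [hspec]; exact Iff.rfl
    exact h6
  -- the torus numbers
  obtain ⟨Tm, Tp, hTm, hTp, hT⟩ : ∃ Tm Tp, (c - 1) / Nat.gcd 2 (c - 1) = Tm ∧ (c + 1) / Nat.gcd 2 (c - 1) = Tp ∧
      ((c = 2 * Tm + 1 ∧ Tp = Tm + 1) ∨ (l = 2 ∧ c = Tm + 1 ∧ Tp = Tm + 2)) := by
    refine ⟨_, _, rfl, rfl, ?_⟩
    rcases Nat.even_or_odd c with he | ho
    · right
      rw [Cfsg.Agent.H374.Quad.gcd_of_even he (by omega), Nat.div_one, Nat.div_one]
      refine ⟨?_, by omega, by omega⟩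
      rw [hcard] at he
      have h6 : 2 ∣ l := Nat.prime_two.dvd_of_dvd_pow (even_iff_two_dvd.1 he)
      exact ((Nat.prime_dvd_prime_iff_eq Nat.prime_two hp).1 h6).symm
    · left
      rw [Cfsg.Agent.H374.Quad.gcd_of_odd ho]
      rw [Nat.odd_iff] at ho
      constructor <;> (clear * - ho; omega)
  rw [hTm, hTp] at key
  have hTm1 : Ub q Tm := h.ub' ((key Tm).2 (Or.inr (Or.inl dvd_rfl)))
  have hTp1 : Ub q Tp := h.ub' ((key Tp).2 (Or.inr (Or.inr dvd_rfl)))
  rcases h.five with ⟨hap, ham, -⟩ | h25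
  · have hap' := (key _).1 hap
    have ham' := (key _).1 ham
    rcases hap' with h6 | h6
    · -- `ap` is the characteristic
      have h7 := prime_eq_of_dvd_ap hP hp h6
      have hodd := ap_odd (q := q) (by omega)
      have hl2 : l ≠ 2 := by
        have := ap_ge hP
        omega
      have hT' : c = 2 * Tm + 1 ∧ Tp = Tm + 1 := by
        rcases hT with h8 | h8
        · exact h8
        · exact absurd h8.1 hl2
      have h9 : ∃ T, (c = 2 * T + 1 ∨ 2 * T = c + 1) ∧ am q ∣ T ∧ Ub q T := by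
        rcases ham' with h8 | h8 | h8
        · exact absurd (h7.trans (prime_eq_of_dvd_am hP hp h8).symm) (ap_ne_am hP)
        · exact ⟨Tm, by omega, h8, hTm1⟩
        · exact ⟨Tp, by omega, h8, hTp1⟩
      obtain ⟨T, hT1, hT2, hT3⟩ := h9
      rcases Nat.lt_or_ge (k : ℕ) 2 with h10 | h10
      · have hk1 : (k : ℕ) = 1 := by omega
        exact num_ap hP (by rw [hcard, hk1, pow_one, h7]) hT1 hT2
      · refine num_ap_sq hP ?_ (show c ≤ 2 * T + 1 by omega) (dvd_B' hP hT2 hT3)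
        rw [hcard, h7]
        exact Nat.pow_le_pow_right hp.pos h10
    · rcases ham' with h7 | h7
      · -- `am` is the characteristic
        have h8 := prime_eq_of_dvd_am hP hp h7
        have hl2 : l ≠ 2 := by
          have := am_ge hP
          omega
        have hT' : c = 2 * Tm + 1 ∧ Tp = Tm + 1 := by
          rcases hT with h8 | h8
          · exact h8
          · exact absurd h8.1 hl2
        have h9 : ∃ T, (c = 2 * T + 1 ∨ 2 * T = c + 1) ∧ ap q ∣ T ∧ Ub q T := by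
          rcases h6 with h8 | h8
          · exact ⟨Tm, by omega, h8, hTm1⟩
          · exact ⟨Tp, by omega, h8, hTp1⟩
        obtain ⟨T, hT1, hT2, hT3⟩ := h9
        rcases Nat.lt_or_ge (k : ℕ) 2 with h10 | h10
        · have hk1 : (k : ℕ) = 1 := by omega
          exact num_am hP (by rw [hcard, hk1, pow_one, h8]) hT1 hT2
        · refine num_am_sq hP ?_ (by omega) hT1 hT2 (dvd_A' hP hT2 hT3)
          rw [hcard, h8]
          exact pow_dvd_pow _ h10
      · rcases h6 with h6 | h6 <;> rcases h7 with h7 | h7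
        · exact not_both hP h6 h7 hTm1
        · have h8 := near hP (dvd_A' hP h6 hTm1) (dvd_B' hP h7 hTp1) h6 h7 (by omega) (by omega)
          refine h5 ?_
          have h9 : c = q ^ 3 := by
            rcases hT with h9 | h9
            · omega
            · exfalso; omega
          rw [h9]
          exact hP.dvd.trans (dvd_pow_self q (by norm_num))
        · have h8 := near hP (dvd_A' hP h6 hTp1) (dvd_B' hP h7 hTm1) h6 h7 (by omega) (by omega)
          omega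
        · exact not_both hP h6 h7 hTp1
  · have h25' := (key _).1 h25
    rcases h25' with h6 | h6 | h6
    · exact hl5 ((Nat.prime_dvd_prime_iff_eq (by norm_num) hp).1
        ((by norm_num : (5 : ℕ) ∣ 25).trans h6)).symm
    · have h7 := eq_25 hP h6 hTm1
      rcases hT with h8 | h8
      · -- `c = 51`
        have h9 : c = 51 := by omega
        have h10 : 3 ∣ l ^ (k : ℕ) := by rw [← hcard, h9]; norm_num
        have h11 : 17 ∣ l ^ (k : ℕ) := by rw [← hcard, h9]; norm_num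
        have h12 := (Nat.prime_dvd_prime_iff_eq Nat.prime_three hp).1 (Nat.prime_three.dvd_of_dvd_pow h10)
        have h13 := (Nat.prime_dvd_prime_iff_eq (by norm_num) hp).1
          ((by norm_num : Nat.Prime 17).dvd_of_dvd_pow h11)
        omega
      · have h9 : c = 26 := by omega
        have h11 : 13 ∣ l ^ (k : ℕ) := by rw [← hcard, h9]; norm_num
        have h13 := (Nat.prime_dvd_prime_iff_eq (by norm_num) hp).1
          ((by norm_num : Nat.Prime 13).dvd_of_dvd_pow h11)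
        omega
    · have h7 := eq_25 hP h6 hTp1
      rcases hT with h8 | h8
      · -- `c = 49`
        have h9 : c = 49 := by omega
        have h10 : 7 ∣ l ^ (k : ℕ) := by rw [← hcard, h9]; norm_num
        have h12 := (Nat.prime_dvd_prime_iff_eq (by norm_num) hp).1
          ((by norm_num : Nat.Prime 7).dvd_of_dvd_pow h10)
        refine no_small h fun r hr hd => ?_
        rcases (key r).1 (hcardS r hr hd) with h13 | h13 | h13
        · rw [← h12] at h13
          exact h13.trans (by norm_num)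
        · rw [show Tm = 24 by omega] at h13
          have h14 : r ∣ 6 ^ 3 := h13.trans (by norm_num)
          exact (hr.dvd_of_dvd_pow h14).trans (by norm_num)
        · rw [h7] at h13
          have h14 : r ∣ 5 ^ 2 := h13.trans (by norm_num)
          exact (hr.dvd_of_dvd_pow h14).trans (by norm_num)
      · have h9 : c = 24 := by omega
        have h10 : 3 ∣ l ^ (k : ℕ) := by rw [← hcard, h9]; norm_num
        have h12 := (Nat.prime_dvd_prime_iff_eq Nat.prime_three hp).1 (Nat.prime_three.dvd_of_dvd_pow h10)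
        omega

/-- the numerics of `PSp₄(v)` when `ap` is divisible by the characteristic -/
theorem num_sp_ap (h : Pow5 q) {u c a : ℕ} (hu : 7 ≤ u) (huc : u ≤ c) (hc : c = 2 * a + 1)
    (h1 : u * (2 * a) ∣ (q ^ 3 - 1) / 2) (h2 : u * (2 * (a + 1)) ∣ (q ^ 3 - 1) / 2)
    (h3 : 2 * a * (a + 1) + 1 ∣ (q ^ 3 + 1) / 2) (h4 : am q ∣ 2 * a * (a + 1) + 1) (h5 : ap q ≤ c * (c + 1)) :
    False := by
  have hA := h.A
  have hB := h.B
  have hA0 := h.A_pos
  set A := (q ^ 3 - 1) / 2 with hAdef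
  set w := 2 * a * (a + 1) with hw
  -- `u w ∣ A`
  have h6 : u * w ∣ A := by
    obtain ⟨i, hi⟩ := h1
    have h7 : a + 1 ∣ i := by
      have h8 : u * 2 * (a + 1) ∣ u * 2 * (a * i) := by
        have h9 : u * 2 * (a * i) = A := by rw [hi]; ring
        rw [h9]
        calc u * 2 * (a + 1) = u * (2 * (a + 1)) := by ring
          _ ∣ A := h2
      have h9 := Nat.dvd_of_mul_dvd_mul_left (by positivity) h8
      exact (Nat.coprime_self_add_left.2 (Nat.coprime_one_left _) : Nat.Coprime (a + 1) a).dvd_of_dvd_mul_left h9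
    obtain ⟨j, hj⟩ := h7
    exact ⟨j, by rw [hi, hj, hw]; ring⟩
  obtain ⟨i, hi⟩ := h6
  obtain ⟨j, hj⟩ := h3
  have ha : 3 ≤ a := by omega
  have hw0 : 0 < w := by positivity
  have hi0 : 0 < i := by
    rcases Nat.eq_zero_or_pos i with h0 | h0
    · rw [h0, mul_zero] at hi; omega
    · exact h0
  have h7 : w * j + j = u * w * i + 1 := by
    rw [← hi, ← hB, hj]; ring
  -- `w + 1 ≤ j`
  have h8 : w + 1 ≤ j := by
    have h9 : j < u * i := by
      by_contra hlt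
      have h10 : w * (u * i) ≤ w * j := Nat.mul_le_mul_left _ (by omega)
      have h11 : w * (u * i) = u * w * i := by ring
      have h12 : 7 ≤ u * i := by nlinarith only [hu, hi0]
      omega
    obtain ⟨e, he⟩ := Nat.exists_eq_add_of_lt h9
    have h10 : u * w * i = w * j + w * e + w := by
      calc u * w * i = w * (u * i) := by ring
        _ = w * (j + e + 1) := by rw [he]
        _ = w * j + w * e + w := by ring
    omega
  have h9 : (w + 1) * (w + 1) ≤ (q ^ 3 + 1) / 2 := by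
    rw [hj]
    exact Nat.mul_le_mul_left _ h8
  have h10 := ap_mul_am_le h (TA := ap q) (TB := w + 1) (by have := ap_ge h; omega) (by omega) dvd_rfl h4
  -- `c (c + 1) ≤ (16 / 7) (w + 1)`
  have h11 : 7 * (c * (c + 1)) ≤ 16 * (w + 1) := by
    rw [hw, hc]
    nlinarith only [hu, huc, hc]
  have h12 : 7 * (q ^ 4 + q ^ 2 + 1) ≤ 24 * (q ^ 3 + 1) := by
    calc 7 * (q ^ 4 + q ^ 2 + 1) ≤ 7 * (3 * (ap q * (w + 1))) := Nat.mul_le_mul_left _ h10
      _ ≤ 7 * (3 * (c * (c + 1) * (w + 1))) := by gcongr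
      _ = 3 * (7 * (c * (c + 1))) * (w + 1) := by ring
      _ ≤ 3 * (16 * (w + 1)) * (w + 1) := by gcongr
      _ = 48 * ((w + 1) * (w + 1)) := by ring
      _ ≤ 48 * ((q ^ 3 + 1) / 2) := Nat.mul_le_mul_left _ h9
      _ = 24 * (q ^ 3 + 1) := by omega
  have h13 : 5 * q ^ 3 ≤ q ^ 4 := by
    calc 5 * q ^ 3 ≤ q * q ^ 3 := Nat.mul_le_mul_right _ h.le
      _ = q ^ 4 := by ring
  (clear * - hA0 h12 h13; omega)

/-- the numerics of `PSp₄(v)` when `am` is divisible by the characteristic -/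
theorem num_sp_am (h : Pow5 q) {u c a : ℕ} (hu : 7 ≤ u) (huc : u ≤ c) (hc : c = 2 * a + 1)
    (h1 : u * (2 * a) ∣ (q ^ 3 + 1) / 2) (h2 : u * (2 * (a + 1)) ∣ (q ^ 3 + 1) / 2)
    (h3 : 2 * a * (a + 1) + 1 ∣ (q ^ 3 - 1) / 2) (h4 : ap q ∣ 2 * a * (a + 1) + 1) (h5 : am q ≤ c * (c + 1)) :
    False := by
  have hA := h.A
  have hB := h.B
  have hA0 := h.A_pos
  set A := (q ^ 3 - 1) / 2 with hAdef
  set B := (q ^ 3 + 1) / 2 with hBdef
  set w := 2 * a * (a + 1) with hw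
  have h6 : u * w ∣ B := by
    obtain ⟨i, hi⟩ := h1
    have h7 : a + 1 ∣ i := by
      have h8 : u * 2 * (a + 1) ∣ u * 2 * (a * i) := by
        have h9 : u * 2 * (a * i) = B := by rw [hi]; ring
        rw [h9]
        calc u * 2 * (a + 1) = u * (2 * (a + 1)) := by ring
          _ ∣ B := h2
      have h9 := Nat.dvd_of_mul_dvd_mul_left (by positivity) h8
      exact (Nat.coprime_self_add_left.2 (Nat.coprime_one_left _) : Nat.Coprime (a + 1) a).dvd_of_dvd_mul_left h9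
    obtain ⟨j, hj⟩ := h7
    exact ⟨j, by rw [hi, hj, hw]; ring⟩
  obtain ⟨j, hj⟩ := h6
  obtain ⟨i, hi⟩ := h3
  have ha : 3 ≤ a := by omega
  have hw0 : 0 < w := by positivity
  have h7 : u * w * j = w * i + i + 1 := by
    rw [← hj, hB, hi]; ring
  have h8 : w ≤ i + 1 := by
    have h9 : i < u * j := by
      by_contra hlt
      have h10 : w * (u * j) ≤ w * i := Nat.mul_le_mul_left _ (by omega)
      have h11 : w * (u * j) = u * w * j := by ring
      omega
    obtain ⟨e, he⟩ := Nat.exists_eq_add_of_lt h9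
    have h10 : u * w * j = w * i + w * e + w := by
      calc u * w * j = w * (u * j) := by ring
        _ = w * (i + e + 1) := by rw [he]
        _ = w * i + w * e + w := by ring
    omega
  have h9 : (w + 1) * w ≤ A + (w + 1) := by
    calc (w + 1) * w ≤ (w + 1) * (i + 1) := Nat.mul_le_mul_left _ h8
      _ = A + (w + 1) := by rw [hi]; ring
  have h10 := ap_mul_am_le h (TA := w + 1) (TB := am q) (by omega) (by have := am_ge h; omega) h4 dvd_rfl
  have h24 : 24 ≤ w := by rw [hw]; nlinarith only [hu, huc, hc]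
  have h11 : 7 * (c * (c + 1)) ≤ 16 * (w + 1) := by
    rw [hw, hc]
    nlinarith only [hu, huc, hc]
  -- `(w + 1)² ≤ (25 / 23) (A + ...)`
  have h14 : 23 * ((w + 1) * (w + 1)) ≤ 25 * A := by nlinarith only [h9, h24]
  have h12 : 7 * 23 * (q ^ 4 + q ^ 2 + 1) ≤ 600 * (q ^ 3) := by
    calc 7 * 23 * (q ^ 4 + q ^ 2 + 1) ≤ 7 * 23 * (3 * ((w + 1) * am q)) := Nat.mul_le_mul_left _ h10
      _ ≤ 7 * 23 * (3 * ((w + 1) * (c * (c + 1)))) := by gcongr
      _ = 23 * 3 * (7 * (c * (c + 1))) * (w + 1) := by ring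
      _ ≤ 23 * 3 * (16 * (w + 1)) * (w + 1) := by gcongr
      _ = 48 * (23 * ((w + 1) * (w + 1))) := by ring
      _ ≤ 48 * (25 * A) := Nat.mul_le_mul_left _ h14
      _ ≤ 600 * q ^ 3 := by omega
  have h13 : 5 * q ^ 3 ≤ q ^ 4 := by
    calc 5 * q ^ 3 ≤ q * q ^ 3 := Nat.mul_le_mul_right _ h.le
      _ = q ^ 4 := by ring
  (clear * - h12 h13; omega)

theorem le_prod {c l N : ℕ} (hl : 0 < l) (hlc : l ≤ c) (hc : 3 ≤ c) (g : ℕ)
    (h : N ∣ l * (c - 1) ∨ N ∣ l * (c + 1) ∨ N ∣ (c ^ 2 - 1) / g ∨ N ∣ (c ^ 2 + 1) / g)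
    (h1 : 0 < (c ^ 2 - 1) / g) (h2 : 0 < (c ^ 2 + 1) / g) : N ≤ c * (c + 1) := by
  have hcc : c * c = c ^ 2 := by ring
  have hcc' : c * (c + 1) = c ^ 2 + c := by ring
  rcases h with h | h | h | h
  · have h3 := Nat.le_of_dvd (Nat.mul_pos hl (by omega)) h
    have h4 : l * (c - 1) ≤ c * (c + 1) := Nat.mul_le_mul hlc (by omega)
    omega
  · have h3 := Nat.le_of_dvd (Nat.mul_pos hl (by omega)) h
    have h4 : l * (c + 1) ≤ c * (c + 1) := Nat.mul_le_mul hlc le_rfl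
    omega
  · have h3 := Nat.le_of_dvd h1 h
    have h4 := Nat.div_le_self (c ^ 2 - 1) g
    omega
  · have h3 := Nat.le_of_dvd h2 h
    have h4 := Nat.div_le_self (c ^ 2 + 1) g
    omega

set_option maxHeartbeats 800000 in
/-- `PSp₄(v)` -/
theorem psp_two {F : Type*} [Field F] [Fintype F] (h5 : ¬ 5 ∣ Fintype.card F) (h3 : 3 ≤ Fintype.card F)
    (h : E5 q (Cfsg.PSp 2 F)) : False := by
  have hP := pow5 h.pow
  have hq5 := hP.le
  have hA := hP.A
  have hB := hP.B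
  obtain ⟨k, hp, hcard⟩ := FiniteField.card F (ringChar F)
  have hrange := Cfsg.Agent.H374.SpFour.mem_range_iff (F := F) h3
  have key : ∀ m : ℕ, (∃ x : Cfsg.PSp 2 F, orderOf x = m) ↔ Om (ringChar F) (Fintype.card F) m :=
    fun m => hrange m
  have hcardS : ∀ r : ℕ, r.Prime → r ∣ Nat.card (Cfsg.PSp 2 F) → ∃ x : Cfsg.PSp 2 F, orderOf x = r := by
    intro r hr hd
    have := Fact.mk hr
    exact exists_prime_orderOf_dvd_card' r hd
  generalize ringChar F = l at *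
  set c := Fintype.card F with hcdef
  have hk : 0 < (k : ℕ) := k.pos
  have hlc : l ∣ c := by rw [hcard]; exact dvd_pow_self l hk.ne'
  have hl5 : l ≠ 5 := by
    rintro rfl
    exact h5 hlc
  have hle : l ≤ c := Nat.le_of_dvd (by omega) hlc
  have hcc : c * c = c ^ 2 := by ring
  have h9 : 9 ≤ c ^ 2 := by nlinarith only [h3]
  have hsq : c ^ 2 - 1 = (c - 1) * (c + 1) := by
    obtain ⟨e, he⟩ : ∃ e, c = e + 1 := ⟨c - 1, by omega⟩
    rw [he, Nat.add_sub_cancel, show (e + 1) ^ 2 = e * (e + 1 + 1) + 1 by ring, Nat.add_sub_cancel]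
  -- the torus numbers
  obtain ⟨Tm, Tp, hTm, hTp, hT⟩ : ∃ Tm Tp, (c ^ 2 - 1) / Nat.gcd 2 (c - 1) = Tm ∧
      (c ^ 2 + 1) / Nat.gcd 2 (c - 1) = Tp ∧
      ((c % 2 = 1 ∧ c ^ 2 = 2 * Tm + 1 ∧ Tp = Tm + 1) ∨ (c % 2 = 0 ∧ c ^ 2 = Tm + 1 ∧ Tp = Tm + 2)) := by
    refine ⟨_, _, rfl, rfl, ?_⟩
    rcases Nat.even_or_odd c with he | ho
    · right
      rw [Cfsg.Agent.H374.Quad.gcd_of_even he (by omega), Nat.div_one, Nat.div_one]
      rw [Nat.even_iff] at he
      exact ⟨he, by omega, by omega⟩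
    · left
      rw [Cfsg.Agent.H374.Quad.gcd_of_odd ho]
      rw [Nat.odd_iff] at ho
      have h6 : c ^ 2 % 2 = 1 := by rw [Nat.pow_mod, ho]
      refine ⟨ho, ?_, ?_⟩ <;> (clear * - h6; omega)
  have hTm0 : 0 < Tm := by omega
  have hTp0 : 0 < Tp := by omega
  have key' : ∀ m : ℕ, (∃ x : Cfsg.PSp 2 F, orderOf x = m) ↔ (m ∣ l * (c - 1) ∨ m ∣ l * (c + 1) ∨ m ∣ Tm ∨
      m ∣ Tp ∨ (l = 3 ∧ m ∣ 9) ∨ (l = 2 ∧ m ∣ 4)) := by
    intro m
    rw [key m, Om, hTm, hTp]
  have h1u : Ub q (l * (c - 1)) := h.ub' ((key' _).2 (Or.inl dvd_rfl))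
  have h2u : Ub q (l * (c + 1)) := h.ub' ((key' _).2 (Or.inr (Or.inl dvd_rfl)))
  have hTmu : Ub q Tm := h.ub' ((key' _).2 (Or.inr (Or.inr (Or.inl dvd_rfl))))
  have hTpu : Ub q Tp := h.ub' ((key' _).2 (Or.inr (Or.inr (Or.inr (Or.inl dvd_rfl)))))
  have hTmd : Tm ∣ (c - 1) * (c + 1) := by
    rw [← hsq]
    rcases hT with ⟨-, h6, -⟩ | ⟨-, h6, -⟩
    · exact ⟨2, by omega⟩
    · exact ⟨1, by omega⟩
  -- an odd divisor of `c² - 1` divides `Tm`
  have hodd : ∀ N : ℕ, Nat.Coprime 2 N → N ∣ (c - 1) * (c + 1) → N ∣ Tm := by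
    intro N hN hd
    rw [← hsq] at hd
    rcases hT with ⟨-, h6, -⟩ | ⟨-, h6, -⟩
    · rw [show c ^ 2 - 1 = Tm * 2 by (clear * - h6; omega)] at hd
      exact hN.symm.dvd_of_dvd_mul_right hd
    · rwa [show c ^ 2 - 1 = Tm by omega] at hd
  rcases h.five with ⟨hap, ham, -⟩ | h25
  · have hap' := (key' _).1 hap
    have ham' := (key' _).1 ham
    have hap2 : ap q ∣ l * (c - 1) ∨ ap q ∣ l * (c + 1) ∨ ap q ∣ Tm ∨ ap q ∣ Tp := by
      rcases hap' with h6 | h6 | h6 | h6 | ⟨-, h6⟩ | ⟨-, h6⟩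
      · exact Or.inl h6
      · exact Or.inr (Or.inl h6)
      · exact Or.inr (Or.inr (Or.inl h6))
      · exact Or.inr (Or.inr (Or.inr h6))
      · have := Nat.le_of_dvd (by norm_num) h6
        have := ap_ge hP
        omega
      · have := Nat.le_of_dvd (by norm_num) h6
        have := ap_ge hP
        omega
    have ham2 : am q ∣ l * (c - 1) ∨ am q ∣ l * (c + 1) ∨ am q ∣ Tm ∨ am q ∣ Tp := by
      rcases ham' with h6 | h6 | h6 | h6 | ⟨-, h6⟩ | ⟨-, h6⟩
      · exact Or.inl h6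
      · exact Or.inr (Or.inl h6)
      · exact Or.inr (Or.inr (Or.inl h6))
      · exact Or.inr (Or.inr (Or.inr h6))
      · exfalso
        obtain ⟨s, hs, hsa⟩ := exists_am hP
        have h7 : s ∣ 3 ^ 2 := hsa.trans h6
        exact (am_ne (by omega) hs hsa).2.1 ((Nat.prime_dvd_prime_iff_eq hs Nat.prime_three).1
          (hs.dvd_of_dvd_pow h7))
      · have := Nat.le_of_dvd (by norm_num) h6
        have := am_ge hP
        omega
    have hapB : ap q ≤ c * (c + 1) :=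
      le_prod (N := ap q) hp.pos hle h3 (Nat.gcd 2 (c - 1)) (by rw [hTm, hTp]; exact hap2)
        (by rw [hTm]; exact hTm0) (by rw [hTp]; exact hTp0)
    have hamB : am q ≤ c * (c + 1) :=
      le_prod (N := am q) hp.pos hle h3 (Nat.gcd 2 (c - 1)) (by rw [hTm, hTp]; exact ham2)
        (by rw [hTm]; exact hTm0) (by rw [hTp]; exact hTp0)
    by_cases hla : l ∣ ap q
    · -- the characteristic divides `ap`
      have h1A := dvd_A hP hp hla (dvd_mul_right l (c - 1)) h1u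
      have h2A := dvd_A hP hp hla (dvd_mul_right l (c + 1)) h2u
      obtain ⟨s, hs, hsa⟩ := exists_am hP
      have hno := not_dvd_A_of hP hs hsa
      have hl := ap_ne (q := q) (by omega) hp hla
      have hl7 : 7 ≤ l := by
        by_contra hlt
        have h6 : l < 7 := by omega
        have h7 := hp.two_le
        interval_cases l <;> first | (clear * - hap ham hl h5 hcard hlc; omega) | (exact absurd hp (by norm_num))
      have hc2 : c % 2 = 1 := by
        rcases Nat.mod_two_eq_zero_or_one c with h6 | h6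
        · exfalso
          have h7 : 2 ∣ l ^ (k : ℕ) := by rw [← hcard]; omega
          exact hl.1 ((Nat.prime_dvd_prime_iff_eq Nat.prime_two hp).1 (Nat.prime_two.dvd_of_dvd_pow h7)).symm
        · exact h6
      obtain ⟨-, h6, h7⟩ : c % 2 = 1 ∧ c ^ 2 = 2 * Tm + 1 ∧ Tp = Tm + 1 := by
        rcases hT with h6 | h6
        · exact h6
        · omega
      obtain ⟨a, ha⟩ : ∃ a, c = 2 * a + 1 := ⟨c / 2, by omega⟩
      have hTp' : Tp = 2 * a * (a + 1) + 1 := by
        have h8 : c ^ 2 = 2 * (2 * a * (a + 1)) + 1 := by rw [ha]; ring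
        omega
      have hamT : am q ∣ Tp := by
        rcases ham2 with h8 | h8 | h8 | h8
        · exact absurd ((hsa.trans h8).trans h1A) hno
        · exact absurd ((hsa.trans h8).trans h2A) hno
        · exfalso
          rcases hs.dvd_mul.1 ((hsa.trans h8).trans hTmd) with h10 | h10
          · exact hno ((h10.mul_left l).trans h1A)
          · exact hno ((h10.mul_left l).trans h2A)
        · exact h8
      refine num_sp_ap hP hl7 hle ha ?_ ?_ ?_ ?_ hapB
      · rw [show 2 * a = c - 1 by (clear * - ha; omega)]; exact h1A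
      · rw [show 2 * (a + 1) = c + 1 by (clear * - ha; omega)]; exact h2A
      · rw [← hTp']; exact dvd_B' hP hamT hTpu
      · rw [← hTp']; exact hamT
    · by_cases hlm : l ∣ am q
      · have h1B := dvd_B hP hp hlm (dvd_mul_right l (c - 1)) h1u
        have h2B := dvd_B hP hp hlm (dvd_mul_right l (c + 1)) h2u
        obtain ⟨s, hs, hsa⟩ := exists_ap hP
        have hno := not_dvd_B_of hP hs hsa
        have hl := am_ne (q := q) (by omega) hp hlm
        have hl7 : 7 ≤ l := by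
          by_contra hlt
          have h6 : l < 7 := by omega
          have h7 := hp.two_le
          interval_cases l <;> first | (clear * - hap ham hl h5 hcard hlc; omega) | (exact absurd hp (by norm_num))
        have hc2 : c % 2 = 1 := by
          rcases Nat.mod_two_eq_zero_or_one c with h6 | h6
          · exfalso
            have h7 : 2 ∣ l ^ (k : ℕ) := by rw [← hcard]; omega
            exact hl.1 ((Nat.prime_dvd_prime_iff_eq Nat.prime_two hp).1 (Nat.prime_two.dvd_of_dvd_pow h7)).symm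
          · exact h6
        obtain ⟨-, h6, h7⟩ : c % 2 = 1 ∧ c ^ 2 = 2 * Tm + 1 ∧ Tp = Tm + 1 := by
          rcases hT with h6 | h6
          · exact h6
          · omega
        obtain ⟨a, ha⟩ : ∃ a, c = 2 * a + 1 := ⟨c / 2, by omega⟩
        have hTp' : Tp = 2 * a * (a + 1) + 1 := by
          have h8 : c ^ 2 = 2 * (2 * a * (a + 1)) + 1 := by rw [ha]; ring
          omega
        have hapT : ap q ∣ Tp := by
          rcases hap2 with h8 | h8 | h8 | h8
          · exact absurd ((hsa.trans h8).trans h1B) hno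
          · exact absurd ((hsa.trans h8).trans h2B) hno
          · exfalso
            rcases hs.dvd_mul.1 ((hsa.trans h8).trans hTmd) with h10 | h10
            · exact hno ((h10.mul_left l).trans h1B)
            · exact hno ((h10.mul_left l).trans h2B)
          · exact h8
        refine num_sp_am hP hl7 hle ha ?_ ?_ ?_ ?_ hamB
        · rw [show 2 * a = c - 1 by (clear * - ha; omega)]; exact h1B
        · rw [show 2 * (a + 1) = c + 1 by (clear * - ha; omega)]; exact h2B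
        · rw [← hTp']; exact dvd_A' hP hapT hTpu
        · rw [← hTp']; exact hapT
      · -- the characteristic divides neither
        have hca := ((Nat.Prime.coprime_iff_not_dvd hp).2 hla).symm
        have hcm := ((Nat.Prime.coprime_iff_not_dvd hp).2 hlm).symm
        have h6 : ap q ∣ Tm ∨ ap q ∣ Tp := by
          rcases hap2 with h6 | h6 | h6 | h6
          · exact Or.inl (hodd _ (ap_odd (by omega)) ((hca.dvd_of_dvd_mul_left h6).mul_right _))
          · exact Or.inl (hodd _ (ap_odd (by omega)) ((hca.dvd_of_dvd_mul_left h6).mul_left _))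
          · exact Or.inl h6
          · exact Or.inr h6
        have h7 : am q ∣ Tm ∨ am q ∣ Tp := by
          rcases ham2 with h6 | h6 | h6 | h6
          · exact Or.inl (hodd _ (am_odd (by omega)) ((hcm.dvd_of_dvd_mul_left h6).mul_right _))
          · exact Or.inl (hodd _ (am_odd (by omega)) ((hcm.dvd_of_dvd_mul_left h6).mul_left _))
          · exact Or.inl h6
          · exact Or.inr h6
        rcases h6 with h6 | h6 <;> rcases h7 with h7 | h7
        · exact not_both hP h6 h7 hTmu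
        · have h8 := near hP (dvd_A' hP h6 hTmu) (dvd_B' hP h7 hTpu) h6 h7 (by (clear * - hT; omega)) (by (clear * - hT; omega))
          refine h5 ?_
          have h10 : c ^ 2 = q ^ 3 := by
            rcases hT with h10 | h10
            · (clear * - hA hB hap ham h8 h10; omega)
            · exfalso; omega
          have h11 : 5 ∣ c ^ 2 := by
            rw [h10]
            exact hP.dvd.trans (dvd_pow_self q (by norm_num))
          exact (by norm_num : Nat.Prime 5).dvd_of_dvd_pow h11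
        · have h8 := near hP (dvd_A' hP h6 hTpu) (dvd_B' hP h7 hTmu) h6 h7 (by (clear * - hT; omega)) (by (clear * - hT; omega))
          (clear * - hT h8; omega)
        · exact not_both hP h6 h7 hTpu
  · have h25' := (key' _).1 h25
    have hcop : Nat.Coprime 25 l := by
      have h6 : Nat.Coprime 5 l := (Nat.coprime_primes (by norm_num) hp).2 (Ne.symm hl5)
      exact Nat.Coprime.pow_left 2 h6
    have hbd : ∀ n : ℕ, 7 < n → 50 < n ^ 2 := by
      intro n hn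
      nlinarith only [hn]
    have hTm25 : 25 ∣ Tm → False := by
      intro h6
      have h7 := eq_25 hP h6 hTmu
      have h8 : c ≤ 7 ∨ c = 8 := by
        by_contra hlt
        have : 80 < c ^ 2 := by nlinarith only [show 9 ≤ c by omega]
        (clear * - hT h7 this; omega)
      have h10 : c ≤ 8 := by omega
      interval_cases c <;> (clear * - h7 hT h25 h5; omega)
    rcases h25' with h6 | h6 | h6 | h6 | ⟨-, h6⟩ | ⟨-, h6⟩
    · exact hTm25 (hodd 25 (by norm_num) ((hcop.dvd_of_dvd_mul_left h6).mul_right _))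
    · exact hTm25 (hodd 25 (by norm_num) ((hcop.dvd_of_dvd_mul_left h6).mul_left _))
    · exact hTm25 h6
    · have h7 := eq_25 hP h6 hTpu
      have h8 : c ≤ 7 := by
        by_contra hlt
        have := hbd c (by omega)
        (clear * - hT h7 this; omega)
      have hc7 : c = 7 := by
        have h10 : c ^ 2 = 49 ∨ c ^ 2 = 24 := by (clear * - hT h7; omega)
        rcases h10 with h10 | h10
        · nlinarith only [h10]
        · exfalso
          interval_cases c <;> omega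
      have hl7 : l = 7 := by
        rcases (Nat.dvd_prime (by norm_num : Nat.Prime 7)).1 (hc7 ▸ hlc) with h10 | h10
        · exact absurd h10 hp.one_lt.ne'
        · exact h10
      have hTm24 : Tm = 24 := by
        rw [hc7] at hT
        omega
      refine no_small h fun r hr hd => ?_
      rcases (key' r).1 (hcardS r hr hd) with h13 | h13 | h13 | h13 | ⟨h13, -⟩ | ⟨h13, -⟩
      · rw [hl7, hc7] at h13
        exact h13.trans (by norm_num)
      · rw [hl7, hc7] at h13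
        have h14 : r ∣ 14 ^ 3 := h13.trans (by norm_num)
        exact (hr.dvd_of_dvd_pow h14).trans (by norm_num)
      · rw [hTm24] at h13
        have h14 : r ∣ 6 ^ 3 := h13.trans (by norm_num)
        exact (hr.dvd_of_dvd_pow h14).trans (by norm_num)
      · rw [h7] at h13
        have h14 : r ∣ 5 ^ 2 := h13.trans (by norm_num)
        exact (hr.dvd_of_dvd_pow h14).trans (by norm_num)
      · omega
      · omega
    · omega
    · omega

end Cfsg.Agent.H60.Six5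
end

-- part: H60/SixSzRee
section
/-!
# BLOCK 6, `q = 5 ^ m`: the simple section is not a Suzuki or Ree group (helper60, task of helper376)
-/

set_option autoImplicit false

namespace Cfsg.Agent.H60.Six5

open Cfsg.Agent.H376.Six

universe u

variable {q : ℕ}

/-! ## numbers -/

theorem odd_cases (h : Pow5 q) {TA TB : ℕ} (hA : TA % 2 = 1) (hB : TB % 2 = 1) (h1 : ap q ∣ TA) (h2 : am q ∣ TB) :
    (TA = ap q ∧ TB = am q) ∨ q ^ 4 + q ^ 2 + 1 ≤ TA * TB := by
  rw [← ap_mul_am (by have := h.le; omega) h.three]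
  obtain ⟨i, hi⟩ := h1
  obtain ⟨j, hj⟩ := h2
  have hi2 : i % 2 = 1 := by
    rcases Nat.mod_two_eq_zero_or_one i with h3 | h3
    · rw [hi, Nat.mul_mod, h3] at hA; simp at hA
    · exact h3
  have hj2 : j % 2 = 1 := by
    rcases Nat.mod_two_eq_zero_or_one j with h3 | h3
    · rw [hj, Nat.mul_mod, h3] at hB; simp at hB
    · exact h3
  by_cases h3 : i = 1 ∧ j = 1
  · left
    rw [hi, hj, h3.1, h3.2, mul_one, mul_one]
    exact ⟨rfl, rfl⟩
  · right
    have h4 : 3 ≤ i * j := by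
      rcases Nat.lt_or_ge i 2 with h5 | h5
      · have h6 : i = 1 := by omega
        have h7 : j ≠ 1 := fun h8 => h3 ⟨h6, h8⟩
        rw [h6, one_mul]
        omega
      · calc 3 ≤ i * 1 := by omega
          _ ≤ i * j := Nat.mul_le_mul_left _ (by omega)
    calc 3 * (ap q * am q) ≤ i * j * (ap q * am q) := Nat.mul_le_mul_right _ h4
      _ = TA * TB := by rw [hi, hj]; ring

/-- the two numbers are far from each other -/
theorem gap (h : Pow5 q) {D : ℕ} (h1 : ap q ≤ am q + D) (h2 : am q ≤ ap q + D) : 3 * q ^ 2 ≤ 5 * D := by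
  have h5 := h.le
  rcases ap_am_cases h with ⟨h3, h4⟩ | ⟨h25, h3, h4⟩
  · omega
  · have h6 : 25 * q ≤ q ^ 2 := by nlinarith only [h25]
    omega

theorem sz_big {s N : ℕ} (h : Pow5 q) (h1 : q ^ 4 + q ^ 2 + 1 ≤ N)
    (h2 : 2 * N ≤ (2 * s + 2) * (q ^ 3 + 1) + 2 * (2 * s ^ 2 + 2 * s + 1))
    (h3 : 4 * s ^ 4 + 2 * s ≤ N + 4 * s ^ 3 + 1) : False := by
  have h5 := h.le
  rcases Nat.lt_or_ge (3 * q) (4 * s) with h4 | h4
  · -- `s` large
    have h6 : 27 * q ^ 3 ≤ (4 * s - 1) ^ 3 := by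
      calc 27 * q ^ 3 = (3 * q) ^ 3 := by ring
        _ ≤ (4 * s - 1) ^ 3 := Nat.pow_le_pow_left (by omega) 3
    obtain ⟨w, hw⟩ : ∃ w, s = w + 4 := ⟨s - 4, by omega⟩
    have h7 : (4 * s - 1) ^ 3 = (4 * w + 15) ^ 3 := by rw [show 4 * s - 1 = 4 * w + 15 by omega]
    rw [h7] at h6
    have h8 : 27 * (2 * (4 * s ^ 4 + 2 * s)) ≤ 27 * (2 * (4 * s ^ 3 + 1)) + ((2 * s + 2) * ((4 * w + 15) ^ 3 + 27) +
        27 * (2 * (2 * s ^ 2 + 2 * s + 1))) := by
      have h9 : (2 * s + 2) * (27 * (q ^ 3 + 1)) ≤ (2 * s + 2) * ((4 * w + 15) ^ 3 + 27) :=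
        Nat.mul_le_mul_left _ (by omega)
      have h10 : 27 * ((2 * s + 2) * (q ^ 3 + 1)) = (2 * s + 2) * (27 * (q ^ 3 + 1)) := by ring
      omega
    rw [hw] at h8
    ring_nf at h8
    linarith only [h8, pow_nonneg (Nat.zero_le w) 3, pow_nonneg (Nat.zero_le w) 4, _root_.sq_nonneg (↑w : ℤ), _root_.Nat.cast_nonneg (α := ℤ) (w)]
  · -- `s` small
    obtain ⟨w, hw⟩ : ∃ w, q = w + 5 := ⟨q - 5, by omega⟩
    have h6 : 4 * (q ^ 4 + q ^ 2 + 1) ≤ (4 * s + 4) * (q ^ 3 + 1) + 4 * (2 * s ^ 2 + 2 * s + 1) := by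
      have : 2 * ((2 * s + 2) * (q ^ 3 + 1)) = (4 * s + 4) * (q ^ 3 + 1) := by ring
      omega
    have h7 : (4 * s + 4) * (q ^ 3 + 1) ≤ (3 * q + 4) * (q ^ 3 + 1) := Nat.mul_le_mul_right _ (by omega)
    have h8 : 16 * s ^ 2 ≤ 9 * q ^ 2 := by
      calc 16 * s ^ 2 = (4 * s) ^ 2 := by ring
        _ ≤ (3 * q) ^ 2 := Nat.pow_le_pow_left h4 2
        _ = 9 * q ^ 2 := by ring
    have h9 : 8 * (q ^ 4 + q ^ 2 + 1) ≤ 2 * ((3 * q + 4) * (q ^ 3 + 1)) + (9 * q ^ 2 + 12 * q + 8) := by (clear * - h4 h6 h7 h8; solve | lia | omega)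
    rw [hw] at h9
    ring_nf at h9
    linarith only [h9, pow_nonneg (Nat.zero_le w) 3, pow_nonneg (Nat.zero_le w) 4, _root_.sq_nonneg (↑w : ℤ), _root_.Nat.cast_nonneg (α := ℤ) (w)]

/-- the pairs `{v - 1, v + 1 ± r}` -/
theorem sz_num {s TA TB : ℕ} (h : Pow5 q) (hs : 2 ≤ s) (hTA : TA ∣ (q ^ 3 - 1) / 2) (hTB : TB ∣ (q ^ 3 + 1) / 2)
    (h1 : ap q ∣ TA) (h2 : am q ∣ TB)
    (hc : (TA + 1 = 2 * s ^ 2 ∧ (TB = 2 * s ^ 2 + 2 * s + 1 ∨ TB + 2 * s = 2 * s ^ 2 + 1)) ∨
      (TB + 1 = 2 * s ^ 2 ∧ (TA = 2 * s ^ 2 + 2 * s + 1 ∨ TA + 2 * s = 2 * s ^ 2 + 1))) : False := by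
  have hA := h.A
  have hB := h.B
  have hA0 := h.A_pos
  have hss : 2 * s ≤ s ^ 2 := by nlinarith only [hs]
  have hev : (2 * s ^ 2) % 2 = 0 := by omega
  have hTA1 : 1 < TA := by
    have := Nat.le_of_dvd (Nat.pos_of_dvd_of_pos hTA hA0) h1
    have := ap_ge h
    omega
  -- the upper bound
  have hub : 2 * (TA * TB) ≤ (2 * s + 2) * (q ^ 3 + 1) + 2 * (2 * s ^ 2 + 2 * s + 1) := by
    have hq3 : 2 * ((q ^ 3 + 1) / 2) = q ^ 3 + 1 := by omega
    have hgen : ∀ D, D ≤ 2 * s + 2 → (TB = TA + D ∨ TA = TB + D) → D ≠ 1 → TA ≤ 2 * s ^ 2 + 2 * s + 1 →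
        2 * (TA * TB) ≤ (2 * s + 2) * (q ^ 3 + 1) + 2 * (2 * s ^ 2 + 2 * s + 1) := by
      intro D hD hcase hD1 hle
      have hDB : D * (q ^ 3 + 1) ≤ (2 * s + 2) * (q ^ 3 + 1) := Nat.mul_le_mul_right _ hD
      have hDB2 : 2 * (D * ((q ^ 3 + 1) / 2)) = D * (q ^ 3 + 1) := by
        calc 2 * (D * ((q ^ 3 + 1) / 2)) = D * (2 * ((q ^ 3 + 1) / 2)) := by ring
          _ = D * (q ^ 3 + 1) := by rw [hq3]
      have hDA : D * ((q ^ 3 - 1) / 2) ≤ D * ((q ^ 3 + 1) / 2) := Nat.mul_le_mul_left _ (by omega)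
      rcases hcase with h3 | h3
      · rcases size_up hB hTA hTA1 hTB h3 with h4 | h4
        · exact absurd h4.1 hD1
        · (clear * - hDB hDB2 h4; omega)
      · have h4 := size_down hB hTA hTB h3
        omega
    rcases hc with ⟨h3, h4 | h4⟩ | ⟨h3, h4 | h4⟩
    · exact hgen (2 * s + 2) le_rfl (Or.inl (by (clear * - h3 h4; omega))) (by omega) (by omega)
    · exact hgen (2 * s - 2) (by omega) (Or.inr (by (clear * - hs h3 h4; omega))) (by omega) (by omega)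
    · exact hgen (2 * s + 2) le_rfl (Or.inr (by (clear * - h3 h4; omega))) (by omega) (by omega)
    · exact hgen (2 * s - 2) (by omega) (Or.inl (by omega)) (by omega) (by omega)
  rcases odd_cases h (by (clear * - hc; omega)) (by (clear * - hc; omega)) h1 h2 with ⟨h3, h4⟩ | h3
  · -- equality
    have h5 := gap h (D := 2 * s + 2) (by (clear * - hc h3 h4; omega)) (by (clear * - hc h3 h4; omega))
    have h6 : 2 * s ^ 2 ≤ q ^ 2 + q + 2 := by
      have h7 := Nat.le_of_dvd (by (clear * -; positivity)) (ap_dvd (q := q) (by have := h.le; omega))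
      have h8 := Nat.le_of_dvd (by positivity) (am_dvd (q := q) (by have := h.le; omega))
      have h9 : q ^ 2 - q + 1 ≤ q ^ 2 + q + 1 := by omega
      (clear * - hc h3 h4 h7 h8; omega)
    have h7 := h.le
    have h8 : 5 * q ≤ q ^ 2 := by nlinarith only [h7]
    have h9 : 13 * q ≤ 10 * s := by (clear * - h5 h7 h8; omega)
    have h10 : 169 * q ^ 2 ≤ 100 * s ^ 2 := by
      calc 169 * q ^ 2 = (13 * q) ^ 2 := by ring
        _ ≤ (10 * s) ^ 2 := Nat.pow_le_pow_left h9 2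
        _ = 100 * s ^ 2 := by ring
    (clear * - h6 h7 h8 h10; omega)
  · refine sz_big (s := s) (N := TA * TB) h h3 hub ?_
    have h4 : 4 * s ^ 4 + 2 * s = 2 * s ^ 2 * (2 * s ^ 2 + 1) - 2 * s ^ 2 + 2 * s := by
      have : 2 * s ^ 2 * (2 * s ^ 2 + 1) = 4 * s ^ 4 + 2 * s ^ 2 := by ring
      (clear * - this; omega)
    rcases hc with ⟨h5, h6 | h6⟩ | ⟨h5, h6 | h6⟩
    · zify at h5 h6 ⊢
      have h7 : (TA : ℤ) = 2 * s ^ 2 - 1 := by linarith only [h5]
      rw [h7, h6]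
      have : (0 : ℤ) ≤ s ^ 3 := by positivity
      have h8 : (2 : ℤ) ≤ s := by exact_mod_cast hs
      nlinarith only [hs, hss]
    · zify at h5 h6 ⊢
      have h7 : (TA : ℤ) = 2 * s ^ 2 - 1 := by linarith only [h5]
      have h8 : (TB : ℤ) = 2 * s ^ 2 + 1 - 2 * s := by linarith only [h6]
      rw [h7, h8]
      linarith only []
    · zify at h5 h6 ⊢
      have h7 : (TB : ℤ) = 2 * s ^ 2 - 1 := by linarith only [h5]
      rw [h7, h6]
      have : (0 : ℤ) ≤ s ^ 3 := by positivity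
      have h8 : (2 : ℤ) ≤ s := by exact_mod_cast hs
      nlinarith only [hs, hss]
    · zify at h5 h6 ⊢
      have h7 : (TB : ℤ) = 2 * s ^ 2 - 1 := by linarith only [h5]
      have h8 : (TA : ℤ) = 2 * s ^ 2 + 1 - 2 * s := by linarith only [h6]
      rw [h7, h8]
      linarith only []

/-- the even case -/
theorem even_cases (h : Pow5 q) {TA TB : ℕ} (hA : TA % 2 = 0) (hA0 : 0 < TA) (hB : TB % 2 = 1) (h1 : ap q ∣ TA)
    (h2 : am q ∣ TB) : (TA = 2 * ap q ∧ TB = am q) ∨ 4 * (q ^ 4 + q ^ 2 + 1) ≤ 3 * (TA * TB) := by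
  rw [← ap_mul_am (by have := h.le; omega) h.three]
  have hodd := ap_odd (q := q) (by have := h.le; omega)
  obtain ⟨i, hi⟩ := h1
  obtain ⟨j, hj⟩ := h2
  have hi2 : i % 2 = 0 := by
    have h3 : 2 ∣ ap q * i := by rw [← hi]; omega
    have := hodd.dvd_of_dvd_mul_left h3
    omega
  have hj2 : j % 2 = 1 := by
    rcases Nat.mod_two_eq_zero_or_one j with h3 | h3
    · rw [hj, Nat.mul_mod, h3] at hB; simp at hB
    · exact h3
  have hi0 : 0 < i := by
    rcases Nat.eq_zero_or_pos i with h0 | h0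
    · rw [h0, mul_zero] at hi; omega
    · exact h0
  by_cases h3 : i = 2 ∧ j = 1
  · left
    rw [hi, hj, h3.1, h3.2, mul_one]
    exact ⟨by ring, rfl⟩
  · right
    have h4 : 4 ≤ i * j := by
      rcases Nat.lt_or_ge i 3 with h5 | h5
      · have h6 : i = 2 := by omega
        have h7 : j ≠ 1 := fun h8 => h3 ⟨h6, h8⟩
        rw [h6]
        omega
      · calc 4 ≤ i * 1 := by omega
          _ ≤ i * j := Nat.mul_le_mul_left _ (by omega)
    calc 4 * (3 * (ap q * am q)) = 3 * (4 * (ap q * am q)) := by ring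
      _ ≤ 3 * (i * j * (ap q * am q)) := Nat.mul_le_mul_left _ (Nat.mul_le_mul_right _ h4)
      _ = 3 * (TA * TB) := by rw [hi, hj]; ring

theorem seven_cases (h : Pow5 q) {TA TB : ℕ} (hA : ∀ i, i ∣ TA → i = 1 ∨ 7 ≤ i) (hB : ∀ i, i ∣ TB → i = 1 ∨ 7 ≤ i)
    (h1 : ap q ∣ TA) (h2 : am q ∣ TB) :
    (TA = ap q ∧ TB = am q) ∨ 7 * (q ^ 4 + q ^ 2 + 1) ≤ 3 * (TA * TB) := by
  rw [← ap_mul_am (by have := h.le; omega) h.three]
  obtain ⟨i, hi⟩ := h1
  obtain ⟨j, hj⟩ := h2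
  have hi2 := hA i (hi ▸ Dvd.intro_left _ rfl)
  have hj2 := hB j (hj ▸ Dvd.intro_left _ rfl)
  by_cases h3 : i = 1 ∧ j = 1
  · left
    rw [hi, hj, h3.1, h3.2, mul_one, mul_one]
    exact ⟨rfl, rfl⟩
  · right
    have h4 : 7 ≤ i * j := by
      rcases hi2 with h5 | h5
      · have h7 : j ≠ 1 := fun h8 => h3 ⟨h5, h8⟩
        rw [h5, one_mul]
        omega
      · calc 7 ≤ i * 1 := by omega
          _ ≤ i * j := Nat.mul_le_mul_left _ (by omega)
    calc 7 * (3 * (ap q * am q)) = 3 * (7 * (ap q * am q)) := by ring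
      _ ≤ 3 * (i * j * (ap q * am q)) := Nat.mul_le_mul_left _ (Nat.mul_le_mul_right _ h4)
      _ = 3 * (TA * TB) := by rw [hi, hj]; ring

theorem ree_big1 {s N : ℕ} (h : Pow5 q) (h1 : 7 * (q ^ 4 + q ^ 2 + 1) ≤ 3 * N)
    (h2 : 2 * N ≤ 6 * s * (q ^ 3 + 1) + 2 * (3 * s ^ 2 + 3 * s + 1)) (h3 : 9 * s ^ 4 + 1 ≤ N + 3 * s ^ 2) : False := by
  have h5 := h.le
  rcases Nat.lt_or_ge (11 * q) (15 * s) with h4 | h4
  · have h6 : 1331 * q ^ 3 ≤ (15 * s - 1) ^ 3 := by
      calc 1331 * q ^ 3 = (11 * q) ^ 3 := by ring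
        _ ≤ (15 * s - 1) ^ 3 := Nat.pow_le_pow_left (by omega) 3
    obtain ⟨w, hw⟩ : ∃ w, s = w + 4 := ⟨s - 4, by omega⟩
    rw [show 15 * s - 1 = 15 * w + 59 by omega] at h6
    have h8 : 1331 * (9 * s ^ 4 + 1) ≤ 1331 * (3 * s ^ 2) + (3 * s * ((15 * w + 59) ^ 3 + 1331) +
        1331 * (3 * s ^ 2 + 3 * s + 1)) := by
      have h9 : 3 * s * (1331 * (q ^ 3 + 1)) ≤ 3 * s * ((15 * w + 59) ^ 3 + 1331) :=
        Nat.mul_le_mul_left _ (by omega)
      have h10 : 1331 * (6 * s * (q ^ 3 + 1)) = 2 * (3 * s * (1331 * (q ^ 3 + 1))) := by ring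
      (clear * - h2 h3 h9 h10; solve | lia | omega)
    rw [hw] at h8
    ring_nf at h8
    linarith only [h8, pow_nonneg (Nat.zero_le w) 3, pow_nonneg (Nat.zero_le w) 4, _root_.sq_nonneg (↑w : ℤ), _root_.Nat.cast_nonneg (α := ℤ) (w)]
  · obtain ⟨w, hw⟩ : ∃ w, q = w + 5 := ⟨q - 5, by omega⟩
    have h7 : 15 * s * (q ^ 3 + 1) ≤ 11 * q * (q ^ 3 + 1) := Nat.mul_le_mul_right _ h4
    have h8 : 225 * s ^ 2 ≤ 121 * q ^ 2 := by
      calc 225 * s ^ 2 = (15 * s) ^ 2 := by ring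
        _ ≤ (11 * q) ^ 2 := Nat.pow_le_pow_left h4 2
        _ = 121 * q ^ 2 := by ring
    have h10 : 6 * s * (q ^ 3 + 1) * 5 = 2 * (15 * s * (q ^ 3 + 1)) := by ring
    have h9 : 350 * (q ^ 4 + q ^ 2 + 1) ≤ 30 * (11 * q * (q ^ 3 + 1)) + (242 * q ^ 2 + 330 * q + 150) := by
      have h11 : 14 * (q ^ 4 + q ^ 2 + 1) ≤ 3 * (6 * s * (q ^ 3 + 1) + 2 * (3 * s ^ 2 + 3 * s + 1)) := by (clear * - h1 h2; omega)
      have h12 : 70 * (q ^ 4 + q ^ 2 + 1) ≤ 6 * (15 * s * (q ^ 3 + 1)) + 30 * (3 * s ^ 2 + 3 * s + 1) := by omega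
      (clear * - h4 h7 h8 h10 h11; solve | lia | omega)
    rw [hw] at h9
    ring_nf at h9
    linarith only [h9, pow_nonneg (Nat.zero_le w) 3, pow_nonneg (Nat.zero_le w) 4, _root_.sq_nonneg (↑w : ℤ), _root_.Nat.cast_nonneg (α := ℤ) (w)]

theorem ree_big2 {s N : ℕ} (h : Pow5 q) (h1 : 4 * (q ^ 4 + q ^ 2 + 1) ≤ 3 * N)
    (h2 : 2 * N ≤ 3 * s * (q ^ 3 + 1) + 2 * (3 * s ^ 2 + 3 * s + 1))
    (h3 : 9 * s ^ 4 + 6 * s ^ 2 + 1 ≤ 2 * N + 9 * s ^ 3 + 3 * s) : False := by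
  have h5 := h.le
  rcases Nat.lt_or_ge (5 * q) (6 * s) with h4 | h4
  · have h6 : 125 * q ^ 3 ≤ (6 * s - 1) ^ 3 := by
      calc 125 * q ^ 3 = (5 * q) ^ 3 := by ring
        _ ≤ (6 * s - 1) ^ 3 := Nat.pow_le_pow_left (by omega) 3
    obtain ⟨w, hw⟩ : ∃ w, s = w + 5 := ⟨s - 5, by omega⟩
    rw [show 6 * s - 1 = 6 * w + 29 by omega] at h6
    have h8 : 125 * (9 * s ^ 4 + 6 * s ^ 2 + 1) ≤ 125 * (9 * s ^ 3 + 3 * s) + (3 * s * ((6 * w + 29) ^ 3 + 125) +
        250 * (3 * s ^ 2 + 3 * s + 1)) := by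
      have h9 : 3 * s * (125 * (q ^ 3 + 1)) ≤ 3 * s * ((6 * w + 29) ^ 3 + 125) :=
        Nat.mul_le_mul_left _ (by omega)
      have h10 : 125 * (3 * s * (q ^ 3 + 1)) = 3 * s * (125 * (q ^ 3 + 1)) := by ring
      (clear * - h2 h3 h9 h10; solve | lia | omega)
    rw [hw] at h8
    ring_nf at h8
    linarith only [h8, pow_nonneg (Nat.zero_le w) 3, pow_nonneg (Nat.zero_le w) 4, _root_.sq_nonneg (↑w : ℤ), _root_.Nat.cast_nonneg (α := ℤ) (w)]
  · obtain ⟨w, hw⟩ : ∃ w, q = w + 5 := ⟨q - 5, by omega⟩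
    have h7 : 6 * s * (q ^ 3 + 1) ≤ 5 * q * (q ^ 3 + 1) := Nat.mul_le_mul_right _ h4
    have h8 : 36 * s ^ 2 ≤ 25 * q ^ 2 := by
      calc 36 * s ^ 2 = (6 * s) ^ 2 := by ring
        _ ≤ (5 * q) ^ 2 := Nat.pow_le_pow_left h4 2
        _ = 25 * q ^ 2 := by ring
    have h10 : 2 * (3 * s * (q ^ 3 + 1)) = 6 * s * (q ^ 3 + 1) := by ring
    have h9 : 16 * (q ^ 4 + q ^ 2 + 1) ≤ 3 * (5 * q * (q ^ 3 + 1)) + (25 * q ^ 2 + 30 * q + 12) := by (clear * - h1 h2 h4 h7 h8 h10; solve | lia | omega)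
    rw [hw] at h9
    ring_nf at h9
    linarith only [h9, pow_nonneg (Nat.zero_le w) 3, pow_nonneg (Nat.zero_le w) 4, _root_.sq_nonneg (↑w : ℤ), _root_.Nat.cast_nonneg (α := ℤ) (w)]

theorem ree_big3 {s N : ℕ} (h : Pow5 q) (hs : 3 ≤ s) (h1 : 4 * (q ^ 4 + q ^ 2 + 1) ≤ 3 * N)
    (h2 : 2 * N ≤ (3 * s + 2) * (q ^ 3 + 1) + 2 * (3 * s ^ 2))
    (h3 : 9 * s ^ 4 + 3 * s ≤ N + 9 * s ^ 3 + 1) : False := by
  rcases h.cases with rfl | h5
  · norm_num only [] at h1 h2
    rcases Nat.lt_or_ge s 4 with h6 | h6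
    · have h7 : s = 3 := by omega
      subst h7
      omega
    · obtain ⟨w, hw⟩ : ∃ w, s = w + 4 := ⟨s - 4, by omega⟩
      rw [hw] at h2 h3
      ring_nf at h2 h3
      linarith only [h2, h3, pow_nonneg (Nat.zero_le w) 3, pow_nonneg (Nat.zero_le w) 4, _root_.sq_nonneg (↑w : ℤ), _root_.Nat.cast_nonneg (α := ℤ) (w)]
  · rcases Nat.lt_or_ge (4 * q) (5 * s) with h4 | h4
    · have h6 : 64 * q ^ 3 ≤ (5 * s - 1) ^ 3 := by
        calc 64 * q ^ 3 = (4 * q) ^ 3 := by ring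
          _ ≤ (5 * s - 1) ^ 3 := Nat.pow_le_pow_left (by omega) 3
      obtain ⟨w, hw⟩ : ∃ w, s = w + 20 := ⟨s - 20, by omega⟩
      rw [show 5 * s - 1 = 5 * w + 99 by omega] at h6
      have h8 : 128 * (9 * s ^ 4 + 3 * s) ≤ 128 * (9 * s ^ 3 + 1) + ((3 * s + 2) * ((5 * w + 99) ^ 3 + 64) +
          128 * (3 * s ^ 2)) := by
        have h9 : (3 * s + 2) * (64 * (q ^ 3 + 1)) ≤ (3 * s + 2) * ((5 * w + 99) ^ 3 + 64) :=
          Nat.mul_le_mul_left _ (by omega)
        have h10 : 64 * ((3 * s + 2) * (q ^ 3 + 1)) = (3 * s + 2) * (64 * (q ^ 3 + 1)) := by ring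
        omega
      rw [hw] at h8
      ring_nf at h8
      linarith only [h8, pow_nonneg (Nat.zero_le w) 3, pow_nonneg (Nat.zero_le w) 4, _root_.sq_nonneg (↑w : ℤ), _root_.Nat.cast_nonneg (α := ℤ) (w)]
    · obtain ⟨w, hw⟩ : ∃ w, q = w + 25 := ⟨q - 25, by omega⟩
      have h7 : (15 * s + 10) * (q ^ 3 + 1) ≤ (12 * q + 10) * (q ^ 3 + 1) := Nat.mul_le_mul_right _ (by omega)
      have h8 : 25 * s ^ 2 ≤ 16 * q ^ 2 := by
        calc 25 * s ^ 2 = (5 * s) ^ 2 := by ring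
          _ ≤ (4 * q) ^ 2 := Nat.pow_le_pow_left h4 2
          _ = 16 * q ^ 2 := by ring
      have h10 : 5 * ((3 * s + 2) * (q ^ 3 + 1)) = (15 * s + 10) * (q ^ 3 + 1) := by ring
      have h9 : 200 * (q ^ 4 + q ^ 2 + 1) ≤ 15 * ((12 * q + 10) * (q ^ 3 + 1)) + 288 * q ^ 2 := by omega
      rw [hw] at h9
      ring_nf at h9
      linarith only [h9, pow_nonneg (Nat.zero_le w) 3, pow_nonneg (Nat.zero_le w) 4, _root_.sq_nonneg (↑w : ℤ), _root_.Nat.cast_nonneg (α := ℤ) (w)]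

/-! ## Suzuki groups -/

/-- no prime divisor of `am q` is in `{2, 5, 31, 41}` -/
theorem am_ne_31_41 {m : ℕ} (h : Pow5 q) (hm : q = 5 ^ m) {s : ℕ} (hs : s.Prime) (hsa : s ∣ am q)
    (hc : s = 2 ∨ s = 5 ∨ s = 31 ∨ s = 41) : False := by
  have h2 : 2 ≤ q := by have := h.le; omega
  have h3 := am_ne h2 hs hsa
  have h4 : s ∣ q ^ 3 + 1 := hsa.trans (am_dvd_cube h2)
  rcases hc with rfl | rfl | rfl | rfl
  · exact h3.1 rfl
  · exact h3.2.2 h.dvd
  · have h5 : q ^ 3 % 31 = 1 := by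
      rw [hm, ← pow_mul, mul_comm m 3, pow_mul, Nat.pow_mod]
      norm_num
    omega
  · have h5 : q ^ 20 % 41 = 1 := by
      rw [hm, ← pow_mul, mul_comm m 20, pow_mul, Nat.pow_mod]
      norm_num
    have h6 : q ^ 3 % 41 = 40 := by omega
    have h7 : q ^ 2 % 41 = 1 := by
      have h8 : q ^ 20 = (q ^ 3) ^ 6 * q ^ 2 := by ring
      rw [h8, Nat.mul_mod, Nat.pow_mod (q ^ 3) 6, h6] at h5
      norm_num at h5
      omega
    have h8 : 41 ∣ q ^ 2 - 1 := by
      have : 1 ≤ q ^ 2 := Nat.one_le_pow _ _ (by omega)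
      omega
    exact am_prime h2 hs hsa (h8.trans (sq_pm_dvd q).2)

/-- the primes dividing `|S|` are not all in `{2, 5, 31, 41}` -/
theorem no_32 {S : Type u} [Group S] (h : E5 q S)
    (hc : ∀ r : ℕ, r.Prime → r ∣ Nat.card S → r = 2 ∨ r = 5 ∨ r = 31 ∨ r = 41) : False := by
  have hP := pow5 h.pow
  have h2 : 2 ≤ q := by have := hP.le; omega
  obtain ⟨m, -, hm⟩ := h.pow
  obtain ⟨s, hs, hsa⟩ := exists_am hP
  have hsn : ¬ s ∣ Nat.card S := fun hd => am_ne_31_41 hP hm hs hsa (hc s hs hd)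
  have hmf : ∀ t : ℕ, t.Prime → t ∣ (q ^ 2 + 1) / 2 → t ∣ Nat.card S :=
    fun t ht htd => (h.mf s t hs ht hsa htd).resolve_left hsn
  have hev : 2 ∣ q ^ 2 + 1 := by
    have : q ^ 2 % 2 = 1 := by rw [Nat.pow_mod, hP.two]
    omega
  rcases Nat.even_or_odd m with he | ho
  · obtain ⟨t, ht, htd, ht7⟩ := exists_t hP
    have htd' : t ∣ q ^ 2 + 1 := htd.trans (Nat.div_dvd_of_dvd hev)
    rcases hc t ht (hmf t ht htd) with rfl | rfl | rfl | rfl
    · exact ht7 (by norm_num)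
    · exact ht7 (by norm_num)
    · have h5 : q ^ 3 % 31 = 1 := by
        rw [hm, ← pow_mul, mul_comm m 3, pow_mul, Nat.pow_mod]
        norm_num
      have h6 : q ^ 2 % 31 = 30 := by omega
      have h7 : (q ^ 2) ^ 3 = (q ^ 3) ^ 2 := by ring
      have h8 : (q ^ 2) ^ 3 % 31 = (q ^ 3) ^ 2 % 31 := by rw [h7]
      rw [Nat.pow_mod, h6, Nat.pow_mod (q ^ 3), h5] at h8
      norm_num at h8
    · obtain ⟨e, he⟩ := he
      have h5 : (q ^ 2) ^ 5 % 41 = 1 := by
        rw [hm, he, show ((5 ^ (e + e)) ^ 2) ^ 5 = (5 ^ 20) ^ e by rw [← pow_mul, ← pow_mul, ← pow_mul]; congr 1; ring, Nat.pow_mod]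
        norm_num
      have h6 : q ^ 2 % 41 = 40 := by omega
      rw [Nat.pow_mod, h6] at h5
      norm_num at h5
  · have h13 : 13 ∣ q ^ 2 + 1 := by
      obtain ⟨e, he⟩ := ho
      have h5 : q ^ 2 % 13 = 12 := by
        rw [hm, he, show (5 ^ (2 * e + 1)) ^ 2 = 5 ^ 2 * (5 ^ 4) ^ e by
          rw [← pow_mul, ← pow_mul, ← pow_add]; congr 1; ring, Nat.mul_mod, Nat.pow_mod (5 ^ 4)]
        norm_num
      (clear * - h5; omega)
    have h13' : 13 ∣ (q ^ 2 + 1) / 2 := by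
      apply (by norm_num : Nat.Coprime 13 2).dvd_of_dvd_mul_left
      rwa [Nat.mul_div_cancel' hev]
    have := hc 13 (by norm_num) (hmf 13 (by norm_num) h13')
    omega

theorem sz' {F : Type*} [Field F] [Fintype F] {k : ℕ} (hk : 1 ≤ k) (hF : Fintype.card F = 2 ^ (2 * k + 1))
    {S : Type u} [Group S] (e : S ≃* ↥(Cfsg.Sz F k)) (h : E5 q S) : False := by
  have hP := pow5 h.pow
  have hcard := Cfsg.Agent.S0324.result hk hF
  have hcardS : Nat.card S = Nat.card ↥(Cfsg.Sz F k) := Nat.card_congr e.toEquiv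
  have hq5 := hP.le
  -- parameters
  set u := 2 ^ (2 * k + 1) with hu
  set t := 2 ^ (k + 1) with ht
  set s := 2 ^ k with hs
  have htu : t = 2 * s := by rw [ht, hs, pow_succ]; ring
  have hus : u = 2 * s ^ 2 := by rw [hu, hs, pow_succ, mul_comm 2 k, pow_mul]; ring
  have hs2 : 2 ≤ s := by
    calc 2 = 2 ^ 1 := by norm_num
      _ ≤ 2 ^ k := Nat.pow_le_pow_right (by norm_num) hk
  have hss : 2 * s ≤ s ^ 2 := by nlinarith only [hs2]
  have hu0 : 8 ≤ u := by omega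
  have hfin : Finite ↥(Cfsg.Sz F k) := Nat.finite_of_card_ne_zero (by
    rw [hcard]
    have h1 : 0 < u ^ 2 * (u ^ 2 + 1) * (u - 1) :=
      Nat.mul_pos (Nat.mul_pos (by positivity) (by positivity)) (by omega)
    omega)
  have hfinS : Finite S := Finite.of_equiv _ e.symm.toEquiv
  -- cyclic subgroups containing odd elements
  have key : ∀ x : S, x ≠ 1 → ¬ 2 ∣ orderOf x →
      ∃ T, (T = u - 1 ∨ T = u + t + 1 ∨ T = u - t + 1) ∧ orderOf x ∣ T ∧ ∃ g : S, orderOf g = T := by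
    intro x hx1 hx2
    have hx1' : e x ≠ 1 := fun h0 => hx1 (e.injective (h0.trans (map_one e).symm))
    obtain ⟨U, ⟨hU, hxU⟩, -⟩ := Cfsg.Agent.S2238.result hk hF (e x) hx1'
    rcases hU with ⟨P, rfl⟩ | ⟨hc, hN⟩
    · exfalso
      obtain ⟨j, hj⟩ := P.isPGroup' ⟨e x, hxU⟩
      have h3 : (e x) ^ 2 ^ j = 1 := congrArg Subtype.val hj
      have h4 : orderOf (e x) ∣ 2 ^ j := orderOf_dvd_of_pow_eq_one h3
      rw [e.orderOf_eq] at h4
      obtain ⟨i, -, hi⟩ := (Nat.dvd_prime_pow Nat.prime_two).1 h4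
      rcases Nat.eq_zero_or_pos i with h0 | h0
      · rw [h0, pow_zero] at hi
        exact hx1 (orderOf_eq_one_iff.1 hi)
      · exact hx2 (hi ▸ dvd_pow_self 2 h0.ne')
    · refine ⟨Nat.card U, ?_, ?_, ?_⟩
      · rcases hN with h | h | h
        · exact Or.inl h
        · exact Or.inr (Or.inl h)
        · exact Or.inr (Or.inr h)
      · rw [← e.orderOf_eq x, ← Subgroup.orderOf_mk (e x) hxU]
        exact orderOf_dvd_natCard _
      · obtain ⟨y, hy⟩ := hc.exists_generator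
        refine ⟨e.symm y, ?_⟩
        rw [e.symm.orderOf_eq, Subgroup.orderOf_coe]
        exact orderOf_eq_card_of_forall_mem_zpowers hy
  have key2 : ∀ N, 1 < N → Nat.Coprime 2 N → (∃ x : S, orderOf x = N) →
      ∃ T, (T = u - 1 ∨ T = u + t + 1 ∨ T = u - t + 1) ∧ N ∣ T ∧ Ub q T := by
    rintro N hN hN2 ⟨x, hx⟩
    obtain ⟨T, hT1, hT2, hT3⟩ := key x (by rintro rfl; rw [orderOf_one] at hx; omega)
      (by rw [hx]; exact (Nat.Prime.coprime_iff_not_dvd Nat.prime_two).1 hN2)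
    exact ⟨T, hT1, hx ▸ hT2, h.ub' hT3⟩
  -- `(u + t + 1) (u - t + 1) = u² + 1` is divisible by `5`
  have hprod : (u + t + 1) * (u - t + 1) = u ^ 2 + 1 := by
    obtain ⟨w, hw⟩ : ∃ w, u = w + t := ⟨u - t, by (clear * - hus hss; omega)⟩
    rw [show u - t = w by (clear * - hw; omega)]
    have h5 : (u : ℤ) = w + t := by exact_mod_cast hw
    have h6 : (t : ℤ) * t = 2 * u := by rw [hus, htu]; push_cast; ring
    have h7 : ((u : ℤ) + t + 1) * (w + 1) = u ^ 2 + 1 := by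
      have h8 : (w : ℤ) = u - t := by linarith only [hw]
      rw [h8]
      linear_combination -h6
    exact_mod_cast h7
  have h5u : 5 ∣ u ^ 2 + 1 := by
    have h6 : u ^ 2 % 5 = 4 := by
      rw [hu, show (2 ^ (2 * k + 1)) ^ 2 = 2 ^ 2 * (2 ^ 4) ^ k by
        rw [← pow_mul, ← pow_mul, ← pow_add]; congr 1; ring, Nat.mul_mod, Nat.pow_mod (2 ^ 4)]
      norm_num
    omega
  have h5T : 5 ∣ u + t + 1 ∨ 5 ∣ u - t + 1 := by
    rw [← hprod] at h5u
    exact (by norm_num : Nat.Prime 5).dvd_mul.1 h5u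
  rcases h.five with ⟨hap, ham, -⟩ | h25
  · obtain ⟨TA, hTA, hA1, hA2⟩ := key2 _ (by have := ap_ge hP; omega) (ap_odd (by omega)) hap
    obtain ⟨TB, hTB, hB1, hB2⟩ := key2 _ (by have := am_ge hP; omega) (am_odd (by omega)) ham
    have hAd := dvd_A' hP hA1 hA2
    have hBd := dvd_B' hP hB1 hB2
    have hA5 : ¬ 5 ∣ TA := fun h6 => hP.not_dvd_A (h6.trans hAd)
    have hB5 : ¬ 5 ∣ TB := fun h6 => hP.not_dvd_B (h6.trans hBd)
    by_cases hAB : TA = TB
    · exact not_both hP hA1 (hAB ▸ hB1) hA2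
    · refine sz_num hP hs2 hAd hBd hA1 hB1 ?_
      rcases hTA with h6 | h6 | h6 <;> rcases hTB with h7 | h7 | h7
      · (clear * - hus hAB h6 h7; (solve | lia | omega))
      · left; (clear * - hus hu0 h6 h7; omega)
      · left; (clear * - hus hss hu0 h6 h7; omega)
      · right; (clear * - hus hu0 h6 h7; omega)
      · (clear * - hus hs2 hAB h6 h7; omega)
      · exfalso
        rcases h5T with h8 | h8
        · exact hA5 (h6 ▸ h8)
        · exact hB5 (h7 ▸ h8)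
      · right; (clear * - hus hss hu0 h6 h7; omega)
      · exfalso
        rcases h5T with h8 | h8
        · exact hB5 (h7 ▸ h8)
        · exact hA5 (h6 ▸ h8)
      · (clear * - hAB h6 h7; (solve | lia | omega))
  · obtain ⟨T, hT, hT1, hT2⟩ := key2 25 (by norm_num) (by norm_num) h25
    have hT25 := eq_25 hP hT1 hT2
    have hs4 : s = 4 := by
      have h8 : s ≤ 5 := by
        by_contra hlt
        have h9 : 6 * s ≤ s ^ 2 := by nlinarith only [hlt]
        (clear * - hus hT hT25 hlt h9; omega)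
      have h9 : s % 2 = 0 := by
        have : 2 ∣ s := by rw [hs]; exact dvd_pow_self 2 (by omega)
        omega
      have h10 : s = 2 ∨ s = 4 := by omega
      rcases h10 with h10 | h10
      · exfalso
        rw [h10] at hus htu
        norm_num at hus htu
        (clear * - hT hT25 h10 hus; omega)
      · exact h10
    have hk2 : k = 2 := by
      have h9 : 2 ^ k = 2 ^ 2 := by rw [← hs, hs4]; norm_num
      exact Nat.pow_right_injective le_rfl h9
    have hu32 : u = 32 := by rw [hus, hs4]; norm_num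
    refine no_32 h fun r hr hd => ?_
    rw [hcardS, hcard, hu32] at hd
    have hd' : r ∣ 2 ^ 10 * (5 ^ 2 * 41) * 31 := by
      norm_num at hd ⊢
      exact hd
    rcases hr.dvd_mul.1 hd' with h9 | h9
    · rcases hr.dvd_mul.1 h9 with h10 | h10
      · exact Or.inl ((Nat.prime_dvd_prime_iff_eq hr Nat.prime_two).1 (hr.dvd_of_dvd_pow h10))
      · rcases hr.dvd_mul.1 h10 with h11 | h11
        · exact Or.inr (Or.inl ((Nat.prime_dvd_prime_iff_eq hr (by norm_num)).1 (hr.dvd_of_dvd_pow h11)))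
        · exact Or.inr (Or.inr (Or.inr ((Nat.prime_dvd_prime_iff_eq hr (by norm_num)).1 h11)))
    · exact Or.inr (Or.inr (Or.inl ((Nat.prime_dvd_prime_iff_eq hr (by norm_num)).1 h9)))

/-- **Suzuki groups** -/
theorem suzuki {S : Type*} [Group S] (hS : Cfsg.Lie.IsoSuzuki S) (h : E5 q S) : False := by
  obtain ⟨F, _, _, k, hk, hF, ⟨e⟩⟩ := hS
  obtain ⟨e'⟩ := Cfsg.Agent.OddCyclic.ClaimC.SzIso.iso hk hF
  exact sz' hk hF (e.trans e'.symm) h

/-! ## Ree groups -/

/-- the pair `{v + r + 1, v - r + 1}` -/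
theorem ree_num1 {s TA TB : ℕ} (h : Pow5 q) (hs : 3 ≤ s) (hTA : TA ∣ (q ^ 3 - 1) / 2) (hTB : TB ∣ (q ^ 3 + 1) / 2)
    (h3s : 3 ∣ s) (h1 : ap q ∣ TA) (h2 : am q ∣ TB)
    (hc : (TA = 3 * s ^ 2 + 3 * s + 1 ∧ TB + 3 * s = 3 * s ^ 2 + 1) ∨
      (TB = 3 * s ^ 2 + 3 * s + 1 ∧ TA + 3 * s = 3 * s ^ 2 + 1)) : False := by
  have hA := h.A
  have hB := h.B
  have hA0 := h.A_pos
  have hss : 3 * s ≤ s ^ 2 := by nlinarith only [hs]
  have hTA1 : 1 < TA := by
    have := Nat.le_of_dvd (Nat.pos_of_dvd_of_pos hTA hA0) h1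
    have := ap_ge h
    omega
  have hpar : s ^ 2 % 2 = s % 2 := by
    rcases Nat.mod_two_eq_zero_or_one s with h0 | h0 <;> rw [Nat.pow_mod, h0]
  have hseven : ∀ T, (T = 3 * s ^ 2 + 3 * s + 1 ∨ T + 3 * s = 3 * s ^ 2 + 1) → ¬ 5 ∣ T → ∀ i, i ∣ T → i = 1 ∨ 7 ≤ i := by
    intro T hT hT5 i hi
    have hT2 : ¬ 2 ∣ T := by (clear * - hpar hT; omega)
    have hT3 : ¬ 3 ∣ T := by (clear * - hT; omega)
    have hT0 : 0 < T := by omega
    have hi0 : 0 < i := Nat.pos_of_dvd_of_pos hi hT0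
    by_contra hlt
    have h7 : i ≤ 6 := by omega
    have h8 : i ≠ 1 := by omega
    have h10 : 2 ∣ i ∨ 3 ∣ i ∨ 5 ∣ i := by
      clear hi hlt
      interval_cases i
      · exact absurd rfl h8
      · exact Or.inl ⟨1, rfl⟩
      · exact Or.inr (Or.inl ⟨1, rfl⟩)
      · exact Or.inl ⟨2, rfl⟩
      · exact Or.inr (Or.inr ⟨1, rfl⟩)
      · exact Or.inl ⟨3, rfl⟩
    rcases h10 with h10 | h10 | h10
    · exact hT2 (h10.trans hi)
    · exact hT3 (h10.trans hi)
    · exact hT5 (h10.trans hi)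
  have hA5 : ¬ 5 ∣ TA := fun h6 => h.not_dvd_A (h6.trans hTA)
  have hB5 : ¬ 5 ∣ TB := fun h6 => h.not_dvd_B (h6.trans hTB)
  have hub : 2 * (TA * TB) ≤ 6 * s * (q ^ 3 + 1) + 2 * (3 * s ^ 2 + 3 * s + 1) := by
    have hq3 : 2 * ((q ^ 3 + 1) / 2) = q ^ 3 + 1 := by omega
    have hDB2 : 2 * (6 * s * ((q ^ 3 + 1) / 2)) = 6 * s * (q ^ 3 + 1) := by
      calc 2 * (6 * s * ((q ^ 3 + 1) / 2)) = 6 * s * (2 * ((q ^ 3 + 1) / 2)) := by ring
        _ = 6 * s * (q ^ 3 + 1) := by rw [hq3]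
    have hDA : 6 * s * ((q ^ 3 - 1) / 2) ≤ 6 * s * ((q ^ 3 + 1) / 2) := Nat.mul_le_mul_left _ (by omega)
    rcases hc with ⟨h3, h4⟩ | ⟨h3, h4⟩
    · have h5 := size_down (D := 6 * s) hB hTA hTB (by (clear * - h3 h4; omega))
      (clear * - hDB2 hDA h3 h5; omega)
    · rcases size_up (D := 6 * s) hB hTA hTA1 hTB (by (clear * - h3 h4; omega)) with h5 | h5
      · omega
      · (clear * - hDB2 h5; omega)
  rcases seven_cases h (hseven TA (by (clear * - hc; omega)) hA5) (hseven TB (by (clear * - hc; omega)) hB5) h1 h2 with ⟨h3, h4⟩ | h3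
  · have h5 := gap h (D := 6 * s) (by (clear * - hc h3 h4; omega)) (by (clear * - hc h3 h4; omega))
    have h7 := h.le
    have h8 := Nat.le_of_dvd (by (clear * - h7; positivity)) (ap_dvd (q := q) (by omega))
    have h9 := Nat.le_of_dvd (by positivity) (am_dvd (q := q) (by omega))
    rcases h.cases with rfl | h10
    · rw [show ap 5 = 31 by decide] at h3
      rw [show am 5 = 7 by decide] at h4
      (clear * - h3s hc h3 h4; omega)
    · have h11 : 25 * q ≤ q ^ 2 := by nlinarith only [h10]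
      have h12 : 5 * q ≤ 2 * s := by (clear * - h5 h11; omega)
      have h13 : 25 * q ^ 2 ≤ 4 * s ^ 2 := by
        calc 25 * q ^ 2 = (5 * q) ^ 2 := by ring
          _ ≤ (2 * s) ^ 2 := Nat.pow_le_pow_left h12 2
          _ = 4 * s ^ 2 := by ring
      (clear * - hc h3 h4 h8 h9 h10 h11 h13; omega)
  · refine ree_big1 (s := s) h h3 hub ?_
    rcases hc with ⟨h5, h6⟩ | ⟨h5, h6⟩
    · zify at h5 h6 ⊢
      have h8 : (TB : ℤ) = 3 * s ^ 2 + 1 - 3 * s := by linarith only [h6]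
      rw [h5, h8]
      linarith only []
    · zify at h5 h6 ⊢
      have h8 : (TA : ℤ) = 3 * s ^ 2 + 1 - 3 * s := by linarith only [h6]
      rw [h5, h8]
      linarith only []

/-- the size lemma for `T_B = 2 T_A ± D` -/
theorem size_two {A B TA TB D : ℕ} (hB : B = A + 1) (hA : TA ∣ A) (hTB : TB ∣ B) (hD1 : 2 ≤ D)
    (hD : TB = 2 * TA + D ∨ 2 * TA = TB + D) : TA * TB ≤ TB + D * B := by
  obtain ⟨i, hi⟩ := hA
  obtain ⟨j, hj⟩ := hTB
  have hj0 : 0 < j := Nat.pos_of_ne_zero (by rintro rfl; simp at hj; omega)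
  rcases hD with hD | hD
  · have h1 : TA * (2 * j) + D * j = TA * i + 1 := by
      rw [← hi, ← hB, hj, hD]; ring
    have hDj : 2 ≤ D * j := by
      calc 2 ≤ D * 1 := by omega
        _ ≤ D * j := Nat.mul_le_mul_left _ hj0
    have h3 : 2 * j < i := by
      by_contra hlt
      have h4 : TA * i ≤ TA * (2 * j) := Nat.mul_le_mul_left _ (by omega)
      omega
    obtain ⟨k, rfl⟩ := Nat.exists_eq_add_of_lt h3
    have h4 : TA ≤ D * j := by
      have h5 : TA * (2 * j + k + 1) = TA * (2 * j) + TA * k + TA := by ring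
      omega
    calc TA * TB ≤ D * j * TB := Nat.mul_le_mul_right _ h4
      _ = D * B := by rw [hj]; ring
      _ ≤ TB + D * B := Nat.le_add_left _ _
  · have h1 : TA * (2 * j) = TA * i + 1 + D * j := by
      have h2 : TA * (2 * j) = (2 * TA) * j := by ring
      rw [h2, hD, Nat.add_mul, ← hj, hB, hi]
    have h3 : i < 2 * j := by
      by_contra hlt
      have h4 : TA * (2 * j) ≤ TA * i := Nat.mul_le_mul_left _ (by omega)
      omega
    obtain ⟨k, hk⟩ := Nat.exists_eq_add_of_lt h3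
    have h4 : TA ≤ 1 + D * j := by
      have h5 : TA * (2 * j) = TA * i + TA * k + TA := by rw [hk]; ring
      omega
    calc TA * TB ≤ (1 + D * j) * TB := Nat.mul_le_mul_right _ h4
      _ = TB + D * (TB * j) := by ring
      _ = TB + D * B := by rw [← hj]

/-- the pairs `{(v + 1) / 2, v + 1 ± r}` -/
theorem ree_num2 {s TA TB : ℕ} (h : Pow5 q) (hs : 3 ≤ s) (hs2 : s % 2 = 1) (hTA : TA ∣ (q ^ 3 - 1) / 2)
    (hTB : TB ∣ (q ^ 3 + 1) / 2) (h1 : ap q ∣ TA) (h2 : am q ∣ TB) (hc : 2 * TA = 3 * s ^ 2 + 1)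
    (hc2 : TB = 3 * s ^ 2 + 3 * s + 1 ∨ TB + 3 * s = 3 * s ^ 2 + 1) : False := by
  have hA := h.A
  have hB := h.B
  have hss : 3 * s ≤ s ^ 2 := by nlinarith only [hs]
  have hs8 : s ^ 2 % 8 = 1 := by
    have : s % 8 = 1 ∨ s % 8 = 3 ∨ s % 8 = 5 ∨ s % 8 = 7 := by (clear * - hs2; solve | lia | omega)
    rcases this with h0 | h0 | h0 | h0 <;> rw [Nat.pow_mod, h0]
  have hub : 2 * (TA * TB) ≤ 3 * s * (q ^ 3 + 1) + 2 * (3 * s ^ 2 + 3 * s + 1) := by
    have hq3 : 2 * ((q ^ 3 + 1) / 2) = q ^ 3 + 1 := by omega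
    have hDB2 : 2 * (3 * s * ((q ^ 3 + 1) / 2)) = 3 * s * (q ^ 3 + 1) := by
      calc 2 * (3 * s * ((q ^ 3 + 1) / 2)) = 3 * s * (2 * ((q ^ 3 + 1) / 2)) := by ring
        _ = 3 * s * (q ^ 3 + 1) := by rw [hq3]
    have h5 := size_two (D := 3 * s) hB hTA hTB (by omega) (by (clear * - hc hc2; solve | lia | omega))
    (clear * - hc2 hDB2 h5; omega)
  rcases even_cases h (TA := TA) (TB := TB) (by omega) (by omega) (by (clear * - hs2 hc2 hs8; omega)) h1 h2 with ⟨h3, h4⟩ | h3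
  · rcases ap_am_cases h with ⟨h5, h6⟩ | ⟨h25, h5, h6⟩
    · (solve | lia | omega)
    · have h7 : (3 * s) ^ 2 = (2 * q + 1) ^ 2 := by
        have h8 : (3 * s) ^ 2 = 9 * s ^ 2 := by ring
        have h9 : (2 * q + 1) ^ 2 = 4 * q ^ 2 + 4 * q + 1 := by ring
        (clear * - hc h3 h5 h8 h9; omega)
      have h8 : 3 * s = 2 * q + 1 := Nat.pow_left_injective (by norm_num : 2 ≠ 0) h7
      have h9 : 25 * q ≤ q ^ 2 := by nlinarith only [h25]
      (clear * - hs2 hc hc2 h3 h4 h5 h6 h8 h9; omega)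
  · refine ree_big2 (s := s) h h3 hub ?_
    rcases hc2 with h6 | h6
    · zify at hc h6 ⊢
      have h7 : (2 : ℤ) * (TA * TB) = (3 * s ^ 2 + 1) * (3 * s ^ 2 + 3 * s + 1) := by
        rw [show (2 : ℤ) * (TA * TB) = (2 * TA) * TB by ring, hc, h6]
      rw [h7]
      linarith only [pow_pos (show (0 : ℤ) < s by exact_mod_cast (show 0 < s by omega)) 3]
    · zify at hc h6 ⊢
      have h8 : (TB : ℤ) = 3 * s ^ 2 + 1 - 3 * s := by linarith only [h6]
      have h7 : (2 : ℤ) * (TA * TB) = (3 * s ^ 2 + 1) * (3 * s ^ 2 + 1 - 3 * s) := by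
        rw [show (2 : ℤ) * (TA * TB) = (2 * TA) * TB by ring, hc, h8]
      rw [h7]
      linarith only []

/-- the pairs `{v - 1, v + 1 ± r}` -/
theorem ree_num3 {s TA TB : ℕ} (h : Pow5 q) (hs : 3 ≤ s) (hs2 : s % 2 = 1) (hTA : TA ∣ (q ^ 3 - 1) / 2)
    (hTB : TB ∣ (q ^ 3 + 1) / 2) (h1 : ap q ∣ TA) (h2 : am q ∣ TB) (hc : TA + 1 = 3 * s ^ 2)
    (hc2 : TB = 3 * s ^ 2 + 3 * s + 1 ∨ TB + 3 * s = 3 * s ^ 2 + 1) : False := by
  have hA := h.A
  have hB := h.B
  have hss : 3 * s ≤ s ^ 2 := by nlinarith only [hs]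
  have hs8 : s ^ 2 % 8 = 1 := by
    have : s % 8 = 1 ∨ s % 8 = 3 ∨ s % 8 = 5 ∨ s % 8 = 7 := by (clear * - hs2; solve | lia | omega)
    rcases this with h0 | h0 | h0 | h0 <;> rw [Nat.pow_mod, h0]
  have hub : 2 * (TA * TB) ≤ (3 * s + 2) * (q ^ 3 + 1) + 2 * (3 * s ^ 2) := by
    have hq3 : 2 * ((q ^ 3 + 1) / 2) = q ^ 3 + 1 := by omega
    have hDB2 : ∀ D, 2 * (D * ((q ^ 3 + 1) / 2)) = D * (q ^ 3 + 1) := by
      intro D
      calc 2 * (D * ((q ^ 3 + 1) / 2)) = D * (2 * ((q ^ 3 + 1) / 2)) := by ring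
        _ = D * (q ^ 3 + 1) := by rw [hq3]
    have hDA : (3 * s - 2) * ((q ^ 3 - 1) / 2) ≤ (3 * s - 2) * ((q ^ 3 + 1) / 2) := Nat.mul_le_mul_left _ (by omega)
    have hDD : (3 * s - 2) * (q ^ 3 + 1) ≤ (3 * s + 2) * (q ^ 3 + 1) := Nat.mul_le_mul_right _ (by omega)
    have e1 := hDB2 (3 * s + 2)
    have e2 := hDB2 (3 * s - 2)
    rcases hc2 with h4 | h4
    · rcases size_up (D := 3 * s + 2) hB hTA (by omega) hTB (by (clear * - hc h4; omega)) with h5 | h5
      · omega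
      · (clear * - e1 h5; omega)
    · have h5 := size_down (D := 3 * s - 2) hB hTA hTB (by (clear * - hs2 hc h4; omega))
      (clear * - hc hDA hDD e2 h5; omega)
  rcases even_cases h (TA := TA) (TB := TB) (by omega) (by omega) (by (clear * - hs2 hc2 hs8; omega)) h1 h2 with ⟨h3, h4⟩ | h3
  · rcases ap_am_cases h with ⟨h5, h6⟩ | ⟨h25, h5, h6⟩
    · (clear * - hc hc2 hss hs8 h3 h4 h5 h6; solve | lia | omega)
    · have h9 : 25 * q ≤ q ^ 2 := by nlinarith only [h25]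
      have h10 : 19 * q ≤ 9 * s := by omega
      have h11 : 361 * q ^ 2 ≤ 81 * s ^ 2 := by
        calc 361 * q ^ 2 = (19 * q) ^ 2 := by ring
          _ ≤ (9 * s) ^ 2 := Nat.pow_le_pow_left h10 2
          _ = 81 * s ^ 2 := by ring
      omega
  · refine ree_big3 (s := s) h hs h3 hub ?_
    rcases hc2 with h6 | h6
    · zify at hc h6 ⊢
      have h8 : (TA : ℤ) = 3 * s ^ 2 - 1 := by linarith only [hc]
      rw [h6, h8]
      nlinarith only [pow_pos (show (0 : ℤ) < s by exact_mod_cast (show 0 < s by omega)) 3]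
    · zify at hc h6 ⊢
      have h8 : (TB : ℤ) = 3 * s ^ 2 + 1 - 3 * s := by linarith only [h6]
      have h7 : (TA : ℤ) = 3 * s ^ 2 - 1 := by linarith only [hc]
      rw [h7, h8]
      linarith only []

/-- **Small Ree groups** -/
theorem ree {S : Type*} [Group S] (hS : Cfsg.Lie.IsoRee S) (h : E5 q S) : False := by
  obtain ⟨K, _, _, k, hk, hK, ⟨e⟩⟩ := hS
  have hP := pow5 h.pow
  have hq5 := hP.le
  have hA := hP.A
  have hB := hP.B
  have hE : ∀ d, (∃ x : S, orderOf x = d) ↔ ∃ g : ↥(Cfsg.Lie.twistedG2 K (3 ^ k)), orderOf g = d := fun d =>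
    ⟨fun ⟨x, hx⟩ => ⟨e x, (e.orderOf_eq x).trans hx⟩, fun ⟨g, hg⟩ => ⟨e.symm g, (e.symm.orderOf_eq g).trans hg⟩⟩
  have h1 := fun d => (hE d).trans (Cfsg.Agent.S1159.result hk hK d)
  set v := 3 ^ (2 * k + 1) with hv
  set t := 3 ^ (k + 1) with ht
  set s := 3 ^ k with hs
  have hts : t = 3 * s := by rw [ht, hs, pow_succ]; ring
  have hvs : v = 3 * s ^ 2 := by rw [hv, hs, pow_succ, mul_comm 2 k, pow_mul]; ring
  have hs3 : 3 ≤ s := by
    calc 3 = 3 ^ 1 := by norm_num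
      _ ≤ 3 ^ k := Nat.pow_le_pow_right (by norm_num) hk
  have hs2 : s % 2 = 1 := by rw [hs, Nat.pow_mod]; norm_num
  have h3s : 3 ∣ s := by rw [hs]; exact dvd_pow_self 3 (by omega)
  have hss : 3 * s ≤ s ^ 2 := by nlinarith only [hs3]
  have hs8 : s ^ 2 % 8 = 1 := by
    have : s % 8 = 1 ∨ s % 8 = 3 ∨ s % 8 = 5 ∨ s % 8 = 7 := by (clear * - hs2; omega)
    rcases this with h0 | h0 | h0 | h0 <;> rw [Nat.pow_mod, h0]
  have hBodd : (q ^ 3 + 1) / 2 % 2 = 1 := by
    have h4 : q ^ 3 % 4 = 1 := by rw [Nat.pow_mod, hP.mod]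
    omega
  have u1 : Ub q (v - 1) := h.ub' ((h1 _).2 (Or.inr (Or.inr (Or.inl dvd_rfl))))
  have u2 : Ub q ((v + 1) / 2) := h.ub' ((h1 _).2 (Or.inr (Or.inr (Or.inr (Or.inl dvd_rfl)))))
  have u3 : Ub q (v - t + 1) := h.ub' ((h1 _).2 (Or.inr (Or.inr (Or.inr (Or.inr (Or.inl dvd_rfl))))))
  have u4 : Ub q (v + t + 1) := h.ub' ((h1 _).2 (Or.inr (Or.inr (Or.inr (Or.inr (Or.inr dvd_rfl))))))
  have hv5 : v % 5 = 3 ∨ v % 5 = 2 := by
    rw [hv, pow_succ, pow_mul]
    rcases Nat.even_or_odd k with ⟨i, hi⟩ | ⟨i, hi⟩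
    · left
      rw [hi, ← two_mul, pow_mul, Nat.mul_mod, Nat.pow_mod]
      norm_num
    · right
      rw [hi, pow_succ, pow_mul, Nat.mul_mod, Nat.mul_mod ((_ ^ 2) ^ i), Nat.pow_mod ((3 ^ 2) ^ 2)]
      norm_num
  rcases h.five with ⟨hap, ham, -⟩ | h25
  · have hamT : ∃ TB, (TB = 3 * s ^ 2 + 3 * s + 1 ∨ TB + 3 * s = 3 * s ^ 2 + 1) ∧ am q ∣ TB ∧ Ub q TB := by
      rcases (h1 _).1 ham with h2 | h2 | h2 | h2 | h2 | h2
      · have := Nat.le_of_dvd (by norm_num) h2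
        have := am_ge hP
        omega
      · exfalso
        obtain ⟨r, hr, hra⟩ := exists_am hP
        have h7 : r ∣ 3 ^ 2 := hra.trans h2
        exact (am_ne (by omega) hr hra).2.1 ((Nat.prime_dvd_prime_iff_eq hr Nat.prime_three).1
          (hr.dvd_of_dvd_pow h7))
      · exfalso
        obtain ⟨i, hi⟩ := dvd_B' hP h2 u1
        have h3 : (v - 1) % 2 = 0 := by omega
        rw [hi, Nat.mul_mod, h3] at hBodd
        simp at hBodd
      · exfalso
        obtain ⟨i, hi⟩ := dvd_B' hP h2 u2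
        have h3 : ((v + 1) / 2) % 2 = 0 := by (clear * - hvs hs8; omega)
        rw [hi, Nat.mul_mod, h3] at hBodd
        simp at hBodd
      · exact ⟨v - t + 1, by (clear * - hvs hss hap ham; omega), h2, u3⟩
      · exact ⟨v + t + 1, by (clear * - hvs; omega), h2, u4⟩
    obtain ⟨TB, hTB, hB1, hB2⟩ := hamT
    have hBd := dvd_B' hP hB1 hB2
    rcases (h1 _).1 hap with h2 | h2 | h2 | h2 | h2 | h2
    · have := Nat.le_of_dvd (by norm_num) h2
      have := ap_ge hP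
      omega
    · have := Nat.le_of_dvd (by norm_num) h2
      have := ap_ge hP
      omega
    · exact ree_num3 hP hs3 hs2 (dvd_A' hP h2 u1) hBd h2 hB1 (by (clear * - hvs hs8 ham; omega)) hTB
    · exact ree_num2 hP hs3 hs2 (dvd_A' hP h2 u2) hBd h2 hB1 (by omega) hTB
    · by_cases hAB : v - t + 1 = TB
      · exact not_both hP h2 (hAB ▸ hB1) u3
      · exact ree_num1 hP hs3 (dvd_A' hP h2 u3) hBd h3s h2 hB1 (by (clear * - hvs hss hTB hAB; omega))
    · by_cases hAB : v + t + 1 = TB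
      · exact not_both hP h2 (hAB ▸ hB1) u4
      · exact ree_num1 hP hs3 (dvd_A' hP h2 u4) hBd h3s h2 hB1 (by (clear * - hvs hTB hAB; (solve | lia | omega)))
  · have hprod : 5 ∣ (v + t + 1) * (v - t + 1) → False := by
      intro h2
      have h3 : (v + t + 1) * (v - t + 1) + v = v * v + 1 := by
        obtain ⟨w, hw⟩ : ∃ w, v = w + t := ⟨v - t, by (clear * - hvs hss h25; omega)⟩
        rw [show v - t = w by (clear * - hw; omega)]
        have h5 : (v : ℤ) = w + t := by exact_mod_cast hw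
        have h6 : (t : ℤ) * t = 3 * v := by rw [hvs, hts]; push_cast; ring
        have h7 : ((v : ℤ) + t + 1) * (w + 1) + v = v * v + 1 := by
          have h8 : (w : ℤ) = v - t := by linarith only [hw]
          rw [h8]
          linear_combination -h6
        exact_mod_cast h7
      obtain ⟨i, hi⟩ := h2
      have h4 : v * v % 5 = 4 := by
        rcases hv5 with h5 | h5 <;> rw [Nat.mul_mod, h5]
      omega
    have h5d : ∀ N, 25 ∣ N → 5 ∣ N := fun N hN => (by norm_num : (5 : ℕ) ∣ 25).trans hN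
    rcases (h1 _).1 h25 with h2 | h2 | h2 | h2 | h2 | h2
    · omega
    · omega
    · have := h5d _ h2
      (clear * - hvs hs8 hv5 h2; omega)
    · have := h5d _ h2
      (clear * - hv5 h2; omega)
    · exact hprod ((h5d _ h2).mul_left _)
    · exact hprod ((h5d _ h2).mul_right _)

end Cfsg.Agent.H60.Six5
end

-- part: H127/Six/Psu
section
/-!
# BLOCK 6, `q = 5 ^ m`, the row `PSU_n(v)`, `n ≥ 4` (helper127, task 2621 of helper376)
-/

set_option autoImplicit false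
set_option linter.unusedSectionVars false
set_option linter.unusedVariables false

namespace Cfsg.Agent.H127.Six

open Matrix Cfsg Cfsg.Agent.H72.AdjPSU Cfsg.Agent.H376.Six Cfsg.Agent.H60.Six5 Cfsg.Agent.H126.P4
  Cfsg.Agent.ClassicalGeometry.GUBasic Cfsg.Agent.H127

variable {q n v : ℕ} {F : Type*} [Field F] [Fintype F]

/-- **`n = 5`, `5 ∣ v + 1`** -/
theorem case_CU (hF : Fintype.card F = v ^ 2) (h : E5 q (PSU 5 F v)) (h5 : 5 ∣ v + 1)
    (h1 : ∃ x : PSU 5 F v, orderOf x = ap q) (h2 : ∃ x : PSU 5 F v, orderOf x = am q) : False := by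
  classical
  have hP := pow5 h.pow
  have hq2 : 2 ≤ q := by have := hP.le; omega
  have hv1 := two_le hF
  have hv14 : v ≠ 14 := by
    rintro rfl
    obtain ⟨p, f, hp, hf, he⟩ := H149.PGU.exists_pf hF
    have e2 : 2 ∣ p := by
      have : 2 ∣ p ^ f := by rw [← he]; norm_num
      exact Nat.prime_two.dvd_of_dvd_pow this
    have e7 : 7 ∣ p := by
      have : 7 ∣ p ^ f := by rw [← he]; norm_num
      exact (by norm_num : Nat.Prime 7).dvd_of_dvd_pow this
    have e3 := (Nat.prime_dvd_prime_iff_eq Nat.prime_two hp).1 e2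
    have e4 := (Nat.prime_dvd_prime_iff_eq (by norm_num : Nat.Prime 7) hp).1 e7
    omega
  have hca : ap q ∣ Nat.card (PSU 5 F v) := by
    obtain ⟨x, hx⟩ := h1
    exact hx ▸ orderOf_dvd_natCard x
  have hcm : am q ∣ Nat.card (PSU 5 F v) := by
    obtain ⟨x, hx⟩ := h2
    exact hx ▸ orderOf_dvd_natCard x
  have hub : ∀ {N : ℕ}, (∃ x : PSU 5 F v, orderOf x = N) → Ub q N := fun hN => h.ub' hN
  -- the classes
  have cls : ∀ r : ℕ, r.Prime → (r ∣ ap q ∨ r ∣ am q) → ¬ r ∣ v ∧ ¬ r ∣ v + 1 ∧ (nu v r = 4 ∨ nu v r = 5) := by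
    intro r hr hd
    have hrq : ¬ r ∣ q := by
      rcases hd with hd | hd
      · exact (ap_ne hq2 hr hd).2.2
      · exact (am_ne hq2 hr hd).2.2
    have hr5 : r ≠ 5 := by
      rintro rfl
      exact hrq hP.dvd
    have hno : ¬ ∃ x : PSU 5 F v, orderOf x = r * 5 := by
      intro hx
      have hU := hub hx
      rcases hd with hd | hd
      · exact hP.not_dvd_A ((Dvd.intro_left r rfl).trans (dvd_A hP hr hd (Dvd.intro _ rfl) hU))
      · exact hP.not_dvd_B ((Dvd.intro_left r rfl).trans (dvd_B hP hr hd (Dvd.intro _ rfl) hU))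
    have hw5 : wU v 5 = 2 := by
      rw [wU, if_pos (Or.inr h5)]
    have hw : 5 < wU v r + 2 := by
      by_contra hcon
      rw [not_lt, ← hw5] at hcon
      exact hno (adj_of_wU hF (by norm_num) hr (by norm_num) hr5 hcon)
    rw [wU] at hw
    split_ifs at hw with h3
    · omega
    · rw [not_or] at h3
      have h4 := H72.AdjPSU.nu_le (F := F) (n := 5) hF (by norm_num) hr h3.1 (by
        rcases hd with hd | hd
        · exact hd.trans hca
        · exact hd.trans hcm)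
      exact ⟨h3.1, h3.2, by omega⟩
  obtain ⟨z4, hz4⟩ := torusU' (F := F) (n := 5) hF (a := 4) (by norm_num) rfl (by norm_num)
  obtain ⟨z5, hz5⟩ := torusN (F := F) (n := 5) hF (by norm_num)
  have hg : Nat.gcd 5 (v + 1) = 5 := Nat.gcd_eq_left h5
  have hz4' : orderOf z4 * 5 = T v 4 := by
    rw [hz4, hg, Nat.div_mul_cancel (h5.trans (add_one_dvd_T (by omega)))]
  have hz5' : orderOf z5 * ((v + 1) * 5) = T v 5 := by
    have h6 : (v + 1) * Nat.gcd 5 (v + 1) ∣ T v 5 := dvd_geomU (by omega)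
    rw [hz5]
    rw [hg] at h6 ⊢
    exact Nat.div_mul_cancel h6
  have hne5 : ∀ r : ℕ, r.Prime → (r ∣ ap q ∨ r ∣ am q) → r ≠ 5 := by
    rintro r hr hd rfl
    rcases hd with hd | hd
    · exact (ap_ne hq2 hr hd).2.2 hP.dvd
    · exact (am_ne hq2 hr hd).2.2 hP.dvd
  have in4 : ∀ r : ℕ, r.Prime → (r ∣ ap q ∨ r ∣ am q) → nu v r = 4 → r ∣ orderOf z4 := by
    intro r hr hd he
    have h3 : r ∣ T v 4 := (dvd_T (by omega)).2 (he ▸ dvd_rfl)
    rw [← hz4'] at h3
    rcases (Nat.Prime.dvd_mul hr).1 h3 with h4 | h4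
    · exact h4
    · exact absurd ((Nat.prime_dvd_prime_iff_eq hr (by norm_num)).1 h4) (hne5 r hr hd)
  have in5 : ∀ r : ℕ, r.Prime → (r ∣ ap q ∨ r ∣ am q) → nu v r = 5 → r ∣ orderOf z5 := by
    intro r hr hd he
    have h3 : r ∣ T v 5 := (dvd_T (by omega)).2 (he ▸ dvd_rfl)
    rw [← hz5'] at h3
    rcases (Nat.Prime.dvd_mul hr).1 h3 with h4 | h4
    · exact h4
    · rcases (Nat.Prime.dvd_mul hr).1 h4 with h6 | h6
      · exact absurd h6 (cls r hr hd).2.1
      · exact absurd ((Nat.prime_dvd_prime_iff_eq hr (by norm_num)).1 h6) (hne5 r hr hd)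
  have hU4 := hub ⟨z4, rfl⟩
  have hU5 := hub ⟨z5, rfl⟩
  have hne : ∀ r s : ℕ, r.Prime → s.Prime → r ∣ ap q → s ∣ am q → nu v r ≠ nu v s := by
    intro r s hr hs hra hsm he
    rcases (cls r hr (Or.inl hra)).2.2 with h3 | h3
    · have h4 := dvd_A hP hr hra (in4 r hr (Or.inl hra) h3) hU4
      exact not_dvd_A_of hP hs hsm ((in4 s hs (Or.inr hsm) (he.symm.trans h3)).trans h4)
    · have h4 := dvd_A hP hr hra (in5 r hr (Or.inl hra) h3) hU5
      exact not_dvd_A_of hP hs hsm ((in5 s hs (Or.inr hsm) (he.symm.trans h3)).trans h4)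
  -- the odd number of class 4
  have fin4 : ∀ x : PSU 5 F v,
      (∀ r : ℕ, r.Prime → r ∣ orderOf x → ¬ r ∣ v ∧ ¬ r ∣ v + 1 ∧ nu v r = 4) → orderOf x ∣ v ^ 2 + 1 := by
    intro x hcl
    have h3 := class_dvd hF (by norm_num) (k := 4) (by norm_num) hcl
    have h4 : v ^ 4 - 1 = (v ^ 2 + 1) * (v ^ 2 - 1) := by
      rw [show v ^ 4 = (v ^ 2) ^ 2 by ring, show ((v ^ 2) ^ 2 - 1) = (v ^ 2) ^ 2 - 1 ^ 2 by norm_num only [], Nat.sq_sub_sq]
    rw [T_four, h4] at h3
    have h5 : Nat.Coprime (orderOf x) (v ^ 2 - 1) := Nat.coprime_of_dvd fun r hr h6 h7 => by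
      have h8 : r ∣ T v 2 := by rw [T, if_pos (by decide)]; exact h7
      have h9 := Nat.le_of_dvd (by norm_num) ((dvd_T (by omega)).1 h8)
      have h10 := (hcl r hr h6).2.2
      omega
    exact h5.dvd_of_dvd_mul_right h3
  obtain ⟨r0, hr0, hr0d⟩ := exists_ap hP
  obtain ⟨s0, hs0, hs0d⟩ := exists_am hP
  have hA := hP.A
  have hB := hP.B
  have hA0 := hP.A_pos
  rw [T_five] at hz5'
  have v4 : ∀ a : ℕ, (a = ap q ∨ a = am q) → a ∣ v ^ 2 + 1 → q ^ 2 ≤ 4 * a → v ≠ 4 := by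
    rintro a ha hda hqa rfl
    norm_num at hda
    have h3 := Nat.le_of_dvd (by norm_num) hda
    have h4 : q = 5 := by
      rcases hP.cases with h6 | h6
      · exact h6
      · have : 25 ^ 2 ≤ q ^ 2 := Nat.pow_le_pow_left h6 2
        omega
    subst h4
    rcases ha with rfl | rfl
    · exact absurd hda (by decide)
    · exact absurd hda (by decide)
  rcases (cls r0 hr0 (Or.inl hr0d)).2.2 with h3 | h3
  · have h4 : nu v s0 = 5 := by
      have h5 := hne r0 s0 hr0 hs0 hr0d hs0d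
      have h6 := (cls s0 hs0 (Or.inr hs0d)).2.2
      omega
    have h6 : ∀ r : ℕ, r.Prime → r ∣ ap q → ¬ r ∣ v ∧ ¬ r ∣ v + 1 ∧ nu v r = 4 := by
      intro r hr hrd
      have h7 := cls r hr (Or.inl hrd)
      have h8 := hne r s0 hr hs0 hrd hs0d
      exact ⟨h7.1, h7.2.1, by omega⟩
    have h7 : ap q ∣ v ^ 2 + 1 := by
      obtain ⟨x, hx⟩ := h1
      rw [← hx] at h6 ⊢
      exact fin4 x h6
    have h8 := dvd_B hP hs0 hs0d (in5 s0 hs0 (Or.inr hs0d) h4) hU5
    have h9 := Nat.le_of_dvd (by omega) h8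
    exact num_CU hP hv1 h5 h7 (ap_odd hq2) (H126.Six.sq_le_ap hq2) hz5' (by omega)
      (v4 _ (Or.inl rfl) h7 (H126.Six.sq_le_ap hq2)) hv14
  · have h4 : nu v s0 = 4 := by
      have h5 := hne r0 s0 hr0 hs0 hr0d hs0d
      have h6 := (cls s0 hs0 (Or.inr hs0d)).2.2
      omega
    have h6 : ∀ r : ℕ, r.Prime → r ∣ am q → ¬ r ∣ v ∧ ¬ r ∣ v + 1 ∧ nu v r = 4 := by
      intro r hr hrd
      have h7 := cls r hr (Or.inr hrd)
      have h8 := hne r0 r hr0 hr hr0d hrd
      exact ⟨h7.1, h7.2.1, by omega⟩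
    have h7 : am q ∣ v ^ 2 + 1 := by
      obtain ⟨x, hx⟩ := h2
      rw [← hx] at h6 ⊢
      exact fin4 x h6
    have h8 := dvd_A hP hr0 hr0d (in5 r0 hr0 (Or.inl hr0d) h3) hU5
    have h9 := Nat.le_of_dvd (by omega) h8
    exact num_CU hP hv1 h5 h7 (am_odd hq2) (H126.Six.sq_le_am hq2) hz5' (by omega)
      (v4 _ (Or.inr rfl) h7 (H126.Six.sq_le_am hq2)) hv14

/-- **the case without Frobenius actions** -/
theorem case_DU (hF : Fintype.card F = v ^ 2) (h5 : ¬ 5 ∣ v) (hn : 4 ≤ n) (h : E5 q (PSU n F v))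
    (h1 : ∃ x : PSU n F v, orderOf x = ap q) (h2 : ∃ x : PSU n F v, orderOf x = am q)
    (hNF : NoFrob 5 q (PSU n F v)) : False := by
  classical
  have hP := pow5 h.pow
  have hq2 : 2 ≤ q := by have := hP.le; omega
  have hv1 := two_le hF
  have hca : ap q ∣ Nat.card (PSU n F v) := by
    obtain ⟨x, hx⟩ := h1
    exact hx ▸ orderOf_dvd_natCard x
  have hcm : am q ∣ Nat.card (PSU n F v) := by
    obtain ⟨x, hx⟩ := h2
    exact hx ▸ orderOf_dvd_natCard x
  obtain ⟨u, hu⟩ := CharP.exists F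
  have hup : Fact u.Prime := ⟨CharP.char_is_prime F u⟩
  obtain ⟨f, hf, hf1⟩ := UnitRoots.exists_eq_pow hF u
  have hud : u ∣ v := by
    rw [hf]
    exact dvd_pow_self _ (by omega)
  have hu5 : u ≠ 5 := by
    rintro rfl
    exact h5 hud
  have hu_of : ∀ r : ℕ, r.Prime → r ∣ v → r = u := by
    intro r hr hrd
    rw [hf] at hrd
    exact (Nat.prime_dvd_prime_iff_eq hr hup.out).1 (hr.dvd_of_dvd_pow hrd)
  -- the class is the odd one of `n - 1`, `n`
  have cls : ∀ r : ℕ, r.Prime → (r ∣ ap q ∨ r ∣ am q) → ¬ r ∣ v →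
      ¬ r ∣ v + 1 ∧ n - 1 ≤ nu v r ∧ nu v r ≤ n ∧ nu v r % 2 = 1 := by
    intro r hr hd hrv
    have h4 := H72.AdjPSU.nu_le (F := F) (n := n) hF (by omega) hr hrv (by
      rcases hd with hd | hd
      · exact hd.trans hca
      · exact hd.trans hcm)
    have hrd : r ∣ ap q * am q := by
      rcases hd with hd | hd
      · exact hd.mul_right _
      · exact hd.mul_left _
    have h6 := no_p1 hF hn (p := u) hNF hu5 hr hrd hrv
    have h7 : ¬ r ∣ v + 1 := by
      intro h7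
      have h8 := H72.AdjPSU.nu_eq_one h7
      omega
    refine ⟨h7, by omega, h4, ?_⟩
    by_contra hcon
    have he : Even (nu v r) := by rw [Nat.even_iff]; omega
    have h8 := nu_even (q := v) (r := r) (by omega) he
    obtain ⟨j, hj⟩ := he
    have hj' : nu v r = 2 * j := by omega
    rw [hj'] at h8
    exact h7 (no_siegel hF (by omega) (p := u) hNF hu5 hr hrd (j := j) (by omega) (by omega) h8)
  -- the torus
  obtain ⟨z, k0, D, hk0, hk1, hz, hD0, hD, hD2, hD4⟩ : ∃ (z : PSU n F v) (k0 D : ℕ), (n - 1 ≤ k0 ∧ k0 ≤ n) ∧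
      k0 % 2 = 1 ∧ orderOf z * D = T v k0 ∧ 0 < D ∧ (∀ r : ℕ, r.Prime → r ∣ D → r ∣ v + 1) ∧
      D ≤ (v + 1) * (v + 1) ^ (k0 + 1 - n) ∧ (n = 4 → D ≤ 4) := by
    set g := Nat.gcd n (v + 1) with hg
    have hgv : g ∣ v + 1 := Nat.gcd_dvd_right _ _
    have hgle : g ≤ v + 1 := Nat.le_of_dvd (by omega) hgv
    have hg0 : 0 < g := Nat.gcd_pos_of_pos_right _ (by omega)
    rcases Nat.even_or_odd n with he | ho
    · obtain ⟨z, hz⟩ := torusU' (F := F) (n := n) hF (a := n - 1) (by omega) (by omega) (by omega)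
      have hgd : g ∣ T v (n - 1) := hgv.trans (add_one_dvd_T (by omega))
      refine ⟨z, n - 1, g, ⟨le_rfl, by omega⟩, ?_, ?_, hg0, fun r _ hrg => hrg.trans hgv, ?_, ?_⟩
      · rw [Nat.even_iff] at he
        omega
      · rw [hz, ← hg, Nat.div_mul_cancel hgd]
      · rw [show n - 1 + 1 - n = 0 by omega, pow_zero, mul_one]
        exact hgle
      · intro h4
        rw [h4] at hg
        rw [hg]
        exact Nat.le_of_dvd (by norm_num) (Nat.gcd_dvd_left _ _)
    · obtain ⟨z, hz⟩ := torusN (F := F) (n := n) hF (by omega)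
      have hgd : (v + 1) * g ∣ T v n := dvd_geomU (by omega)
      refine ⟨z, n, (v + 1) * g, ⟨by omega, le_rfl⟩, Nat.odd_iff.1 ho, ?_, Nat.mul_pos (by omega) hg0, ?_, ?_, ?_⟩
      · rw [hz, ← hg, Nat.div_mul_cancel hgd]
      · intro r hr hrg
        rcases (Nat.Prime.dvd_mul hr).1 hrg with h3 | h3
        · exact h3
        · exact h3.trans hgv
      · rw [show n + 1 - n = 1 by omega, pow_one]
        exact Nat.mul_le_mul_left _ hgle
      · intro h4
        rw [h4] at ho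
        exact absurd ho (by decide)
  have cls' : ∀ r : ℕ, r.Prime → (r ∣ ap q ∨ r ∣ am q) → ¬ r ∣ v → nu v r = k0 := by
    intro r hr hd hrv
    have h3 := cls r hr hd hrv
    (clear * - hk0 hk1 h3; omega)
  have inN : ∀ r : ℕ, r.Prime → (r ∣ ap q ∨ r ∣ am q) → ¬ r ∣ v → r ∣ orderOf z := by
    intro r hr hd hrv
    have h3 : r ∣ T v k0 := (dvd_T (by omega)).2 (cls' r hr hd hrv ▸ dvd_rfl)
    rw [← hz] at h3
    rcases (Nat.Prime.dvd_mul hr).1 h3 with h4 | h4
    · exact h4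
    · exact absurd (hD r hr h4) (cls r hr hd hrv).1
  have hU := h.ub' ⟨z, rfl⟩
  have hA := hP.A
  have hB := hP.B
  have hA0 := hP.A_pos
  -- a power of the characteristic
  have upow : ∀ a : ℕ, 1 < a → (∃ x : PSU n F v, orderOf x = a) →
      (∀ r : ℕ, r.Prime → r ∣ a → r ∣ v) → ∃ k, a = u ^ (k + 1) ∧ u ^ k < n := by
    intro a ha hx hr
    have h3 : a = u ^ a.primeFactorsList.length :=
      Nat.eq_prime_pow_of_unique_prime_dvd (by omega) fun {d} hd hda => hu_of d hd (hr d hd hda)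
    obtain ⟨k, hk⟩ : ∃ k, a.primeFactorsList.length = k + 1 := by
      refine ⟨a.primeFactorsList.length - 1, ?_⟩
      rcases Nat.eq_zero_or_pos a.primeFactorsList.length with h4 | h4
      · rw [h4, pow_zero] at h3
        omega
      · omega
    rw [hk] at h3
    obtain ⟨x, hx⟩ := hx
    exact ⟨k, h3, lt_of_unipU hF (by omega) (hx.trans h3)⟩
  have hu7 : ∀ r : ℕ, r.Prime → (r ∣ ap q ∨ r ∣ am q) → 7 ≤ r := by
    intro r hr hd
    have h3 : r ≠ 2 ∧ r ≠ 3 ∧ ¬ r ∣ q := by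
      rcases hd with hd | hd
      · exact ap_ne hq2 hr hd
      · exact am_ne hq2 hr hd
    have h4 : r ≠ 5 := by
      rintro rfl
      exact h3.2.2 hP.dvd
    have h6 := hr.two_le
    have h7 : r ≠ 4 := by
      rintro rfl
      norm_num at hr
    have h8 : r ≠ 6 := by
      rintro rfl
      norm_num at hr
    have h31 := h3.1
    have h32 := h3.2.1
    (clear * - h4 h6 h7 h8 h31 h32; omega)
  -- the size of the torus
  have size : 7 ≤ v → v ^ (n - 2) ≤ 2 * orderOf z ∧ (n = 4 → v ^ 3 ≤ 4 * orderOf z) := by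
    intro hv7
    have hT : T v k0 = v ^ k0 + 1 := by
      rw [T, if_neg (by rw [Nat.even_iff]; omega)]
    rw [hT] at hz
    constructor
    · by_contra hcon
      rw [not_le] at hcon
      have h3 : 2 * (orderOf z * D) < v ^ (n - 2) * D := by
        calc 2 * (orderOf z * D) = (2 * orderOf z) * D := by ring
          _ < v ^ (n - 2) * D := Nat.mul_lt_mul_of_pos_right hcon hD0
      rw [hz] at h3
      have h4 : D ≤ 2 * v ^ (k0 + 2 - n) := by
        rcases (by (clear * - hk0; omega) : k0 = n - 1 ∨ k0 = n) with h6 | h6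
        · rw [show k0 + 1 - n = 0 by (clear * - hk1 h6; omega), pow_zero, mul_one] at hD2
          rw [show k0 + 2 - n = 1 by (clear * - hk1 h6; omega), pow_one]
          omega
        · rw [show k0 + 1 - n = 1 by (clear * - h6; omega), pow_one] at hD2
          rw [show k0 + 2 - n = 2 by (clear * - h6; omega)]
          nlinarith only [hD2, hv7]
      have h6 : v ^ (n - 2) * D ≤ 2 * v ^ k0 := by
        calc v ^ (n - 2) * D ≤ v ^ (n - 2) * (2 * v ^ (k0 + 2 - n)) := Nat.mul_le_mul_left _ h4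
          _ = 2 * (v ^ (n - 2) * v ^ (k0 + 2 - n)) := by ring
          _ = 2 * v ^ k0 := by
            rw [← pow_add]
            congr 2
            (clear * - hn hk0; omega)
      omega
    · intro hn4
      have h3 := hD4 hn4
      have h4 : k0 = 3 := by (clear * - hk0 hk1 hn4; omega)
      rw [h4] at hz
      have h6 : orderOf z * D ≤ orderOf z * 4 := Nat.mul_le_mul_left _ h3
      omega
  by_cases hex1 : ∃ r : ℕ, r.Prime ∧ r ∣ ap q ∧ ¬ r ∣ v
  · obtain ⟨r, hr, hrd, hrv⟩ := hex1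
    have hNA := dvd_A hP hr hrd (inN r hr (Or.inl hrd) hrv) hU
    by_cases hex2 : ∃ s : ℕ, s.Prime ∧ s ∣ am q ∧ ¬ s ∣ v
    · obtain ⟨s, hs, hsd, hsv⟩ := hex2
      exact not_dvd_A_of hP hs hsd ((inN s hs (Or.inr hsd) hsv).trans hNA)
    · push Not at hex2
      obtain ⟨k, hk1, hk2⟩ := upow (am q) (by have := am_ge hP; omega) h2 hex2
      have hu7' : 7 ≤ u := hu7 u hup.out (Or.inr (by rw [hk1]; exact dvd_pow_self _ (by omega)))
      have hNle := Nat.le_of_dvd hA0 hNA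
      have huv := Nat.le_of_dvd (by omega) hud
      obtain ⟨s1, s2⟩ := size (by omega)
      exact num_DU hn hu7' huv hk1 hk2 s1 s2 (H126.Six.am_bound hP.le (by omega))
  · push Not at hex1
    obtain ⟨k, hk1, hk2⟩ := upow (ap q) (by have := ap_ge hP; omega) h1 hex1
    have hu7' : 7 ≤ u := hu7 u hup.out (Or.inl (by rw [hk1]; exact dvd_pow_self _ (by omega)))
    obtain ⟨s, hs, hsd⟩ := exists_am hP
    have hsv : ¬ s ∣ v := by
      intro hsv
      have h3 := hu_of s hs hsv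
      subst h3
      exact not_dvd_B_of hP hs (by rw [hk1]; exact dvd_pow_self _ (by omega)) (hsd.trans (am_dvd_half hq2 hP.two))
    have hNB := dvd_B hP hs hsd (inN s hs (Or.inr hsd) hsv) hU
    have hNle := Nat.le_of_dvd (by omega) hNB
    have huv := Nat.le_of_dvd (by omega) hud
    obtain ⟨s1, s2⟩ := size (by omega)
    exact num_DU hn hu7' huv hk1 hk2 s1 s2 (H126.Six.ap_bound hP.le (by omega))

/-- **Task 2621.** -/
theorem psu (hF : Fintype.card F = v ^ 2) (h5 : ¬ 5 ∣ v) (hn : 4 ≤ n) (h : E5 q (Cfsg.PSU n F v)) : False := by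
  classical
  have hP := pow5 h.pow
  have hv1 := two_le hF
  have hub : ∀ x : PSU n F v, 25 ∣ orderOf x → orderOf x = 25 :=
    fun x hx => eq_25 hP hx (h.ub' ⟨x, rfl⟩)
  rcases h.five with ⟨h1, h2, hNF | hO⟩ | ⟨x, hx⟩
  · exact case_DU hF h5 hn h h1 h2 hNF
  · obtain ⟨p, f, hp, hf, he⟩ := H149.PGU.exists_pf hF
    have := Fact.mk hp
    rw [H149.PGU.card_out_psu hf he hF (by omega) (by omega)] at hO
    have h3 : nu v 25 ≤ n := by
      rcases (Nat.Prime.dvd_mul (by norm_num)).1 hO with h3 | h3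
      · have h4 := h3.trans (Nat.gcd_dvd_left _ _)
        have h6 := h3.trans (Nat.gcd_dvd_right _ _)
        have h7 := Nat.le_of_dvd (by omega) h4
        exact (Nat.le_of_dvd (by norm_num) (nu_five h6)).trans h7
      · have h4 : 5 ∣ f := Nat.Coprime.dvd_of_dvd_mul_left (by norm_num : Nat.Coprime 5 2) h3
        obtain ⟨e, hfe⟩ := h4
        have h6 : Nat.Coprime p 25 := by
          have h7 : Nat.Coprime p 5 := by
            rw [Nat.Prime.coprime_iff_not_dvd hp, Nat.prime_dvd_prime_iff_eq hp (by norm_num)]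
            rintro rfl
            exact h5 (by rw [he]; exact dvd_pow_self _ (by (clear * - hf; omega)))
          have := Nat.Coprime.pow_right 2 h7
          norm_num at this
          exact this
        have h7 : (p ^ e) ^ Nat.totient 25 ≡ 1 [MOD 25] := Nat.ModEq.pow_totient (h6.pow_left e)
        have h8 : Nat.totient 25 = 20 := by decide
        have h9 : v ^ 4 = (p ^ e) ^ 20 := by
          rw [he, ← pow_mul, ← pow_mul, hfe]
          congr 1
          ring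
        rw [h8, ← h9] at h7
        have h10 : 25 ∣ T v 4 := by
          rw [T_four]
          exact (Nat.modEq_iff_dvd' (Nat.one_le_pow _ _ (by omega))).1 h7.symm
        exact (Nat.le_of_dvd (by norm_num) ((dvd_T (by omega)).1 h10)).trans hn
    obtain ⟨rfl, h6, h7⟩ := L25u hF hn h5 hub h3
    exact case_CU hF h h6 h1 h2
  · have : Fact (Nat.Prime 5) := ⟨Nat.prime_five⟩
    have h3 : nu v 25 ≤ n := by
      by_cases hd : 5 ∣ Nat.gcd n (v + 1)
      · have h4 := hd.trans (Nat.gcd_dvd_left _ _)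
        have h6 := hd.trans (Nat.gcd_dvd_right _ _)
        have h7 := Nat.le_of_dvd (by omega) h4
        exact (Nat.le_of_dvd (by norm_num) (nu_five h6)).trans h7
      · have h4 := nu_le_of_order (n := n) hF (by omega) (x := x) (r := 5) (k := 1) h5 hd (by rw [hx]; norm_num)
        exact h4
    obtain ⟨rfl, h6, h7⟩ := L25u hF hn h5 hub h3
    exact no_25_five hF h6 h7 x hx

end Cfsg.Agent.H127.Six
end

-- part: H424/Six/SpFacts
section
/-!
# Elimination of sections `PSp_{2n}(u)`, `q = 5 ^ m` (helper424)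
-/

set_option autoImplicit false

namespace Cfsg.Agent.H424.Six.Sp

open Cfsg.Agent.H376.Six Cfsg.Agent.H376.SpEmb Cfsg.Agent.LieClassical.SympTransvection Cfsg.Agent.H403
  Cfsg.Agent.H424.P4 Matrix Cfsg.Agent.H424.Six

section

variable {F : Type*} [Field F]

theorem om_inv {l : Type*} [Fintype l] [DecidableEq l] (A : symplecticGroup l F) (v w : l ⊕ l → F) :
    om ((A : Matrix (l ⊕ l) (l ⊕ l) F) *ᵥ v) ((A : Matrix (l ⊕ l) (l ⊕ l) F) *ᵥ w) = om v w := by
  have h : (A : Matrix (l ⊕ l) (l ⊕ l) F)ᵀ * J l F * (A : Matrix (l ⊕ l) (l ⊕ l) F) = J l F :=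
    SymplecticGroup.mem_iff'.1 A.2
  rw [om_def, om_def, mulVec_mulVec, ← vecMul_transpose, ← dotProduct_mulVec, mulVec_mulVec, ← mul_assoc, h]

/-- an element fixing a vector -/
theorem exists_fix {n i : ℕ} (hi : i < n) (A : symplecticGroup (Fin i) F) :
    ∃ (C : symplecticGroup (Fin n) F) (e : Fin n ⊕ Fin n → F), e ≠ 0 ∧ orderOf C = orderOf A ∧
      (C : Matrix (Fin n ⊕ Fin n) (Fin n ⊕ Fin n) F) *ᵥ e = e := by
  obtain ⟨c, rfl⟩ : ∃ c, n = i + (c + 1) := ⟨n - i - 1, by omega⟩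
  let f : Fin i ⊕ Fin (c + 1) ≃ Fin (i + (c + 1)) := finSumFinEquiv
  let j : (Fin i ⊕ Fin (c + 1)) ⊕ (Fin i ⊕ Fin (c + 1)) := Sum.inl (Sum.inr 0)
  refine ⟨reidx f (blk _ _ (A, 1)), (Pi.single j (1 : F)) ∘ (Equiv.sumCongr f f).symm, ?_, ?_, ?_⟩
  · intro h
    have h1 := congrFun h (Equiv.sumCongr f f j)
    rw [Function.comp_apply, Equiv.symm_apply_apply, Pi.single_eq_same, Pi.zero_apply] at h1
    exact one_ne_zero h1
  · rw [orderOf_injective _ (reidx_injective _), orderOf_injective _ (blk_injective _ _)]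
    rw [Prod.orderOf_mk, orderOf_one, Nat.lcm_one_right]
  · show (blkM A.1 1).submatrix (Equiv.sumCongr f f).symm (Equiv.sumCongr f f).symm *ᵥ
      ((Pi.single j (1 : F)) ∘ (Equiv.sumCongr f f).symm) = _
    rw [Matrix.submatrix_mulVec_equiv, Function.comp_assoc]
    have h1 : ((Equiv.sumCongr f f).symm : _ → _) ∘ ((Equiv.sumCongr f f).symm.symm : _ → _) = id := by
      funext x
      simp
    rw [h1, Function.comp_id]
    congr 1
    rw [Matrix.mulVec_single_one]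
    funext x
    simp only [Matrix.col_apply, blkM]
    rcases x with (x | x) | (x | x)
    · simp [j]
    · simp only [j, Matrix.fromBlocks_apply₁₁, Matrix.fromBlocks_apply₂₂, Matrix.toBlocks₁₁, Matrix.of_apply,
        Matrix.one_apply, Pi.single_apply]
      simp [Sum.inl.injEq, Sum.inr.injEq]
    · simp [j]
    · simp [j, Matrix.toBlocks₂₁]

/-- the Siegel transformations -/
theorem exists_siegel {l : Type*} [Fintype l] [DecidableEq l] (e w : l ⊕ l → F) (h : om e w = 0) :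
    ∃ g : symplecticGroup l F, (g : Matrix (l ⊕ l) (l ⊕ l) F) *ᵥ e = e ∧
      ∀ v, om e v = 0 → (g : Matrix (l ⊕ l) (l ⊕ l) F) *ᵥ v = v + om v w • e := by
  refine ⟨tvS 1 (e + w) * tvS (-1) w, ?_, fun v hv => ?_⟩
  · show (tv 1 (e + w) * tv (-1) w) *ᵥ e = e
    have h0 : tv (-1) w *ᵥ e = e := by rw [tv_mulVec, h, mul_zero, zero_smul, add_zero]
    rw [← mulVec_mulVec, h0, tv_mulVec, om_add_right, om_self, h, add_zero, mul_zero, zero_smul, add_zero]
  · show (tv 1 (e + w) * tv (-1) w) *ᵥ v = v + om v w • e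
    have hve : om v e = 0 := by rw [om_swap, hv, neg_zero]
    have hwe : om w e = 0 := by rw [om_swap, h, neg_zero]
    rw [← mulVec_mulVec, tv_mulVec, tv_mulVec]
    simp only [om_add_left, om_add_right, om_smul_left, hve, hwe, om_self, mul_zero, add_zero, zero_add, one_mul]
    funext i
    simp only [Pi.add_apply, Pi.smul_apply, smul_eq_mul]
    ring

theorem psp_frob {n : ℕ} (p : ℕ) [hp : Fact p.Prime] [CharP F p] {r : ℕ} (hr : r.Prime) (hrp : r ≠ p)
    {i : ℕ} (hi : i < n) (A : symplecticGroup (Fin i) F) (hA : orderOf A = r) :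
    ∃ U : Subgroup (Cfsg.PSp n F), IsPGroup p U ∧ ∃ y : Cfsg.PSp n F, orderOf y = r ∧
      (∀ x ∈ U, y * x * y⁻¹ ∈ U) ∧ ∃ x ∈ U, y * x ≠ x * y := by
  obtain ⟨C, e, he, hC, hCe⟩ := exists_fix hi A
  refine frob_abs (G := symplecticGroup (Fin n) F) (ρ := (symplecticGroup (Fin n) F).subtype) (β := om) (e := e) p
    Subtype.val_injective om_sub_right (fun x c y => om_smul_right c x y) om_sub_left
    (fun x c y => om_smul_left c x y) (fun g v w => om_inv g v w)
    (fun x hx => exists_om_ne_zero hx) (fun z hz => ?_) he (fun w hw => exists_siegel e w hw) hr hrp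
    (hC.trans hA) hCe
  rcases Cfsg.Agent.ClassicalGeometry.SympInvolutions.center_eq hz with h | h
  · exact ⟨1, by rw [one_smul]; exact h⟩
  · exact ⟨-1, by rw [neg_one_smul]; exact h⟩

end

end Cfsg.Agent.H424.Six.Sp
end

-- part: H424/Six/Psp
section
/-!
# Elimination of sections `PSp_{2n}(u)`, `n ≥ 3`, `q = 5 ^ m` (helper424)

`psp` : `E5 q (PSp n F)` is impossible for `5 ∤ |F|`, `n ≥ 3`.
-/

set_option autoImplicit false

namespace Cfsg.Agent.H424.Six

open Cfsg.Agent.H376.Six Cfsg.Agent.H376.SpEmb Cfsg.Agent.H403 Cfsg.Agent.H424.P4 Matrix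

theorem card_out_psp {F : Type*} [Field F] [Fintype F] {n p f : ℕ} [Fact p.Prime] (hn : 3 ≤ n) (hf : 1 ≤ f)
    (hF : Fintype.card F = p ^ f) [Finite (Cfsg.PSp n F)] (hna : ¬ IsMulCommutative (Cfsg.PSp n F)) :
    Nat.card (Cfsg.Out (Cfsg.PSp n F)) = Nat.gcd 2 (p ^ f - 1) * f := by
  have hs : IsSimpleGroup (Cfsg.PSp n F) := Cfsg.Agent.S0270.result n (by omega) (by omega)
  have h1 := Cfsg.Agent.S0814.result (F := F) p f hf hF n (by omega) (by omega)
  rw [if_neg (by omega), one_mul] at h1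
  exact Cfsg.Agent.H934.OutB.card_out_of_aut hna h1

theorem fifth_of_dvd {u p f g : ℕ} (hg : g ∣ 2) (hu : u = p ^ f) (h : 5 ∣ g * f) : ∃ v, u = v ^ 5 := by
  have h1 : 5 ∣ f := by
    rcases Nat.prime_five.dvd_mul.1 h with h2 | h2
    · have := Nat.le_of_dvd (by norm_num) (h2.trans hg)
      omega
    · exact h2
  obtain ⟨k, rfl⟩ := h1
  exact ⟨p ^ k, by rw [hu, ← pow_mul, mul_comm]⟩

theorem bc_psp {F : Type*} [Field F] [Fintype F] {n : ℕ} (hn : 3 ≤ n) (p : ℕ) [hp : Fact p.Prime] [hFp : CharP F p] :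
    BC (Fintype.card F) p n (Cfsg.PSp n F) := by
  classical
  have hfin : Finite (Matrix.symplecticGroup (Fin n) F) :=
    Finite.of_injective (fun A => (A : Matrix (Fin n ⊕ Fin n) (Fin n ⊕ Fin n) F)) Subtype.val_injective
  have hfin' : Finite (Cfsg.PSp n F) := inferInstanceAs
    (Finite (Matrix.symplecticGroup (Fin n) F ⧸ Subgroup.center (Matrix.symplecticGroup (Fin n) F)))
  obtain ⟨f, -, hf⟩ := FiniteField.card F p
  have hu2 : 2 ≤ Nat.card F := Finite.one_lt_card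
  have hfrob : ∀ r : ℕ, r.Prime → r ≠ 2 → ¬ r ∣ Fintype.card F → ∀ i, 1 ≤ i → i < n →
      r ∣ Fintype.card F ^ (2 * i) - 1 → ∃ U : Subgroup (Cfsg.PSp n F), IsPGroup p U ∧ ∃ y : Cfsg.PSp n F,
        orderOf y = r ∧ (∀ x ∈ U, y * x * y⁻¹ ∈ U) ∧ ∃ x ∈ U, y * x ≠ x * y := by
    intro r hr hr2 hru i hi1 hi2 hd
    have hrp : r ≠ p := by
      rintro rfl
      apply hru
      rw [hf]
      exact dvd_pow_self _ f.ne_zero
    rw [← Nat.card_eq_fintype_card] at hd
    have hex : ∃ A : symplecticGroup (Fin i) F, orderOf A = r := by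
      rw [← ts_mul _ _ (Or.inl rfl : (1 : ℤ) = 1 ∨ (1 : ℤ) = -1)] at hd
      rcases hr.dvd_mul.1 hd with h1 | h1
      · rw [ts_one] at h1
        refine _root_.Cfsg.Agent.H376.SpEmb.exists_of_dvd ?_ h1 (exists_minus F i (by omega))
        have := Nat.one_lt_pow (n := i) (by omega) (show 1 < Nat.card F by omega)
        omega
      · rw [ts_neg] at h1
        exact _root_.Cfsg.Agent.H376.SpEmb.exists_of_dvd (by omega) h1 (exists_plus F i (by omega))
    obtain ⟨A, hA⟩ := hex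
    exact Sp.psp_frob p hr hrp hi2 A hA
  have hna : ¬ IsMulCommutative (Cfsg.PSp n F) := Cfsg.Agent.H984.FC.Psp.not_comm (by omega) (by omega)
  refine ⟨hp.out, ⟨f, f.pos, hf⟩, hn, hfin', ?_, ?_, ?_, hfrob, ?_⟩
  · intro g hg
    obtain ⟨A, rfl⟩ := QuotientGroup.mk_surjective g
    set N := orderOf (QuotientGroup.mk A : Cfsg.PSp n F) with hN
    -- `M = A ^ (N + 1)`
    have h1 : (A ^ N) ∈ Subgroup.center (Matrix.symplecticGroup (Fin n) F) := by
      rw [← QuotientGroup.eq_one_iff, QuotientGroup.mk_pow]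
      exact pow_orderOf_eq_one _
    have h2 := center_pow _ h1
    set M := A ^ (N + 1) with hM
    have hMN : M ^ N = 1 := by
      obtain ⟨c, hc⟩ := hg.add_one
      rw [hM, ← pow_mul, mul_comm, pow_mul, hc, ← two_mul, pow_mul, h2, one_pow]
    have hMg : (QuotientGroup.mk M : Cfsg.PSp n F) = QuotientGroup.mk A := by
      rw [hM, QuotientGroup.mk_pow, pow_succ, hN, pow_orderOf_eq_one, one_mul]
    have hMU : IsUnit (M : Matrix (Fin n ⊕ Fin n) (Fin n ⊕ Fin n) F) := by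
      refine ⟨⟨M.1, M⁻¹.1, ?_, ?_⟩, rfl⟩
      · exact congrArg Subtype.val (mul_inv_cancel M)
      · exact congrArg Subtype.val (inv_mul_cancel M)
    obtain ⟨L, b, n', hL, hML, hc⟩ := exists_TL_odd (F := F) (n := n) M.1 hMU (_root_.Cfsg.Agent.H376.SpEmb.charpoly_inv M).symm p
      (by rw [Fintype.card_sum, Fintype.card_fin]; omega) (N := N) (congrArg Subtype.val hMN) hg
    refine ⟨L, b, n', hL, ?_, hc⟩
    rw [hN, ← hMg]
    apply orderOf_dvd_of_pow_eq_one
    rw [← QuotientGroup.mk_pow]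
    have h3 : M ^ (L * p ^ b) = 1 := Subtype.ext hML
    rw [h3, QuotientGroup.mk_one]
  · intro k h1 h2 ε hε
    rw [← Nat.card_eq_fintype_card]
    exact psp_T2 h1 h2 hε
  · intro k h1 h2 ε hε
    rw [← Nat.card_eq_fintype_card]
    obtain ⟨A, hA⟩ : ∃ A : Matrix.symplecticGroup (Fin k) F, orderOf A = ts (Nat.card F) k ε := by
      rcases hε with rfl | rfl
      · rw [ts_one]
        exact exists_minus F k (by omega)
      · rw [ts_neg]
        exact exists_plus F k (by omega)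
    obtain ⟨B, hB⟩ := exists_minus F 1 (by norm_num)
    rw [pow_one] at hB
    obtain ⟨C, hC⟩ := exists_block (n := n) (a := k) (b := 1) (by omega) A hA B hB
    refine ⟨(QuotientGroup.mk C : Cfsg.PSp n F), ?_⟩
    rw [← hC]
    apply orderOf_dvd_of_pow_eq_one
    have h1 : (C ^ orderOf (QuotientGroup.mk C : Cfsg.PSp n F)) ∈
        Subgroup.center (Matrix.symplecticGroup (Fin n) F) := by
      rw [← QuotientGroup.eq_one_iff, QuotientGroup.mk_pow]
      exact pow_orderOf_eq_one _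
    have h2 := center_pow _ h1
    rw [mul_comm, pow_mul]
    exact h2
  · intro h
    rw [card_out_psp hn f.pos hf hna] at h
    exact fifth_of_dvd (Nat.gcd_dvd_left 2 _) hf h

/-- **`PSp_{2n}(u)`, `n ≥ 3`.** -/
theorem psp {q n : ℕ} {F : Type*} [Field F] [Fintype F] (h5 : ¬ 5 ∣ Fintype.card F) (hn : 3 ≤ n)
    (h : E5 q (Cfsg.PSp n F)) : False := by
  obtain ⟨p, hp⟩ := CharP.exists F
  have : Fact p.Prime := ⟨CharP.char_is_prime F p⟩
  exact (bc_psp hn p).kill h5 h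

end Cfsg.Agent.H424.Six
end

-- part: H424/Six/OrthFrob
section
/-!
# Orthogonal groups: elements of prime order acting nontrivially on the radical of a parabolic subgroup (helper424)

`orth_frob` : an isometry of odd prime order `r ≠ p` fixing a singular vector gives an element of order `r` of `POmega`
normalising and not centralising a `p`-subgroup.
-/

set_option autoImplicit false
set_option linter.unusedSectionVars false

namespace Cfsg.Agent.H424.Six.Orth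

open QuadraticMap Cfsg Matrix
open Cfsg.Agent.LieClassical.OrthCore Cfsg.Agent.LieClassical.OrthForms
open Cfsg.Agent.H377 Cfsg.Agent.LieClassical Cfsg.Agent.H424.Six

section

variable {F : Type*} [Field F] [Finite F] {ι : Type} [Fintype ι] [DecidableEq ι] (Q : QuadraticForm F (ι → F))

/-- the matrices of the elements of `Omega` -/
noncomputable def rho : Omega F ⇑Q →* Matrix ι ι F :=
  (Units.coeHom (Matrix ι ι F)).comp ((isometryGroup F ⇑Q).subtype.comp (Omega F ⇑Q).subtype)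

theorem rho_injective : Function.Injective (rho Q) := fun _ _ h => Subtype.ext (Subtype.ext (Units.ext h))

theorem orth_frob (hQ : Nondeg Q) (h5 : 5 ≤ Fintype.card ι) (h2 : (2 : F) ≠ 0) (p : ℕ) [hp : Fact p.Prime]
    [CharP F p] {r : ℕ} (hr : r.Prime) (hr2 : r ≠ 2) (hrp : r ≠ p) (g : isometryGroup F ⇑Q) (hg : orderOf g = r)
    {e : ι → F} (he : e ≠ 0) (hQe : Q e = 0)
    (hge : ((g : Matrix.GeneralLinearGroup ι F) : Matrix ι ι F) *ᵥ e = e) :
    ∃ U : Subgroup (POmega F ⇑Q), IsPGroup p U ∧ ∃ y : POmega F ⇑Q, orderOf y = r ∧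
      (∀ x ∈ U, y * x * y⁻¹ ∈ U) ∧ ∃ x ∈ U, y * x ≠ x * y := by
  classical
  have hnd := nondegenerate_of_nondeg hQ
  let y : Omega F ⇑Q := ⟨g * g, mul_self_mem_Omega Q hQ h5 g⟩
  have hy : orderOf y = r := by
    rw [← Subgroup.orderOf_coe]
    show orderOf (g * g) = r
    rw [← pow_two, Nat.Coprime.orderOf_pow, hg]
    rw [hg]
    exact (Nat.coprime_primes hr Nat.prime_two).2 hr2
  have hye : rho Q y *ᵥ e = e := by
    show (((g : Matrix.GeneralLinearGroup ι F) : Matrix ι ι F) *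
      ((g : Matrix.GeneralLinearGroup ι F) : Matrix ι ι F)) *ᵥ e = e
    rw [← mulVec_mulVec, hge, hge]
  have hpol : ∀ x, polar (⇑Q) x x = 2 * Q x := fun x => by
    rw [QuadraticMap.polar_self, nsmul_eq_mul, Nat.cast_ofNat]
  refine frob_abs (G := Omega F ⇑Q) (ρ := rho Q) (β := fun x z => polar (⇑Q) x z) (e := e) p (rho_injective Q)
    (fun x y z => by simp only [sub_eq_add_neg, QuadraticMap.polar_add_right, QuadraticMap.polar_neg_right])
    (fun x c y => by simp only [QuadraticMap.polar_smul_right, smul_eq_mul])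
    (fun x y z => by simp only [sub_eq_add_neg, QuadraticMap.polar_add_left, QuadraticMap.polar_neg_left])
    (fun x c y => by simp only [QuadraticMap.polar_smul_left, smul_eq_mul])
    (fun a v w => OmegaCenter.polar_act Q a v w)
    (fun x hx => by
      by_contra hcon
      push Not at hcon
      exact hx (hQ x hcon))
    (fun z hz => ?_) he (fun w hw => ?_) hr hrp hy hye
  · rcases (OmegaCenter.mem_center_omega_iff Q hnd (by omega) ⟨e, he, hQe⟩ z).1 hz with h | h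
    · exact ⟨1, by rw [one_smul]; exact h⟩
    · exact ⟨-1, by rw [neg_one_smul]; exact h⟩
  · -- the Siegel transformation
    have hw' : polar (⇑Q) e ((2 : F)⁻¹ • (-w)) = 0 := by
      rw [QuadraticMap.polar_smul_right, QuadraticMap.polar_neg_right, hw, neg_zero, smul_zero]
    let a := OmegaCenter.eichler Q e ((2 : F)⁻¹ • (-w)) hQe hw'
    refine ⟨⟨a * a, mul_self_mem_Omega Q hQ h5 a⟩, ?_, fun v hv => ?_⟩
    all_goals
      have h1 : (2 : F)⁻¹ • (-w) + (2 : F)⁻¹ • (-w) = -w := by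
        rw [← two_smul F, smul_smul, mul_inv_cancel₀ h2, one_smul]
      have h3 : rho Q ⟨a * a, mul_self_mem_Omega Q hQ h5 a⟩ = OmegaCenter.eichlerMatrix Q e (-w) := by
        show ((a * a : isometryGroup F ⇑Q) : Matrix.GeneralLinearGroup ι F).val = _
        rw [OmegaCenter.eichler_mul Q hQe hw' hw', OmegaCenter.coe_eichler, h1]
      rw [h3, OmegaCenter.eichlerMatrix_mulVec]
    · rw [hpol, hQe, QuadraticMap.polar_neg_left, QuadraticMap.polar_comm, hw]
      simp only [_root_.MulZeroClass.mul_zero, _root_.smul_neg, _root_.zero_smul, _root_.neg_zero, _root_.add_zero, _root_.sub_zero, _root_.QuadraticMap.map_neg]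
    · rw [hv, QuadraticMap.polar_neg_left, QuadraticMap.polar_comm (⇑Q) w v]
      simp only [_root_.smul_neg, _root_.zero_smul, _root_.neg_zero, _root_.add_zero, _root_.neg_smul, _root_.sub_neg_eq_add, _root_.QuadraticMap.map_neg, _root_.MulZeroClass.mul_zero, _root_.sub_zero]

end

end Cfsg.Agent.H424.Six.Orth
end

-- part: H424/Six/Oodd
section
/-!
# Elimination of sections `Ω_{2n+1}(u)`, `n ≥ 3`, `q = 5 ^ m` (helper424)
-/

set_option autoImplicit false
set_option linter.unusedSectionVars false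

namespace Cfsg.Agent.H424.Six

open QuadraticMap Cfsg Matrix
open Cfsg.Agent.LieClassical.OrthCore Cfsg.Agent.LieClassical.OrthForms
open Cfsg.Agent.H377 Cfsg.Agent.H376.Six Cfsg.Agent.H403 Cfsg.Agent.H424.P4

section

variable {F : Type*} [Field F] [Finite F]

/-- an isometry of odd prime order fixing a singular vector -/
theorem exists_isom_fix (h2 : (2 : F) ≠ 0) {n i : ℕ} (hi : i < n) {ε : ℤ} {r : ℕ} (hr : r.Prime)
    (h : Cfsg.Agent.H377.Elt F i ε r) :
    ∃ (g : isometryGroup F ⇑(oddForm n F)) (e : Unit ⊕ (Fin n ⊕ Fin n) → F), orderOf g = r ∧ e ≠ 0 ∧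
      oddForm n F e = 0 ∧ ((g : Matrix.GeneralLinearGroup (Unit ⊕ (Fin n ⊕ Fin n)) F) :
        Matrix (Unit ⊕ (Fin n ⊕ Fin n)) (Unit ⊕ (Fin n ⊕ Fin n)) F) *ᵥ e = e := by
  classical
  obtain ⟨k, rfl⟩ : ∃ k, n = i + (k + 1) := ⟨n - i - 1, by omega⟩
  obtain ⟨-, Q₁, g₁, hQ₁, -, hg₁, ho⟩ := h
  let Q₀ : QuadraticForm F F := QuadraticMap.sq
  have hQ₀ : Nondeg Q₀ := by
    intro x hx
    have h3 := hx 1
    simp only [polar, Q₀, QuadraticMap.sq_apply] at h3
    have h4 : 2 * x = 0 := by linear_combination h3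
    exact (mul_eq_zero.1 h4).resolve_left h2
  let P : QuadraticForm F (Fin (k + 1) ⊕ Fin (k + 1) → F) := plusForm (k + 1) F
  let R := sumQ ((sumQ Q₁ P :)) Q₀
  have hR : Nondeg R := sumQ_nondeg (sumQ_nondeg hQ₁ (nondeg_plusForm (k + 1) F)) hQ₀
  have hfr : Module.finrank F (((Fin (2 * i) → F) × (Fin (k + 1) ⊕ Fin (k + 1) → F)) × F) =
      2 * (i + (k + 1)) + 1 := by
    rw [Module.finrank_prod, Module.finrank_prod, Module.finrank_fin_fun, Module.finrank_self,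
      Module.finrank_fintype_fun_eq_card, Fintype.card_sum, Fintype.card_fin]
    ring
  obtain ⟨c, e, hc, he⟩ := exists_similar_odd hfr R hR
  let T : Module.End F (((Fin (2 * i) → F) × (Fin (k + 1) ⊕ Fin (k + 1) → F)) × F) := (g₁.prodMap 1).prodMap 1
  have hT : ∀ v, R (T v) = R v := by
    intro v
    show Q₁ (g₁ v.1.1) + P v.1.2 + Q₀ v.2 = Q₁ v.1.1 + P v.1.2 + Q₀ v.2
    rw [hg₁]
  let φ : Module.End F (((Fin (2 * i) → F) × (Fin (k + 1) ⊕ Fin (k + 1) → F)) × F) ≃ₐ[F] Matrix _ _ F :=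
    (e.symm.conjAlgEquiv F).trans LinearMap.toMatrixAlgEquiv'
  have hφ : ∀ S x, (φ S) *ᵥ x = e.symm (S (e x)) := by
    intro S x
    show (LinearMap.toMatrix' (e.symm.conj S)) *ᵥ x = _
    rw [LinearMap.toMatrix'_mulVec]
    rfl
  have hTr : T ^ r = 1 := by
    show ((g₁.prodMap 1).prodMap 1) ^ r = _
    rw [prodMap_pow', prodMap_pow', ← ho, pow_orderOf_eq_one, one_pow, one_pow]
    rfl
  have hM : ∀ x, oddForm (i + (k + 1)) F ((φ T) *ᵥ x) = oddForm (i + (k + 1)) F x := by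
    intro x
    apply mul_left_cancel₀ hc
    rw [← he, ← he, hφ, e.apply_symm_apply, hT]
  have hφr : φ T ^ r = 1 := by rw [← map_pow, hTr, map_one]
  have hr1 : r = (r - 1) + 1 := by have := hr.two_le; omega
  let M : (Matrix (Unit ⊕ (Fin (i + (k + 1)) ⊕ Fin (i + (k + 1)))) (Unit ⊕ (Fin (i + (k + 1)) ⊕ Fin (i + (k + 1)))) F)ˣ :=
    ⟨φ T, φ T ^ (r - 1), by rw [← pow_succ', ← hr1, hφr], by rw [← pow_succ, ← hr1, hφr]⟩
  have hmem : M ∈ isometryGroup F ⇑(oddForm (i + (k + 1)) F) := by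
    rw [Cfsg.Agent.LieClassical.OrthFinite.mem_isometryGroup_iff]
    exact hM
  let e₀ : ((Fin (2 * i) → F) × (Fin (k + 1) ⊕ Fin (k + 1) → F)) × F := ((0, Pi.single (Sum.inl 0) 1), 0)
  have he₀ : R e₀ = 0 := by
    show Q₁ 0 + P (Pi.single (Sum.inl 0) 1) + Q₀ 0 = 0
    rw [QuadraticMap.map_zero, QuadraticMap.map_zero, zero_add, add_zero]
    show plusForm (k + 1) F (Pi.single (Sum.inl 0) 1) = 0
    rw [coe_plusForm, quadFormPlus_apply]
    simp
  refine ⟨⟨M, hmem⟩, e.symm e₀, ?_, ?_, ?_, ?_⟩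
  · have : Fact r.Prime := ⟨hr⟩
    apply orderOf_eq_prime
    · apply Subtype.ext
      apply Units.ext
      exact hφr
    · intro h
      have h1 : φ T = 1 := congrArg (fun x : isometryGroup F ⇑(oddForm (i + (k + 1)) F) =>
        (x : Matrix.GeneralLinearGroup (Unit ⊕ (Fin (i + (k + 1)) ⊕ Fin (i + (k + 1)))) F).val) h
      have h3 : T = 1 := φ.injective (by rw [h1, map_one])
      have h4 : (g₁.prodMap (1 : Module.End F (Fin (k + 1) ⊕ Fin (k + 1) → F))) = 1 := ((prodMap_eq_one_iff _ _).1 h3).1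
      have h5 := ((prodMap_eq_one_iff _ _).1 h4).1
      rw [h5, orderOf_one] at ho
      exact hr.one_lt.ne ho
  · intro h
    have h1 : e₀ = 0 := by
      have := congrArg e h
      rwa [e.apply_symm_apply, map_zero] at this
    have h3 : (Pi.single (Sum.inl 0) 1 : Fin (k + 1) ⊕ Fin (k + 1) → F) = 0 := congrArg (fun x => x.1.2) h1
    have h4 := congrFun h3 (Sum.inl 0)
    rw [Pi.single_eq_same, Pi.zero_apply] at h4
    exact one_ne_zero h4
  · apply mul_left_cancel₀ hc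
    rw [← he, e.apply_symm_apply, he₀, mul_zero]
  · show (φ T) *ᵥ (e.symm e₀) = e.symm e₀
    rw [hφ, e.apply_symm_apply]
    congr 1
    show ((g₁ 0, Pi.single (Sum.inl 0) 1), (0 : F)) = ((0, Pi.single (Sum.inl 0) 1), 0)
    rw [map_zero]

end

end Cfsg.Agent.H424.Six
end

-- part: H424/Six/OoddKill
section
/-!
# Elimination of sections `Ω_{2n+1}(u)`, `n ≥ 3`, `q = 5 ^ m` (helper424)

`oodd` : `E5 q (POmega F (quadFormOdd n F))` is impossible for `|F|` odd, `5 ∤ |F|`, `n ≥ 3`.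
-/

set_option autoImplicit false
set_option linter.unusedSectionVars false

namespace Cfsg.Agent.H424.Six

open QuadraticMap Cfsg Matrix
open Cfsg.Agent.LieClassical.OrthCore Cfsg.Agent.LieClassical.OrthForms
open Cfsg.Agent.H377 Cfsg.Agent.H376.Six Cfsg.Agent.H403 Cfsg.Agent.H424.P4

seal _root_.Finset.sum _root_.dotProduct in
theorem bc_oodd {F : Type*} [Field F] [Fintype F] (ho : Odd (Fintype.card F)) {n : ℕ} (hn : 3 ≤ n) (p : ℕ)
    [hp : Fact p.Prime] [hFp : CharP F p] : BC (Fintype.card F) p n (POmega F (quadFormOdd n F)) := by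
  classical
  have ho' : Odd (Nat.card F) := by rwa [Nat.card_eq_fintype_card]
  have h2 : (2 : F) ≠ 0 := Cfsg.Agent.H377.OOdd.two_ne_zero_of_odd ho'
  obtain ⟨f, -, hf⟩ := FiniteField.card F p
  have hpo : Odd p := by
    rcases hp.out.eq_two_or_odd' with h | h
    · exfalso
      subst h
      rw [hf] at ho
      exact (Nat.not_even_iff_odd.2 ho) (Nat.even_pow.2 ⟨even_two, f.ne_zero⟩)
    · exact h
  have hcf : 2 * Nat.card (POmega F (quadFormOdd n F)) = Fintype.card F ^ (n ^ 2) *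
      ∏ i ∈ Finset.range n, (Fintype.card F ^ (2 * (i + 1)) - 1) :=
    Cfsg.Agent.S0292.result (F := F) rfl ho n hn
  have hu : 2 ≤ Fintype.card F := Fintype.one_lt_card
  have hfin : Finite (POmega F (quadFormOdd n F)) := by
    apply Nat.finite_of_card_ne_zero
    intro h0
    rw [h0, mul_zero] at hcf
    have h3 : 0 < Fintype.card F ^ (n ^ 2) * ∏ i ∈ Finset.range n, (Fintype.card F ^ (2 * (i + 1)) - 1) := by
      apply Nat.mul_pos (Nat.pow_pos (by omega))
      apply Finset.prod_pos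
      intro i _
      have := Nat.one_lt_pow (n := 2 * (i + 1)) (by omega) (show 1 < Fintype.card F by omega)
      omega
    omega
  have hidx : Fintype.card (Unit ⊕ (Fin n ⊕ Fin n)) = 2 * n + 1 := by
    rw [Fintype.card_sum, Fintype.card_sum, Fintype.card_fin, Fintype.card_unit]; ring
  have hfrob : ∀ r : ℕ, r.Prime → r ≠ 2 → ¬ r ∣ Fintype.card F → ∀ i, 1 ≤ i → i < n →
      r ∣ Fintype.card F ^ (2 * i) - 1 → ∃ U : Subgroup (POmega F (quadFormOdd n F)), IsPGroup p U ∧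
        ∃ y : POmega F (quadFormOdd n F), orderOf y = r ∧ (∀ x ∈ U, y * x * y⁻¹ ∈ U) ∧ ∃ x ∈ U, y * x ≠ x * y := by
    intro r hr hr2 hru i hi1 hi2 hd
    have hrp : r ≠ p := by
      rintro rfl
      apply hru
      rw [hf]
      exact dvd_pow_self _ f.ne_zero
    rw [← Nat.card_eq_fintype_card] at hd
    have hex : ∃ ε : ℤ, Cfsg.Agent.H377.Elt F i ε r := by
      rcases Cfsg.Agent.H377.OOdd.elt_of_dvd hi1 hr hd with h | h
      · exact ⟨_, h⟩
      · exact ⟨_, h⟩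
    obtain ⟨ε, hE⟩ := hex
    obtain ⟨g, e, hg, he, hQe, hge⟩ := exists_isom_fix h2 hi2 hr hE
    have h := Orth.orth_frob (oddForm n F) (nondeg_oddForm n F h2) (by rw [hidx]; omega) h2 p hr hr2 hrp g hg he hQe hge
    rwa [coe_oddForm] at h
  refine ⟨hp.out, ⟨f, f.pos, hf⟩, hn, hfin, ?_, ?_, ?_, hfrob, ?_⟩
  · intro g hg
    obtain ⟨N, hN⟩ : ∃ N, N = orderOf g := ⟨_, rfl⟩
    rw [← hN] at hg ⊢
    have hex : ∃ g' : POmega F (quadFormOdd n F), orderOf g' = N := ⟨g, hN.symm⟩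
    rw [← Cfsg.Agent.LieClassical.OmegaReindex.coe_quadOdd] at hex
    have D := Cfsg.Agent.H424.Cube.data_odd h2 (m := n) (by omega)
    obtain ⟨X, hX⟩ := Cfsg.Agent.H390.Lift.exists_isom D hg hex
    have hXm := (Cfsg.Agent.LieClassical.OrthFinite.mem_isometryGroup_iff
      (Q := Cfsg.Agent.LieClassical.OmegaReindex.quadOdd n F) (g := X.1)).1 X.2
    have hchar := Cfsg.Agent.H149.PGO.charpoly_isometry (Cfsg.Agent.LieClassical.OmegaReindex.quadOdd n F)
      (fun x hx => D.nd.1 x fun y => hx y) X.1.1 hXm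
    have hXN : X.1.1 ^ N = 1 := by
      have h3 : X ^ N = 1 := by rw [← hX, pow_orderOf_eq_one]
      exact congrArg (fun x : isometryGroup F ⇑(Cfsg.Agent.LieClassical.OmegaReindex.quadOdd n F) => x.1.1) h3
    obtain ⟨L, b, n', hL, hML, hc⟩ := exists_TL_odd (F := F) (n := n) X.1.1 X.1.isUnit hchar.symm p
      (by rw [hidx]) hXN hg
    refine ⟨L, b, n', hL, ?_, hc⟩
    rw [← hX]
    apply orderOf_dvd_of_pow_eq_one
    exact Subtype.ext (Units.ext hML)
  · intro k h1 h3 ε hε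
    rw [← Nat.card_eq_fintype_card]
    exact odd_T2 ho' hn h1 h3 hε
  · intro k h1 h3 ε hε
    rw [← Nat.card_eq_fintype_card]
    have hA := elt_ts (F := F) h1 hε dvd_rfl
    have hB := elt_ts (F := F) (k := 1) le_rfl (Or.inl rfl : (1 : ℤ) = 1 ∨ (1 : ℤ) = -1) dvd_rfl
    have hC := (hA.prod hB).prod (_root_.Cfsg.Agent.H377.elt_one (F := F) (n - k - 1))
    rw [Nat.lcm_one_right, show k + 1 + (n - k - 1) = n by omega] at hC
    have hts1 : ts (Nat.card F) 1 1 = Nat.card F - 1 := by rw [ts_one, pow_one]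
    rw [hts1] at hC
    obtain ⟨N, hN⟩ : ∃ N, Nat.lcm (ts (Nat.card F) k ε) (Nat.card F - 1) = 2 * N := by
      have h4 : 2 ∣ Nat.card F - 1 := by
        obtain ⟨c, hc⟩ := ho'
        exact ⟨c, by omega⟩
      exact h4.trans (Nat.dvd_lcm_right _ _)
    rw [hN] at hC ⊢
    obtain ⟨g, hg⟩ := Cfsg.Agent.H377.OOdd.exists_even_tor ho' hn hC
    exact ⟨g, by rw [hg]⟩
  · intro h
    have hs : IsSimpleGroup (POmega F (quadFormOdd n F)) := Cfsg.Agent.S0295.result ho n hn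
    have hna : ¬ IsMulCommutative (POmega F (quadFormOdd n F)) := by
      intro hcomm
      set u := Fintype.card F with hudef
      have hu2 : u ^ 2 % 4 = 1 := by
        have : u % 4 = 1 ∨ u % 4 = 3 := by
          obtain ⟨c, hc⟩ := ho
          (clear * - hc; omega)
        rcases this with h | h <;> rw [Nat.pow_mod, h]
      have hu4 : 4 ≤ u ^ 2 := by nlinarith only [hu]
      obtain ⟨r, hr, hrd⟩ := Nat.exists_prime_and_dvd (show (u ^ 2 + 1) / 2 ≠ 1 by omega)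
      have hrd' : r ∣ u ^ 2 + 1 := hrd.trans (Nat.div_dvd_of_dvd (by omega))
      have hr2 : r ≠ 2 := by
        rintro rfl
        omega
      have hru : ¬ r ∣ u := by
        intro h
        have h3 : r ∣ u ^ 2 := h.trans (dvd_pow_self u (by norm_num))
        exact hr.one_lt.ne' (Nat.dvd_one.1 ((Nat.dvd_add_right h3).1 hrd'))
      obtain ⟨U, -, y, -, -, x, -, hne⟩ := hfrob r hr hr2 hru 2 (by norm_num) (by omega)
        (hrd'.trans (pow_sub_dvd_two u 2).2)
      exact hne (hcomm.is_comm.comm y x)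
    have h1 := Cfsg.Agent.S0816.result (F := F) p f f.pos hf hpo n hn
    rw [Cfsg.Agent.H934.OutB.card_out_of_aut hna h1] at h
    obtain ⟨v, hv⟩ : ∃ v, Fintype.card F = v ^ 5 := by
      have h5 : 5 ∣ (f : ℕ) := by
        rcases Nat.prime_five.dvd_mul.1 h with h3 | h3
        · omega
        · exact h3
      obtain ⟨k, hk⟩ := h5
      exact ⟨p ^ k, by rw [hf, hk, ← pow_mul, mul_comm]⟩
    exact ⟨v, hv⟩

/-- **`Ω_{2n+1}(u)`, `n ≥ 3`, `u` odd.** -/
theorem oodd {q n : ℕ} {F : Type*} [Field F] [Fintype F] (h5 : ¬ 5 ∣ Fintype.card F) (ho : Odd (Fintype.card F))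
    (hn : 3 ≤ n) (h : E5 q (Cfsg.POmega F (Cfsg.quadFormOdd n F))) : False := by
  obtain ⟨p, hp⟩ := CharP.exists F
  have : Fact p.Prime := ⟨CharP.char_is_prime F p⟩
  exact (bc_oodd ho hn p).kill h5 h

end Cfsg.Agent.H424.Six
end

-- part: H876/Six/TdNum
section
/-!
# Numbers for `³D₄(v)`, BLOCK 6 (helper876)
-/

set_option autoImplicit false

namespace Cfsg.Agent.H876.Six.Td

/-- size lemma, `T = (v³ - 1)(v + 1)` -/
theorem size1 {A B v : ℕ} (hv : 2 ≤ v) (hB : B = A + 1) (hA : (v ^ 3 - 1) * (v + 1) ∣ A)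
    (hTB : v ^ 4 - v ^ 2 + 1 ∣ B) : v ^ 2 * (v ^ 4 - v ^ 2 + 1) ≤ B := by
  obtain ⟨i, hi⟩ := hA
  obtain ⟨j, hj⟩ := hTB
  have h1 : 1 ≤ v ^ 3 := Nat.one_le_pow _ _ (by omega)
  have h2 : v ^ 2 ≤ v ^ 4 := Nat.pow_le_pow_right (by omega) (by norm_num)
  have hj0 : 0 < j := Nat.pos_of_ne_zero (by rintro rfl; simp at hj; omega)
  zify [h1, h2] at *
  set V : ℤ := (v : ℤ) with hV
  set T1 : ℤ := (V ^ 3 - 1) * (V + 1) with hT1
  set TB : ℤ := V ^ 4 - V ^ 2 + 1 with hTB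
  have hTBpos : 0 < TB := by nlinarith only [sq_nonneg (V ^ 2 - 1)]
  have hT1pos : 0 < T1 := by
    have : (8 : ℤ) ≤ V ^ 3 := by nlinarith only [hv, _root_.sq_nonneg (V : ℤ), _root_.Nat.cast_nonneg (α := ℤ) (v)]
    nlinarith only [hv, hTBpos, this]
  have hX : (i * V - j * (V - 1)) * T1 = j * (V ^ 2 + V - 1) - V := by
    have e1 : i * T1 = j * TB - 1 := by linarith
    have e2 : V * TB - (V - 1) * T1 = V ^ 2 + V - 1 := by rw [hTB, hT1]; ring
    have : (i * V - j * (V - 1)) * T1 = V * (i * T1) - j * (V - 1) * T1 := by ring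
    rw [this, e1]
    linear_combination (j : ℤ) * e2
  have hpos : 0 < (j : ℤ) * (V ^ 2 + V - 1) - V := by nlinarith only [hj0, hv]
  have hX1 : 0 < (i * V - j * (V - 1) : ℤ) := by
    by_contra hcon
    push Not at hcon
    nlinarith only [hj0, hv, hT1pos, hX, hcon]
  have hle : T1 ≤ j * (V ^ 2 + V - 1) - V := by nlinarith only [hT1pos, hX, hX1]
  have h3 : (V ^ 2 + V - 1) * V ^ 2 ≤ T1 := by
    rw [hT1]
    nlinarith only [hv]
  have h4 : (V ^ 2 + V - 1) * (V ^ 2 * TB) ≤ (V ^ 2 + V - 1) * B := by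
    calc (V ^ 2 + V - 1) * (V ^ 2 * TB) = ((V ^ 2 + V - 1) * V ^ 2) * TB := by ring
      _ ≤ T1 * TB := mul_le_mul_of_nonneg_right h3 hTBpos.le
      _ ≤ (j * (V ^ 2 + V - 1) - V) * TB := mul_le_mul_of_nonneg_right hle hTBpos.le
      _ = (V ^ 2 + V - 1) * B - V * TB := by rw [hj]; ring
      _ ≤ (V ^ 2 + V - 1) * B := by nlinarith only [hv, hi, hX]
  exact le_of_mul_le_mul_left h4 (by linarith only [hv, h3])

/-- size lemma, `T = (v³ + 1)(v - 1)` -/
theorem size2 {A B v : ℕ} (hv : 2 ≤ v) (hB : B = A + 1) (hA : (v ^ 3 + 1) * (v - 1) ∣ A)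
    (hTB : v ^ 4 - v ^ 2 + 1 ∣ B) : v ^ 2 * (v ^ 4 - v ^ 2 + 1) ≤ B := by
  obtain ⟨i, hi⟩ := hA
  obtain ⟨j, hj⟩ := hTB
  have h1 : 1 ≤ v := by omega
  have h2 : v ^ 2 ≤ v ^ 4 := Nat.pow_le_pow_right (by omega) (by norm_num)
  have hj0 : 0 < j := Nat.pos_of_ne_zero (by rintro rfl; simp at hj; omega)
  zify [h1, h2] at *
  set V : ℤ := (v : ℤ) with hV
  set T1 : ℤ := (V ^ 3 + 1) * (V - 1) with hT1
  set TB : ℤ := V ^ 4 - V ^ 2 + 1 with hTB
  have hTBpos : 0 < TB := by nlinarith only [sq_nonneg (V ^ 2 - 1)]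
  have hT1pos : 0 < T1 := by
    have : (8 : ℤ) ≤ V ^ 3 := by nlinarith only [hv, _root_.sq_nonneg (V : ℤ), _root_.Nat.cast_nonneg (α := ℤ) (v)]
    nlinarith only [hv, this]
  have hX : (j * (V + 1) - i * V) * T1 = j * (V ^ 2 - V - 1) + V := by
    have e1 : i * T1 = j * TB - 1 := by linarith
    have e2 : V * TB - (V + 1) * T1 = -(V ^ 2 - V - 1) := by rw [hTB, hT1]; ring
    have : (j * (V + 1) - i * V) * T1 = j * (V + 1) * T1 - V * (i * T1) := by ring
    rw [this, e1]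
    linear_combination (-j : ℤ) * e2
  have hq : 0 < V ^ 2 - V - 1 := by nlinarith only [hv]
  have hpos : 0 < (j : ℤ) * (V ^ 2 - V - 1) + V := by nlinarith only [hj0, hq, _root_.Nat.cast_nonneg (α := ℤ) (v), _root_.Nat.cast_nonneg (α := ℤ) (j)]
  have hX1 : 0 < (j * (V + 1) - i * V : ℤ) := by
    by_contra hcon
    push Not at hcon
    nlinarith only [hB, hv, hi, hj, hTBpos, hpos, hcon]
  have hle : T1 ≤ j * (V ^ 2 - V - 1) + V := by nlinarith only [hT1pos, hX, hX1]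
  have h3 : (V ^ 2 - V - 1) * V ^ 2 ≤ T1 - V := by
    rw [hT1]
    linarith only [hv, hq]
  have h4 : (V ^ 2 - V - 1) * (V ^ 2 * TB) ≤ (V ^ 2 - V - 1) * B := by
    calc (V ^ 2 - V - 1) * (V ^ 2 * TB) = ((V ^ 2 - V - 1) * V ^ 2) * TB := by ring
      _ ≤ (T1 - V) * TB := mul_le_mul_of_nonneg_right h3 hTBpos.le
      _ ≤ (j * (V ^ 2 - V - 1)) * TB := mul_le_mul_of_nonneg_right (by linarith only [hle]) hTBpos.le
      _ = (V ^ 2 - V - 1) * B := by rw [hj]; ring
  exact le_of_mul_le_mul_left h4 hq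

/-- the case `ap = q² + q + 1` -/
theorem num2 {q v : ℕ} (hv : 2 ≤ v) (h1 : 2 * (v ^ 2 * (v ^ 4 - v ^ 2 + 1)) ≤ q ^ 3 + 1)
    (h2 : q ^ 2 + q + 1 ≤ v ^ 4 + v ^ 3 + v ^ 2) : False := by
  have h3 : 2 * q + 1 < 2 * v ^ 2 + v + 1 := by
    apply lt_of_pow_lt_pow_left₀ 2 (by positivity)
    calc (2 * q + 1) ^ 2 < 4 * (q ^ 2 + q + 1) := by linarith only []
      _ ≤ 4 * (v ^ 4 + v ^ 3 + v ^ 2) := Nat.mul_le_mul_left _ h2
      _ ≤ (2 * v ^ 2 + v + 1) ^ 2 := by linarith only [_root_.sq_nonneg (↑v : ℤ), _root_.Nat.cast_nonneg (α := ℤ) (v)]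
  have h4 : v ^ 2 ≤ v ^ 4 := Nat.pow_le_pow_right (by omega) (by norm_num)
  obtain ⟨w, rfl⟩ := Nat.exists_eq_add_of_le hv
  have e0 : (2 + w) ^ 4 - (2 + w) ^ 2 + 1 = w ^ 4 + 8 * w ^ 3 + 23 * w ^ 2 + 28 * w + 13 := by
    have : (2 + w) ^ 4 = (w ^ 4 + 8 * w ^ 3 + 23 * w ^ 2 + 28 * w + 12) + (2 + w) ^ 2 := by ring
    omega
  rw [e0] at h1
  have h5 : 2 * q ≤ 2 * w ^ 2 + 9 * w + 9 := by
    have : 2 * (2 + w) ^ 2 + (2 + w) + 1 = 2 * w ^ 2 + 9 * w + 11 := by ring
    omega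
  have h6 : (2 * q) ^ 3 ≤ (2 * w ^ 2 + 9 * w + 9) ^ 3 := Nat.pow_le_pow_left h5 3
  have h7 : 16 * ((2 + w) ^ 2 * (w ^ 4 + 8 * w ^ 3 + 23 * w ^ 2 + 28 * w + 13)) =
      (2 * w ^ 2 + 9 * w + 9) ^ 3 + 8 + (8 * w ^ 6 + 84 * w ^ 5 + 350 * w ^ 4 + 731 * w ^ 3 + 799 * w ^ 2 + 437 * w + 95) := by
    ring
  have h8 : (2 * q) ^ 3 = 8 * q ^ 3 := by ring
  have h9 : 0 ≤ 8 * w ^ 6 + 84 * w ^ 5 + 350 * w ^ 4 + 731 * w ^ 3 + 799 * w ^ 2 + 437 * w := Nat.zero_le _
  omega

/-- the case `am = q² - q + 1` -/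
theorem num3 {q v : ℕ} (hq : 5 ≤ q) (hv : 2 ≤ v) (h1 : 2 * (v ^ 2 * (v ^ 4 - v ^ 2 + 1)) ≤ q ^ 3 + 1)
    (h2 : q ^ 2 - q + 1 ≤ v ^ 4 - v ^ 2 + 1) : False := by
  have h4 : v ^ 2 ≤ v ^ 4 := Nat.pow_le_pow_right (by omega) (by norm_num)
  have h5 : q ≤ q ^ 2 := by nlinarith only [hq]
  zify [h4, h5] at *
  set Q : ℤ := (q : ℤ) with hQ
  set V : ℤ := (v : ℤ) with hV
  have h6 : Q ^ 3 + 1 = (Q + 1) * (Q ^ 2 - Q + 1) := by ring
  have h7 : 0 < V ^ 4 - V ^ 2 + 1 := by nlinarith only [sq_nonneg (V ^ 2 - 1)]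
  have h8 : 2 * V ^ 2 ≤ Q + 1 := by
    have h9 : (2 * V ^ 2) * (V ^ 4 - V ^ 2 + 1) ≤ (Q + 1) * (V ^ 4 - V ^ 2 + 1) := by
      calc (2 * V ^ 2) * (V ^ 4 - V ^ 2 + 1) = 2 * (V ^ 2 * (V ^ 4 - V ^ 2 + 1)) := by ring
        _ ≤ Q ^ 3 + 1 := h1
        _ = (Q + 1) * (Q ^ 2 - Q + 1) := h6
        _ ≤ (Q + 1) * (V ^ 4 - V ^ 2 + 1) := mul_le_mul_of_nonneg_left h2 (by linarith)
    exact le_of_mul_le_mul_right h9 h7
  have h9 : (2 * V ^ 2) ^ 2 ≤ (Q + 1) ^ 2 := pow_le_pow_left₀ (by positivity) h8 2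
  nlinarith only [hq, h2, h9]

/-- the case `ap = p` -/
theorem num4 {q v a : ℕ} (hq : 5 ≤ q) (hv : 2 ≤ v) (h1 : 2 * (v ^ 4 - v ^ 2 + 1) ≤ q ^ 3 + 1)
    (h2 : q ^ 2 + q + 1 ≤ 3 * a) (h3 : a ≤ v ^ 2) : False := by
  have h4 : v ^ 2 ≤ v ^ 4 := Nat.pow_le_pow_right (by omega) (by norm_num)
  zify [h4] at *
  set s : ℤ := 3 * a with hs
  have h5 : (a : ℤ) ^ 2 - a + 1 ≤ v ^ 4 - v ^ 2 + 1 := by
    have e : (v : ℤ) ^ 4 = (v ^ 2) ^ 2 := by ring
    rw [e]
    have h6 : (1 : ℤ) ≤ a := by linarith only [hq, h2, _root_.sq_nonneg (↑q : ℤ)]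
    nlinarith only [hq, h3, h2]
  have h6 : (q : ℤ) ^ 4 + 2 * q ^ 3 - q + 7 ≤ s ^ 2 - 3 * s + 9 := by
    have h7 : (q : ℤ) ^ 4 + 2 * q ^ 3 - q + 7 = (q ^ 2 + q + 1) ^ 2 - 3 * (q ^ 2 + q + 1) + 9 := by ring
    rw [h7]
    nlinarith only [hq, h2]
  have h7 : 2 * (s ^ 2 - 3 * s + 9) ≤ 9 * ((q : ℤ) ^ 3 + 1) := by
    have h8 : 2 * (s ^ 2 - 3 * s + 9) = 9 * (2 * ((a : ℤ) ^ 2 - a + 1)) := by rw [hs]; ring
    rw [h8]
    linarith
  obtain ⟨k, hk⟩ : ∃ k : ℤ, (q : ℤ) = 5 + k := ⟨q - 5, by ring⟩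
  have hk0 : 0 ≤ k := by linarith
  rw [hk] at h6 h7
  have h8 : 0 ≤ 2 * k ^ 4 + 35 * k ^ 3 + 225 * k ^ 2 + 623 * k := by (clear * - hk0; positivity)
  linarith only [h7, h6, h8]

theorem ne_25 {v : ℕ} (hv : 2 ≤ v) :
    v ^ 4 - v ^ 2 + 1 ≠ 25 ∧ (v ^ 3 - 1) * (v + 1) ≠ 25 ∧ (v ^ 3 + 1) * (v - 1) ≠ 25 := by
  rcases Nat.lt_or_ge v 3 with h | h
  · have : v = 2 := by omega
    subst this
    decide
  · have h3 : 3 ^ 3 ≤ v ^ 3 := Nat.pow_le_pow_left h 3
    have h2 : 3 ^ 2 ≤ v ^ 2 := Nat.pow_le_pow_left h 2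
    refine ⟨?_, ?_, ?_⟩
    · have : 9 * v ^ 2 ≤ v ^ 4 := by nlinarith only [h2]
      omega
    · have : 26 * 4 ≤ (v ^ 3 - 1) * (v + 1) := Nat.mul_le_mul (by omega) (by omega)
      omega
    · have : 28 * 2 ≤ (v ^ 3 + 1) * (v - 1) := Nat.mul_le_mul (by omega) (by omega)
      omega

end Cfsg.Agent.H876.Six.Td
end

-- part: H876/Six/Td4
section
/-!
# BLOCK 6, `q = 5 ^ m`: `³D₄(v)` (helper876, task 2624 of helper376)

`td4` : `E5 q S → False` for `S = ³D₄(v)`, `5 ∤ v`.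
-/

set_option autoImplicit false

namespace Cfsg.Agent.H876.Six.Td

open Cfsg Cfsg.Lie Cfsg.Agent.H376.Six Cfsg.Agent.H60.Six5
open Cfsg.Agent.OrdDiv Cfsg.Agent.H436
open Cfsg.Agent.H378 Cfsg.Agent.H378.ExcAdj Cfsg.Agent.H378.TwAdj Cfsg.Agent.H378.TwRows

universe u

theorem exists_mul_of_pr {G : Type*} [Group G] {r s : ℕ} (hr : r.Prime) (hs : s.Prime) (hne : r ≠ s) (h : Pr G r s) :
    ∃ x : G, orderOf x = r * s := by
  obtain ⟨x, y, hx, hy, hc⟩ := h
  refine ⟨x * y, ?_⟩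
  rw [hc.orderOf_mul_eq_mul_orderOf_of_coprime (by rw [hx, hy]; exact (Nat.coprime_primes hr hs).2 hne), hx, hy]

set_option maxHeartbeats 1000000 in
theorem td4_main {K : Type u} [Field K] [Fintype K] {q v : ℕ} (hv : IsPrimePow v) (hK : Fintype.card K = v ^ 3)
    (h5 : ¬ 5 ∣ v) (h : E5 q ↥(twistedD4 K v)) : False := by
  obtain ⟨p, e, hp', he, hve⟩ := id hv
  have hp := hp'.nat_prime
  have hpv : p ∣ v := hve ▸ dvd_pow_self p he.ne'
  have hp5 : p ≠ 5 := fun h1 => h5 (h1 ▸ hpv)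
  have hC : CharP K p := by
    obtain ⟨r, hr⟩ := CharP.exists K
    obtain ⟨n, hpr, hn⟩ := FiniteField.card K r
    have h1 : r ∣ p ^ (e * 3) := by rw [pow_mul, hve, ← hK, hn]; exact dvd_pow_self r n.pos.ne'
    have h2 := (Nat.prime_dvd_prime_iff_eq hpr hp).1 (hpr.dvd_of_dvd_pow h1)
    rwa [h2] at hr
  have hv2 := hv.two_le
  have P := pow5 h.pow
  have hq5 := P.le
  have hq2 : 2 ≤ q := by omega
  have hA := P.A
  have hB := P.B
  -- the torus numbers
  set TB := v ^ 4 - v ^ 2 + 1 with hTB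
  set T1 := (v ^ 3 - 1) * (v + 1) with hT1
  set T2 := (v ^ 3 + 1) * (v - 1) with hT2
  obtain ⟨xB, hxB⟩ := Cfsg.Agent.H437.Iso.d4_order12 hv hK
  obtain ⟨x1, hx1⟩ := Cfsg.Agent.H437.Iso.d4_orderA hv hK
  obtain ⟨x2, hx2⟩ := Cfsg.Agent.H437.Iso.d4_orderB hv hK
  have uB : Ub q TB := h.ub' ⟨xB, hxB⟩
  have u1 : Ub q T1 := h.ub' ⟨x1, hx1⟩
  have u2 : Ub q T2 := h.ub' ⟨x2, hx2⟩
  have hv3 : 2 ^ 3 ≤ v ^ 3 := Nat.pow_le_pow_left hv2 3
  have hv22 : v ≤ v ^ 2 := by nlinarith only []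
  have d1 : v ^ 3 - 1 ∣ T1 := Dvd.intro _ rfl
  have d2 : v ^ 3 + 1 ∣ T2 := Dvd.intro _ rfl
  have e1 : v ^ 3 - 1 = (v ^ 2 + v + 1) * (v - 1) := cube_sub v
  have e2 : v ^ 3 + 1 = (v ^ 2 - v + 1) * (v + 1) := cube_add hv2
  have d3 : v ^ 2 + v + 1 ∣ T1 := (Dvd.intro _ e1.symm).trans d1
  have d4 : v ^ 2 - v + 1 ∣ T2 := (Dvd.intro _ e2.symm).trans d2
  have n25 := ne_25 hv2
  rcases h.five with ⟨⟨xa, hxa⟩, ⟨xb, hxb⟩, -⟩ | ⟨x, hx⟩
  swap
  · -- an element of order 25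
    obtain ⟨j, m, hn, hpm, hc⟩ := ord_td4 hp he hve.symm hK x
    rw [hx] at hn
    have hj : j = 0 := by
      by_contra hj
      have h1 : p ∣ 5 ^ 2 := by
        have : (5 : ℕ) ^ 2 = p ^ j * m := hn
        rw [this]
        exact (dvd_pow_self p hj).mul_right m
      exact hp5 ((Nat.prime_dvd_prime_iff_eq hp Nat.prime_five).1 (hp.dvd_of_dvd_pow h1))
    rw [hj, pow_zero, one_mul] at hn
    rw [← hn] at hc
    have f1 : 25 ∣ T1 → False := fun h1 => n25.2.1 (eq_25 P h1 u1)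
    have f2 : 25 ∣ T2 → False := fun h1 => n25.2.2 (eq_25 P h1 u2)
    rcases hc with ⟨-, hc | hc | hc⟩ | hc | ⟨-, hc | hc⟩ | hc | hc
    · exact n25.1 (eq_25 P hc uB)
    · exact f1 hc
    · exact f2 hc
    · norm_num at hc
    · exact f1 (hc.trans d1)
    · exact f2 (hc.trans d2)
    · exact f1 (hc.trans d3)
    · exact f2 (hc.trans d4)
  · have hapge := ap_ge P
    have hamge := am_ge P
    -- `B` is odd
    have hBodd : ¬ 2 ∣ (q ^ 3 + 1) / 2 := by
      have h1 : q ^ 3 % 4 = 1 := by rw [Nat.pow_mod, P.mod]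
      omega
    -- no element of order `2 r`, `r ∣ am`
    have hno2 : ∀ r : ℕ, r.Prime → r ∣ am q → ∀ n : ℕ, r ∣ n → 2 ∣ n → Ub q n → False := by
      intro r hr hra n hrn h2n hu
      exact hBodd (h2n.trans (dvd_B P hr hra hrn hu))
    -- the characteristic does not divide `am`
    have hpr2 : 2 ∣ Nat.card ↥(twistedD4 K v) := by
      have h1 : 2 ∣ T1 ∨ 2 ∣ v := by
        by_cases h2 : 2 ∣ v
        · exact Or.inr h2
        · left
          exact Dvd.dvd.mul_left (by (clear * - h2; omega)) _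
      rcases h1 with h1 | h1
      · have h2 : orderOf x1 = T1 := hx1
        exact h1.trans (by rw [← h2]; exact orderOf_dvd_natCard x1)
      · rw [Cfsg.Agent.S1067.result hv hK]
        have h2 : 2 ∣ v ^ 12 := h1.trans (dvd_pow_self v (by norm_num))
        exact ((h2.mul_right _).mul_right _).mul_right _
    have hpam : ¬ p ∣ am q := by
      intro h1
      have h2 := (am_ne hq2 hp h1).1
      rcases pr_td4 hv hK hp hpv Nat.prime_two hpr2 with h3 | h3 | h3
      · exact h2 h3.symm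
      · obtain ⟨y, hy⟩ := exists_mul_of_pr Nat.prime_two hp h2.symm h3
        exact hno2 p hp h1 (2 * p) (Dvd.intro_left 2 rfl) (Dvd.intro p rfl) (h.ub' ⟨y, hy⟩)
      · have h4 := ExcNear.mod_of_od Nat.prime_two h3 (by norm_num)
        norm_num at h4
    -- `am ∣ TB`
    have hamB : am q ∣ TB := by
      obtain ⟨j, m, hn, hpm, hc⟩ := ord_td4 hp he hve.symm hK xb
      rw [hxb] at hn
      have hj : j = 0 := by
        by_contra hj
        exact hpam (hn ▸ (dvd_pow_self p hj).mul_right m)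
      rw [hj, pow_zero, one_mul] at hn
      rw [← hn] at hc
      obtain ⟨r, hr, hra⟩ := exists_am P
      have hrp : r ≠ p := fun h1 => hpam (h1 ▸ hra)
      have hrc : r ∣ Nat.card ↥(twistedD4 K v) := (hra.trans (hxb ▸ dvd_rfl)).trans (orderOf_dvd_natCard xb)
      have key : ∀ T : ℕ, Ub q T → am q ∣ T → (¬ 2 ∣ v → 2 ∣ T) → r ∣ v ^ 6 - 1 → False := by
        intro T hT h1 h2 h3
        by_cases h2v : 2 ∣ v
        · have hp2 : p = 2 := by
            have h4 : 2 ∣ p ^ e := hve ▸ h2v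
            exact ((Nat.prime_dvd_prime_iff_eq Nat.prime_two hp).1 (Nat.prime_two.dvd_of_dvd_pow h4)).symm
          rcases pr_td4 hv hK hp hpv hr hrc with h3' | h3' | h3'
          · exact hrp h3'
          · obtain ⟨y, hy⟩ := exists_mul_of_pr hr hp hrp h3'
            rw [hp2] at hy
            exact hno2 r hr hra (r * 2) (Dvd.intro 2 rfl) (Dvd.intro_left r rfl) (h.ub' ⟨y, hy⟩)
          · have h6 : od v r ∣ 6 := by
              rw [od, ← CycTab.dvd_iff]
              have h7 : 1 ≤ v ^ 6 := Nat.one_le_pow _ _ (by omega)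
              have h8 : ((v ^ 6 - 1 : ℕ) : ℤ) = (v : ℤ) ^ 6 - 1 := by push_cast [h7]; ring
              rw [← h8]
              exact Int.natCast_dvd_natCast.2 h3
            rw [h3'] at h6
            norm_num at h6
        · exact hno2 r hr hra T (hra.trans h1) (h2 h2v) hT
      have k1 : v ^ 3 - 1 ∣ v ^ 6 - 1 := by
        have := Nat.sub_dvd_pow_sub_pow (v ^ 3) 1 2
        rwa [one_pow, ← pow_mul] at this
      have k2 : v ^ 3 + 1 ∣ v ^ 6 - 1 := by
        refine ⟨v ^ 3 - 1, ?_⟩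
        have h1 := Nat.sq_sub_sq (v ^ 3) 1
        rw [one_pow, ← pow_mul] at h1
        exact h1
      have k3 : v + 1 ∣ v ^ 6 - 1 := (Dvd.intro_left _ e2.symm).trans k2
      have k4 : v - 1 ∣ v ^ 6 - 1 := (Dvd.intro_left _ e1.symm).trans k1
      have f1 : am q ∣ T1 → False := by
        intro h1
        refine key T1 u1 h1 (fun h2 => Dvd.dvd.mul_left (by (clear * - h2; omega)) _) ?_
        rcases hr.dvd_mul.1 (hra.trans h1) with h3 | h3
        · exact h3.trans k1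
        · exact h3.trans k3
      have f2 : am q ∣ T2 → False := by
        intro h1
        refine key T2 u2 h1 (fun h2 => Dvd.dvd.mul_left (by (clear * - h2; omega)) _) ?_
        rcases hr.dvd_mul.1 (hra.trans h1) with h3 | h3
        · exact h3.trans k2
        · exact h3.trans k4
      rcases hc with ⟨-, hc | hc | hc⟩ | hc | ⟨-, hc | hc⟩ | hc | hc
      · exact hc
      · exact (f1 hc).elim
      · exact (f2 hc).elim
      · omega
      · exact (f1 (hc.trans d1)).elim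
      · exact (f2 (hc.trans d2)).elim
      · exact (f1 (hc.trans d3)).elim
      · exact (f2 (hc.trans d4)).elim
    have hTBB := dvd_B' P hamB uB
    have hTBle := Nat.le_of_dvd (by omega) hTBB
    have hv4 : v ^ 2 ≤ v ^ 4 := Nat.pow_le_pow_right (by omega) (by norm_num)
    have hTB0 : 0 < TB := by omega
    -- the end
    have fin : (T1 ∣ (q ^ 3 - 1) / 2 ∨ T2 ∣ (q ^ 3 - 1) / 2) → ap q ≤ v ^ 4 + v ^ 3 + v ^ 2 → False := by
      intro h1 h2
      have h3 : v ^ 2 * TB ≤ (q ^ 3 + 1) / 2 := by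
        rcases h1 with h1 | h1
        · exact size1 hv2 hB h1 hTBB
        · exact size2 hv2 hB h1 hTBB
      have h4 : 2 * (v ^ 2 * TB) ≤ q ^ 3 + 1 := by (clear * - h3; omega)
      rcases ap_am_cases P with ⟨h6, -⟩ | ⟨-, -, h6⟩
      · rw [h6] at h2
        exact num2 hv2 h4 h2
      · refine num3 hq5 hv2 h4 ?_
        rw [← h6]
        exact Nat.le_of_dvd hTB0 hamB
    obtain ⟨j, m, hn, hpm, hc⟩ := ord_td4 hp he hve.symm hK xa
    rw [hxa] at hn
    have hpv' : p ≤ v := Nat.le_of_dvd (by omega) hpv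
    have hp7 : j ≠ 0 → 7 ≤ p ∧ j ≤ 2 := by
      intro hj
      have h1 : p ∣ ap q := hn ▸ (dvd_pow_self p hj).mul_right m
      obtain ⟨h2, h3, -⟩ := ap_ne hq2 hp h1
      have h4 : p ≠ 4 := by rintro rfl; norm_num at hp
      have h6 : p ≠ 6 := by rintro rfl; norm_num at hp
      have h7 : 7 ≤ p := by have := hp.two_le; (clear * - hp5 h2 h3 h4 h6 this; omega)
      exact ⟨h7, unip_le hp h7 xa (hxa.trans hn)⟩
    have hpj2 : p ^ j ≤ v ^ 2 := by
      rcases Nat.eq_zero_or_pos j with h1 | h1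
      · rw [h1, pow_zero]; linarith only [hv2, hv22]
      · have h2 := (hp7 h1.ne').2
        calc p ^ j ≤ p ^ 2 := Nat.pow_le_pow_right hp.pos h2
          _ ≤ v ^ 2 := Nat.pow_le_pow_left hpv' 2
    have hm0 : 0 < m := Nat.pos_of_ne_zero (by rintro rfl; rw [mul_zero] at hn; omega)
    have case1 : m = 1 → False := by
      intro h1
      rw [h1, mul_one] at hn
      exact num4 hq5 hv2 (a := ap q) (by (clear * - hA hB hxB hBodd hTBle; omega)) (three_ap hq2) (hn ▸ hpj2)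
    have hdiv : m ≠ 1 → (m ∣ T1 ∨ m ∣ T2) → (T1 ∣ (q ^ 3 - 1) / 2 ∨ T2 ∣ (q ^ 3 - 1) / 2) := by
      intro h1 h2
      obtain ⟨r, hr, hrm⟩ := Nat.exists_prime_and_dvd h1
      have hra : r ∣ ap q := hn ▸ hrm.mul_left _
      rcases h2 with h2 | h2
      · exact Or.inl (dvd_A P hr hra (hrm.trans h2) u1)
      · exact Or.inr (dvd_A P hr hra (hrm.trans h2) u2)
    by_cases hm1 : m = 1
    · exact case1 hm1
    rcases hc with ⟨hj, hc | hc | hc⟩ | hc | ⟨hj, hc | hc⟩ | hc | hc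
    · rw [hj, pow_zero, one_mul] at hn
      exact not_both P (hn ▸ hc) hamB uB
    · refine fin (hdiv hm1 (Or.inl hc)) ?_
      rw [hj, pow_zero, one_mul] at hn
      rw [hn]
      refine (Nat.le_of_dvd (Nat.mul_pos (by (clear * - hv3; omega)) (by (clear * - hve hv2; omega))) hc).trans ?_
      calc (v ^ 3 - 1) * (v + 1) ≤ v ^ 3 * (v + 1) := Nat.mul_le_mul_right _ (Nat.sub_le _ _)
        _ = v ^ 4 + v ^ 3 := by ring
        _ ≤ v ^ 4 + v ^ 3 + v ^ 2 := by omega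
    · refine fin (hdiv hm1 (Or.inr hc)) ?_
      rw [hj, pow_zero, one_mul] at hn
      rw [hn]
      refine (Nat.le_of_dvd (Nat.mul_pos (by omega) (by omega)) hc).trans ?_
      calc (v ^ 3 + 1) * (v - 1) ≤ (v ^ 3 + 1) * v := Nat.mul_le_mul_left _ (Nat.sub_le _ _)
        _ = v ^ 4 + v := by ring
        _ ≤ _ := by omega
    · exact hm1 hc
    · refine fin (hdiv hm1 (Or.inl (hc.trans d1))) ?_
      rw [hn]
      have h1 : p ^ j ≤ v := by
        calc p ^ j ≤ p ^ 1 := Nat.pow_le_pow_right hp.pos hj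
          _ ≤ v := by rw [pow_one]; exact hpv'
      have h2 : m ≤ v ^ 3 := (Nat.le_of_dvd (by (clear * - hv3; omega)) hc).trans (Nat.sub_le _ _)
      calc p ^ j * m ≤ v * v ^ 3 := Nat.mul_le_mul h1 h2
        _ = v ^ 4 := by ring
        _ ≤ _ := by (clear * - e2 hm0 h2; omega)
    · refine fin (hdiv hm1 (Or.inr (hc.trans d2))) ?_
      rw [hn]
      have h1 : p ^ j ≤ v := by
        calc p ^ j ≤ p ^ 1 := Nat.pow_le_pow_right hp.pos hj
          _ ≤ v := by rw [pow_one]; exact hpv'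
      have h2 : m ≤ v ^ 3 + 1 := Nat.le_of_dvd (by omega) hc
      calc p ^ j * m ≤ v * (v ^ 3 + 1) := Nat.mul_le_mul h1 h2
        _ = v ^ 4 + v := by ring
        _ ≤ _ := by omega
    · refine fin (hdiv hm1 (Or.inl (hc.trans d3))) ?_
      rw [hn]
      have h2 : m ≤ v ^ 2 + v + 1 := Nat.le_of_dvd (by omega) hc
      calc p ^ j * m ≤ v ^ 2 * (v ^ 2 + v + 1) := Nat.mul_le_mul hpj2 h2
        _ = v ^ 4 + v ^ 3 + v ^ 2 := by ring
    · refine fin (hdiv hm1 (Or.inr (hc.trans d4))) ?_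
      rw [hn]
      have h2 : m ≤ v ^ 2 - v + 1 := Nat.le_of_dvd (by omega) hc
      calc p ^ j * m ≤ v ^ 2 * (v ^ 2 + v + 1) := Nat.mul_le_mul hpj2 (by omega)
        _ = v ^ 4 + v ^ 3 + v ^ 2 := by ring

/-- **`³D₄(v)`, `5 ∤ v`** -/
theorem td4 {q w : ℕ} {S : Type u} [Group S] (hS : IsNamed (.td4 w) S) (h5 : ¬ 5 ∣ w) (h : E5 q S) : False := by
  obtain ⟨F, _, _, hF, ⟨e⟩⟩ := hS.real
  exact td4_main hS.cond hF h5 (h.congr e)

end Cfsg.Agent.H876.Six.Td
end

-- part: H376/Six/RowsFive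
section
/-!
# The rows, `q = 5 ^ m` (helper376, block 6)
-/

set_option autoImplicit false

namespace Cfsg.Agent.H376.Six

open Cfsg Cfsg.Agent.H420.QR Cfsg.Agent.OrdDiv Cfsg.Agent.H436

universe u v w

/-- **The rows, `q = 5 ^ m`.** -/
theorem rows5 : Rows5.{u} where
  psl_two := fun ho h4 h => Cfsg.Agent.H60.Six5.psl_two ho h4 h
  psl_three := fun ho h => Cfsg.Agent.H481.Six.psl_three ho h
  psl := fun ho hn h => Cfsg.Agent.H126.Six.psl ho hn h
  psp_two := fun ho h3 h => Cfsg.Agent.H60.Six5.psp_two ho h3 h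
  psp := fun ho hn h => Cfsg.Agent.H424.Six.psp ho hn h
  psu_three := fun hF ho h3 h => Cfsg.Agent.H481.Six.psu_three hF ho h3 h
  psu := fun hF ho hn h => Cfsg.Agent.H127.Six.psu hF ho hn h
  oodd := fun h5 ho hn h => Cfsg.Agent.H424.Six.oodd h5 ho hn h
  oplus := fun ho hn h => Cfsg.Agent.H157.Six.oplus ho hn h
  ominus := fun ho hn _ _ hab h => Cfsg.Agent.H157.Six.ominus ho hn hab h
  g2 := fun ho h3 h => Cfsg.Agent.H371.Six.g2 ho h3 h
  f4 := fun ho h => Cfsg.Agent.H371.Six.f4 ho h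
  e6 := fun ho h => Cfsg.Agent.H75.M5h.e6 ho h
  e7 := fun ho h => Cfsg.Agent.H75.M5h.e7 ho h
  e8 := fun ho h => Cfsg.Agent.H75.M5h.e8 ho h
  te6 := fun hS h5 h => Cfsg.Agent.H75.M5h.te6 hS h5 h
  td4 := fun hS h5 h => Cfsg.Agent.H876.Six.Td.td4 hS h5 h
  tf4 := fun hS h => Cfsg.Agent.H228.Six.tf4 hS h
  sz := fun hS h => Cfsg.Agent.H60.Six5.suzuki (by
    obtain ⟨F, i1, i2, m, hm, hF, hq, e⟩ := hS.real
    exact ⟨F, i1, i2, m, hm, hF.trans hq, e⟩) h
  ree := fun hS h => Cfsg.Agent.H60.Six5.ree (by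
    obtain ⟨F, i1, i2, m, hm, hF, hq, e⟩ := hS.real
    exact ⟨F, i1, i2, m, hm, hF.trans hq, e⟩) h

end Cfsg.Agent.H376.Six
end

private theorem dce_1c97ed386b2f : _root_.True := by
  try have : _root_.True := by simp only [_root_.Cfsg.Agent.H374.Quad.Om.eq_1]
  exact _root_.True.intro
end

-- part: H376/Six/MainFive
section
prune_inst 0x20000000000000000000000000000000
set_option linter.all false
open scoped Cfsg.Agent.FastGrp

/-!
# The recognition, `q = 5 ^ m` (helper376)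

* `main_five` : `ω(G) = ω(L)`, `L` one of `PSp₆(q)`, `PΩ₇(q)`, `PΩ₈⁺(q)`, `q = 5 ^ m` : `G` is one of them;
* `b3_five`, `c3_five`, `d4_five` : `G ≃ L`.
-/

set_option autoImplicit false

namespace Cfsg.Agent.H376.Six

open Cfsg Cfsg.Agent.H420.QR

universe u v w

theorem main_five (rows : Rows5.{u}) {F : Type v} [Field F] [Fintype F] {m : ℕ} (hm : 1 ≤ m)
    (hF : Fintype.card F = 5 ^ m) {L : Type w}
    [Group L] [Finite L] (hL : LHyp F L) {G : Type u} [Group G] [Finite G]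
    (h : Set.range (orderOf : G → ℕ) = Set.range (orderOf : L → ℕ)) (hX : X5 (Fintype.card F) G) :
    Nonempty (G ≃* POmega F (quadFormOdd 3 F)) ∨ Nonempty (G ≃* PSp 3 F) ∨
      Nonempty (G ≃* POmega F (quadFormPlus 4 F)) := by
  have := charP_of_card Nat.prime_five hF
  obtain ⟨K, _, S, _, hR⟩ := hX.exists_red
  rcases sect_five rows hL h hX hR with ⟨⟨e⟩⟩ | ⟨⟨e⟩⟩ | ⟨⟨e⟩⟩ | ⟨⟨e⟩⟩
  · exact Or.inl (finish_five hX hR e (x5_b3 F hm hF).a (x5_b3 F hm hF).b
      (fun V _ _ ht hV e' hub => H970.Cov.nc_b3 hm hF V ht hV e' hub) H382.Own5.ownCov_odd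
      (fun T _ hc e' hub => H425.OF.out_b3 hm hF T hc e' hub))
  · exact Or.inr (Or.inl (finish_five hX hR e (x5_c3 F hm hF).a (x5_c3 F hm hF).b
      (fun V _ _ ht hV e' hub => H411.Six.nc_c3 hm hF V ht hV e' hub) H382.Own5.ownCov_sp
      (fun T _ hc e' hub => H772.Six.out_c3 hm hF T hc e' hub)))
  · exact Or.inr (Or.inr (finish_five hX hR e (x5_d4 F hm hF).a (x5_d4 F hm hF).b
      (fun V _ _ ht hV e' hub => nc_d4 hm hF V ht hV e' hub) H382.Own5.ownCov_plus
      (fun T _ hc e' hub => H425.OF.out_d4 hm hF T hc e' hub)))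
  · exact (not_g2_five @Cfsg.Agent.H552.TopPrime.top_prime hX hR e).elim

theorem range_of_equiv {X Y : Type*} [Group X] [Group Y] (e : X ≃* Y) :
    Set.range (orderOf : X → ℕ) = Set.range (orderOf : Y → ℕ) := by
  ext m
  constructor
  · rintro ⟨x, rfl⟩
    exact ⟨e x, MulEquiv.orderOf_eq e x⟩
  · rintro ⟨y, rfl⟩
    exact ⟨e.symm y, MulEquiv.orderOf_eq e.symm y⟩

theorem odd_of_five {F : Type v} [Fintype F] {m : ℕ} (hF : Fintype.card F = 5 ^ m) : Odd (Fintype.card F) := by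
  rw [hF]
  exact Odd.pow (by decide)

/-- **S3470.** -/
theorem b3_five (rows : Rows5.{u}) {F : Type v} [Field F] [Fintype F] {m : ℕ} (hm : 1 ≤ m)
    (hF : Fintype.card F = 5 ^ m) {G : Type u} [Group G] [Finite G]
    (h : Set.range (orderOf : G → ℕ) = Set.range (orderOf : POmega F (quadFormOdd 3 F) → ℕ)) :
    Nonempty (G ≃* POmega F (quadFormOdd 3 F)) := by
  rcases main_five rows hm hF (Or.inr (Or.inl ⟨odd_of_five hF, ⟨MulEquiv.refl _⟩⟩)) h ((x5_b3 F hm hF).of_range h)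
    with h1 | ⟨⟨e⟩⟩ | ⟨⟨e⟩⟩
  · exact h1
  · exact absurd (h.symm.trans (range_of_equiv e)) (Cfsg.Agent.S2362.result (odd_of_five hF) 3 le_rfl)
  · exfalso
    obtain ⟨g, hg⟩ := H206.LowPlus.five_e (F := F) hF
    obtain ⟨x, hx⟩ := exists_of_range h.symm ⟨e.symm g, rfl⟩
    rw [MulEquiv.orderOf_eq, hg] at hx
    exact H970.Om7.ne hm hF x hx

/-- **S3467, `q = 5 ^ m`.** -/
theorem c3_five (rows : Rows5.{u}) {F : Type v} [Field F] [Fintype F] {m : ℕ} (hm : 1 ≤ m)
    (hF : Fintype.card F = 5 ^ m) {G : Type u} [Group G] [Finite G]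
    (h : Set.range (orderOf : G → ℕ) = Set.range (orderOf : PSp 3 F → ℕ)) : Nonempty (G ≃* PSp 3 F) := by
  rcases main_five rows hm hF (Or.inl ⟨MulEquiv.refl _⟩) h ((x5_c3 F hm hF).of_range h) with ⟨⟨e⟩⟩ | h1 | ⟨⟨e⟩⟩
  · exact absurd ((range_of_equiv e).symm.trans h) (Cfsg.Agent.S2362.result (odd_of_five hF) 3 le_rfl)
  · exact h1
  · exfalso
    obtain ⟨g, hg⟩ := H206.LowPlus.five_e (F := F) hF
    obtain ⟨x, hx⟩ := exists_of_range h.symm ⟨e.symm g, rfl⟩
    rw [MulEquiv.orderOf_eq, hg] at hx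
    exact H411.Six.ne_five hm hF x hx

/-- **S3471, `q = 5 ^ m`.** -/
theorem d4_five (rows : Rows5.{u}) {F : Type v} [Field F] [Fintype F] {m : ℕ} (hm : 1 ≤ m)
    (hF : Fintype.card F = 5 ^ m) {G : Type u} [Group G] [Finite G]
    (h : Set.range (orderOf : G → ℕ) = Set.range (orderOf : POmega F (quadFormPlus 4 F) → ℕ)) :
    Nonempty (G ≃* POmega F (quadFormPlus 4 F)) := by
  obtain ⟨g, hg⟩ := exists_of_range h (H206.LowPlus.five_e (F := F) hF)
  rcases main_five rows hm hF (Or.inr (Or.inr ⟨MulEquiv.refl _⟩)) h ((x5_d4 F hm hF).of_range h)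
    with ⟨⟨e⟩⟩ | ⟨⟨e⟩⟩ | h1
  · exact absurd (by rw [MulEquiv.orderOf_eq, hg]) (H970.Om7.ne hm hF (e g))
  · exact absurd (by rw [MulEquiv.orderOf_eq, hg]) (H411.Six.ne_five hm hF (e g))
  · exact h1

end Cfsg.Agent.H376.Six
end
end
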